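import Cfsg.Agent.H31.Commutator.Fac

/-!
Companion matrices from a coefficient vector, and identity corners inside them.
-/

set_option autoImplicit false
set_option linter.unusedSectionVars false

namespace H31.Com

open Matrix Polynomial
open H89.CN (Sim)

variable {K : Type*} [Field K]

/-- Row companion matrix with last row `-a`. -/
def cmat {n : ℕ} (a : Fin n → K) : Matrix (Fin n) (Fin n) K :=
  Matrix.of fun i j => if i.val + 1 < n then (if j.val = i.val + 1 then 1 else 0) else -a j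

/-- The monic polynomial with the given lower coefficients. -/
noncomputable def mpoly {n : ℕ} (a : Fin n → K) : K[X] := X ^ n + ∑ i, C (a i) * X ^ (i : ℕ)

theorem cmat_eq {n : ℕ} (a : Fin n → K) : cmat a = H89.CN.rComp n (mpoly a) := by
  ext i j
  simp [cmat, H89.CN.rComp, mpoly, Polynomial.coeff_X_pow, j.isLt.ne, Fin.val_inj]

theorem mpoly_monic {n : ℕ} (a : Fin n → K) : (mpoly a).Monic :=
  monic_X_pow_add (Polynomial.degree_sum_fin_lt a)

theorem mpoly_natDegree {n : ℕ} (a : Fin n → K) : (mpoly a).natDegree = n := by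
  rw [mpoly, natDegree_add_eq_left_of_degree_lt, natDegree_X_pow]
  rw [degree_X_pow]
  exact Polynomial.degree_sum_fin_lt a

theorem charpoly_cmat {n : ℕ} (a : Fin n → K) : (cmat a).charpoly = mpoly a := by
  rw [cmat_eq]
  exact (H89.CN.cyc_rComp (mpoly_monic a) (mpoly_natDegree a)).2

theorem aeval_cmat {n : ℕ} (a : Fin n → K) : aeval (cmat a) (mpoly a) = 0 := by
  rw [← charpoly_cmat]
  exact Matrix.aeval_self_charpoly _

theorem det_cmat {n : ℕ} (a : Fin (n + 1) → K) : (cmat a).det = (-1) ^ (n + 1) * a 0 := by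
  rw [Matrix.det_eq_sign_charpoly_coeff, charpoly_cmat, Fintype.card_fin]
  simp only [mpoly, coeff_add, coeff_X_pow, finsetSum_coeff, coeff_C_mul]
  rw [Finset.sum_eq_single (0 : Fin (n + 1)) (fun i _ hi => by
    rw [if_neg (fun e => hi (Fin.ext e.symm)), mul_zero]) (by simp)]
  simp

theorem rComp_eq_cmat (n : ℕ) (f : K[X]) : H89.CN.rComp n f = cmat fun i : Fin n => f.coeff i := rfl

theorem eq_cmat {n : ℕ} (M : Matrix (Fin n) (Fin n) K)
    (h : ∀ i j : Fin n, i.val + 1 < n → M i j = if j.val = i.val + 1 then 1 else 0) :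
    ∃ a, M = cmat a := by
  by_cases hn : n = 0
  · subst hn
    exact ⟨fun i => 0, Subsingleton.elim _ _⟩
  refine ⟨fun j => -M ⟨n - 1, by omega⟩ j, ?_⟩
  ext i j
  by_cases hi : i.val + 1 < n
  · simp [cmat, hi, h i j hi]
  · obtain ⟨i, hi'⟩ := i
    obtain rfl : i = n - 1 := by simp only at hi; omega
    simp [cmat]
    intro h'
    exact absurd h' hi

/-- A matrix on any index type similar to a matrix on another one. -/
def SimTo {ι κ : Type*} [Fintype ι] [DecidableEq ι] [Fintype κ] [DecidableEq κ] (M : Matrix ι ι K)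
    (N : Matrix κ κ K) : Prop :=
  ∃ e : κ ≃ ι, Sim M (Matrix.reindex e e N)

theorem Fac.of_simTo {ι κ : Type*} [Fintype ι] [DecidableEq ι] [Fintype κ] [DecidableEq κ] {Φ : K[X]} {ε : K}
    {M : Matrix ι ι K} {N : Matrix κ κ K} (h : Fac Φ ε N) (hs : SimTo M N) : Fac Φ ε M := by
  obtain ⟨e, he⟩ := hs
  exact (h.reindex e).of_sim he

/-- An identity corner of size `j` leaving `N`. -/
def Red {ι κ : Type*} [Fintype ι] [DecidableEq ι] [Fintype κ] [DecidableEq κ] (M : Matrix ι ι K) (j : ℕ)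
    (N : Matrix κ κ K) : Prop :=
  ∃ (r : Matrix (Fin j) κ K) (c : Matrix κ (Fin j) K), SimTo M (fromBlocks 1 r c (c * r + N))

theorem Red.fac {ι κ : Type*} [Fintype ι] [DecidableEq ι] [Fintype κ] [DecidableEq κ] {M : Matrix ι ι K}
    {j : ℕ} {N : Matrix κ κ K} (h : Red M j N) {Φ Ψ : K[X]} {ε δ : K} (hcop : IsCoprime Φ Ψ) (hε : ε ≠ 0)
    (hδ : δ ≠ 0) {A : Matrix (Fin j) (Fin j) K} (hA : A.det = ε) (hAΦ : aeval A Φ = 0) (hN : Fac Ψ δ N) :
    Fac (Φ * Ψ) (ε * δ) M := by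
  obtain ⟨r, c, hs⟩ := h
  exact (hN.corner hcop hε hδ hA hAΦ r c).of_simTo hs

theorem Red.det_eq {ι κ : Type*} [Fintype ι] [DecidableEq ι] [Fintype κ] [DecidableEq κ] {M : Matrix ι ι K}
    {j : ℕ} {N : Matrix κ κ K} (h : Red M j N) : M.det = N.det := by
  obtain ⟨r, c, e, he⟩ := h
  rw [he.det_eq, Matrix.det_reindex_self, Matrix.det_fromBlocks_one₁₁, add_sub_cancel_left]

theorem Red.zero {ι : Type*} [Fintype ι] [DecidableEq ι] (M : Matrix ι ι K) : Red M 0 M := by
  refine ⟨0, 0, (Equiv.emptySum (Fin 0) ι), ?_⟩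
  have h : Matrix.reindex (Equiv.emptySum (Fin 0) ι) (Equiv.emptySum (Fin 0) ι)
      (fromBlocks (1 : Matrix (Fin 0) (Fin 0) K) 0 0 ((0 : Matrix ι (Fin 0) K) * (0 : Matrix (Fin 0) ι K) + M)) = M := by
    ext i k
    simp [Equiv.emptySum]
  exact (congrArg (Sim M) h).mpr (Sim.refl M)

theorem Red.sum {ι₁ ι₂ κ₁ κ₂ : Type*} [Fintype ι₁] [DecidableEq ι₁] [Fintype ι₂] [DecidableEq ι₂] [Fintype κ₁]
    [DecidableEq κ₁] [Fintype κ₂] [DecidableEq κ₂] {M₁ : Matrix ι₁ ι₁ K} {M₂ : Matrix ι₂ ι₂ K}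
    {N₁ : Matrix κ₁ κ₁ K} {N₂ : Matrix κ₂ κ₂ K} {j₁ j₂ : ℕ} (h₁ : Red M₁ j₁ N₁) (h₂ : Red M₂ j₂ N₂) :
    Red (fromBlocks M₁ 0 0 M₂) (j₁ + j₂) (fromBlocks N₁ 0 0 N₂) := by
  obtain ⟨r₁, c₁, e₁, s₁⟩ := h₁
  obtain ⟨r₂, c₂, e₂, s₂⟩ := h₂
  let f : Fin j₁ ⊕ Fin j₂ ≃ Fin (j₁ + j₂) := finSumFinEquiv
  refine ⟨(fromBlocks r₁ 0 0 r₂).submatrix f.symm id, (fromBlocks c₁ 0 0 c₂).submatrix id f.symm, ?_⟩
  let E : Fin (j₁ + j₂) ⊕ (κ₁ ⊕ κ₂) ≃ ι₁ ⊕ ι₂ :=
    ((f.symm.sumCongr (Equiv.refl _)).trans (Equiv.sumSumSumComm (Fin j₁) (Fin j₂) κ₁ κ₂)).trans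
      (e₁.sumCongr e₂)
  refine ⟨E, ?_⟩
  refine (show _ = Matrix.reindex E E _ from ?_) ▸ Sim.blocks s₁ s₂
  have hmul : (fromBlocks c₁ 0 0 c₂).submatrix id f.symm * (fromBlocks r₁ 0 0 r₂).submatrix f.symm id =
      fromBlocks (c₁ * r₁) 0 0 (c₂ * r₂) := by
    rw [Matrix.submatrix_mul_equiv, submatrix_id_id, fromBlocks_multiply]
    simp
  rw [hmul]
  ext x y
  obtain ⟨u, rfl⟩ := (e₁.sumCongr e₂).surjective x
  obtain ⟨v, rfl⟩ := (e₁.sumCongr e₂).surjective y
  rcases u with (u | u) | (u | u) <;> rcases v with (v | v) | (v | v) <;>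
    simp [E, Matrix.one_apply, f.injective.eq_iff]

/-- The unit vector with a natural number index. -/
def uvec {n : ℕ} (k : ℕ) : Fin n → K := fun x => if x.val = k then 1 else 0

theorem uvec_vecMul_cmat {n : ℕ} (a : Fin n → K) {k : ℕ} (h : k + 1 < n) :
    (uvec k : Fin n → K) ᵥ* cmat a = uvec (k + 1) := by
  funext l
  rw [Matrix.vecMul, dotProduct, Finset.sum_eq_single (⟨k, by omega⟩ : Fin n) (fun x _ hx => by
    rw [uvec, if_neg (fun e => hx (Fin.ext e)), zero_mul]) (by simp)]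
  simp [uvec, cmat, h]

theorem pi_single_eq_uvec {n : ℕ} (x : Fin n) : (Pi.single x 1 : Fin n → K) = uvec x.val := by
  funext y; simp [uvec, Pi.single_apply, Fin.ext_iff]

/-- **The identity corner of a companion matrix.** -/
theorem red_cmat {n j : ℕ} (hj : 2 * j ≤ n) (a : Fin n → K) :
    ∃ b : Fin (n - j) → K, Red (cmat a) j (cmat b) := by
  obtain ⟨m, hm⟩ : ∃ m, n = j + m := ⟨n - j, by omega⟩
  subst hm
  have hjm : j ≤ m := by omega
  rw [show j + m - j = m by omega]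
  let row : Fin j ⊕ Fin m → Fin (j + m) → K := Sum.elim
    (fun i => uvec (2 * i.val))
    (fun l => if l.val < j then (-1 : K) ^ l.val • (uvec (2 * l.val) - uvec (2 * l.val + 1))
      else (-1 : K) ^ j • uvec (j + l.val))
  let e : Fin j ⊕ Fin m ≃ Fin (j + m) := finSumFinEquiv
  let P : Matrix (Fin (j + m)) (Fin (j + m)) K := fun i => row (e.symm i)
  have hsq : ∀ k : ℕ, ((-1 : K) ^ k) * (-1) ^ k = 1 := fun k => by rw [← mul_pow]; simp
  have hrow : ∀ s, (Pi.single (e s) 1 : Fin (j + m) → K) ᵥ* P = row s := fun s => by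
    rw [single_one_vecMul]; show row (e.symm (e s)) = _; rw [Equiv.symm_apply_apply]
  have hrI : ∀ i : Fin j, row (Sum.inl i) = uvec (2 * i.val) := fun i => rfl
  have hrA : ∀ l : Fin m, l.val < j →
      row (Sum.inr l) = (-1 : K) ^ l.val • (uvec (2 * l.val) - uvec (2 * l.val + 1)) := fun l h => if_pos h
  have hrB : ∀ l : Fin m, ¬ l.val < j → row (Sum.inr l) = (-1 : K) ^ j • uvec (j + l.val) := fun l h => if_neg h
  have hodd : ∀ i : ℕ, ∀ (h : i < j), (Pi.single (e (Sum.inl ⟨i, h⟩)) 1 -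
      (-1 : K) ^ i • Pi.single (e (Sum.inr ⟨i, by omega⟩)) 1) ᵥ* P = uvec (2 * i + 1) := by
    intro i h
    rw [Matrix.sub_vecMul, Matrix.smul_vecMul, hrow, hrow, hrI, hrA _ h, smul_smul, hsq, one_smul, sub_sub_cancel]
  have hhi : ∀ l : Fin m, ¬ l.val < j →
      ((-1 : K) ^ j • Pi.single (e (Sum.inr l)) 1) ᵥ* P = uvec (j + l.val) := by
    intro l h
    rw [Matrix.smul_vecMul, hrow, hrB l h, smul_smul, hsq, one_smul]
  have hsurj : Function.Surjective fun v => v ᵥ* P := by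
    intro w
    have hbase : ∀ k : Fin (j + m), ∃ v, v ᵥ* P = Pi.single k 1 := by
      intro k
      rw [pi_single_eq_uvec]
      by_cases hk : k.val < 2 * j
      · obtain ⟨i, hi | hi⟩ : ∃ i, k.val = 2 * i ∨ k.val = 2 * i + 1 := ⟨k.val / 2, by omega⟩
        · exact ⟨Pi.single (e (Sum.inl ⟨i, by omega⟩)) 1, by rw [hrow, hrI, hi]⟩
        · exact ⟨_, (hodd i (by omega)).trans (by rw [hi])⟩
      · exact ⟨_, (hhi ⟨k.val - j, by omega⟩ (by show ¬ k.val - j < j; omega)).trans (by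
          rw [show j + (k.val - j) = k.val by omega])⟩
    choose v hv using hbase
    refine ⟨∑ k, w k • v k, ?_⟩
    show (∑ k, w k • v k) ᵥ* P = w
    rw [Matrix.sum_vecMul]
    simp only [Matrix.smul_vecMul, hv]
    exact (pi_eq_sum_univ' w).symm
  have hPu : IsUnit P.det := (Matrix.isUnit_iff_isUnit_det P).1 (Matrix.vecMul_surjective_iff_isUnit.1 hsurj)
  set B : Matrix (Fin j ⊕ Fin m) (Fin j ⊕ Fin m) K := Matrix.reindex e.symm e.symm (P * cmat a * P⁻¹) with hB
  have key : ∀ s v, v ᵥ* P = row s ᵥ* cmat a → ∀ t, B s t = v (e t) := by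
    intro s v hv t
    have h1 : (Pi.single (e s) 1 : Fin (j + m) → K) ᵥ* (P * cmat a * P⁻¹) = v := by
      rw [← vecMul_vecMul, ← vecMul_vecMul, hrow, ← hv, vecMul_vecMul, Matrix.mul_nonsing_inv _ hPu, vecMul_one]
    rw [← h1, single_one_vecMul]
    rfl
  let r : Matrix (Fin j) (Fin m) K := Matrix.of fun i l => if l.val = i.val then -(-1 : K) ^ i.val else 0
  have hinl : ∀ i : Fin j, ∀ t,
      B (Sum.inl i) t = Sum.elim (fun i' => (1 : Matrix (Fin j) (Fin j) K) i i') (fun l => r i l) t := by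
    intro i t
    rw [key (Sum.inl i) _ ((hodd i.val i.isLt).trans (by rw [hrI, uvec_vecMul_cmat a (by omega)]))]
    rcases t with t | t
    · simp [Pi.single_apply, e.injective.eq_iff, Matrix.one_apply, eq_comm]
    · by_cases h : t.val = i.val <;> simp [Pi.single_apply, e.injective.eq_iff, r, Fin.ext_iff, h]
  let c : Matrix (Fin m) (Fin j) K := Matrix.of fun l i => B (Sum.inr l) (Sum.inl i)
  set N : Matrix (Fin m) (Fin m) K :=
    Matrix.of fun l l' => B (Sum.inr l) (Sum.inr l') - (c * r) l l' with hN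
  have hBe : B = fromBlocks 1 r c (c * r + N) := by
    ext s t
    rcases s with s | s
    · rw [hinl]; rcases t with t | t <;> simp
    · rcases t with t | t <;> simp [c, hN]
  have hcr : ∀ l l', (c * r) l l' = if h : l'.val < j then -(-1 : K) ^ l'.val * c l ⟨l'.val, h⟩ else 0 := by
    intro l l'
    rw [Matrix.mul_apply]
    split
    · next h =>
      rw [Finset.sum_eq_single ⟨l'.val, h⟩ (fun i _ hi => by
        simp [r, show ¬ l'.val = i.val from fun e => hi (Fin.ext e.symm)]) (by simp)]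
      simp [r, mul_comm]
    · next h =>
      refine Finset.sum_eq_zero fun i _ => ?_
      simp [r, show ¬ l'.val = i.val by omega]
  obtain ⟨b, hb⟩ := eq_cmat N fun l l' hl => by
    by_cases hlj : l.val < j
    swap
    · -- past the corner
      have hv := key (Sum.inr l) (Pi.single (e (Sum.inr ⟨l.val + 1, hl⟩)) 1) (by
        rw [hrow, hrB l hlj, hrB _ (show ¬ l.val + 1 < j by omega), Matrix.smul_vecMul,
          uvec_vecMul_cmat a (show j + l.val + 1 < j + m by omega), add_assoc])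
      simp [hN, hcr, c, hv, Pi.single_apply, e.injective.eq_iff, Fin.ext_iff]
    obtain ⟨v, hvP, hv1, hv2⟩ : ∃ v, v ᵥ* P = row (Sum.inr l) ᵥ* cmat a ∧
        (∀ i : Fin j, v (e (Sum.inl i)) = (if i.val = l.val then (-1 : K) ^ l.val else 0) -
          (if i.val = l.val + 1 then (-1 : K) ^ l.val else 0)) ∧
        (∀ x : Fin m, v (e (Sum.inr x)) = -(if x.val = l.val then 1 else 0) +
          (if l.val + 1 = j ∧ x.val = l.val + 1 then 1 else 0)) := by
      by_cases hlj' : l.val + 1 < j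
      · refine ⟨(-1 : K) ^ l.val • Pi.single (e (Sum.inl ⟨l.val, hlj⟩)) 1 - Pi.single (e (Sum.inr l)) 1 -
            (-1 : K) ^ l.val • Pi.single (e (Sum.inl ⟨l.val + 1, hlj'⟩)) 1, ?_, fun i => ?_, fun x => ?_⟩
        · rw [Matrix.sub_vecMul, Matrix.sub_vecMul, Matrix.smul_vecMul, Matrix.smul_vecMul, hrow, hrow, hrow, hrI,
            hrI, hrA l hlj, Matrix.smul_vecMul, Matrix.sub_vecMul, uvec_vecMul_cmat a (by omega),
            uvec_vecMul_cmat a (by omega), show 2 * l.val + 1 + 1 = 2 * (l.val + 1) by omega]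
          module
        · simp [Pi.single_apply, e.injective.eq_iff, Fin.ext_iff]
        · simp [Pi.single_apply, e.injective.eq_iff, Fin.ext_iff, show ¬ l.val + 1 = j by omega]
      · refine ⟨(-1 : K) ^ l.val • Pi.single (e (Sum.inl ⟨l.val, hlj⟩)) 1 - Pi.single (e (Sum.inr l)) 1 +
            Pi.single (e (Sum.inr ⟨l.val + 1, hl⟩)) 1, ?_, fun i => ?_, fun x => ?_⟩
        · rw [Matrix.add_vecMul, Matrix.sub_vecMul, Matrix.smul_vecMul, hrow, hrow, hrow, hrI, hrA l hlj,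
            hrB _ (show ¬ l.val + 1 < j from hlj'), Matrix.smul_vecMul, Matrix.sub_vecMul,
            uvec_vecMul_cmat a (by omega), uvec_vecMul_cmat a (by omega),
            show (-1 : K) ^ j = (-1) ^ (l.val + 1) by rw [show j = l.val + 1 by omega],
            show j + (l.val + 1) = 2 * l.val + 1 + 1 by omega, pow_succ]
          module
        · simp [Pi.single_apply, e.injective.eq_iff, Fin.ext_iff, show ¬ i.val = l.val + 1 by omega]
        · simp [Pi.single_apply, e.injective.eq_iff, Fin.ext_iff, show l.val + 1 = j by omega]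
    have hv := key (Sum.inr l) v hvP
    simp only [hN, hcr, c, Matrix.of_apply, hv, hv1, hv2]
    by_cases hl'j : l'.val < j
    · rw [dif_pos hl'j]
      by_cases h1 : l'.val = l.val
      · simp [h1, hsq]
      · by_cases h2 : l'.val = l.val + 1
        · simp [h2, pow_succ, mul_assoc, show ¬ l.val + 1 = j by omega, hsq]
        · simp [h1, h2]
    · rw [dif_neg hl'j, sub_zero]
      by_cases h2 : l'.val = l.val + 1
      · simp [h2, show l.val + 1 = j by omega, show ¬ j = l.val by omega]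
      · simp [h2, show ¬ l'.val = l.val by omega]
  refine ⟨b, r, c, e, P, hPu, ?_⟩
  rw [← hb, ← hBe, hB]
  ext i k
  simp [Matrix.mul_assoc, Matrix.nonsing_inv_mul _ hPu]

end H31.Com
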