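import Cfsg.Agent.H31.Commutator.Groups

/-!
The recursion on the block sizes, and groups from witness tables.
-/

set_option autoImplicit false
set_option linter.unusedSectionVars false

namespace H31.Com

open Matrix Polynomial
open H89.CN (Sim Dec rComp)

variable {K : Type*} [Field K] {q : ℕ}

theorem coprime_of_degree_lt {p t : K[X]} (hp : Irreducible p) (ht : t ≠ 0) (h : t.natDegree < p.natDegree) :
    IsCoprime p t :=
  hp.coprime_iff_not_dvd.2 fun hd => absurd (natDegree_le_of_dvd hd ht) (by omega)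

theorem reverse_reverse' {a : K[X]} (h : a.coeff 0 ≠ 0) : a.reverse.reverse = a := by
  have hd : a.reverse.natDegree = a.natDegree := by
    rw [reverse_natDegree, natTrailingDegree_eq_zero.2 (Or.inr h), Nat.sub_zero]
  ext k
  rw [coeff_reverse, coeff_reverse, hd, revAt_invol]

theorem coprime_rev_symm {a b : K[X]} (ha : a.coeff 0 ≠ 0) (hb : b.coeff 0 ≠ 0) (h : IsCoprime a b.reverse) :
    IsCoprime b a.reverse := by
  refine isCoprime_of_irreducible_dvd (fun e => hb (by rw [e.1, coeff_zero])) fun p hp hpb hpa => ?_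
  have hp0 : p.coeff 0 ≠ 0 := fun e => hb (by
    obtain ⟨c, rfl⟩ := hpb
    rw [mul_coeff_zero, e, zero_mul])
  have h1 : p.reverse ∣ b.reverse := by
    obtain ⟨c, rfl⟩ := hpb
    exact ⟨c.reverse, reverse_mul_of_domain _ _⟩
  have h2 : p.reverse ∣ a := by
    obtain ⟨c, hc⟩ := hpa
    exact ⟨c.reverse, by rw [← reverse_mul_of_domain, ← hc, reverse_reverse' ha]⟩
  have hu := h.isUnit_of_dvd' h2 h1
  have hd : p.reverse.natDegree = 0 := natDegree_eq_zero_of_isUnit hu
  rw [reverse_natDegree, natTrailingDegree_eq_zero.2 (Or.inr hp0), Nat.sub_zero] at hd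
  exact (hp.natDegree_pos).ne' hd

/-! ### The recursion -/

/-- All groups of the family at size `d`. -/
def GP (P : List K[X] → ℕ → Prop) (T : Set K[X]) (ε : K) (d : ℕ) : Prop := ∀ l, P l d → FG T ε l

/-- The family is closed under losing an identity corner. -/
def Shrinks (P : List K[X] → ℕ → Prop) (lo : ℕ) : Prop :=
  ∀ (l : List K[X]) (d j n : ℕ) (A : Matrix (Fin n) (Fin n) K), P l d → 2 * j + 1 ≤ d → lo ≤ d - j → Dec A l →
    ∃ (l' : List K[X]) (N : ℕ) (A' : Matrix (Fin N) (Fin N) K), Red A j A' ∧ Dec A' l' ∧ P l' (d - j)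

theorem GP.step {P : List K[X] → ℕ → Prop} {lo : ℕ} (hP : Shrinks P lo) {T : Set K[X]} {φ : K[X]} (hφ : φ.Monic)
    {j : ℕ} (hj : φ.natDegree = j) (hj0 : 0 < j) {e δ : K} (he : cd φ = e) (he0 : e ≠ 0) (hδ : δ ≠ 0)
    (hc : ∀ t ∈ T, IsCoprime φ t) {d : ℕ} (h2 : 2 * j + 1 ≤ d) (hlo : lo ≤ d - j) (h : GP P T δ (d - j)) :
    GP P (insert φ T) (e * δ) d := by
  intro l hl n A hA
  obtain ⟨l', N, A', hr, hA', hl'⟩ := hP l d j n A hl h2 hlo hA
  obtain ⟨Φ, h1, h3⟩ := FG.step hφ (hj.symm ▸ hj0) (he.symm ▸ he0) hc hδ (hj.symm ▸ hr) hA' (h l' hl')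
  exact ⟨Φ, h1, he ▸ h3⟩

/-- The chosen polynomials of large degree. -/
def Chosen (J0 : ℕ) (φ : ℕ → K[X]) : Prop :=
  ∀ J, J0 ≤ J → Irreducible (φ J) ∧ (φ J).Monic ∧ (φ J).natDegree = J ∧ cd (φ J) = 1 ∧ IsCoprime (φ J) (φ J).reverse

theorem exists_chosen [Fintype K] {J0 : ℕ} (h : 3 ≤ J0) : ∃ φ : ℕ → K[X], Chosen J0 φ := by
  have : ∀ J : ℕ, ∃ f : K[X], J0 ≤ J →
      Irreducible f ∧ f.Monic ∧ f.natDegree = J ∧ cd f = 1 ∧ IsCoprime f f.reverse := by
    intro J
    by_cases hJ : J0 ≤ J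
    · obtain ⟨f, h1, h2, h3, h4, h5⟩ := exists_side (K := K) (J := J) (by omega)
      exact ⟨f, fun _ => ⟨h1, h2, h3, by rw [cd, h3, h4], h5⟩⟩
    · exact ⟨0, fun h' => absurd h' hJ⟩
  choose φ hφ using this
  exact ⟨φ, hφ⟩

/-- The side polynomials: a finite set and the chosen ones. -/
def side (B : Set K[X]) (J0 : ℕ) (φ : ℕ → K[X]) : Set K[X] := B ∪ φ '' Set.Ici J0

theorem coeff_zero_ne_of_irreducible {f : K[X]} (hf : Irreducible f) (h : 2 ≤ f.natDegree) : f.coeff 0 ≠ 0 :=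
  fun e => by
    obtain ⟨u, hu⟩ := X_dvd_iff.2 e
    rcases hf.isUnit_or_isUnit hu with hX | hU
    · exact not_isUnit_X hX
    · rw [hu, natDegree_mul X_ne_zero hU.ne_zero, natDegree_X, natDegree_eq_zero_of_isUnit hU] at h
      omega

theorem free_side {B : Set K[X]} {J0 : ℕ} (h3 : 3 ≤ J0) {φ : ℕ → K[X]} (hφ : Chosen J0 φ) (hB : Free B)
    (hBd : ∀ t ∈ B, t.coeff 0 ≠ 0 ∧ t.natDegree < J0) : Free (side B J0 φ) := by
  have big : ∀ J, J0 ≤ J → ∀ t : K[X], t.coeff 0 ≠ 0 → t.natDegree < J →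
      IsCoprime (φ J) t.reverse ∧ IsCoprime t (φ J).reverse := fun J hJ t ht0 htd => by
    obtain ⟨h1, -, h2, -, -⟩ := hφ J hJ
    have hc : IsCoprime (φ J) t.reverse := coprime_of_degree_lt h1
      (fun e => ht0 (by rw [← reverse_reverse' ht0, e, reverse_zero, coeff_zero]))
      (lt_of_le_of_lt t.reverse_natDegree_le (h2.symm ▸ htd))
    exact ⟨hc, coprime_rev_symm (coeff_zero_ne_of_irreducible h1 (by omega)) ht0 hc⟩
  intro p hp t ht
  rcases hp with hp | ⟨J, hJ, rfl⟩ <;> rcases ht with ht | ⟨I, hI, rfl⟩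
  · exact hB p hp t ht
  · exact (big I hI p (hBd p hp).1 (lt_of_lt_of_le (hBd p hp).2 hI)).2
  · exact (big J hJ t (hBd t ht).1 (lt_of_lt_of_le (hBd t ht).2 hJ)).1
  · obtain ⟨i1, -, i2, -, i3⟩ := hφ I hI
    obtain ⟨j1, -, j2, -, -⟩ := hφ J hJ
    have hI3 : 3 ≤ I := h3.trans hI
    have hJ3 : 3 ≤ J := h3.trans hJ
    rcases lt_trichotomy I J with h | rfl | h
    · exact (big J hJ (φ I) (coeff_zero_ne_of_irreducible i1 (by omega)) (by omega)).1
    · exact i3
    · exact (big I hI (φ J) (coeff_zero_ne_of_irreducible j1 (by omega)) (by omega)).2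

/-- **The recursion**: the small sizes give all sizes. -/
theorem GP.tower {P : List K[X] → ℕ → Prop} {lo J0 : ℕ} (hP : Shrinks P lo) (hlo : lo ≤ J0) (h3 : 3 ≤ J0)
    {φ : ℕ → K[X]} (hφ : Chosen J0 φ) {B : Set K[X]} (hBd : ∀ t ∈ B, t.coeff 0 ≠ 0 ∧ t.natDegree < J0) {ε : K}
    (hε : ε ≠ 0) (hbase : ∀ d, lo ≤ d → d ≤ 2 * J0 → GP P B ε d) : ∀ d, lo ≤ d → GP P (side B J0 φ) ε d := by
  suffices h : ∀ d, lo ≤ d → GP P (B ∪ φ '' Set.Icc J0 ((d - 1) / 2)) ε d from fun d hd l hl =>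
    (h d hd l hl).mono (Set.union_subset_union_right _ (Set.image_mono fun x hx => hx.1))
  intro d
  induction d using Nat.strongRecOn with
  | ind d ih =>
    intro hd
    by_cases hsmall : d ≤ 2 * J0
    · exact fun l hl => (hbase d hd hsmall l hl).mono Set.subset_union_left
    obtain ⟨J, hJ⟩ : ∃ J, J = (d - 1) / 2 := ⟨_, rfl⟩
    have hJ0 : J0 ≤ J := by omega
    obtain ⟨hir, hm, hdeg, hcd, -⟩ := hφ J hJ0
    have hc : ∀ t ∈ B ∪ φ '' Set.Icc J0 ((d - J - 1) / 2), IsCoprime (φ J) t := by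
      rintro t (ht | ⟨I, ⟨hI, hI'⟩, rfl⟩)
      · exact coprime_of_degree_lt hir (fun e => (hBd t ht).1 (by rw [e, coeff_zero]))
          (by rw [hdeg]; exact lt_of_lt_of_le (hBd t ht).2 hJ0)
      · obtain ⟨i1, -, i2, -, -⟩ := hφ I hI
        exact coprime_of_degree_lt hir i1.ne_zero (by omega)
    have h := GP.step hP hm hdeg (by omega) hcd one_ne_zero hε hc (d := d) (by omega) (by omega)
      (ih (d - J) (by omega) (by omega))
    rw [one_mul] at h
    refine fun l hl => (h l hl).mono ?_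
    rintro t (rfl | ht | ⟨I, ⟨hI, hI'⟩, rfl⟩)
    · exact Or.inr ⟨J, ⟨hJ0, hJ.le⟩, rfl⟩
    · exact Or.inl ht
    · exact Or.inr ⟨I, ⟨hI, by omega⟩, rfl⟩

/-! ### Tables -/

/-- All coefficient lists. -/
def allV (q : ℕ) : ℕ → List (List ℕ)
  | 0 => [[]]
  | d + 1 => (List.range q).flatMap fun x => (allV q d).map (x :: ·)

theorem mem_allV : ∀ (l : List ℕ), (∀ x ∈ l, x < q) → l ∈ allV q l.length
  | [], _ => by simp [allV]
  | x :: l, h => by
    simp only [allV, List.length_cons, List.mem_flatMap, List.mem_range, List.mem_map]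
    exact ⟨x, h x (List.mem_cons_self ..), l, mem_allV l fun y hy => h y (List.mem_cons_of_mem _ hy), rfl⟩

/-- The coefficient lists with nonzero constant term. -/
def unitV (q d : ℕ) : List (List ℕ) := (allV q d).filter fun a => a.getD 0 0 % q != 0

/-- The coefficient lists with prescribed determinant. -/
def detV (q d c : ℕ) : List (List ℕ) := (allV q d).filter fun a => ((q - 1) ^ d * a.getD 0 0) % q == c

theorem cd_ofL {a : List ℕ} (ha : 0 < a.length) :
    (ofL (a ++ [1]) : K[X]).natDegree = a.length ∧ cd (ofL (a ++ [1]) : K[X]) = (-1) ^ a.length * (a.getD 0 0 : ℕ) := by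
  have hd : (ofL (a ++ [1]) : K[X]).natDegree = a.length := by
    rw [← mpoly_eq_ofL (fun i : Fin a.length => ((a.getD i 0 : ℕ) : K)) a rfl (fun i => rfl), mpoly_natDegree]
  refine ⟨hd, ?_⟩
  rw [cd, hd, coeff_ofL, List.getD_append _ _ _ _ ha]

theorem exists_code (hq : q.Prime) [CharP K q] [Fintype K] (hcard : Fintype.card K = q) {f : K[X]} (hf : f.Monic)
    {d : ℕ} (hd : f.natDegree = d) :
    ∃ a ∈ allV q d, a.length = d ∧ f = ofL (a ++ [1]) ∧ ∀ k, ((a.getD k 0 : ℕ) : K) = if k < d then f.coeff k else 0 := by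
  haveI := Fact.mk hq
  let ψ : ZMod q ≃+* K := ZMod.ringEquivOfPrime K hq hcard
  let a := List.ofFn fun i : Fin d => (ψ.symm (f.coeff i)).val
  have hlen : a.length = d := List.length_ofFn
  have hval : ∀ x : K, (((ψ.symm x).val : ℕ) : K) = x := fun x => by
    rw [← map_natCast ψ, ZMod.natCast_zmod_val, RingEquiv.apply_symm_apply]
  have hget : ∀ i : Fin d, ((a.getD i 0 : ℕ) : K) = f.coeff i := fun i => by
    rw [List.getD_eq_getElem _ _ (by omega), List.getElem_ofFn, hval]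
  refine ⟨a, ?_, hlen, ?_, fun k => ?_⟩
  · have := mem_allV (q := q) a (fun x hx => by
      obtain ⟨i, rfl⟩ := List.mem_ofFn.1 hx
      exact ZMod.val_lt _)
    rwa [hlen] at this
  · rw [← mpoly_eq_ofL (fun i : Fin d => f.coeff i) a hlen fun i => (hget i).symm]
    conv_lhs => rw [hf.as_sum, hd, Finset.sum_range fun k => C (f.coeff k) * X ^ k]
    rfl
  · by_cases hk : k < d
    · rw [if_pos hk]; exact hget ⟨k, hk⟩
    · rw [if_neg hk, List.getD_eq_default _ _ (by omega), Nat.cast_zero]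

theorem exists_unitV (hq : q.Prime) [CharP K q] [Fintype K] (hcard : Fintype.card K = q) {f : K[X]} (hf : f.Monic)
    {d : ℕ} (hd : f.natDegree = d) (hd0 : 0 < d) (h0 : f.coeff 0 ≠ 0) : ∃ a ∈ unitV q d, f = ofL (a ++ [1]) := by
  obtain ⟨a, h1, h2, h3, h4⟩ := exists_code hq hcard hf hd
  refine ⟨a, List.mem_filter.2 ⟨h1, ?_⟩, h3⟩
  simp only [bne_iff_ne, ne_eq]
  intro e
  have := h4 0
  rw [← cast_mod (q := q), e, Nat.cast_zero] at this
  rw [if_pos hd0] at this
  exact h0 this.symm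

theorem exists_detV (hq : q.Prime) [CharP K q] [Fintype K] (hcard : Fintype.card K = q) {f : K[X]} (hf : f.Monic)
    {d : ℕ} (hd : f.natDegree = d) (hd0 : 0 < d) {c : ℕ} (hc : c < q) (hcd : cd f = (c : K)) :
    ∃ a ∈ detV q d c, f = ofL (a ++ [1]) := by
  obtain ⟨a, h1, h2, h3, h4⟩ := exists_code hq hcard hf hd
  refine ⟨a, List.mem_filter.2 ⟨h1, ?_⟩, h3⟩
  rw [beq_iff_eq]
  have h5 : (((q - 1) ^ d * a.getD 0 0 : ℕ) : K) = (c : K) := by
    rw [Nat.cast_mul, Nat.cast_pow, Nat.cast_sub hq.one_lt.le, CharP.cast_eq_zero K q, Nat.cast_one, zero_sub,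
      ← hcd, h3, (cd_ofL (by omega)).2, h2]
  have h6 := (CharP.natCast_eq_natCast K q).1 h5
  rw [Nat.ModEq, Nat.mod_eq_of_lt hc] at h6
  exact h6

/-- A table of witnesses sharing the blocks `as` of `A`. -/
abbrev Tbl := List (List (List ℕ) × Wit)

/-- The keys of a table. -/
def keys (t : Tbl) : List (List (List ℕ)) := t.map Prod.fst

/-- The check of a table. -/
def tblOk (q : ℕ) (as : List (List ℕ)) (t : Tbl) : Bool := t.all fun e => chk q e.1 as e.2

theorem FG.of_table [CharP K q] (hq : 0 < q) {a : List ℕ} {t : Tbl} (h : tblOk q [a] t = true)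
    {ms : List (List ℕ)} (hm : ms ∈ keys t) :
    FG ({ofL (a ++ [1])} : Set K[X]) (detOf [a]) (polysOf ms) := by
  obtain ⟨⟨ms', w⟩, he, rfl⟩ := List.mem_map.1 hm
  intro n A hA
  refine ⟨(polysOf [a] : List K[X]).prod, ?_, (fac_of_chk hq (List.all_eq_true.1 h _ he)).1.of_simTo (simTo_of_dec hq _ A hA)⟩
  simp only [polysOf, List.map_cons, List.map_nil, List.prod_cons, List.prod_nil, mul_one]
  exact Submonoid.subset_closure rfl

/-- Free against a set. -/
def Against (S : Set K[X]) (g : K[X]) : Prop := ∀ t ∈ S, IsCoprime g t.reverse ∧ IsCoprime t g.reverse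

theorem free_ml_single [CharP K q] (hq : 0 < q) (a : List ℕ)
    (hs : a.length ≤ 1 ∨ IsCoprime (ofL (a ++ [1]) : K[X]) (ofL (a ++ [1])).reverse) :
    AFree (ML (tot [a]) (bEnt q [a]) : Matrix (Fin (tot [a])) (Fin (tot [a])) K) ∧
      AFree (ML (tot [a]) (bEnt q [a]) : Matrix (Fin (tot [a])) (Fin (tot [a])) K)ᵀ := by
  rcases hs with hs | hs
  · haveI : Subsingleton (Fin (tot [a])) := Fin.subsingleton_iff_le_one.2 (by simpa [tot] using hs)
    exact ⟨afree_unique _, afree_unique _⟩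
  · have h := aeval_bmat (K := K) hq [a]
    simp only [polysOf, List.map_cons, List.map_nil, List.prod_cons, List.prod_nil, mul_one] at h
    exact ⟨afree_of_coprime hs h, afree_of_coprime hs (by rw [aeval_transpose, h, transpose_zero])⟩

theorem FR.of_table [CharP K q] (hq : 0 < q) {c : ℕ} {a : List ℕ} {t : Tbl} (h : tblOk q [[c], a] t = true)
    {S : Set K[X]} (hc : Against S (ofL ([c] ++ [1]))) (ha : Against S (ofL (a ++ [1])))
    (hs : a.length ≤ 1 ∨ IsCoprime (ofL (a ++ [1]) : K[X]) (ofL (a ++ [1])).reverse)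
    (h1 : IsCoprime (ofL ([c] ++ [1]) : K[X]) (ofL (a ++ [1])).reverse)
    (h2 : IsCoprime (ofL (a ++ [1]) : K[X]) (ofL ([c] ++ [1])).reverse)
    {ms : List (List ℕ)} (hm : ms ∈ keys t) : FR S (detOf [[c], a]) (polysOf ms) := by
  obtain ⟨⟨ms', w⟩, he, rfl⟩ := List.mem_map.1 hm
  intro n A hA
  refine ⟨(polysOf [[c], a] : List K[X]).prod, ?_,
    ((fac_of_chk hq (List.all_eq_true.1 h _ he)).2 ?_ ?_).of_simTo (simTo_of_dec hq _ A hA)⟩
  · intro u hu
    simp only [polysOf, List.map_cons, List.map_nil, List.prod_cons, List.prod_nil, mul_one]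
    refine ⟨(hc u hu).1.mul_left (ha u hu).1, ?_⟩
    rw [reverse_mul_of_domain]
    exact (hc u hu).2.mul_right (ha u hu).2
  all_goals
    have hf := free_ml_single (K := K) hq a hs
    have hA0 := aeval_bmat (K := K) hq [a]
    simp only [polysOf, List.map_cons, List.map_nil, List.prod_cons, List.prod_nil, mul_one] at hA0
    have hc0 : aeval (cmat fun i : Fin ([c] : List ℕ).length => ((([c] : List ℕ).getD i 0 : ℕ) : K))
        (ofL ([c] ++ [1]) : K[X]) = 0 := by
      rw [← mpoly_eq_ofL (fun i : Fin ([c] : List ℕ).length => ((([c] : List ℕ).getD i 0 : ℕ) : K)) [c] rfl (fun i => rfl)]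
      exact aeval_cmat _
    haveI : Subsingleton (Fin ([c] : List ℕ).length) := Fin.subsingleton_iff_le_one.2 le_rfl
  · suffices h3 : AFree (ML (([c] : List ℕ).length + tot [a]) (bEnt q [[c], a]) :
        Matrix (Fin (([c] : List ℕ).length + tot [a])) (Fin (([c] : List ℕ).length + tot [a])) K) from h3
    rw [bEnt_cons hq]
    exact AFree.reindex ((afree_unique _).blocks hf.1 hc0 hA0 h1 h2) _
  · suffices h3 : AFree (ML (([c] : List ℕ).length + tot [a]) (bEnt q [[c], a]) :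
        Matrix (Fin (([c] : List ℕ).length + tot [a])) (Fin (([c] : List ℕ).length + tot [a])) K)ᵀ from h3
    rw [bEnt_cons hq, transpose_reindex, fromBlocks_transpose, transpose_zero, transpose_zero]
    exact AFree.reindex ((afree_unique _).blocks hf.2 (by rw [aeval_transpose, hc0, transpose_zero])
      (by rw [aeval_transpose, hA0, transpose_zero]) h1 h2) _

end H31.Com
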