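import Cfsg.Agent.H31.Commutator.Fac
import Cfsg.Agent.H31.ClassSq.OrthCommon

/-!
Matrices without invariant alternating forms, and commutators by them.
-/

set_option autoImplicit false
set_option linter.unusedSectionVars false

namespace H31.Com

open Matrix Polynomial
open H89.CN (Sim)

variable {K : Type*} [Field K] {ι κ : Type*} [Fintype ι] [DecidableEq ι] [Fintype κ] [DecidableEq κ]

/-- No nonzero alternating `S` with `A S Aᵀ = S`. -/
def AFree (A : Matrix ι ι K) : Prop :=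
  ∀ S : Matrix ι ι K, (∀ y, y ⬝ᵥ S *ᵥ y = 0) → A * S * Aᵀ = S → S = 0

theorem rev_annihilates {Φ : K[X]} {A : Matrix ι ι K} {B : Matrix κ κ K} (hB : aeval B Φ = 0)
    {S : Matrix ι κ K} (h : A * S * B = S) : aeval A Φ.reverse * S = 0 := by
  have hk : ∀ k : ℕ, A ^ k * S * B ^ k = S := by
    intro k
    induction k with
    | zero => simp
    | succ k ih =>
      rw [pow_succ, pow_succ', show A ^ k * A * S * (B * B ^ k) = A ^ k * (A * S * B) * B ^ k by
        simp only [Matrix.mul_assoc], h, ih]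
  set d := Φ.natDegree
  have h1 : aeval A Φ.reverse * S = A ^ d * S * aeval B Φ := by
    rw [aeval_eq_sum_range' (n := d + 1) (by have := Φ.reverse_natDegree_le; omega),
      aeval_eq_sum_range' (n := d + 1) (Nat.lt_succ_self _), Matrix.sum_mul, Matrix.mul_sum,
      ← Finset.sum_range_reflect]
    refine Finset.sum_congr rfl fun k hk' => ?_
    have hkd : k ≤ d := by have := Finset.mem_range.1 hk'; omega
    rw [show d + 1 - 1 - k = d - k by omega, coeff_reverse, revAt_le (show d - k ≤ d by omega),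
      show d - (d - k) = k by omega, Matrix.smul_mul, Matrix.mul_smul]
    congr 1
    conv_rhs => rw [show A ^ d = A ^ (d - k) * A ^ k by rw [← pow_add, show d - k + k = d by omega]]
    rw [show A ^ (d - k) * A ^ k * S * B ^ k = A ^ (d - k) * (A ^ k * S * B ^ k) by
      simp only [Matrix.mul_assoc], hk]
  rw [h1, hB, Matrix.mul_zero]

theorem cross_zero {Φ Ψ : K[X]} (hc : IsCoprime Φ Ψ.reverse) {A : Matrix ι ι K} {B : Matrix κ κ K}
    (hA : aeval A Φ = 0) (hB : aeval B Ψ = 0) {S : Matrix ι κ K} (h : A * S * B = S) : S = 0 := by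
  obtain ⟨a, b, hab⟩ := hc
  have h1 := congrArg (fun f => aeval A f * S) hab
  simp only [map_add, map_mul, hA, Matrix.mul_zero, zero_add, map_one, Matrix.one_mul] at h1
  rw [← h1, Matrix.mul_assoc, rev_annihilates hB h, Matrix.mul_zero]

theorem aeval_transpose (A : Matrix ι ι K) (p : K[X]) : aeval Aᵀ p = (aeval A p)ᵀ := by
  induction p using Polynomial.induction_on' with
  | add p q hp hq => simp [map_add, hp, hq]
  | monomial n a =>
    rw [aeval_monomial, aeval_monomial, ← Algebra.smul_def, ← Algebra.smul_def, transpose_smul, transpose_pow]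

theorem afree_of_coprime {Φ : K[X]} (hc : IsCoprime Φ Φ.reverse) {A : Matrix ι ι K} (hA : aeval A Φ = 0) :
    AFree A := fun S _ h =>
  cross_zero hc hA (by rw [aeval_transpose, hA, transpose_zero]) h

theorem afree_unique [Subsingleton ι] (A : Matrix ι ι K) : AFree A := fun S hS _ => by
  ext i j
  obtain rfl := Subsingleton.elim i j
  have := hS (Pi.single i 1)
  simpa [dotProduct, Matrix.mulVec, Pi.single_apply] using this

theorem AFree.blocks {Φ Ψ : K[X]} {A : Matrix ι ι K} {B : Matrix κ κ K} (hA : AFree A) (hB : AFree B)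
    (hAΦ : aeval A Φ = 0) (hBΨ : aeval B Ψ = 0) (h1 : IsCoprime Φ Ψ.reverse) (h2 : IsCoprime Ψ Φ.reverse) :
    AFree (fromBlocks A 0 0 B) := by
  intro S hS h
  rw [← fromBlocks_toBlocks S] at h hS ⊢
  simp only [fromBlocks_transpose, transpose_zero, fromBlocks_multiply, Matrix.zero_mul, Matrix.mul_zero,
    add_zero, zero_add, fromBlocks_inj] at h
  have hq : ∀ x y, Sum.elim x y ⬝ᵥ fromBlocks S.toBlocks₁₁ S.toBlocks₁₂ S.toBlocks₂₁ S.toBlocks₂₂ *ᵥ
      Sum.elim x y = 0 := fun x y => hS _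
  have a1 : S.toBlocks₁₁ = 0 := hA _ (fun x => by
    simpa [fromBlocks_mulVec, sumElim_dotProduct_sumElim] using hq x 0) h.1
  have a2 : S.toBlocks₂₂ = 0 := hB _ (fun y => by
    simpa [fromBlocks_mulVec, sumElim_dotProduct_sumElim] using hq 0 y) h.2.2.2
  have a3 : S.toBlocks₁₂ = 0 := cross_zero h1 hAΦ (by rw [aeval_transpose, hBΨ, transpose_zero]) h.2.1
  have a4 : S.toBlocks₂₁ = 0 := cross_zero h2 hBΨ (by rw [aeval_transpose, hAΦ, transpose_zero]) h.2.2.1
  rw [a1, a2, a3, a4, fromBlocks_zero]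

theorem AFree.congr_left {A B P : Matrix ι ι K} (hP : IsUnit P.det) (h : P * A = B * P) (hA : AFree A) :
    AFree B := by
  intro S hS e
  have hP' : P⁻¹ * P = 1 := Matrix.nonsing_inv_mul _ hP
  have hPP : P * P⁻¹ = 1 := Matrix.mul_nonsing_inv _ hP
  have hA' : A = P⁻¹ * B * P := by rw [Matrix.mul_assoc, ← h, ← Matrix.mul_assoc, hP', Matrix.one_mul]
  have h0 := hA (P⁻¹ * S * P⁻¹ᵀ) (fun y => by
    rw [← Matrix.mulVec_mulVec, ← Matrix.mulVec_mulVec, dotProduct_mulVec, ← mulVec_transpose]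
    exact hS _) (by
    rw [hA', transpose_mul, transpose_mul, show P⁻¹ * B * P * (P⁻¹ * S * P⁻¹ᵀ) * (Pᵀ * (Bᵀ * P⁻¹ᵀ)) =
        P⁻¹ * B * (P * P⁻¹) * S * (P⁻¹ᵀ * Pᵀ) * Bᵀ * P⁻¹ᵀ by simp only [Matrix.mul_assoc],
      ← transpose_mul, hPP, transpose_one, Matrix.mul_one, Matrix.mul_one, Matrix.mul_assoc P⁻¹ B S,
      Matrix.mul_assoc P⁻¹ _ Bᵀ, e])
  have := congrArg (fun X => P * X * Pᵀ) h0
  simp only [Matrix.mul_zero, Matrix.zero_mul] at this
  rwa [show P * (P⁻¹ * S * P⁻¹ᵀ) * Pᵀ = (P * P⁻¹) * S * (P⁻¹ᵀ * Pᵀ) by simp only [Matrix.mul_assoc],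
    ← transpose_mul, hPP, transpose_one, Matrix.mul_one, Matrix.one_mul] at this

theorem AFree.reindex {ι κ : Type*} [Fintype ι] [DecidableEq ι] [Fintype κ] [DecidableEq κ]
    {B : Matrix ι ι K} (h : AFree B) (e : ι ≃ κ) : AFree (Matrix.reindex e e B) := fun S hS hf => by
  have h0 := h (S.submatrix e e) (fun y => by
    have := hS (y ∘ e.symm)
    rw [dotProduct, ← e.sum_comp] at this
    simpa [dotProduct, submatrix_mulVec_equiv] using this) (by
    conv_rhs => rw [← hf]
    simp only [reindex_apply, transpose_submatrix, ← submatrix_mul_equiv _ _ _ e, submatrix_submatrix,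
      Equiv.symm_comp_self, submatrix_id_id])
  have := congrArg (fun X : Matrix ι ι K => X.submatrix e.symm e.symm) h0
  simpa using this

/-- A commutator by a matrix free on both radicals. -/
def FFac (Φ : K[X]) (ε : K) (M : Matrix ι ι K) : Prop :=
  ∃ A P : Matrix ι ι K, A.det = ε ∧ P.det = 1 ∧ aeval A Φ = 0 ∧ M * P * A = A * P ∧ AFree A ∧ AFree Aᵀ

theorem Fac.free {Φ : K[X]} {ε : K} {M : Matrix ι ι K} (h : Fac Φ ε M) (hc : IsCoprime Φ Φ.reverse) :
    FFac Φ ε M := by
  obtain ⟨A, P, h1, h2, h3, h4⟩ := h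
  exact ⟨A, P, h1, h2, h3, h4, afree_of_coprime hc h3,
    afree_of_coprime hc (by rw [aeval_transpose, h3, transpose_zero])⟩

theorem FFac.reindex {Φ : K[X]} {ε : K} {M : Matrix ι ι K} (h : FFac Φ ε M) (e : ι ≃ κ) :
    FFac Φ ε (Matrix.reindex e e M) := by
  obtain ⟨A, P, hA, hP, hΦ, hM, f1, f2⟩ := h
  have key : ∀ A : Matrix ι ι K, AFree A → AFree (Matrix.reindex e e A) := fun A hA S hS hf => by
    have h0 := hA (S.submatrix e e) (fun y => by
      have := hS (y ∘ e.symm)
      rw [dotProduct, ← e.sum_comp] at this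
      simpa [dotProduct, submatrix_mulVec_equiv] using this) (by
      conv_rhs => rw [← hf]
      simp only [reindex_apply, transpose_submatrix, ← submatrix_mul_equiv _ _ _ e, submatrix_submatrix,
        Equiv.symm_comp_self, submatrix_id_id])
    have := congrArg (fun X : Matrix ι ι K => X.submatrix e.symm e.symm) h0
    simpa using this
  refine ⟨Matrix.reindex e e A, Matrix.reindex e e P, by rwa [det_reindex_self], by rwa [det_reindex_self], ?_, ?_,
    key A f1, by rw [transpose_reindex]; exact key _ f2⟩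
  · rw [aeval_reindex, hΦ]; rfl
  · simp only [reindex_apply, submatrix_mul_equiv, hM]

theorem FFac.of_sim {Φ : K[X]} {ε : K} {M M' : Matrix ι ι K} (h : FFac Φ ε M') (hs : Sim M M') :
    FFac Φ ε M := by
  obtain ⟨A, P, hA, hP, hΦ, hM, f1, f2⟩ := h
  obtain ⟨S, hS, he⟩ := hs.symm
  have hS' : S⁻¹ * S = 1 := Matrix.nonsing_inv_mul _ hS
  have hconj : S * A = S * A * S⁻¹ * S := by rw [Matrix.mul_assoc _ S⁻¹, hS', Matrix.mul_one]
  refine ⟨S * A * S⁻¹, S * P * S⁻¹, ?_, ?_, ?_, ?_, f1.congr_left hS hconj, ?_⟩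
  · rw [det_mul_right_comm, Matrix.mul_nonsing_inv _ hS, Matrix.one_mul, hA]
  · rw [det_mul_right_comm, Matrix.mul_nonsing_inv _ hS, Matrix.one_mul, hP]
  · have h1 := aeval_conj hconj Φ
    rw [hΦ, Matrix.mul_zero] at h1
    have h2 := congrArg (· * S⁻¹) h1.symm
    simpa [Matrix.mul_assoc, Matrix.mul_nonsing_inv _ hS] using h2
  · calc M * (S * P * S⁻¹) * (S * A * S⁻¹) = (M * S) * P * (S⁻¹ * S) * A * S⁻¹ := by
          simp only [Matrix.mul_assoc]
      _ = S * (M' * P * A) * S⁻¹ := by rw [hS', Matrix.mul_one, ← he]; simp only [Matrix.mul_assoc]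
      _ = S * A * (S⁻¹ * S) * P * S⁻¹ := by rw [hM, hS', Matrix.mul_one]; simp only [Matrix.mul_assoc]
      _ = _ := by simp only [Matrix.mul_assoc]
  · refine f2.congr_left (P := S⁻¹ᵀ) (by rw [det_transpose]; exact isUnit_nonsing_inv_det _ hS) ?_
    rw [← transpose_mul, ← transpose_mul, show S⁻¹ * (S * A * S⁻¹) = S⁻¹ * S * (A * S⁻¹) by
      simp only [Matrix.mul_assoc], hS', Matrix.one_mul]

theorem FFac.sum {Φ Ψ : K[X]} {ε δ : K} {M : Matrix ι ι K} {N : Matrix κ κ K} (h : FFac Φ ε M) (h' : FFac Ψ δ N)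
    (h1 : IsCoprime Φ Ψ.reverse) (h2 : IsCoprime Ψ Φ.reverse) :
    FFac (Φ * Ψ) (ε * δ) (fromBlocks M 0 0 N) := by
  obtain ⟨A, P, hA, hP, hΦ, hM, a1, a2⟩ := h
  obtain ⟨B, Q, hB, hQ, hΨ, hN, b1, b2⟩ := h'
  refine ⟨fromBlocks A 0 0 B, fromBlocks P 0 0 Q, by rw [det_fromBlocks_zero₁₂, hA, hB],
    by rw [det_fromBlocks_zero₁₂, hP, hQ, mul_one], ?_, ?_, a1.blocks b1 hΦ hΨ h1 h2, ?_⟩
  · rw [aeval_fromBlocks, map_mul, map_mul, hΦ, hΨ, Matrix.zero_mul, Matrix.mul_zero, fromBlocks_zero]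
  · simp [fromBlocks_multiply, hM, hN]
  · rw [fromBlocks_transpose, transpose_zero, transpose_zero]
    exact a2.blocks b2 (by rw [aeval_transpose, hΦ, transpose_zero]) (by rw [aeval_transpose, hΨ, transpose_zero])
      h1 h2

/-- Membership of the multiplicative set generated by `S`. -/
theorem coprime_reverse {S : Set K[X]} (hS : ∀ p ∈ S, ∀ q ∈ S, IsCoprime p q.reverse) {Φ Ψ : K[X]}
    (h : Φ ∈ Submonoid.closure S) (h' : Ψ ∈ Submonoid.closure S) : IsCoprime Φ Ψ.reverse := by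
  induction h using Submonoid.closure_induction with
  | mem p hp =>
    induction h' using Submonoid.closure_induction with
    | mem q hq => exact hS p hp q hq
    | one => rw [← C_1, reverse_C, C_1]; exact isCoprime_one_right
    | mul a b _ _ ha hb => rw [reverse_mul_of_domain]; exact ha.mul_right hb
  | one => exact isCoprime_one_left
  | mul a b _ _ ha hb => exact ha.mul_left hb

end H31.Com
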