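import Cfsg.Agent.H31.Commutator.PlusMain
import Cfsg.Agent.H31.Commutator.Free
import Cfsg.Agent.H21.ClassSquare.PSL

/-!
Free commutator factorisations in `SL_n(q)` for `q ≥ 4`.
-/

set_option autoImplicit false
set_option linter.style.haveILetI false
set_option linter.unusedSectionVars false

namespace H31.Com

open Matrix Polynomial H21.ClassSquare H41 H41.Reg

variable {K : Type*} [Field K] {n : ℕ}

theorem border_eq_blocks (c : K) (B : Matrix (Fin n) (Fin n) K) :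
    border c 0 0 B = Matrix.reindex (Equiv.optionEquivSumPUnit (Fin n) |>.symm.trans (finSuccEquiv n).symm)
      (Equiv.optionEquivSumPUnit (Fin n) |>.symm.trans (finSuccEquiv n).symm)
      (fromBlocks B 0 0 (c • (1 : Matrix PUnit.{1} PUnit.{1} K))) := by
  ext i j
  cases i using Fin.cases <;> cases j using Fin.cases <;> simp

/-- Being free on both radicals, with an annihilator. -/
def Free2 {ι : Type*} [Fintype ι] [DecidableEq ι] (Ψ : K[X]) (B : Matrix ι ι K) : Prop :=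
  aeval B Ψ = 0 ∧ AFree B ∧ AFree Bᵀ

theorem Free2.reindex {ι κ : Type*} [Fintype ι] [DecidableEq ι] [Fintype κ] [DecidableEq κ] {Ψ : K[X]}
    {B : Matrix ι ι K} (h : Free2 Ψ B) (e : ι ≃ κ) : Free2 Ψ (Matrix.reindex e e B) :=
  ⟨by rw [aeval_reindex, h.1]; rfl, h.2.1.reindex e, by rw [transpose_reindex]; exact h.2.2.reindex e⟩

theorem Free2.border {Ψ : K[X]} {B : Matrix (Fin n) (Fin n) K} (h : Free2 Ψ B) {c : K}
    (h1 : IsCoprime Ψ (X - C c).reverse) (h2 : IsCoprime (X - C c) Ψ.reverse) :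
    Free2 (Ψ * (X - C c)) (border c 0 0 B) := by
  obtain ⟨h0, f1, f2⟩ := h
  have hc : aeval (c • (1 : Matrix PUnit.{1} PUnit.{1} K)) (X - C c) = 0 := by
    simp [Algebra.algebraMap_eq_smul_one]
  rw [border_eq_blocks]
  refine Free2.reindex ⟨?_, f1.blocks (afree_unique _) h0 hc h1 h2, ?_⟩ _
  · rw [aeval_fromBlocks, map_mul, map_mul, h0, hc, Matrix.zero_mul, Matrix.mul_zero, fromBlocks_zero]
  · rw [fromBlocks_transpose, transpose_zero, transpose_zero]
    exact f2.blocks (afree_unique _) (by rw [aeval_transpose, h0, transpose_zero])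
      (by rw [aeval_transpose, hc, transpose_zero]) h1 h2

theorem coprime_lin_rev {a b : K} (h : a * b ≠ 1) : IsCoprime (X - C a) (X - C b).reverse := by
  refine (irreducible_X_sub_C a).coprime_iff_not_dvd.2 fun hd => h ?_
  have h1 := dvd_iff_isRoot.1 hd
  have e : (X - C b : K[X]).reverse = 1 - C b * X := by
    ext k
    rw [coeff_reverse, natDegree_X_sub_C]
    rcases k with _ | _ | k
    · simp [revAt_le (show 0 ≤ 1 by omega)]
    · simp [revAt_le (show 1 ≤ 1 by omega), coeff_one]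
    · rw [show revAt 1 (k + 1 + 1) = k + 1 + 1 by rw [← revAtFun_eq, revAtFun, if_neg (by omega)]]
      simp [coeff_X, coeff_C, coeff_one]
  rw [e, IsRoot, eval_sub, eval_mul, eval_one, eval_C, eval_X, sub_eq_zero] at h1
  rw [mul_comm, h1]

theorem reverse_pow (p : K[X]) (k : ℕ) : (p ^ k).reverse = p.reverse ^ k := by
  induction k with
  | zero => rw [pow_zero, pow_zero, ← C_1, reverse_C]
  | succ k ih => rw [pow_succ, pow_succ, reverse_mul_of_domain, ih]

theorem aeval_scalJordan (l : K) : aeval (l • jordan K n) ((X - C l) ^ n) = 0 := by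
  have h := Matrix.aeval_self_charpoly (l • jordan K n)
  rw [Matrix.charpoly_of_upperTriangular _ (fun i j h => by
    rw [Matrix.smul_apply, (jordan_reg (K := K)).1.1 i j h, smul_zero])] at h
  rwa [Finset.prod_congr rfl (fun i _ => by
    rw [show (l • jordan K n) i i = l by simp [jordan]]), Finset.prod_const, Finset.card_univ,
    Fintype.card_fin] at h

theorem free2_scalJordan {l : K} (hl : l * l ≠ 1) : Free2 ((X - C l) ^ n) (l • jordan K n) := by
  have hc : IsCoprime ((X - C l : K[X]) ^ n) ((X - C l) ^ n).reverse := by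
    rw [reverse_pow]; exact (coprime_lin_rev hl).pow
  refine ⟨aeval_scalJordan l, afree_of_coprime hc (aeval_scalJordan l), afree_of_coprime hc ?_⟩
  rw [aeval_transpose, aeval_scalJordan, transpose_zero]

theorem free2_cls {c l : Kˣ} (hl : (l : K) * l ≠ 1) (hcl : (c : K) * l ≠ 1) :
    Free2 (((X - C (l : K)) ^ n) * (X - C (c : K)))
      ((cls c l n : GL (Fin (n + 1)) K) : Matrix (Fin (n + 1)) (Fin (n + 1)) K) := by
  have e : ((cls c l n : GL (Fin (n + 1)) K) : Matrix (Fin (n + 1)) (Fin (n + 1)) K) =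
      border (c : K) 0 0 ((l : K) • jordan K n) := by simp [cls]
  rw [e]
  refine (free2_scalJordan hl).border (IsCoprime.pow_left (coprime_lin_rev (by rwa [mul_comm]))) ?_
  rw [reverse_pow]
  exact (coprime_lin_rev hcl).pow_right

/-- A quotient of two members of the class of `A`, with a centraliser of every determinant. -/
theorem ffac_of_pair {m : ℕ} {Ψ : K[X]} (A B : GL (Fin m) K) (hf : Free2 Ψ (A : Matrix (Fin m) (Fin m) K))
    (hz : ∀ t : Kˣ, ∃ z : GL (Fin m) K, Commute z A ∧ (z : Matrix (Fin m) (Fin m) K).det = t)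
    (hB : IsConj B A⁻¹) (M : GL (Fin m) K) (h : ∃ x y, IsConj A x ∧ IsConj B y ∧ M = x * y) :
    FFac Ψ (A : Matrix (Fin m) (Fin m) K).det (M : Matrix (Fin m) (Fin m) K) := by
  obtain ⟨x, y, hx, hy, rfl⟩ := h
  obtain ⟨g, rfl⟩ := isConj_iff.1 hx
  obtain ⟨h, hh⟩ := isConj_iff.1 (hB.symm.trans hy)
  subst hh
  set P := g⁻¹ * h
  have hP : ((Matrix.GeneralLinearGroup.det P)⁻¹ : Kˣ) = (Matrix.GeneralLinearGroup.det P)⁻¹ := rfl
  obtain ⟨z, hzc, hzd⟩ := hz (Matrix.GeneralLinearGroup.det P)⁻¹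
  have hs : FFac Ψ (A : Matrix (Fin m) (Fin m) K).det
      ((g⁻¹ * (g * A * g⁻¹ * (h * A⁻¹ * h⁻¹)) * g : GL (Fin m) K) : Matrix (Fin m) (Fin m) K) := by
    refine ⟨A, ((P * z : GL (Fin m) K) : Matrix (Fin m) (Fin m) K), rfl, ?_, hf.1, ?_, hf.2.1, hf.2.2⟩
    · rw [Units.val_mul, det_mul, hzd, ← GeneralLinearGroup.val_det_apply, ← Units.val_mul, mul_inv_cancel,
        Units.val_one]
    · rw [← Units.val_mul, ← Units.val_mul, ← Units.val_mul]
      congr 1
      calc g⁻¹ * (g * A * g⁻¹ * (h * A⁻¹ * h⁻¹)) * g * (P * z) * A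
          = A * P * A⁻¹ * (z * A) := by simp only [P]; group
        _ = A * (P * z) := by rw [hzc.eq]; group
  refine hs.of_sim ⟨((g⁻¹ : GL (Fin m) K) : Matrix (Fin m) (Fin m) K), (isUnit_iff_isUnit_det _).1 (g⁻¹).isUnit, ?_⟩
  rw [← Units.val_mul, ← Units.val_mul]
  congr 1
  group

variable [Fintype K]

theorem pair_scal_inv (hK : 4 ≤ Fintype.card K) (l : Kˣ) (N : GL (Fin (n + 1)) K)
    (hns : n = 0 ∨ ∀ μ : K, (N : Matrix (Fin (n + 1)) (Fin (n + 1)) K) ≠ μ • 1)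
    (hdet : (N : Matrix (Fin (n + 1)) (Fin (n + 1)) K).det = 1) :
    ∃ x y, IsConj (scal l * jordanGL K (n + 1)) x ∧ IsConj (scal l⁻¹ * jordanGL K (n + 1)) y ∧ N = x * y := by
  obtain ⟨x, y, hx, hy, e⟩ := two_iff.1 (pair_jordan hK N hdet hns)
  refine ⟨scal l * x, scal l⁻¹ * y, isConj_scal_mul l hx, isConj_scal_mul _ hy, ?_⟩
  have hc : (scal l⁻¹ : GL (Fin (n + 1)) K) * scal l = 1 := by
    rw [scal, scal, ← map_mul, inv_mul_cancel, map_one]
  rw [e, mul_assoc, ← mul_assoc x, ← (scal_comm l⁻¹ x).eq, mul_assoc, ← mul_assoc (scal l), ← (scal_comm l⁻¹ _).eq,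
    hc, one_mul]

theorem isConj_cls_inv (c l : Kˣ) :
    IsConj (cornerHom (c⁻¹, scal l⁻¹ * jordanGL K (n + 1))) (cls c l (n + 1))⁻¹ := by
  rw [cls, ← map_inv, Prod.inv_mk]
  refine isConj_cornerHom _ ?_
  rw [_root_.mul_inv_rev, show (scal l : GL (Fin (n + 1)) K)⁻¹ = scal l⁻¹ from (map_inv _ _).symm,
    ← (scal_comm l⁻¹ _).eq]
  exact isConj_scal_mul _ (isConj_jordan_inv (Nat.succ_pos _))

theorem pair_cls_inv (hK : 4 ≤ Fintype.card K) {c l : Kˣ} (hcl : (c : K) ≠ l) (N : GL (Fin (n + 2)) K)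
    (hns : ∀ μ : K, (N : Matrix (Fin (n + 2)) (Fin (n + 2)) K) ≠ μ • 1)
    (hdet : (N : Matrix (Fin (n + 2)) (Fin (n + 2)) K).det = 1) :
    ∃ x y, IsConj (cls c l (n + 1)) x ∧ IsConj (cornerHom (c⁻¹, scal l⁻¹ * jordanGL K (n + 1))) y ∧ N = x * y := by
  have hu : ∀ a b : Kˣ, (a : K) ≠ b → IsUnit (((scal b * jordanGL K (n + 1) : GL (Fin (n + 1)) K) :
      Matrix (Fin (n + 1)) (Fin (n + 1)) K) - (a : K) • 1).det := fun a b hab => by
    simp only [Units.val_mul, coe_scal, coe_jordanGL, Matrix.smul_mul, Matrix.one_mul, det_scalJordan_sub]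
    exact (IsUnit.mk0 _ (sub_ne_zero.2 hab.symm)).pow _
  refine pair_step (hu c l hcl) (hu c⁻¹ l⁻¹ fun e => hcl (inv_injective (by simpa using e)))
    (fun N' hN' hd => pair_scal_inv hK l N' hN' ?_) N hns ?_
  · rw [hd]; simp [det_smul, det_jordan]
  · rw [hdet]; simp [det_smul, det_jordan]

theorem center_corner {m : ℕ} (c : Kˣ) (U : GL (Fin m) K) (t : Kˣ) :
    ∃ z : GL (Fin (m + 1)) K, Commute z (cornerHom (c, U)) ∧ (z : Matrix (Fin (m + 1)) (Fin (m + 1)) K).det = t :=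
  ⟨cornerHom (t, 1), Commute.map (Prod.ext (mul_comm _ _) (by simp)) _, by simp [det_border_zero_col]⟩

theorem ffac_cls (hK : 4 ≤ Fintype.card K) {c l : Kˣ} (hl : (l : K) * l ≠ 1) (hcl : (c : K) * l ≠ 1)
    (hne : (c : K) ≠ l) (M : Matrix (Fin (n + 2)) (Fin (n + 2)) K) (hns : ∀ μ : K, M ≠ μ • 1) (hdet : M.det = 1) :
    FFac (((X - C (l : K)) ^ (n + 1)) * (X - C (c : K))) ((c : K) * (l : K) ^ (n + 1)) M := by
  let g : GL (Fin (n + 2)) K := GeneralLinearGroup.mk'' M (by rw [hdet]; exact isUnit_one)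
  have := ffac_of_pair (cls c l (n + 1)) _ (free2_cls hl hcl) (center_corner c _) (isConj_cls_inv c l) g
    (pair_cls_inv hK hne g hns hdet)
  rwa [det_cls] at this

/-- Two corners: `(1) ⊕ (-1) ⊕ 2J` over five elements. -/
theorem ffac_double (hK : 4 ≤ Fintype.card K) {l : Kˣ} (hl : (l : K) * l ≠ 1) (hl1 : (l : K) ≠ 1)
    (hl2 : (l : K) ≠ -1) (h2 : (-1 : K) ≠ 1) (M : Matrix (Fin (n + 3)) (Fin (n + 3)) K)
    (hns : ∀ μ : K, M ≠ μ • 1) (hdet : M.det = 1) :
    FFac ((((X - C (l : K)) ^ (n + 1)) * (X - C ((-1 : Kˣ) : K))) * (X - C ((1 : Kˣ) : K)))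
      (-(l : K) ^ (n + 1)) M := by
  let g : GL (Fin (n + 3)) K := GeneralLinearGroup.mk'' M (by rw [hdet]; exact isUnit_one)
  set U := cls (-1) l (n + 1) with hU
  have hm1 : ((-1 : Kˣ) : K) = -1 := by simp
  have hf := free2_cls (n := n + 1) (c := -1) (l := l) hl (fun e => hl2 (by
    rw [hm1, neg_one_mul, neg_eq_iff_eq_neg] at e; exact e))
  have hA : Free2 ((((X - C (l : K)) ^ (n + 1)) * (X - C ((-1 : Kˣ) : K))) * (X - C ((1 : Kˣ) : K)))
      ((cornerHom (1, U) : GL (Fin (n + 3)) K) : Matrix (Fin (n + 3)) (Fin (n + 3)) K) := by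
    rw [coe_cornerHom]
    refine hf.border (IsCoprime.mul_left (IsCoprime.pow_left (coprime_lin_rev (by simpa using hl1)))
      (coprime_lin_rev (by simpa using h2))) ?_
    rw [reverse_mul_of_domain, reverse_pow]
    exact (coprime_lin_rev (by simpa using hl1)).pow_right.mul_right (coprime_lin_rev (by simpa using h2))
  have hB : IsConj (cornerHom ((1 : Kˣ)⁻¹, cornerHom ((-1 : Kˣ)⁻¹, scal l⁻¹ * jordanGL K (n + 1))))
      (cornerHom (1, U))⁻¹ := by
    rw [← map_inv, Prod.inv_mk]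
    exact isConj_cornerHom _ (isConj_cls_inv _ _)
  have hu : IsUnit ((U : Matrix (Fin (n + 2)) (Fin (n + 2)) K) - ((1 : Kˣ) : K) • 1).det := by
    rw [hU, det_cls_sub, hm1, Units.val_one]
    exact (IsUnit.mk0 _ (sub_ne_zero.2 h2)).mul ((IsUnit.mk0 _ (sub_ne_zero.2 hl1)).pow _)
  have hv : IsUnit (((cornerHom ((-1 : Kˣ)⁻¹, scal l⁻¹ * jordanGL K (n + 1)) : GL (Fin (n + 2)) K) :
      Matrix (Fin (n + 2)) (Fin (n + 2)) K) - ((1 : Kˣ)⁻¹ : Kˣ) • (1 : Matrix (Fin (n + 2)) (Fin (n + 2)) K)).det := by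
    have := det_cls_sub (n := n + 1) ((-1 : Kˣ)⁻¹) l⁻¹ ((1 : Kˣ)⁻¹ : Kˣ)
    simp only [cls] at this
    rw [Units.smul_def, this]
    refine (IsUnit.mk0 _ (sub_ne_zero.2 ?_)).mul ((IsUnit.mk0 _ (sub_ne_zero.2 ?_)).pow _)
    · simpa using h2
    · simpa using hl1
  have := ffac_of_pair (cornerHom (1, U)) _ hA (center_corner _ _) hB g
    (pair_step (c := 1) (d := 1⁻¹) hu (by simpa [Units.smul_def] using hv)
      (fun N hN hd => pair_cls_inv hK (by rw [hm1]; exact Ne.symm hl2) N (hN.resolve_left (Nat.succ_ne_zero _)) (by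
        rw [hd, hU, det_cls]; simp [det_border_zero_col, det_smul, det_jordan]))
      g hns (by
        rw [show (g : Matrix (Fin (n + 3)) (Fin (n + 3)) K) = M from rfl, hdet, hU, det_cls]
        simp [det_border_zero_col, det_smul, det_jordan]))
  rw [coe_cornerHom, det_border_zero_col, hU, det_cls] at this
  simpa [g] using this

/-- **Fields with at least four elements.** -/
theorem slFac_big (hK : 4 ≤ Fintype.card K) {m : ℕ} (hm : 4 ≤ m) : SLFac m K := by
  classical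
  obtain ⟨k, rfl⟩ : ∃ k, m = k + 4 := ⟨m - 4, by omega⟩
  intro M hdet hns
  obtain ⟨a, ha⟩ := exists_sq_ne_one (K := K) hK
  have hl : (a : K) * a ≠ 1 := by rw [← sq]; exact ha
  have ha1 : (a : K) ≠ 1 := fun e => hl (by rw [e, one_mul])
  have simple : ∀ c : Kˣ, (c : K) * a ≠ 1 → (c : K) ≠ a → IsSquare ((c : K) * (a : K) ^ (k + 3)) →
      ∃ (Φ : K[X]) (ε : K), IsSquare ε ∧ ε ≠ 0 ∧ FFac Φ ε M := fun c h1 h2 h3 =>
    ⟨_, _, h3, mul_ne_zero c.ne_zero (pow_ne_zero _ a.ne_zero), ffac_cls (n := k + 2) hK hl h1 h2 M hns hdet⟩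
  rcases Nat.even_or_odd k with hk | hk
  swap
  · refine simple 1 (by simpa using ha1) (by simpa using ha1.symm) ?_
    obtain ⟨j, rfl⟩ := hk
    exact ⟨(a : K) ^ (j + 2), by rw [Units.val_one, one_mul, ← pow_add]; ring_nf⟩
  by_cases hch : ringChar K = 2
  · exact simple 1 (by simpa using ha1) (by simpa using ha1.symm) (FiniteField.isSquare_of_char_two hch _)
  by_cases hs : ∃ s : Kˣ, (s : K) * s ≠ 1 ∧ (a : K) * a * ((s : K) * s) ≠ 1
  · obtain ⟨s, hs1, hs2⟩ := hs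
    refine simple (a * (s * s)) (fun e => hs2 (by push_cast at e; rw [← e]; ring))
      (fun e => hs1 (mul_left_cancel₀ a.ne_zero (by push_cast at e; rw [e, mul_one]))) ?_
    obtain ⟨j, rfl⟩ := hk
    exact ⟨(a : K) ^ (j + 2) * s, by push_cast; ring⟩
  push Not at hs
  -- only two squares: five elements
  have h2 : (-1 : K) ≠ 1 := Ring.neg_one_ne_one_of_char_ne_two hch
  have ha2 : (a : K) ≠ -1 := fun e => hl (by rw [e]; ring)
  have hneg : IsSquare (-1 : K) := by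
    have h4 := hs a hl
    refine ⟨(a : K), ((mul_self_eq_one_iff.1 h4).resolve_left hl).symm⟩
  refine ⟨_, _, ?_, neg_ne_zero.2 (pow_ne_zero _ a.ne_zero), ffac_double (n := k + 1) hK hl ha1 ha2 h2 M hns hdet⟩
  obtain ⟨j, rfl⟩ := hk
  rw [neg_eq_neg_one_mul]
  exact hneg.mul ⟨(a : K) ^ (j + 1), by ring⟩

end H31.Com
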