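import Cfsg.Agent.H31.Commutator.Plus

/-!
Reduction of the Ore property of `Ω⁺` to commutator factorisations in `SL_n`.
-/

set_option autoImplicit false
set_option linter.style.haveILetI false
set_option linter.unusedSectionVars false

namespace H31.Com

open Matrix Polynomial H21.ClassSquare H31.CSQ.Plus H31.CSQ.Orth
open H43 (orthGroup qPlus polB)
open scoped commutatorElement

variable {K : Type*} [Field K] [Fintype K] {m : ℕ}

theorem invert_plus (hm : 4 ≤ m) (g : Iso m K) (hg : g ∈ commutator (Iso m K)) :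
    ∃ u ∈ (siegel m K).U, IsUnit ((siegel m K).top (u * g)).det := by
  classical
  set A := (mx g).toBlocks₁₁
  set C := (mx g).toBlocks₂₁
  have hg0 : ∀ x, mx g *ᵥ Sum.elim x (0 : Fin m → K) = Sum.elim (A *ᵥ x) (C *ᵥ x) := fun x => by
    conv_lhs => rw [← fromBlocks_toBlocks (mx g), fromBlocks_mulVec]
    simp [A, C]
  have hinj : Function.Injective fun x => mx g *ᵥ x :=
    mulVec_injective_iff_isUnit.2 (g : GL (Fin m ⊕ Fin m) K).isUnit
  obtain ⟨S, v, hS, hu, hev⟩ := H31.CSQ.exists_orth_shear (A := A) (C := C) (fun x hA hC => by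
    have h1 : Sum.elim x (0 : Fin m → K) = 0 := hinj (by
      simp only [hg0, hA, hC, mulVec_zero]
      funext i; cases i <;> rfl)
    exact funext fun i => congrFun h1 (Sum.inl i)) (fun x => by
    have := block_eq g x 0
    simpa [A, C] using this)
  have hv : v = 0 := by
    refine hev ?_
    set U := LinearMap.ker (LinearMap.funLeft K K (Sum.inr : Fin m → Fin m ⊕ Fin m)) with hU
    have hpar := H44.even_inf_map_iff (H43.qPlus_nondeg m) (gen_plus hm) (H43.finrank_qPlus m) (theta m K g)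
      (H44.plus_half_singular m) (H44.plus_half_singular m) (H44.plus_half_finrank m) (H44.plus_half_finrank m)
    rw [((omega_iff hm g).1 hg).1, inf_idem, H44.plus_half_finrank, Nat.sub_self] at hpar
    let j : (Fin m → K) →ₗ[K] (Fin m ⊕ Fin m → K) :=
      { toFun := fun x => mx g *ᵥ Sum.elim x 0
        map_add' := fun x y => by
          rw [← mulVec_add]; congr 1; funext i; cases i <;> simp
        map_smul' := fun c x => by
          rw [RingHom.id_apply, ← mulVec_smul]; congr 1; funext i; cases i <;> simp }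
    have hj : Function.Injective j := fun x y h => by
      have := hinj h
      exact funext fun i => congrFun this (Sum.inl i)
    have himg : U ⊓ U.map ((theta m K g).1 : (Fin m ⊕ Fin m → K) →ₗ[K] (Fin m ⊕ Fin m → K)) =
        (LinearMap.ker C.mulVecLin).map j := by
      ext z
      simp only [Submodule.mem_inf, Submodule.mem_map, hU, LinearMap.mem_ker]
      constructor
      · rintro ⟨hz, y, hy, rfl⟩
        have hy' : y = Sum.elim (y ∘ Sum.inl) 0 := by
          funext i
          cases i with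
          | inl i => rfl
          | inr i => exact congrFun hy i
        refine ⟨y ∘ Sum.inl, ?_, ?_⟩
        · funext i
          have := congrFun hz i
          change (mx g *ᵥ y) (Sum.inr i) = _ at this
          rw [hy', hg0] at this
          simpa using this
        · show mx g *ᵥ _ = mx g *ᵥ y
          rw [← hy']
      · rintro ⟨x, hx, rfl⟩
        refine ⟨?_, Sum.elim x 0, rfl, rfl⟩
        funext i
        show (mx g *ᵥ Sum.elim x 0) (Sum.inr i) = 0
        rw [hg0]
        exact congrFun hx i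
    rw [himg, ← (Submodule.equivMapOfInjective j hj _).finrank_eq] at hpar
    have hr := LinearMap.finrank_range_add_finrank_ker C.mulVecLin
    rw [Module.finrank_fin_fun] at hr
    have he : Even (m - Module.finrank K (LinearMap.ker C.mulVecLin)) := by simpa using hpar
    rw [Matrix.rank]
    rwa [← show Module.finrank K (LinearMap.range C.mulVecLin) = m - Module.finrank K (LinearMap.ker C.mulVecLin) by omega] at he
  have hSa : Alt S := fun y => by rw [hS, hv, zero_dotProduct, zero_pow two_ne_zero, neg_zero]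
  refine ⟨up S hSa, up_mem _ _, ?_⟩
  rw [top_eq, mx_mul, ← fromBlocks_toBlocks (mx g)]
  simpa [up, mx_mkIso, fromBlocks_multiply] using hu

theorem commutator_conj {g : Iso m K} (hg : g ∈ commutator (Iso m K)) (c : Iso m K) :
    c * g * c⁻¹ ∈ commutator (Iso m K) :=
  (inferInstance : (commutator (Iso m K)).Normal).conj_mem g hg c

/-- The commutator factorisations needed in `SL_n`. -/
def SLFac (m : ℕ) (K : Type*) [Field K] : Prop :=
  ∀ M : Matrix (Fin m) (Fin m) K, M.det = 1 → (∀ μ : K, M ≠ μ • 1) →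
    ∃ (Φ : K[X]) (ε : K), IsSquare ε ∧ ε ≠ 0 ∧ FFac Φ ε M

theorem radicals_le (hm : 4 ≤ m) (hGL : SLFac m K) {g : Iso m K}
    (hg : g ∈ (siegel m K).U ∨ g ∈ (siegel m K).V) : g ∈ commutator (Iso m K) := by
  set i0 : Fin m := ⟨0, by omega⟩
  set i1 : Fin m := ⟨1, by omega⟩
  have h01 : i0 ≠ i1 := fun e => by simp [i0, i1] at e
  obtain ⟨Φ, ε, -, hε, A, P, hA, -, -, -, f1, f2⟩ := hGL (transvection i0 i1 1) (det_transvection_of_ne i0 i1 h01 1)
    (fun μ e => by
      have := congrFun (congrFun e i0) i1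
      simp [transvection, h01] at this)
  let a : GL (Fin m) K := GeneralLinearGroup.mk'' A (IsUnit.mk0 _ (by rw [hA]; exact hε))
  have hmem : ∀ (W : Subgroup (Iso m K)), (∀ w ∈ W, lev a * w * (lev a)⁻¹ ∈ W) →
      (∀ w ∈ W, lev a * w = w * lev a → w = 1) → ∀ w ∈ W, w ∈ commutator (Iso m K) := by
    intro W hn hf w hw
    obtain ⟨z, -, hz⟩ := exists_absorb hn hf hw
    have e : w = ⁅z, lev a⁆ := by rw [commutatorElement_def, hz]; group
    rw [e, commutator_def]
    exact Subgroup.commutator_mem_commutator (Subgroup.mem_top _) (Subgroup.mem_top _)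
  rcases hg with hg | hg
  · exact hmem (siegel m K).U (fun w hw => (siegel m K).L_conj_U hw a) (fun w hw e => lev_U_commute (X := a) hw f1 e) g hg
  · exact hmem (siegel m K).V (fun w hw => (siegel m K).L_conj_V hw a) (fun w hw e => lev_V_commute (X := a) hw f2 e) g hg

set_option maxHeartbeats 1600000 in
theorem comm_of_block (hm : 4 ≤ m) (hGL : SLFac m K) {g v u : Iso m K} {X : GL (Fin m) K}
    (hg : g ∈ commutator (Iso m K)) (hv : v ∈ (siegel m K).V) (hu : u ∈ (siegel m K).U) (hu1 : u ≠ 1)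
    (e : g = v * lev X * u) : IsComm g := by
  have hX : IsSquare X.val.det := by
    refine (lev_mem_iff hm X).1 ?_
    rw [show lev X = v⁻¹ * g * u⁻¹ by rw [e]; group]
    exact mul_mem (mul_mem (inv_mem (radicals_le hm hGL (Or.inr hv))) hg) (inv_mem (radicals_le hm hGL (Or.inl hu)))
  have hd : X.val.det ≠ 0 := ((isUnit_iff_isUnit_det _).1 X.isUnit).ne_zero
  by_cases h : X.val.det = 1 ∧ ∀ μ : K, X.val ≠ μ • 1
  · obtain ⟨Φ, ε, h1, h2, h3⟩ := hGL X.val h.1 h.2
    exact e ▸ block_comm hm hv hu h1 h2 h3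
  obtain ⟨S, hS, rfl⟩ := exists_up hu
  have hS0 : S ≠ 0 := fun h0 => hu1 (by subst h0; exact mx_ext (by simp [up, mx_mkIso, mx_one]))
  obtain ⟨T, hT, hTd, hTs⟩ : ∃ T, Alt T ∧ (X.val * (1 + S * T)).det = 1 ∧ ∀ μ : K, X.val * (1 + S * T) ≠ μ • 1 := by
    by_cases h1 : X.val.det = 1
    · obtain ⟨ν, hν⟩ : ∃ ν : K, X.val = ν • 1 := by
        by_contra h2
        push Not at h2
        exact h ⟨h1, h2⟩
      obtain ⟨T, hT, hTd, hTs⟩ := exists_shear_det_one (by omega) hS hS0
      refine ⟨T, hT, by rw [det_mul, h1, hTd, one_mul], fun μ hμ => ?_⟩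
      rw [hν, smul_mul, Matrix.one_mul] at hμ
      haveI : Nonempty (Fin m) := ⟨⟨0, by omega⟩⟩
      have hν0 : ν ≠ 0 := fun e0 => hd (by
        rw [hν, e0, zero_smul, det_zero])
      exact hTs (ν⁻¹ * μ) (by rw [← inv_smul_smul₀ hν0 (1 + S * T), hμ, smul_smul])
    · obtain ⟨r, hr⟩ := hX
      have hr0 : r ≠ 0 := fun e0 => hd (by rw [hr, e0, mul_zero])
      obtain ⟨T₁, T₂, hT₁, hT₂, hne, hd₁, hd₂⟩ := moves_alt (by omega) hS hS0 (inv_ne_zero hr0) (fun e0 => h1 (by
        rw [inv_pow, inv_eq_one, sq] at e0; rw [hr, e0]))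
      have hdd : X.val.det * r⁻¹ ^ 2 = 1 := by rw [hr]; field_simp
      by_cases hs : ∀ μ : K, X.val * (1 + S * T₁) ≠ μ • 1
      · exact ⟨T₁, hT₁, by rw [det_mul, hd₁, hdd], hs⟩
      push Not at hs
      obtain ⟨μ₁, hs⟩ := hs
      refine ⟨T₂, hT₂, by rw [det_mul, hd₂, hdd], fun μ₂ h2 => ?_⟩
      have hμ : μ₁ ≠ 0 := fun e0 => by
        rw [e0, zero_smul] at hs
        haveI : Nonempty (Fin m) := ⟨⟨0, by omega⟩⟩
        have := congrArg Matrix.det hs
        rw [det_mul, hd₁, hdd, det_zero] at this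
        exact one_ne_zero this
      refine hne (μ₂ / μ₁) ?_
      have e2 : X.val * (1 + S * T₂) = X.val * ((μ₂ / μ₁) • (1 + S * T₁)) := by
        rw [Matrix.mul_smul, hs, h2, smul_smul, div_mul_cancel₀ _ hμ]
      have := congrArg (X.val⁻¹ * ·) e2
      simpa [← Matrix.mul_assoc, Matrix.nonsing_inv_mul _ ((isUnit_iff_isUnit_det _).1 X.isUnit)] using this
  refine IsComm.of_conj (lo T hT)⁻¹ ?_
  rw [inv_inv]
  have htop : (siegel m K).top ((lo T hT)⁻¹ * g * lo T hT) = X.val * (1 + S * T) := by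
    rw [e, show (lo T hT)⁻¹ * (v * lev X * up S hS) * lo T hT = ((lo T hT)⁻¹ * v) * (lev X * (up S hS * lo T hT)) by
      group]
    rw [(siegel m K).top_V_mul (mul_mem (inv_mem (lo_mem T hT)) hv)]
    erw [(siegel m K).top_L_mul, top_up_lo]
  obtain ⟨v', hv', X', u', hu', e'⟩ := decomp ((lo T hT)⁻¹ * g * lo T hT)
    (by rw [htop, hTd]; exact isUnit_one)
  have hX' : X'.val = X.val * (1 + S * T) := by
    rw [← htop, e', (siegel m K).top_vLu hv' X' hu']
  obtain ⟨Φ, ε, h1, h2, h3⟩ := hGL X'.val (by rw [hX', hTd]) (by rw [hX']; exact hTs)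
  rw [e']
  exact block_comm hm hv' hu' h1 h2 h3

/-- The swap of one hyperbolic pair. -/
noncomputable def swapAt (j : Fin m) : Iso m K :=
  (theta m K).symm (H43.refl (qPlus m K) (Sum.elim (Pi.single j 1) (-Pi.single j 1)))

theorem q_swapVec (j : Fin m) :
    qPlus m K (Sum.elim (Pi.single j 1) (-Pi.single j 1)) = -1 := by
  simp [H43.coe_qPlus, Cfsg.quadFormPlus, Pi.single_apply]

theorem mx_swapAt (j : Fin m) : mx (swapAt j : Iso m K) =
    fromBlocks (diagonal fun x => if x = j then 0 else 1) (diagonal fun x => if x = j then 1 else 0)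
      (diagonal fun x => if x = j then 1 else 0) (diagonal fun x => if x = j then 0 else 1) := by
  apply Matrix.ext_iff_mulVec.2
  intro v
  rw [← theta_apply, swapAt, MulEquiv.apply_symm_apply, H43.refl_apply, q_swapVec, H43.polB_qPlus,
    fromBlocks_mulVec]
  rw [Finset.sum_eq_single j (fun x _ hx => by simp [hx]) (by simp)]
  funext x
  cases x with
  | inl x => by_cases hx : x = j <;> simp [hx, Matrix.mulVec_diagonal]
  | inr x => by_cases hx : x = j <;> simp [hx, Matrix.mulVec_diagonal]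

theorem neg_one_comm_odd (hm : 4 ≤ m) (hodd : Odd m) {X : GL (Fin m) K} (hX : X.val = -1)
    (hsq : IsSquare X.val.det) : IsComm (lev X) := by
  classical
  rw [hX, det_neg, det_one, mul_one, Fintype.card_fin, hodd.neg_one_pow] at hsq
  obtain ⟨i, hi⟩ := hsq
  have hi0 : i ≠ 0 := fun e => by rw [e, mul_zero] at hi; exact neg_ne_zero.2 one_ne_zero hi
  have hinv : i⁻¹ = -i := inv_eq_of_mul_eq_one_right (by rw [mul_neg, ← hi, neg_neg])
  set j0 : Fin m := ⟨0, by omega⟩
  set j1 : Fin m := ⟨1, by omega⟩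
  set j2 : Fin m := ⟨2, by omega⟩
  have h01 : j0 ≠ j1 := fun e => by simp [j0, j1] at e
  have h02 : j0 ≠ j2 := fun e => by simp [j0, j2] at e
  have h12 : j1 ≠ j2 := fun e => by simp [j1, j2] at e
  let α : Fin m → K := fun x => if x = j1 then -i else if x = j2 then 1 else i
  let β : Fin m → K := fun x => if x = j1 ∨ x = j2 then i else 1
  have hα0 : ∀ x, α x ≠ 0 := fun x => by simp only [α]; split_ifs <;> simp [hi0]
  have hβ0 : ∀ x, β x ≠ 0 := fun x => by simp only [β]; split_ifs <;> simp [hi0]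
  let dA : GL (Fin m) K := GeneralLinearGroup.mk'' (diagonal α)
    (by rw [det_diagonal]; exact IsUnit.mk0 _ (Finset.prod_ne_zero_iff.2 fun x _ => hα0 x))
  let dB : GL (Fin m) K := GeneralLinearGroup.mk'' (diagonal β)
    (by rw [det_diagonal]; exact IsUnit.mk0 _ (Finset.prod_ne_zero_iff.2 fun x _ => hβ0 x))
  have hlev : ∀ (d : Fin m → K) (D : GL (Fin m) K), D.val = diagonal d → (∀ x, d x ≠ 0) →
      mx (lev D) = fromBlocks (diagonal d) 0 0 (diagonal fun x => (d x)⁻¹) := by
    intro d D hD hd0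
    rw [mx_lev, coe_units_inv, hD, Matrix.inv_eq_left_inv (B := diagonal fun x => (d x)⁻¹)
      (by simp [diagonal_mul_diagonal, hd0]), diagonal_transpose]
  have hsi : IsSquare (-1 : K) := ⟨i, hi⟩
  have hprodB : (∏ x, β x) = i * i := by
    rw [← Finset.prod_subset (Finset.subset_univ {j1, j2}) (fun x _ hx => by
      simp only [Finset.mem_insert, Finset.mem_singleton, not_or] at hx; simp [β, hx.1, hx.2]),
      Finset.prod_pair h12]
    simp [β]
  have hprodA : IsSquare (∏ x, α x) := by
    have e : ∀ x, α x = i * ((if x = j1 then (-1 : K) else 1) * (if x = j2 then i⁻¹ else 1)) := fun x => by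
      simp only [α]
      split_ifs with h h' <;> first | exact absurd (h.symm.trans h') h12 | simp [hi0]
    rw [Finset.prod_congr rfl fun x _ => e x, Finset.prod_mul_distrib, Finset.prod_mul_distrib, Finset.prod_const,
      Finset.prod_ite_eq' Finset.univ j1, Finset.prod_ite_eq' Finset.univ j2, Finset.card_univ, Fintype.card_fin]
    obtain ⟨k, rfl⟩ := hodd
    simp only [Finset.mem_univ, if_true, pow_succ]
    rw [show i ^ (2 * k) * i * (-1 * i⁻¹) = i ^ (2 * k) * -1 by field_simp]
    exact IsSquare.mul ⟨i ^ k, by rw [two_mul, pow_add]⟩ hsi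
  set a : Iso m K := lev dA * (swapAt j1 * swapAt j2) with ha
  set b : Iso m K := lev dB * (wS * swapAt j1) with hb
  have hnd := H43.qPlus_nondeg (F := K) m
  have hv0 : ∀ j : Fin m, qPlus m K (Sum.elim (Pi.single j 1) (-Pi.single j 1)) ≠ 0 := fun j => by
    rw [q_swapVec]; exact neg_ne_zero.2 one_ne_zero
  obtain ⟨gs, hg1, hg2, hg3⟩ := H44.exists_swapHalves (m := m) (gen_plus (K := K) hm)
  have ew : theta m K wS = gs := H43.orth_ext fun x => by
    rw [theta_apply, hg3, wS, mx_mkIso, fromBlocks_mulVec]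
    funext y
    cases y <;> simp
  have hsw : ∀ j, H43.spinor (theta m K (swapAt (K := K) j)) = 1 ∧
      H43.dickson (theta m K (swapAt (K := K) j)) = Multiplicative.ofAdd 1 := fun j => by
    rw [swapAt, MulEquiv.apply_symm_apply, H43.spinor_refl hnd (hv0 j), H43.dickson_refl hnd (hv0 j), q_swapVec]
    exact ⟨(H43.sqc_eq_one_iff (neg_ne_zero.2 one_ne_zero)).2 hsi, rfl⟩
  have haΩ : a ∈ commutator (Iso m K) := by
    refine mul_mem ((lev_mem_iff hm dA).2 (by show IsSquare (diagonal α).det; rw [det_diagonal]; exact hprodA)) ?_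
    refine (omega_iff hm _).2 ?_
    rw [map_mul, H44.dickson_mul hnd (gen_plus hm), H44.spinor_mul hnd (gen_plus hm), (hsw j1).1, (hsw j1).2,
      (hsw j2).1, (hsw j2).2, one_mul, ← ofAdd_add]
    exact ⟨rfl, rfl⟩
  have hbΩ : b ∈ commutator (Iso m K) := by
    refine mul_mem ((lev_mem_iff hm dB).2 (by
      show IsSquare (diagonal β).det; rw [det_diagonal, hprodB]; exact ⟨i, rfl⟩)) ?_
    refine (omega_iff hm _).2 ?_
    rw [map_mul, H44.dickson_mul hnd (gen_plus hm), H44.spinor_mul hnd (gen_plus hm), (hsw j1).1, (hsw j1).2,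
      ew, hg1, hg2, mul_one, hodd.neg_one_pow, ZMod.natCast_eq_one_iff_odd.2 hodd, ← ofAdd_add]
    exact ⟨rfl, (H43.sqc_eq_one_iff (neg_ne_zero.2 one_ne_zero)).2 hsi⟩
  refine ⟨a, haΩ, b, hbΩ, ?_⟩
  rw [eq_mul_inv_iff_mul_eq, eq_mul_inv_iff_mul_eq]
  refine mx_ext ?_
  have hXlev : mx (lev X) = fromBlocks (diagonal fun _ => -1) 0 0 (diagonal fun _ => -1) := by
    rw [hlev (fun _ => -1) X (by rw [hX, ← diagonal_one, diagonal_neg]) (fun _ => neg_ne_zero.2 one_ne_zero)]
    simp [inv_neg]
  simp only [ha, hb, mx_mul, hXlev, hlev α dA rfl hα0, hlev β dB rfl hβ0, mx_swapAt]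
  simp only [wS, mx_mkIso, fromBlocks_multiply, ← diagonal_one, ← diagonal_zero, diagonal_mul_diagonal, diagonal_add]
  refine fromBlocks_inj.2 ⟨?_, ?_, ?_, ?_⟩
  all_goals
    congr 1
    funext x
    by_cases x1 : x = j1
    · simp [α, β, x1, h12, hinv, ← hi]
    · by_cases x2 : x = j2
      · simp [α, β, x2, h12.symm, hinv, ← hi]
      · simp [α, β, x1, x2, hinv, ← hi]

/-- **Every element of `Ω⁺` is a commutator.** -/
theorem all_comm (hm : 4 ≤ m) (hGL : SLFac m K) {g : Iso m K} (hg : g ∈ commutator (Iso m K)) : IsComm g := by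
  obtain ⟨u₀, hu₀, htop⟩ := invert_plus hm g hg
  refine IsComm.of_conj u₀ ?_
  obtain ⟨v, hv, X, u, hu, e⟩ := decomp (u₀ * g * u₀⁻¹) (by rwa [(siegel m K).top_mul_U (inv_mem hu₀)])
  have hg₁ := commutator_conj hg u₀
  generalize u₀ * g * u₀⁻¹ = g₁ at e hg₁
  change g₁ = v * lev X * u at e
  by_cases hu1 : u = 1
  swap
  · exact comm_of_block hm hGL hg₁ hv hu hu1 e
  subst hu1
  rw [mul_one] at e
  by_cases hv1 : v = 1
  · subst hv1
    rw [one_mul] at e
    by_cases hc : ∀ y ∈ (siegel m K).U, Commute (lev X) y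
    · obtain ⟨a, ha, ha2⟩ := scalar_of_alt (A := X.val) (B := (X⁻¹ : GL (Fin m) K).valᵀ) (by omega)
        (by rw [transpose_transpose, Units.inv_mul]) (fun S hS => by
          have := congrArg mx (hc _ (up_mem S hS)).eq
          simp [up, mx_mul, mx_mkIso, mx_lev, fromBlocks_multiply] at this
          simpa [coe_units_inv] using this)
      have hsq : IsSquare X.val.det := (lev_mem_iff hm X).1 (e ▸ hg₁)
      rw [e]
      by_cases hd1 : X.val.det = 1
      · exact lev_neg_one_comm hm ha ha2 hd1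
      · rw [ha, det_smul, det_one, mul_one, Fintype.card_fin] at hd1
        rcases mul_self_eq_one_iff.1 ha2 with h | h
        · exact absurd (by rw [h, one_pow]) hd1
        · rcases Nat.even_or_odd m with hm2 | hm2
          · exact absurd (by rw [h, hm2.neg_one_pow]) hd1
          · exact neg_one_comm_odd hm hm2 (by rw [ha, h, neg_one_smul]) hsq
    push Not at hc
    obtain ⟨y, hy, hyc⟩ := hc
    refine IsComm.of_conj y (comm_of_block hm hGL (commutator_conj hg₁ y) (one_mem _)
      (mul_mem ((siegel m K).L_conj_U hy X⁻¹) (inv_mem hy)) (fun h1 => hyc ?_) (X := X) ?_)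
    · have h2 : (lev X)⁻¹ * y * lev X * y⁻¹ = 1 := by
        have h3 := h1
        rw [show (siegel m K).L = lev from rfl, map_inv, inv_inv] at h3
        exact h3
      have := congrArg (fun z => lev X * z * y) h2
      simp only [mul_one] at this
      show _ = _
      rw [← this]; group
    · rw [e, show (siegel m K).L = lev from rfl, map_inv]; group
  · refine IsComm.of_conj wS (comm_of_block hm hGL (commutator_conj hg₁ _) (one_mem _)
      (u := (lev (trInv X))⁻¹ * (wS * v * wS⁻¹) * lev (trInv X)) ?_ ?_ (X := trInv X) ?_)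
    · have h := (siegel m K).L_conj_U (conj_wS_V hv) (trInv X)⁻¹
      rwa [show (siegel m K).L = lev from rfl, map_inv, inv_inv] at h
    · intro h
      have h' : (lev (trInv X))⁻¹ * (wS * v * wS⁻¹) * (lev (trInv X))⁻¹⁻¹ = 1 := by rwa [inv_inv]
      rw [conj_eq_one_iff, conj_eq_one_iff] at h'
      exact hv1 h'
    · rw [e, ← conj_wS_lev]; group

end H31.Com
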