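import Mathlib
import Cfsg.Agent.H48.SelfRecip

/-!
Irreducible polynomials of norm one which are not self-reciprocal.
-/

set_option autoImplicit false
set_option linter.style.haveILetI false

namespace H31.Com

open Polynomial

variable {K : Type*} [Field K] [Fintype K]

theorem exists_side {J : ℕ} (hJ : 3 ≤ J) : ∃ f : K[X], Irreducible f ∧ f.Monic ∧ f.natDegree = J ∧
    (-1) ^ J * f.coeff 0 = 1 ∧ IsCoprime f f.reverse := by
  classical
  obtain ⟨p, hp⟩ := CharP.exists K
  have : Fact p.Prime := ⟨CharP.char_is_prime K p⟩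
  have : NeZero J := ⟨by omega⟩
  let E := FiniteField.Extension K p J
  letI : Fintype E := Fintype.ofFinite E
  set q := Fintype.card K with hq
  have hq1 : 1 < q := Fintype.one_lt_card
  have hcE : Nat.card Eˣ = q ^ J - 1 := by
    rw [Nat.card_units, FiniteField.natCard_extension, Nat.card_eq_fintype_card, hq]
  obtain ⟨g, hg⟩ := IsCyclic.exists_generator (α := Eˣ)
  have hog : orderOf g = q ^ J - 1 := by rw [← hcE]; exact orderOf_eq_card_of_forall_mem_zpowers hg
  set r := ∑ i ∈ Finset.range J, q ^ i with hr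
  have hfac : q ^ J - 1 = (q - 1) * r := by
    rw [hr, mul_comm]
    have := geom_sum_mul_add (q - 1) J
    rw [show q - 1 + 1 = q by omega] at this
    omega
  set u := g ^ (q - 1) with hu
  have hou : orderOf u = r := by
    rw [hu, orderOf_pow' _ (by omega), hog, hfac, Nat.gcd_comm, Nat.gcd_mul_right_right, Nat.mul_div_cancel_left _ (by omega)]
  have hrlow : q ^ (J - 1) + 1 < r := by
    rw [hr]
    obtain ⟨k, rfl⟩ : ∃ k, J = k + 3 := ⟨J - 3, by omega⟩
    rw [show k + 3 - 1 = k + 2 by omega, Finset.sum_range_succ, Finset.sum_range_succ']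
    have : 0 < ∑ i ∈ Finset.range (k + 1), q ^ (i + 1) :=
      Finset.sum_pos (fun i _ => pow_pos (by omega) _) (by simp)
    simp only [pow_zero]
    omega
  set α : E := (u : E) with hαdef
  have hoα : orderOf α = r := by rw [hαdef, orderOf_units, hou]
  have hα0 : α ≠ 0 := u.ne_zero
  have hint : IsIntegral K α := IsIntegral.of_finite K α
  set f := minpoly K α with hf
  have hirr : Irreducible f := minpoly.irreducible hint
  have hmon : f.Monic := minpoly.monic hint
  haveI : Fact (Irreducible f) := ⟨hirr⟩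
  set pb := AdjoinRoot.powerBasis hirr.ne_zero
  haveI : Module.Finite K (AdjoinRoot f) := pb.finite
  haveI : Finite (AdjoinRoot f) := Module.finite_of_finite K
  set d := f.natDegree
  have hk : Module.finrank K (AdjoinRoot f) = d := by rw [pb.finrank, AdjoinRoot.powerBasis_dim]
  have hcL : Nat.card (AdjoinRoot f) = q ^ d := by
    rw [Module.natCard_eq_pow_finrank (K := K), hk, Nat.card_eq_fintype_card]
  set x := AdjoinRoot.root f
  have hox : orderOf x = r := by
    let φ := AdjoinRoot.liftAlgHom f (Algebra.ofId K E) α (minpoly.aeval K α)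
    rw [← hoα, ← orderOf_injective (φ : AdjoinRoot f →* E) φ.toRingHom.injective x]
    exact congrArg orderOf (AdjoinRoot.liftAlgHom_root (p := f) (Algebra.ofId K E) α (minpoly.aeval K α))
  have hx0 : x ≠ 0 := fun e => by
    have := hox; rw [e, orderOf_zero] at this; omega
  have hd0 : 0 < d := minpoly.natDegree_pos hint
  have hdJ : d = J := by
    have hle : d ≤ J := by
      have h1 := minpoly.natDegree_le (A := K) (x := α)
      have h2 : Module.finrank K E = J := by
        have h1 := Module.natCard_eq_pow_finrank (K := K) (V := E)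
        rw [FiniteField.natCard_extension] at h1
        exact (Nat.pow_right_injective (Finite.one_lt_card (α := K)) h1).symm
      change d ≤ _ at h1
      omega
    by_contra hne
    letI : Fintype (AdjoinRoot f) := Fintype.ofFinite _
    have h1 := FiniteField.pow_card_sub_one_eq_one x hx0
    rw [Fintype.card_eq_nat_card, hcL] at h1
    have h2 := Nat.le_of_dvd (Nat.sub_pos_of_lt (Nat.one_lt_pow hd0.ne' hq1)) (hox ▸ orderOf_dvd_of_pow_eq_one h1)
    have h3 : q ^ d ≤ q ^ (J - 1) := Nat.pow_le_pow_right (by omega) (by omega)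
    omega
  refine ⟨f, hirr, hmon, hdJ, ?_, ?_⟩
  · have h1 : Algebra.norm K x = (-1) ^ d * f.coeff 0 := by
      have h := Algebra.PowerBasis.norm_gen_eq_coeff_zero_minpoly pb
      rwa [AdjoinRoot.minpoly_powerBasis_gen_of_monic hmon, AdjoinRoot.powerBasis_gen, AdjoinRoot.powerBasis_dim] at h
    rw [← hdJ, ← h1]
    apply (algebraMap K (AdjoinRoot f)).injective
    rw [FiniteField.algebraMap_norm_eq_pow, map_one, hcL, hdJ, Nat.card_eq_fintype_card, ← hq, hfac,
      Nat.mul_div_cancel_left _ (by omega), ← hox, pow_orderOf_eq_one]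
  · refine hirr.coprime_iff_not_dvd.2 fun hdvd => ?_
    have hinv : aeval x⁻¹ f = 0 := by
      let _ : Invertible x := invertibleOfNonzero hx0
      have hroot : aeval x f.reverse = 0 := by
        obtain ⟨t, ht⟩ := hdvd
        rw [ht, map_mul, AdjoinRoot.aeval_eq, AdjoinRoot.mk_self, zero_mul]
      let _ : Invertible x⁻¹ := invertibleOfNonzero (inv_ne_zero hx0)
      refine (eval₂_reverse_eq_zero_iff (algebraMap K (AdjoinRoot f)) x⁻¹ f).1 ?_
      rw [invOf_eq_inv, inv_inv, ← aeval_def, hroot]
    obtain ⟨⟨i, hi⟩, hiσ⟩ := (FiniteField.bijective_frobeniusAlgHom_pow K (AdjoinRoot f)).2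
      (AdjoinRoot.liftAlgHom f (Algebra.ofId K _) x⁻¹ hinv)
    have hx' : x ^ q ^ i = x⁻¹ := by
      have := DFunLike.congr_fun hiσ x
      simp only [x] at this ⊢
      replace this := this.trans (AdjoinRoot.liftAlgHom_root (p := f) (Algebra.ofId K _) _ hinv)
      simpa [hq, AlgHom.coe_pow, FiniteField.coe_frobeniusAlgHom, pow_iterate] using this
    rw [hk] at hi
    have h1 : x ^ (q ^ i + 1) = 1 := by rw [pow_succ, hx', inv_mul_cancel₀ hx0]
    have h2 := Nat.le_of_dvd (by omega) (hox ▸ orderOf_dvd_of_pow_eq_one h1)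
    have h3 : q ^ i ≤ q ^ (J - 1) := Nat.pow_le_pow_right (by omega) (by omega)
    omega

end H31.Com
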