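import Cfsg.Agent.H31.Commutator.Cert
import Cfsg.Agent.H31.Commutator.Side
import Cfsg.Agent.H31.Commutator.PlusMain

/-!
Factorisations of groups of companion blocks.
-/

set_option autoImplicit false
set_option linter.unusedSectionVars false

namespace H31.Com

open Matrix Polynomial
open H89.CN (Sim Dec rComp)

variable {K : Type*} [Field K]

/-- The determinant of a companion matrix. -/
noncomputable def cd (f : K[X]) : K := (-1) ^ f.natDegree * f.coeff 0

theorem dec_swap {n : ℕ} {A : Matrix (Fin n) (Fin n) K} {f g : K[X]} {l : List K[X]} (h : Dec A (f :: g :: l)) :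
    Dec A (g :: f :: l) := by
  obtain ⟨hf, hf0, N, e, A₂, hs, hg, hg0, N', e', A₃, hs', h3⟩ := h
  let c : Fin f.natDegree ⊕ Fin N' ≃ Fin (f.natDegree + N') := finSumFinEquiv
  let E : Fin g.natDegree ⊕ Fin (f.natDegree + N') ≃ Fin n :=
    (((Equiv.refl _).sumCongr c.symm).trans (((Equiv.sumAssoc _ _ _).symm.trans ((Equiv.sumComm _ _).sumCongr (Equiv.refl _))).trans
      (Equiv.sumAssoc _ _ _))).trans (((Equiv.refl _).sumCongr e').trans e)
  refine ⟨hg, hg0, _, E, Matrix.reindex c c (fromBlocks (rComp f.natDegree f) 0 0 A₃), ?_,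
    hf, hf0, N', c, A₃, Sim.refl _, h3⟩
  refine hs.trans ((Sim.reindex (Sim.blocks (Sim.refl _) hs') e).trans ?_)
  refine (congrArg (fun X => Sim X _) ?_).mpr (Sim.refl _)
  ext x y
  obtain ⟨u, rfl⟩ := e.surjective x
  obtain ⟨v, rfl⟩ := e.surjective y
  rcases u with u | u
  · rcases v with v | v
    · simp [E]
    · obtain ⟨v, rfl⟩ := e'.surjective v
      rcases v with v | v <;> simp [E]
  · obtain ⟨u, rfl⟩ := e'.surjective u
    rcases v with v | v
    · rcases u with u | u <;> simp [E]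
    · obtain ⟨v, rfl⟩ := e'.surjective v
      rcases u with u | u <;> rcases v with v | v <;> simp [E]

theorem dec_perm {l l' : List K[X]} (h : l.Perm l') :
    ∀ {n : ℕ} {A : Matrix (Fin n) (Fin n) K}, Dec A l → Dec A l' := by
  induction h with
  | nil => exact fun h => h
  | cons f _ ih =>
    rintro n A ⟨hf, hf0, N, e, A₂, hs, h2⟩
    exact ⟨hf, hf0, N, e, A₂, hs, ih h2⟩
  | swap f g l => exact fun h => dec_swap h
  | trans _ _ ih ih' => exact fun h => ih' (ih h)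

theorem dec_append : ∀ {l₁ l₂ : List K[X]} {n : ℕ} {A : Matrix (Fin n) (Fin n) K}, Dec A (l₁ ++ l₂) →
    ∃ (n₁ n₂ : ℕ) (A₁ : Matrix (Fin n₁) (Fin n₁) K) (A₂ : Matrix (Fin n₂) (Fin n₂) K),
      SimTo A (fromBlocks A₁ 0 0 A₂) ∧ Dec A₁ l₁ ∧ Dec A₂ l₂
  | [], l₂, n, A, h => by
    refine ⟨0, n, 0, A, ⟨Equiv.emptySum (Fin 0) (Fin n), ?_⟩, rfl, h⟩
    refine (congrArg (fun X => Sim A X) ?_).mpr (Sim.refl A)
    ext i k
    simp [Equiv.emptySum]
  | f :: l₁, l₂, n, A, ⟨hf, hf0, N, e, B, hs, h2⟩ => by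
    obtain ⟨n₁, n₂, B₁, B₂, ⟨e₂, hs₂⟩, d₁, d₂⟩ := dec_append h2
    let c : Fin f.natDegree ⊕ Fin n₁ ≃ Fin (f.natDegree + n₁) := finSumFinEquiv
    refine ⟨f.natDegree + n₁, n₂, Matrix.reindex c c (fromBlocks (rComp f.natDegree f) 0 0 B₁), B₂,
      ⟨((c.symm.sumCongr (Equiv.refl _)).trans (Equiv.sumAssoc _ _ _)).trans (((Equiv.refl _).sumCongr e₂).trans e), ?_⟩,
      ⟨hf, hf0, n₁, c, B₁, Sim.refl _, d₁⟩, d₂⟩
    refine hs.trans ((Sim.reindex (Sim.blocks (Sim.refl _) hs₂) e).trans ?_)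
    refine (congrArg (fun X => Sim X _) ?_).mpr (Sim.refl _)
    ext x y
    obtain ⟨u, rfl⟩ := e.surjective x
    obtain ⟨v, rfl⟩ := e.surjective y
    rcases u with u | u
    · rcases v with v | v
      · simp
      · obtain ⟨v, rfl⟩ := e₂.surjective v
        rcases v with v | v <;> simp
    · obtain ⟨u, rfl⟩ := e₂.surjective u
      rcases v with v | v
      · rcases u with u | u <;> simp
      · obtain ⟨v, rfl⟩ := e₂.surjective v
        rcases u with u | u <;> rcases v with v | v <;> simp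

theorem FFac.of_simTo {ι κ : Type*} [Fintype ι] [DecidableEq ι] [Fintype κ] [DecidableEq κ] {Φ : K[X]} {ε : K}
    {M : Matrix ι ι K} {N : Matrix κ κ K} (h : FFac Φ ε N) (hs : SimTo M N) : FFac Φ ε M := by
  obtain ⟨e, he⟩ := hs
  exact (h.reindex e).of_sim he

theorem SimTo.trans {ι κ μ : Type*} [Fintype ι] [DecidableEq ι] [Fintype κ] [DecidableEq κ] [Fintype μ] [DecidableEq μ]
    {A : Matrix ι ι K} {B : Matrix κ κ K} {C : Matrix μ μ K} (h : SimTo A B) (h' : SimTo B C) : SimTo A C := by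
  obtain ⟨e, he⟩ := h
  obtain ⟨e', he'⟩ := h'
  exact ⟨e'.trans e, he.trans ((Sim.reindex he' e).trans (Sim.refl _))⟩

/-- A group of blocks factors with polynomials from `S` and determinant `ε`. -/
def FG (S : Set K[X]) (ε : K) (l : List K[X]) : Prop :=
  ∀ (n : ℕ) (A : Matrix (Fin n) (Fin n) K), Dec A l → ∃ Φ ∈ Submonoid.closure S, Fac Φ ε A

/-- A group of blocks factors freely with polynomials free against `S`. -/
def FR (S : Set K[X]) (ε : K) (l : List K[X]) : Prop :=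
  ∀ (n : ℕ) (A : Matrix (Fin n) (Fin n) K), Dec A l →
    ∃ Φ : K[X], (∀ t ∈ S, IsCoprime Φ t.reverse ∧ IsCoprime t Φ.reverse) ∧ FFac Φ ε A

theorem FG.perm {S : Set K[X]} {ε : K} {l l' : List K[X]} (h : FG S ε l) (hp : l.Perm l') : FG S ε l' :=
  fun n A hA => h n A (dec_perm hp.symm hA)

theorem FR.perm {S : Set K[X]} {ε : K} {l l' : List K[X]} (h : FR S ε l) (hp : l.Perm l') : FR S ε l' :=
  fun n A hA => h n A (dec_perm hp.symm hA)

theorem FG.mono {S T : Set K[X]} {ε : K} {l : List K[X]} (h : FG S ε l) (hST : S ⊆ T) : FG T ε l :=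
  fun n A hA => let ⟨Φ, h1, h2⟩ := h n A hA; ⟨Φ, Submonoid.closure_mono hST h1, h2⟩

theorem FG.nil (S : Set K[X]) : FG S 1 ([] : List K[X]) := fun n A hA => by
  have hn : n = 0 := hA
  subst hn
  exact ⟨1, one_mem _, A, 1, det_fin_zero, det_one, Subsingleton.elim _ _, Subsingleton.elim _ _⟩

theorem FG.append {S : Set K[X]} {ε δ : K} {l l' : List K[X]} (h : FG S ε l) (h' : FG S δ l') :
    FG S (ε * δ) (l ++ l') := fun n A hA => by
  obtain ⟨n₁, n₂, A₁, A₂, hs, d₁, d₂⟩ := dec_append hA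
  obtain ⟨Φ, m₁, f₁⟩ := h n₁ A₁ d₁
  obtain ⟨Ψ, m₂, f₂⟩ := h' n₂ A₂ d₂
  exact ⟨Φ * Ψ, mul_mem m₁ m₂, (f₁.sum f₂).of_simTo hs⟩

/-- The polynomials are pairwise free. -/
def Free (S : Set K[X]) : Prop := ∀ p ∈ S, ∀ t ∈ S, IsCoprime p t.reverse

theorem closure_rev {S : Set K[X]} {Φ Ψ : K[X]} (h : ∀ t ∈ S, IsCoprime Φ t.reverse ∧ IsCoprime t Φ.reverse)
    (hΨ : Ψ ∈ Submonoid.closure S) : IsCoprime Φ Ψ.reverse ∧ IsCoprime Ψ Φ.reverse := by
  induction hΨ using Submonoid.closure_induction with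
  | mem p hp => exact h p hp
  | one => exact ⟨by rw [← C_1, reverse_C, C_1]; exact isCoprime_one_right, isCoprime_one_left⟩
  | mul a b _ _ ha hb => exact ⟨by rw [reverse_mul_of_domain]; exact ha.1.mul_right hb.1, ha.2.mul_left hb.2⟩

theorem FG.toFR {S : Set K[X]} (hS : Free S) {ε : K} {l : List K[X]} (h : FG S ε l) : FR S ε l := fun n A hA => by
  obtain ⟨Φ, hΦ, hf⟩ := h n A hA
  exact ⟨Φ, fun t ht => ⟨coprime_reverse hS hΦ (Submonoid.subset_closure ht),
    coprime_reverse hS (Submonoid.subset_closure ht) hΦ⟩, hf.free (coprime_reverse hS hΦ hΦ)⟩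

theorem FR.append {S : Set K[X]} (hS : Free S) {ε δ : K} {l l' : List K[X]} (h : FR S ε l) (h' : FG S δ l') :
    FR S (ε * δ) (l ++ l') := fun n A hA => by
  obtain ⟨n₁, n₂, A₁, A₂, hs, d₁, d₂⟩ := dec_append hA
  obtain ⟨Φ, m₁, f₁⟩ := h n₁ A₁ d₁
  obtain ⟨Ψ, m₂, f₂⟩ := h' n₂ A₂ d₂
  obtain ⟨c1, c2⟩ := closure_rev m₁ m₂
  refine ⟨Φ * Ψ, fun t ht => ⟨(m₁ t ht).1.mul_left (coprime_reverse hS m₂ (Submonoid.subset_closure ht)), ?_⟩,
    (f₁.sum (f₂.free (coprime_reverse hS m₂ m₂)) c1 c2).of_simTo hs⟩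
  rw [reverse_mul_of_domain]
  exact (m₁ t ht).2.mul_right (coprime_reverse hS (Submonoid.subset_closure ht) m₂)

/-! ### Reductions -/

theorem dec_single {n : ℕ} {A : Matrix (Fin n) (Fin n) K} {f : K[X]} (h : Dec A [f]) :
    SimTo A (cmat fun i : Fin f.natDegree => f.coeff i) := by
  obtain ⟨-, -, N, e, A₂, hs, hN⟩ := h
  obtain rfl : N = 0 := hN
  refine ⟨(Equiv.sumEmpty _ (Fin 0)).symm.trans e, hs.trans ?_⟩
  refine (congrArg (fun X => Sim X _) ?_).mpr (Sim.refl _)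
  ext x y
  obtain ⟨u, rfl⟩ := e.surjective x
  obtain ⟨v, rfl⟩ := e.surjective y
  rcases u with u | u
  · rcases v with v | v
    · simp [rComp_eq_cmat]
    · exact v.elim0
  · exact u.elim0

theorem dec_cmat {d : ℕ} (hd : 0 < d) (b : Fin d → K) : Dec (cmat b) [mpoly b] := by
  refine ⟨mpoly_monic b, by rw [mpoly_natDegree]; exact hd, 0,
    (Equiv.sumEmpty _ (Fin 0)).trans (finCongr (mpoly_natDegree b)), 0, ?_, rfl⟩
  refine (congrArg (fun X => Sim _ X) ?_).mpr (Sim.refl _)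
  ext x y
  simp [cmat_eq, rComp, mpoly_natDegree]

theorem cd_mpoly {d : ℕ} (hd : 0 < d) (b : Fin d → K) : cd (mpoly b) = (cmat b).det := by
  rw [cd, mpoly_natDegree, Matrix.det_eq_sign_charpoly_coeff, charpoly_cmat, Fintype.card_fin]

theorem cd_eq_det {n : ℕ} {A : Matrix (Fin n) (Fin n) K} {f : K[X]} (h : Dec A [f]) : A.det = cd f := by
  obtain ⟨e, he⟩ := dec_single h
  rw [he.det_eq, det_reindex_self]
  have hf := h.1
  conv_rhs => rw [show f = mpoly fun i : Fin f.natDegree => f.coeff i from by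
    conv_lhs => rw [hf.as_sum, Finset.sum_range fun k => C (f.coeff k) * X ^ k]
    rfl]
  rw [cd_mpoly h.2.1]

theorem Red.of_simTo {ι κ μ : Type*} [Fintype ι] [DecidableEq ι] [Fintype κ] [DecidableEq κ] [Fintype μ]
    [DecidableEq μ] {M : Matrix ι ι K} {M' : Matrix κ κ K} {j : ℕ} {N : Matrix μ μ K} (h : Red M' j N)
    (hs : SimTo M M') : Red M j N := by
  obtain ⟨r, c, h⟩ := h
  exact ⟨r, c, hs.trans h⟩

/-- One block loses an identity corner. -/
theorem red_one {n : ℕ} {A : Matrix (Fin n) (Fin n) K} {f : K[X]} (h : Dec A [f]) {j : ℕ}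
    (hj : 2 * j ≤ f.natDegree) :
    ∃ (g : K[X]) (A' : Matrix (Fin (f.natDegree - j)) (Fin (f.natDegree - j)) K),
      Red A j A' ∧ Dec A' [g] ∧ g.natDegree = f.natDegree - j ∧ cd g = cd f := by
  obtain ⟨b, hb⟩ := red_cmat hj fun i : Fin f.natDegree => f.coeff i
  have hpos : 0 < f.natDegree - j := by have := h.2.1; omega
  refine ⟨mpoly b, cmat b, hb.of_simTo (dec_single h), dec_cmat hpos b, mpoly_natDegree b, ?_⟩
  rw [cd_mpoly hpos, ← hb.det_eq, ← cd_eq_det h]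
  obtain ⟨e, he⟩ := dec_single h
  rw [he.det_eq, det_reindex_self]

/-- Two blocks lose identity corners together. -/
theorem red_two {n : ℕ} {A : Matrix (Fin n) (Fin n) K} {f f' : K[X]} (h : Dec A [f, f']) {j j' : ℕ}
    (hj : 2 * j ≤ f.natDegree) (hj' : 2 * j' ≤ f'.natDegree) :
    ∃ (g g' : K[X]) (N : ℕ) (A' : Matrix (Fin N) (Fin N) K),
      Red A (j + j') A' ∧ Dec A' [g, g'] ∧ (g.natDegree = f.natDegree - j ∧ cd g = cd f) ∧
        (g'.natDegree = f'.natDegree - j' ∧ cd g' = cd f') := by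
  obtain ⟨n₁, n₂, A₁, A₂, hs, d₁, d₂⟩ := dec_append (l₁ := [f]) (l₂ := [f']) h
  obtain ⟨g, B₁, r₁, e₁, hg⟩ := red_one d₁ hj
  obtain ⟨g', B₂, r₂, e₂, hg'⟩ := red_one d₂ hj'
  let c : Fin (f.natDegree - j) ⊕ Fin (f'.natDegree - j') ≃ Fin ((f.natDegree - j) + (f'.natDegree - j')) :=
    finSumFinEquiv
  refine ⟨g, g', _, Matrix.reindex c c (fromBlocks B₁ 0 0 B₂), ?_, ?_, hg, hg'⟩
  · obtain ⟨r, q, hq⟩ := (r₁.sum r₂).of_simTo hs
    refine ⟨r.submatrix id c.symm, q.submatrix c.symm id, hq.trans ?_⟩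
    refine ⟨(Equiv.refl _).sumCongr c.symm, ?_⟩
    refine (congrArg (fun X => Sim _ X) ?_).mpr (Sim.refl _)
    ext x y
    rcases x with x | x <;> rcases y with y | y <;> simp [Matrix.mul_apply, Matrix.one_apply]
  · obtain ⟨hm, hp, N, e, B, hs', hN⟩ := e₁
    obtain rfl : N = 0 := hN
    refine ⟨hm, hp, f'.natDegree - j', ((e.sumCongr (Equiv.refl _)).symm.trans
      ((Equiv.sumEmpty _ (Fin 0)).sumCongr (Equiv.refl _))).symm.trans c, B₂, ?_, e₂⟩
    refine (Sim.reindex (Sim.blocks hs' (Sim.refl B₂)) c).trans ?_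
    refine (congrArg (fun X => Sim X _) ?_).mpr (Sim.refl _)
    ext x y
    obtain ⟨u, rfl⟩ := c.surjective x
    obtain ⟨v, rfl⟩ := c.surjective y
    rcases u with u | u
    · obtain ⟨u, rfl⟩ := e.surjective u
      rcases v with v | v
      · obtain ⟨v, rfl⟩ := e.surjective v
        rcases u with u | u
        · rcases v with v | v
          · simp
          · exact v.elim0
        · exact u.elim0
      · rcases u with u | u
        · simp
        · exact u.elim0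
    · rcases v with v | v
      · obtain ⟨v, rfl⟩ := e.surjective v
        rcases v with v | v
        · simp
        · exact v.elim0
      · simp

/-- The corner step for groups. -/
theorem FG.step {T : Set K[X]} {φ : K[X]} (hφ : φ.Monic) (hd : 0 < φ.natDegree) (h0 : cd φ ≠ 0)
    (hc : ∀ t ∈ T, IsCoprime φ t) {δ : K} (hδ : δ ≠ 0) {n N : ℕ} {A : Matrix (Fin n) (Fin n) K}
    {A' : Matrix (Fin N) (Fin N) K} (hr : Red A φ.natDegree A') {l' : List K[X]} (hA' : Dec A' l')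
    (h : FG T δ l') : ∃ Φ ∈ Submonoid.closure (insert φ T), Fac Φ (cd φ * δ) A := by
  obtain ⟨Ψ, hΨ, hf⟩ := h N A' hA'
  have hcop : IsCoprime φ Ψ := by
    clear hf
    induction hΨ using Submonoid.closure_induction with
    | mem p hp => exact hc p hp
    | one => exact isCoprime_one_right
    | mul a b _ _ ha hb => exact ha.mul_right hb
  have e : φ = mpoly fun i : Fin φ.natDegree => φ.coeff i := by
    conv_lhs => rw [hφ.as_sum, Finset.sum_range fun k => C (φ.coeff k) * X ^ k]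
    rfl
  refine ⟨φ * Ψ, mul_mem (Submonoid.subset_closure (Set.mem_insert _ _))
    (Submonoid.closure_mono (Set.subset_insert _ _) hΨ),
    hr.fac hcop h0 hδ (A := cmat fun i : Fin φ.natDegree => φ.coeff i) ?_ ?_ hf⟩
  · rw [← cd_mpoly hd, ← e]
  · conv_lhs => arg 2; rw [e]
    exact aeval_cmat _

end H31.Com
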