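import Cfsg.Agent.H31.ClassSq.OddInst
import Cfsg.Agent.H31.Commutator.PlusMain
import Cfsg.Agent.H37.Generation

/-!
Reduction of the Ore property of `Ω` in odd dimension to commutator factorisations in `SL_n` without fixed vectors.
-/

set_option autoImplicit false
set_option linter.style.haveILetI false
set_option linter.unusedSectionVars false

namespace H31.Com.Odd

open Matrix Polynomial H21.ClassSquare H41 H41.Reg H31.CSQ.Odd H31.CSQ.Orth
open H31.CSQ.Plus (trInv)
open H43 (orthGroup qOdd polB)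
open scoped commutatorElement

variable {K : Type*} [Field K] [Fintype K] [NeZero (2 : K)] {m n : ℕ}

theorem gen_odd (m : ℕ) (K : Type*) [Field K] [Fintype K] [NeZero (2 : K)] :
    H43.ReflGenerates K (Idx m → K) :=
  H43.reflGenerates_of_card (Or.inl fun h => (two_ne_zero : (2 : K) ≠ 0) (by
    have := FiniteField.cast_card_eq_zero K
    rw [h] at this
    exact_mod_cast this))

theorem omega_iff (g : Iso m K) :
    g ∈ commutator (Iso m K) ↔ (mx g).det = 1 ∧ H43.spinor (theta m K g) = 1 := by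
  rw [← theta_det, ← H44.dickson_eq_one_iff_det (hnd m K) (gen_odd m K) two_ne_zero,
    ← H44.mem_commutator_iff (hnd m K) (gen_odd m K)]
  have e : (commutator (Iso m K)).map (theta m K : Iso m K →* orthGroup (qOdd m K)) =
      commutator (orthGroup (qOdd m K)) := by
    rw [commutator_def, Subgroup.map_commutator, Subgroup.map_top_of_surjective _ (theta m K).surjective,
      commutator_def]
  rw [← e]
  exact (Subgroup.mem_map_iff_mem (theta m K).injective).symm

theorem lev_omega_of_det {X : GL (Fin m) K} (hm : 3 ≤ m) (hX : X.val.det = 1) :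
    lev X ∈ commutator (Iso m K) := by
  have hle : (commutator (GL (Fin m) K)).map lev ≤ commutator (Iso m K) := by
    rw [commutator_def, Subgroup.map_commutator, commutator_def]
    exact Subgroup.commutator_mono le_top le_top
  refine hle ⟨X, ?_, rfl⟩
  have hp : commutator (Matrix.SpecialLinearGroup (Fin m) K) = ⊤ :=
    H37.commutator_SL_eq_top (by rw [Fintype.card_fin]; exact hm)
  have hle2 : (commutator (Matrix.SpecialLinearGroup (Fin m) K)).map Matrix.SpecialLinearGroup.toGL ≤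
      commutator (GL (Fin m) K) := by
    rw [commutator_def, Subgroup.map_commutator, commutator_def]
    exact Subgroup.commutator_mono le_top le_top
  exact hle2 ⟨⟨X, hX⟩, by rw [hp]; trivial, Units.ext rfl⟩

theorem corner_spinor (t : Kˣ) :
    H43.spinor (theta (n + 1) K (lev (cornerHom (t, 1)))) = H43.sqc (t : K) := by
  have hp : H43.HypPair (qOdd (n + 1) K) (Pi.single (Sum.inr (Sum.inl 0)) 1) (Pi.single (Sum.inr (Sum.inr 0)) 1) :=
    ⟨by simp [H43.coe_qOdd, Cfsg.quadFormOdd, Pi.single_apply],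
      by simp [H43.coe_qOdd, Cfsg.quadFormOdd, Pi.single_apply],
      by simp [H43.polB_qOdd, Pi.single_apply]⟩
  have e : theta (n + 1) K (lev (cornerHom (t, 1))) =
      H43.hscale (qOdd (n + 1) K) (Pi.single (Sum.inr (Sum.inl 0)) 1) (Pi.single (Sum.inr (Sum.inr 0)) 1) (t : K) := by
    refine H43.orth_ext fun x => ?_
    rw [theta_apply, mx_lev, H43.hscale_apply hp t.ne_zero, levM_eq, tri_eta x, mat3_mulVec]
    rw [← map_inv, Prod.inv_mk, inv_one, coe_cornerHom, coe_cornerHom]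
    funext i
    rcases i with i | i | i
    · simp [Pi.single_apply]
    · cases i using Fin.cases <;>
        simp [H43.polB_qOdd, Pi.single_apply, mulVec, dotProduct, Fin.sum_univ_succ, Matrix.one_apply] <;> ring
    · cases i using Fin.cases <;>
        simp [H43.polB_qOdd, Pi.single_apply, mulVec, dotProduct, Fin.sum_univ_succ, Matrix.one_apply] <;> ring
  rw [e]
  exact (H44.hscale_invariants (hnd (n + 1) K) (gen_odd (n + 1) K) hp t.ne_zero).2

theorem spinor_lev (hm : 3 ≤ n + 1) (X : GL (Fin (n + 1)) K) :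
    H43.spinor (theta (n + 1) K (lev X)) = H43.sqc X.val.det := by
  set t := GeneralLinearGroup.det X with ht
  have h1 : ((cornerHom (t, 1))⁻¹ * X : GL (Fin (n + 1)) K).val.det = 1 := by
    rw [← map_inv, Units.val_mul, det_mul, coe_cornerHom, det_border_zero_col]
    simp [ht]
    exact inv_mul_cancel₀ ((isUnit_iff_isUnit_det _).1 X.isUnit).ne_zero
  have hs := ((omega_iff _).1 (lev_omega_of_det hm h1)).2
  conv_lhs => rw [← mul_inv_cancel_left (cornerHom (t, 1)) X]
  rw [map_mul, map_mul, H44.spinor_mul (hnd _ K) (gen_odd _ K), hs, mul_one, corner_spinor, ht,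
    GeneralLinearGroup.val_det_apply]

theorem lev_mem_iff (hm : 3 ≤ m) (X : GL (Fin m) K) : lev X ∈ commutator (Iso m K) ↔ IsSquare X.val.det := by
  obtain ⟨k, rfl⟩ : ∃ k, m = k + 1 := ⟨m - 1, by omega⟩
  rw [omega_iff, spinor_lev hm, H43.sqc_eq_one_iff ((isUnit_iff_isUnit_det _).1 X.isUnit).ne_zero]
  exact ⟨fun h => h.2, fun h => ⟨lev_det X, h⟩⟩

theorem lev_U_commute {X : GL (Fin m) K} {u : Iso m K} (hu : u ∈ (siegel m K).U) (hX : AFree X.val)
    (hfix : ∀ r, X.val *ᵥ r = r → r = 0) (h : lev X * u = u * lev X) : u = 1 := by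
  obtain ⟨r, S, hodd, rfl⟩ := exists_up hu
  have e := congrArg mx h
  rw [mx_mul, mx_mul, mx_lev, mx_up] at e
  have h1 : X.val *ᵥ ((-2 : K) • r) = (-2 : K) • r := by
    funext i
    have := congrFun (congrFun e (Sum.inr (Sum.inl i))) (Sum.inl ())
    simpa [levM, mat3, Matrix.mul_apply, Fintype.sum_sum_type, Matrix.one_apply, mulVec, dotProduct] using this
  have h2 : X.val * S = S * (X⁻¹ : GL (Fin m) K).valᵀ := by
    ext i j
    have := congrFun (congrFun e (Sum.inr (Sum.inl i))) (Sum.inr (Sum.inr j))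
    simpa [levM, mat3, Matrix.mul_apply, Fintype.sum_sum_type, Matrix.one_apply] using this
  obtain rfl : r = 0 := (smul_eq_zero.1 (hfix _ h1)).resolve_left (neg_ne_zero.2 (two_ne_zero : (2 : K) ≠ 0))
  obtain rfl : S = 0 := hX S hodd.alt (by
    rw [h2, Matrix.mul_assoc, ← transpose_mul, X.mul_inv, transpose_one, Matrix.mul_one])
  refine mx_ext ?_
  rw [mx_up, mx_one]
  ext i j
  rcases i with i | i | i <;> rcases j with j | j | j <;> simp [mat3, Matrix.one_apply]

theorem lev_V_commute {X : GL (Fin m) K} {v : Iso m K} (hv : v ∈ (siegel m K).V) (hX : AFree X.valᵀ)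
    (hfix : ∀ r, X.valᵀ *ᵥ r = r → r = 0) (h : lev X * v = v * lev X) : v = 1 := by
  obtain ⟨r, S, hodd, rfl⟩ := exists_lo hv
  have e := congrArg mx h
  rw [mx_mul, mx_mul, mx_lev, mx_lo] at e
  have hinv : X.valᵀ * (X⁻¹ : GL (Fin m) K).valᵀ = 1 := by rw [← transpose_mul, X.inv_mul, transpose_one]
  have h1 : (X⁻¹ : GL (Fin m) K).valᵀ *ᵥ ((-2 : K) • r) = (-2 : K) • r := by
    funext i
    have := congrFun (congrFun e (Sum.inr (Sum.inr i))) (Sum.inl ())
    simpa [levM, mat3, Matrix.mul_apply, Fintype.sum_sum_type, Matrix.one_apply, mulVec, dotProduct] using this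
  have h2 : (X⁻¹ : GL (Fin m) K).valᵀ * S = S * X.val := by
    ext i j
    have := congrFun (congrFun e (Sum.inr (Sum.inr i))) (Sum.inr (Sum.inl j))
    simpa [levM, mat3, Matrix.mul_apply, Fintype.sum_sum_type, Matrix.one_apply] using this
  obtain rfl : r = 0 := (smul_eq_zero.1 (hfix _ (by
    conv_lhs => rw [← h1, mulVec_mulVec, hinv, one_mulVec]))).resolve_left (neg_ne_zero.2 (two_ne_zero : (2 : K) ≠ 0))
  obtain rfl : S = 0 := hX S hodd.alt (by
    rw [transpose_transpose, Matrix.mul_assoc, ← h2, ← Matrix.mul_assoc, hinv, Matrix.one_mul])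
  refine mx_ext ?_
  rw [mx_lo, mx_one]
  ext i j
  rcases i with i | i | i <;> rcases j with j | j | j <;> simp [mat3, Matrix.one_apply]

theorem fix_of_coprime {ι : Type*} [Fintype ι] [DecidableEq ι] {A : Matrix ι ι K} {Φ : K[X]} (hA : aeval A Φ = 0)
    (hc : IsCoprime Φ (X - C 1)) (r : ι → K) (hr : A *ᵥ r = r) : r = 0 := by
  obtain ⟨u, v, huv⟩ := hc
  have h := congrArg (fun p : K[X] => aeval A p *ᵥ r) huv
  simp only [map_add, map_mul, map_one, hA, mul_zero, zero_add, map_sub, aeval_X, one_mulVec] at h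
  rw [← mulVec_mulVec, sub_mulVec, one_mulVec, hr, sub_self, mulVec_zero] at h
  exact h.symm

/-- A commutator of two elements of `Ω`. -/
def IsComm (g : Iso m K) : Prop :=
  ∃ a ∈ commutator (Iso m K), ∃ b ∈ commutator (Iso m K), g = a * b * a⁻¹ * b⁻¹

theorem IsComm.of_conj {g : Iso m K} (c : Iso m K) (h : IsComm (c * g * c⁻¹)) : IsComm g := by
  obtain ⟨a, ha, b, hb, e⟩ := h
  have hn : (commutator (Iso m K)).Normal := inferInstance
  refine ⟨c⁻¹ * a * c, by simpa using hn.conj_mem a ha c⁻¹, c⁻¹ * b * c, by simpa using hn.conj_mem b hb c⁻¹, ?_⟩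
  calc g = c⁻¹ * (c * g * c⁻¹) * c := by group
    _ = _ := by rw [e]; group

/-- The commutator factorisations needed in `SL_n`. -/
def SLFacO (m : ℕ) (K : Type*) [Field K] : Prop :=
  ∀ M : Matrix (Fin m) (Fin m) K, M.det = 1 → (∀ μ : K, M ≠ μ • 1) →
    ∃ (Φ : K[X]) (ε : K), IsSquare ε ∧ ε ≠ 0 ∧ IsCoprime Φ (X - C 1) ∧ FFac Φ ε M

set_option maxHeartbeats 800000 in
theorem block_comm (hm : 3 ≤ m) {v u : Iso m K} (hv : v ∈ (siegel m K).V) (hu : u ∈ (siegel m K).U)
    {X : GL (Fin m) K} {Φ : K[X]} {ε : K} (hε : IsSquare ε) (hε0 : ε ≠ 0) (hΦ : IsCoprime Φ (Polynomial.X - C 1))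
    (hX : FFac Φ ε X.val) : IsComm (v * lev X * u) := by
  obtain ⟨A, P, hA, hP, hΦA, hM, f1, f2⟩ := hX
  let a : GL (Fin m) K := GeneralLinearGroup.mk'' A (IsUnit.mk0 _ (by rw [hA]; exact hε0))
  let p : GL (Fin m) K := GeneralLinearGroup.mk'' P (by rw [hP]; exact isUnit_one)
  have hXe : X = a * p * a⁻¹ * p⁻¹ := by
    rw [eq_mul_inv_iff_mul_eq, eq_mul_inv_iff_mul_eq]
    exact Units.ext hM
  set B := p * a⁻¹ * p⁻¹ with hB
  have hBf : AFree B.val := by
    refine ((f1.inv (IsUnit.mk0 _ (by rw [hA]; exact hε0))).congr_left (P := P) (by rw [hP]; exact isUnit_one) ?_)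
    have e : (a⁻¹ : GL (Fin m) K).val = A⁻¹ := coe_units_inv _
    rw [← e]
    show (p * a⁻¹).val = (B * p).val
    rw [hB, inv_mul_cancel_right]
  have hfixA : ∀ r, A *ᵥ r = r → r = 0 := fix_of_coprime hΦA hΦ
  have hfixT : ∀ r, Aᵀ *ᵥ r = r → r = 0 := fix_of_coprime (by rw [aeval_transpose, hΦA, transpose_zero]) hΦ
  have hfixB : ∀ r, B.val *ᵥ r = r → r = 0 := fun r hr => by
    have e1 : (p * a * p⁻¹).val *ᵥ r = r := by
      conv_rhs => rw [← one_mulVec r, ← Units.val_one, show (1 : GL (Fin m) K) = p * a * p⁻¹ * B by rw [hB]; group,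
        Units.val_mul, ← mulVec_mulVec, hr]
    set w := (p⁻¹).val *ᵥ r with hw
    have e2 : A *ᵥ w = w := by
      have e3 := congrArg ((p⁻¹).val *ᵥ ·) e1
      simp only [mulVec_mulVec] at e3
      rw [← Units.val_mul, show p⁻¹ * (p * a * p⁻¹) = a * p⁻¹ by group, Units.val_mul, ← mulVec_mulVec] at e3
      exact e3
    have e4 : r = p.val *ᵥ w := by rw [hw, mulVec_mulVec, p.mul_inv, one_mulVec]
    rw [e4, hfixA w e2, mulVec_zero]
  obtain ⟨x, hx, hxe⟩ := exists_absorb (s := lev a) (fun w hw => (siegel m K).L_conj_V hw a)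
    (fun w hw e => lev_V_commute hw f2 hfixT e) hv
  obtain ⟨y, hy, hye⟩ := exists_absorb (s := lev B) (fun w hw => (siegel m K).L_conj_U hw B)
    (fun w hw e => lev_U_commute hw hBf hfixB e) ((siegel m K).L_conj_U hu B)
  have hΩ : (commutator (Iso m K)).Normal := inferInstance
  have hmem : ∀ (W : Subgroup (Iso m K)) (s : Iso m K), (∀ w ∈ W, s * w * s⁻¹ ∈ W) →
      (∀ w ∈ W, s * w = w * s → w = 1) → ∀ w ∈ W, w ∈ commutator (Iso m K) := by
    intro W s hn hf w hw
    obtain ⟨z, -, hz⟩ := exists_absorb hn hf hw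
    have e : w = ⁅z, s⁆ := by rw [commutatorElement_def, hz]; group
    rw [e, commutator_def]
    exact Subgroup.commutator_mem_commutator (Subgroup.mem_top _) (Subgroup.mem_top _)
  have hxΩ := hmem _ (lev a) (fun w hw => (siegel m K).L_conj_V hw a)
    (fun w hw e => lev_V_commute hw f2 hfixT e) x hx
  have hyΩ := hmem _ (lev B) (fun w hw => (siegel m K).L_conj_U hw B)
    (fun w hw e => lev_U_commute hw hBf hfixB e) y hy
  refine ⟨x * lev a * x⁻¹, hΩ.conj_mem _ ((lev_mem_iff hm a).2 (by show IsSquare A.det; rw [hA]; exact hε)) x,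
    y * lev p * x⁻¹, mul_mem (mul_mem hyΩ ((lev_mem_iff hm p).2 (by show IsSquare P.det; rw [hP]; exact IsSquare.one)))
      (inv_mem hxΩ), ?_⟩
  calc v * lev X * u = (v * lev a) * (lev B * u * (lev B)⁻¹ * lev B) := by
        rw [show lev X = lev a * lev B by rw [← map_mul, hXe, hB]; congr 1; group]; group
    _ = (x * lev a * x⁻¹) * (y * lev B * y⁻¹) := congrArg₂ (· * ·) hxe.symm hye.symm
    _ = _ := by rw [hB, map_mul, map_mul, map_inv, map_inv]; group

theorem radicals_le (hm : 3 ≤ m) (hGL : SLFacO m K) {g : Iso m K}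
    (hg : g ∈ (siegel m K).U ∨ g ∈ (siegel m K).V) : g ∈ commutator (Iso m K) := by
  set i0 : Fin m := ⟨0, by omega⟩
  set i1 : Fin m := ⟨1, by omega⟩
  have h01 : i0 ≠ i1 := fun e => by simp [i0, i1] at e
  obtain ⟨Φ, ε, -, hε, hΦ, A, P, hA, -, hΦA, -, f1, f2⟩ := hGL (transvection i0 i1 1)
    (det_transvection_of_ne i0 i1 h01 1)
    (fun μ e => by
      have := congrFun (congrFun e i0) i1
      simp [transvection, h01] at this)
  let a : GL (Fin m) K := GeneralLinearGroup.mk'' A (IsUnit.mk0 _ (by rw [hA]; exact hε))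
  have hmem : ∀ (W : Subgroup (Iso m K)), (∀ w ∈ W, lev a * w * (lev a)⁻¹ ∈ W) →
      (∀ w ∈ W, lev a * w = w * lev a → w = 1) → ∀ w ∈ W, w ∈ commutator (Iso m K) := by
    intro W hn hf w hw
    obtain ⟨z, -, hz⟩ := exists_absorb hn hf hw
    have e : w = ⁅z, lev a⁆ := by rw [commutatorElement_def, hz]; group
    rw [e, commutator_def]
    exact Subgroup.commutator_mem_commutator (Subgroup.mem_top _) (Subgroup.mem_top _)
  rcases hg with hg | hg
  · exact hmem (siegel m K).U (fun w hw => (siegel m K).L_conj_U hw a) (fun w hw e =>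
      lev_U_commute (X := a) hw f1 (fix_of_coprime hΦA hΦ) e) g hg
  · exact hmem (siegel m K).V (fun w hw => (siegel m K).L_conj_V hw a) (fun w hw e =>
      lev_V_commute (X := a) hw f2 (fix_of_coprime (show aeval Aᵀ Φ = 0 by rw [aeval_transpose, hΦA, transpose_zero]) hΦ) e) g hg

/-- A determinant one move out of the scalars. -/
theorem shear_one (hm : 3 ≤ m) {r : Fin m → K} {S : Matrix (Fin m) (Fin m) K} (h : OddPair r S)
    (hne : ¬ (r = 0 ∧ S = 0)) :
    ∃ q T, OddPair q T ∧ (oddTop r q S T).det = 1 ∧ ∀ μ : K, oddTop r q S T ≠ μ • 1 := by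
  by_cases hr : r = 0
  · subst hr
    obtain ⟨T, hT, h1, h2⟩ := exists_shear_det_one hm h.alt fun e => hne ⟨rfl, e⟩
    refine ⟨0, T, oddPair_zero hT, ?_⟩
    simp only [oddTop, smul_zero, zero_vecMulVec, zero_add]
    exact ⟨h1, h2⟩
  obtain ⟨q₀, hq₀, hrq, -⟩ := exists_orth2 hm r r
  obtain ⟨q, hq, hrq, ha⟩ : ∃ q : Fin m → K, q ≠ 0 ∧ r ⬝ᵥ q = 0 ∧ (-2 : K) • r - S *ᵥ q ≠ 0 := by
    by_cases h0 : (-2 : K) • r - S *ᵥ q₀ = 0
    · refine ⟨(2 : K) • q₀, smul_ne_zero two_ne_zero hq₀, by rw [dotProduct_smul, hrq, smul_zero], fun h1 => ?_⟩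
      rw [mulVec_smul, sub_eq_zero] at h1
      rw [sub_eq_zero] at h0
      rw [← h0, smul_smul] at h1
      have h2 : ((2 : K) * -2 - -2) • r = 0 := by rw [sub_smul, ← h1, sub_self]
      refine hr ((smul_eq_zero.1 h2).resolve_left ?_)
      ring_nf
      exact neg_ne_zero.2 two_ne_zero
    · exact ⟨q₀, hq₀, hrq, h0⟩
  refine ⟨q, -vecMulVec q q, oddPair_rank_one q, ?_⟩
  have e : oddTop r q S (-vecMulVec q q) = 1 + vecMulVec ((-2 : K) • r - S *ᵥ q) q := by
    rw [oddTop, Matrix.mul_neg, mul_vecMulVec, sub_vecMulVec, sub_eq_add_neg]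
  rw [e]
  refine ⟨?_, fun μ hμ => ?_⟩
  · rw [vecMulVec_eq Unit, det_one_add_replicateCol_mul_replicateRow, dotProduct_sub, dotProduct_smul,
      dotProduct_comm q r, hrq, h q, hrq, smul_zero]
    simp
  obtain ⟨y, hy, hqy, -⟩ := exists_orth2 hm q q
  have h1 := congrArg (· *ᵥ y) hμ
  simp only [add_mulVec, one_mulVec, vecMulVec_mulVec, op_smul_eq_smul, hqy, zero_smul, add_zero, smul_mulVec] at h1
  have hμ1 : μ = 1 := by
    have h2 : (μ - 1) • y = 0 := by rw [sub_smul, one_smul, ← h1, sub_self]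
    exact sub_eq_zero.1 ((smul_eq_zero.1 h2).resolve_right hy)
  rw [hμ1, one_smul, add_eq_left, vecMulVec_eq_zero] at hμ
  exact hμ.elim ha hq

set_option maxHeartbeats 1600000 in
theorem comm_of_block (hm : 3 ≤ m) (hGL : SLFacO m K) {g v u : Iso m K} {X : GL (Fin m) K}
    (hg : g ∈ commutator (Iso m K)) (hv : v ∈ (siegel m K).V) (hu : u ∈ (siegel m K).U) (hu1 : u ≠ 1)
    (e : g = v * lev X * u) : IsComm g := by
  have hX : IsSquare X.val.det := by
    refine (lev_mem_iff hm X).1 ?_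
    rw [show lev X = v⁻¹ * g * u⁻¹ by rw [e]; group]
    exact mul_mem (mul_mem (inv_mem (radicals_le hm hGL (Or.inr hv))) hg) (inv_mem (radicals_le hm hGL (Or.inl hu)))
  have hd : X.val.det ≠ 0 := ((isUnit_iff_isUnit_det _).1 X.isUnit).ne_zero
  by_cases h : X.val.det = 1 ∧ ∀ μ : K, X.val ≠ μ • 1
  · obtain ⟨Φ, ε, h1, h2, h3, h4⟩ := hGL X.val h.1 h.2
    exact e ▸ block_comm hm hv hu h1 h2 h3 h4
  obtain ⟨r, S, hrS, rfl⟩ := exists_up hu
  have h0 : ¬ (r = 0 ∧ S = 0) := by
    rintro ⟨rfl, rfl⟩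
    refine hu1 (mx_ext ?_)
    rw [mx_up, mx_one]
    ext i j
    rcases i with i | i | i <;> rcases j with j | j | j <;> simp [mat3, Matrix.one_apply]
  haveI : Nonempty (Fin m) := ⟨⟨0, by omega⟩⟩
  obtain ⟨q, T, hT, hTd, hTs⟩ : ∃ q T, OddPair q T ∧ (X.val * oddTop r q S T).det = 1 ∧
      ∀ μ : K, X.val * oddTop r q S T ≠ μ • 1 := by
    by_cases h1 : X.val.det = 1
    · obtain ⟨ν, hν⟩ : ∃ ν : K, X.val = ν • 1 := by
        by_contra h2
        push Not at h2
        exact h ⟨h1, h2⟩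
      obtain ⟨q, T, hT, hTd, hTs⟩ := shear_one hm hrS h0
      refine ⟨q, T, hT, by rw [det_mul, h1, hTd, one_mul], fun μ hμ => ?_⟩
      rw [hν, smul_mul, Matrix.one_mul] at hμ
      have hν0 : ν ≠ 0 := fun e0 => hd (by rw [hν, e0, zero_smul, det_zero])
      exact hTs (ν⁻¹ * μ) (by rw [← inv_smul_smul₀ hν0 (oddTop r q S T), hμ, smul_smul])
    · obtain ⟨s, hs⟩ := hX
      have hs0 : s ≠ 0 := fun e0 => hd (by rw [hs, e0, mul_zero])
      obtain ⟨q₁, T₁, q₂, T₂, hT₁, hT₂, hne, hd₁, hd₂⟩ := moves_odd hm hrS h0 (inv_ne_zero hs0) (fun e0 => h1 (by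
        rw [inv_pow, inv_eq_one, sq] at e0; rw [hs, e0]))
      have hdd : X.val.det * s⁻¹ ^ 2 = 1 := by rw [hs]; field_simp
      by_cases hc : ∀ μ : K, X.val * oddTop r q₁ S T₁ ≠ μ • 1
      · exact ⟨q₁, T₁, hT₁, by rw [det_mul, hd₁, hdd], hc⟩
      push Not at hc
      obtain ⟨μ₁, hc⟩ := hc
      refine ⟨q₂, T₂, hT₂, by rw [det_mul, hd₂, hdd], fun μ₂ h2 => ?_⟩
      have hμ : μ₁ ≠ 0 := fun e0 => by
        rw [e0, zero_smul] at hc
        have := congrArg Matrix.det hc
        rw [det_mul, hd₁, hdd, det_zero] at this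
        exact one_ne_zero this
      refine hne (μ₂ / μ₁) ?_
      have e2 : X.val * oddTop r q₂ S T₂ = X.val * ((μ₂ / μ₁) • oddTop r q₁ S T₁) := by
        rw [Matrix.mul_smul, hc, h2, smul_smul, div_mul_cancel₀ _ hμ]
      have := congrArg (X.val⁻¹ * ·) e2
      simpa [← Matrix.mul_assoc, Matrix.nonsing_inv_mul _ ((isUnit_iff_isUnit_det _).1 X.isUnit)] using this
  refine IsComm.of_conj (lo q T hT)⁻¹ ?_
  rw [inv_inv]
  have htop : (siegel m K).top ((lo q T hT)⁻¹ * g * lo q T hT) = X.val * oddTop r q S T := by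
    rw [e, show (lo q T hT)⁻¹ * (v * lev X * up r S hrS) * lo q T hT =
      ((lo q T hT)⁻¹ * v) * (lev X * (up r S hrS * lo q T hT)) by group]
    rw [(siegel m K).top_V_mul (mul_mem (inv_mem (lo_mem hT)) hv)]
    erw [(siegel m K).top_L_mul, top_up_lo]
  obtain ⟨v', hv', X', u', hu', e'⟩ := decomp ((lo q T hT)⁻¹ * g * lo q T hT)
    (det_of_mem (by
      simpa using (inferInstance : (commutator (Iso m K)).Normal).conj_mem g hg (lo q T hT)⁻¹))
    (by rw [htop, hTd]; exact isUnit_one)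
  have hX' : X'.val = X.val * oddTop r q S T := by
    rw [← htop, e', (siegel m K).top_vLu hv' X' hu']
  obtain ⟨Φ, ε, h1, h2, h3, h4⟩ := hGL X'.val (by rw [hX', hTd]) (by rw [hX']; exact hTs)
  rw [e']
  exact block_comm hm hv' hu' h1 h2 h3 h4

/-- **Every element of `Ω` is a commutator.** -/
theorem all_comm (hm : 3 ≤ m) (hGL : SLFacO m K) {g : Iso m K} (hg : g ∈ commutator (Iso m K)) : IsComm g := by
  obtain ⟨u₀, hu₀, htop⟩ := invert g
  refine IsComm.of_conj u₀ ?_
  have hg₁ : u₀ * g * u₀⁻¹ ∈ commutator (Iso m K) :=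
    (inferInstance : (commutator (Iso m K)).Normal).conj_mem g hg u₀
  obtain ⟨v, hv, X, u, hu, e⟩ := decomp (u₀ * g * u₀⁻¹) (det_of_mem hg₁)
    (by rwa [(siegel m K).top_mul_U (inv_mem hu₀)])
  generalize u₀ * g * u₀⁻¹ = g₁ at e hg₁
  change g₁ = v * lev X * u at e
  by_cases hu1 : u = 1
  swap
  · exact comm_of_block hm hGL hg₁ hv hu hu1 e
  subst hu1
  rw [mul_one] at e
  by_cases hv1 : v = 1
  · subst hv1
    rw [one_mul] at e
    by_cases hc : ∀ y ∈ (siegel m K).U, Commute (lev X) y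
    · obtain ⟨k, rfl⟩ : ∃ k, m = k + 2 := ⟨m - 2, by omega⟩
      rw [e, central (by omega) hc, map_one]
      exact ⟨1, one_mem _, 1, one_mem _, by group⟩
    push Not at hc
    obtain ⟨y, hy, hyc⟩ := hc
    refine IsComm.of_conj y (comm_of_block hm hGL
      ((inferInstance : (commutator (Iso m K)).Normal).conj_mem g₁ hg₁ y) (one_mem _)
      (mul_mem ((siegel m K).L_conj_U hy X⁻¹) (inv_mem hy)) (fun h1 => hyc ?_) (X := X) ?_)
    · have h2 : (lev X)⁻¹ * y * lev X * y⁻¹ = 1 := by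
        have h3 := h1
        rw [show (siegel m K).L = lev from rfl, map_inv, inv_inv] at h3
        exact h3
      have := congrArg (fun z => lev X * z * y) h2
      simp only [mul_one] at this
      show _ = _
      rw [← this]; group
    · rw [e, show (siegel m K).L = lev from rfl, map_inv]; group
  · refine IsComm.of_conj wS (comm_of_block hm hGL
      ((inferInstance : (commutator (Iso m K)).Normal).conj_mem g₁ hg₁ _) (one_mem _)
      (u := (lev (trInv X))⁻¹ * (wS * v * wS⁻¹) * lev (trInv X)) ?_ ?_ (X := trInv X) ?_)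
    · have h := (siegel m K).L_conj_U (conj_wS_V hv) (trInv X)⁻¹
      rwa [show (siegel m K).L = lev from rfl, map_inv, inv_inv] at h
    · intro h
      have h' : (lev (trInv X))⁻¹ * (wS * v * wS⁻¹) * (lev (trInv X))⁻¹⁻¹ = 1 := by rwa [inv_inv]
      rw [conj_eq_one_iff, conj_eq_one_iff] at h'
      exact hv1 h'
    · rw [e, ← conj_wS_lev]; group

end H31.Com.Odd
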