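import Cfsg.Agent.H31.Commutator.Five
import Cfsg.Agent.H31.Commutator.Odd
import Cfsg.Agent.H31.Commutator.Groups

/-!
Free commutator factorisations without fixed vectors for odd `q ≥ 5`.
-/

set_option autoImplicit false
set_option linter.style.haveILetI false
set_option linter.unusedSectionVars false

namespace H31.Com.Odd

open Matrix Polynomial H21.ClassSquare H41 H41.Reg

variable {K : Type*} [Field K] [Fintype K] [NeZero (2 : K)]

theorem slFacO_five (hK : Fintype.card K = 5) {k : ℕ} (hk : 1 ≤ k) (hev : Even (k + 1)) : SLFacO (k + 1 + 2) K := by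
  classical
  haveI : Fact (Nat.Prime 5) := ⟨by norm_num⟩
  haveI : CharP K 5 := charP_of_card_eq_prime hK
  intro M hdet hns
  let e : Fin 2 ⊕ Fin (k + 1) ≃ Fin (k + 1 + 2) := finSumFinEquiv.trans (finCongr (by omega))
  set N := Matrix.reindex e.symm e.symm M with hN
  have hMN : M = Matrix.reindex e e N := by ext i j; simp [hN]
  have h := Five.fac_five hK hk (M := N) (by rw [hN, det_reindex_self, hdet]) (fun μ h => hns μ (by
    rw [hMN, h]; ext i j; simp [Matrix.one_apply]))
  obtain ⟨c1, c2⟩ := Five.free_prod (K := K) (k + 1)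
  refine ⟨_, _, ?_, ?_, c2, hMN ▸ (h.free c1).reindex e⟩
  · obtain ⟨j, hj⟩ := hev
    exact ⟨(2 : K) * 2 ^ j, by rw [hj, pow_add]; ring⟩
  · exact mul_ne_zero (by rw [show (4 : K) = 2 * 2 by norm_num]; exact mul_ne_zero two_ne_zero two_ne_zero)
      (pow_ne_zero _ two_ne_zero)

/-- **Odd fields with at least five elements.** -/
theorem slFacO_big (hK : 5 ≤ Fintype.card K) {m : ℕ} (hm : 3 ≤ m) : SLFacO m K := by
  classical
  obtain ⟨n, rfl⟩ : ∃ n, m = n + 2 := ⟨m - 2, by omega⟩
  have hodd : Fintype.card K % 2 = 1 := by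
    by_contra h
    have h2 := CharP.cast_eq_zero (R := K) (ringChar K)
    rw [FiniteField.even_card_iff_char_two.2 (show Fintype.card K % 2 = 0 by omega)] at h2
    exact (two_ne_zero : (2 : K) ≠ 0) (by exact_mod_cast h2)
  obtain ⟨a, ha⟩ := IsCyclic.exists_generator (α := Kˣ)
  have ord : orderOf a = Fintype.card K - 1 := by
    rw [orderOf_eq_card_of_forall_mem_zpowers ha, Nat.card_eq_fintype_card, Fintype.card_units]
  have hpow : ∀ j, 0 < j → j < Fintype.card K - 1 → (a : K) ^ j ≠ 1 := fun j h1 h2 h => by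
    have h' : a ^ j = 1 := Units.ext (by rw [Units.val_pow_eq_pow_val, h, Units.val_one])
    have := Nat.le_of_dvd h1 (orderOf_dvd_of_pow_eq_one h')
    omega
  have h1 := hpow 1 (by omega) (by omega)
  have h2 := hpow 2 (by omega) (by omega)
  rw [pow_one] at h1
  have simple : ∀ j, 2 ≤ j → j + 1 < Fintype.card K - 1 → Even (j + (n + 1)) → SLFacO (n + 2) K := by
    intro j hj1 hj2 hev M hdet hns
    have hjne : ((a ^ j : Kˣ) : K) ≠ (a : K) := fun e => hpow (j - 1) (by omega) (by omega)
      (mul_right_cancel₀ a.ne_zero (by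
        rw [← pow_succ, one_mul, show j - 1 + 1 = j by omega]; simpa using e))
    obtain ⟨t, ht⟩ := hev
    refine ⟨_, _, ⟨(a : K) ^ t, by rw [Units.val_pow_eq_pow_val, ← pow_add, ← pow_add, ht]⟩, mul_ne_zero (Units.ne_zero _)
      (pow_ne_zero _ a.ne_zero), ?_, ffac_cls (by omega) (by rw [← sq]; exact h2) ?_ hjne M hns hdet⟩
    · refine (IsCoprime.pow_left ?_).mul_left ?_
      · exact isCoprime_X_sub_C_of_isUnit_sub (IsUnit.mk0 _ (sub_ne_zero.2 h1))
      · refine isCoprime_X_sub_C_of_isUnit_sub (IsUnit.mk0 _ (sub_ne_zero.2 ?_))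
        rw [Units.val_pow_eq_pow_val]; exact hpow j (by omega) (by omega)
    · rw [Units.val_pow_eq_pow_val, ← pow_succ]; exact hpow (j + 1) (by omega) hj2
  rcases Nat.even_or_odd n with hev | hod
  · -- even dimension
    by_cases h7 : 7 ≤ Fintype.card K
    · exact simple 3 (by omega) (by omega) (by rw [Nat.even_iff] at hev ⊢; omega)
    · obtain ⟨k, rfl⟩ : ∃ k, n = k + 1 := ⟨n - 1, by omega⟩
      exact slFacO_five (by omega) (by rcases hev with ⟨t, ht⟩; omega) hev
  · exact simple 2 le_rfl (by omega) (by rw [Nat.odd_iff] at hod; rw [Nat.even_iff]; omega)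

end H31.Com.Odd
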