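import Cfsg.Agent.H31.Commutator.Comp
import Cfsg.Agent.H31.Commutator.Free

/-!
Certificates with natural number entries: Bézout identities and commutator witnesses.
-/

set_option autoImplicit false
set_option linter.unusedSectionVars false

namespace H31.Com

open Matrix Polynomial

variable {K : Type*} [Field K] {q : ℕ}

/-- The polynomial of a list of coefficients, lowest first. -/
noncomputable def ofL : List ℕ → K[X]
  | [] => 0
  | a :: l => C (a : K) + X * ofL l

theorem coeff_ofL : ∀ (l : List ℕ) (k : ℕ), (ofL l : K[X]).coeff k = ((l.getD k 0 : ℕ) : K)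
  | [], k => by simp [ofL]
  | a :: l, 0 => by simp [ofL]
  | a :: l, k + 1 => by simp [ofL, coeff_ofL l k, coeff_X_mul]

theorem ofL_congr {l l' : List ℕ} (h : ∀ k, ((l.getD k 0 : ℕ) : K) = ((l'.getD k 0 : ℕ) : K)) :
    (ofL l : K[X]) = ofL l' := by
  ext k
  rw [coeff_ofL, coeff_ofL, h]

/-- Entrywise sum. -/
def addL : List ℕ → List ℕ → List ℕ
  | [], m => m
  | l, [] => l
  | a :: l, b :: m => (a + b) :: addL l m

theorem ofL_addL : ∀ l m : List ℕ, (ofL (addL l m) : K[X]) = ofL l + ofL m
  | [], m => by simp [addL, ofL]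
  | a :: l, [] => by simp [addL, ofL]
  | a :: l, b :: m => by simp [addL, ofL, ofL_addL l m]; ring

/-- Product. -/
def mulP : List ℕ → List ℕ → List ℕ
  | [], _ => []
  | a :: l, m => addL (m.map (a * ·)) (0 :: mulP l m)

theorem ofL_map_mul (a : ℕ) : ∀ m : List ℕ, (ofL (m.map (a * ·)) : K[X]) = C (a : K) * ofL m
  | [] => by simp [ofL]
  | b :: m => by simp [ofL, ofL_map_mul a m]; ring

theorem ofL_mulP : ∀ l m : List ℕ, (ofL (mulP l m) : K[X]) = ofL l * ofL m
  | [], m => by simp [mulP, ofL]
  | a :: l, m => by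
    rw [mulP, ofL_addL, ofL_map_mul]
    simp [ofL, ofL_mulP l m]; ring

theorem cast_mod [CharP K q] (x : ℕ) : ((x % q : ℕ) : K) = (x : K) := by
  conv_rhs => rw [← Nat.div_add_mod x q]
  rw [Nat.cast_add, Nat.cast_mul, CharP.cast_eq_zero K q, zero_mul, zero_add]

/-- Equality modulo `q`. -/
def eqP (q : ℕ) (l m : List ℕ) : Bool :=
  (List.range (l.length + m.length)).all fun k => l.getD k 0 % q == m.getD k 0 % q

theorem ofL_eq_of_eqP [CharP K q] {l m : List ℕ} (h : eqP q l m = true) : (ofL l : K[X]) = ofL m := by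
  refine ofL_congr fun k => ?_
  by_cases hk : k < l.length + m.length
  · have h1 := List.all_eq_true.1 h k (List.mem_range.2 hk)
    rw [← cast_mod (q := q) (l.getD k 0), ← cast_mod (q := q) (m.getD k 0), eq_of_beq h1]
  · rw [List.getD_eq_default _ _ (by omega), List.getD_eq_default _ _ (by omega)]

/-- A Bézout certificate. -/
def bez (q : ℕ) (p r u v : List ℕ) : Bool :=
  eqP q (addL (mulP u p) (mulP v r)) [1]

theorem coprime_of_bez [CharP K q] {p r u v : List ℕ} (h : bez q p r u v = true) :
    IsCoprime (ofL p : K[X]) (ofL r) :=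
  ⟨ofL u, ofL v, by
    rw [← ofL_mulP, ← ofL_mulP, ← ofL_addL, ofL_eq_of_eqP h]; simp [ofL]⟩

theorem mpoly_eq_ofL {d : ℕ} (a : Fin d → K) (l : List ℕ) (hl : l.length = d)
    (h : ∀ i : Fin d, a i = ((l.getD i 0 : ℕ) : K)) : mpoly a = ofL (l ++ [1]) := by
  ext k
  rw [coeff_ofL, mpoly, coeff_add, coeff_X_pow, finsetSum_coeff]
  rcases lt_trichotomy k d with hk | rfl | hk
  · rw [Finset.sum_eq_single (⟨k, hk⟩ : Fin d) (fun i _ hi => by
      rw [coeff_C_mul, coeff_X_pow, if_neg (fun e => hi (Fin.ext e.symm)), mul_zero]) (by simp),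
      List.getD_append _ _ _ _ (by omega), if_neg hk.ne, zero_add, coeff_C_mul, coeff_X_pow, if_pos rfl, mul_one, h]
  · rw [Finset.sum_eq_zero (fun i _ => by
      rw [coeff_C_mul, coeff_X_pow, if_neg (fun e => absurd e (ne_of_gt i.isLt)), mul_zero]),
      List.getD_append_right _ _ _ _ hl.le, hl]
    simp
  · rw [Finset.sum_eq_zero (fun i _ => by
      rw [coeff_C_mul, coeff_X_pow, if_neg (fun e => absurd e (ne_of_gt (i.isLt.trans hk))), mul_zero]),
      List.getD_eq_default _ _ (by simp; omega), if_neg hk.ne']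
    simp

theorem reverse_ofL {l : List ℕ} (hne : l ≠ []) (hlast : ((l.getD (l.length - 1) 0 : ℕ) : K) ≠ 0) :
    (ofL l : K[X]).reverse = ofL l.reverse := by
  have hd : (ofL l : K[X]).natDegree = l.length - 1 := by
    refine natDegree_eq_of_le_of_coeff_ne_zero (natDegree_le_iff_coeff_eq_zero.2 fun k hk => ?_) (by rwa [coeff_ofL])
    rw [coeff_ofL, List.getD_eq_default _ _ (by omega), Nat.cast_zero]
  have hlen : 0 < l.length := List.length_pos_of_ne_nil hne
  ext k
  rw [coeff_reverse, hd, coeff_ofL, coeff_ofL]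
  by_cases hk : k ≤ l.length - 1
  · rw [revAt_le hk, List.getD_eq_getElem _ _ (by omega), List.getD_eq_getElem _ _ (by simp; omega),
      List.getElem_reverse]
  · rw [show revAt (l.length - 1) k = k by rw [← revAtFun_eq, revAtFun, if_neg hk],
      List.getD_eq_default _ _ (by omega), List.getD_eq_default _ _ (by simp; omega)]

/-- Entries of a square matrix. -/
def ent (M : List (List ℕ)) (i j : ℕ) : ℕ := (M.getD i []).getD j 0

/-- The matrix with natural number entries. -/
def ML (n : ℕ) (f : ℕ → ℕ → ℕ) : Matrix (Fin n) (Fin n) K := Matrix.of fun i j => (f i j : K)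

/-- Tabulate. -/
def tab (n : ℕ) (f : ℕ → ℕ → ℕ) : List (List ℕ) :=
  (List.range n).map fun i => (List.range n).map fun j => f i j

theorem ent_tab {n : ℕ} (f : ℕ → ℕ → ℕ) {i j : ℕ} (hi : i < n) (hj : j < n) : ent (tab n f) i j = f i j := by
  simp [ent, tab, List.getD_eq_getElem, hi, hj]

/-- Product modulo `q`. -/
def mulM (q n : ℕ) (A B : List (List ℕ)) : List (List ℕ) :=
  tab n fun i j => ((List.range n).map fun k => ent A i k * ent B k j).sum % q

theorem ML_mulM [CharP K q] (n : ℕ) (A B : List (List ℕ)) :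
    (ML n (ent (mulM q n A B)) : Matrix (Fin n) (Fin n) K) = ML n (ent A) * ML n (ent B) := by
  ext i j
  simp only [ML, Matrix.mul_apply, Matrix.of_apply, mulM, ent_tab _ i.isLt j.isLt, cast_mod]
  rw [show ((List.range n).map fun k => ent A i k * ent B k j).sum =
      ∑ k ∈ Finset.range n, ent A i k * ent B k j from rfl, Nat.cast_sum,
    Finset.sum_range fun k => ((ent A i k * ent B k j : ℕ) : K)]
  simp

/-- Equality modulo `q`. -/
def eqM (q n : ℕ) (A B : List (List ℕ)) : Bool :=
  (List.range n).all fun i => (List.range n).all fun j => ent A i j % q == ent B i j % q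

theorem ML_eq_of_eqM [CharP K q] {n : ℕ} {A B : List (List ℕ)} (h : eqM q n A B = true) :
    (ML n (ent A) : Matrix (Fin n) (Fin n) K) = ML n (ent B) := by
  ext i j
  have h1 := eq_of_beq (List.all_eq_true.1 (List.all_eq_true.1 h i (List.mem_range.2 i.isLt)) j
    (List.mem_range.2 j.isLt))
  show ((ent A i j : ℕ) : K) = (ent B i j : ℕ)
  rw [← cast_mod (q := q) (ent A i j), ← cast_mod (q := q) (ent B i j), h1]

/-- The identity. -/
def oneM (n : ℕ) : List (List ℕ) := tab n fun i j => if i = j then 1 else 0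

theorem ML_oneM (n : ℕ) : (ML n (ent (oneM n)) : Matrix (Fin n) (Fin n) K) = 1 := by
  ext i j
  simp [ML, oneM, ent_tab _ i.isLt j.isLt, Matrix.one_apply, Fin.val_inj]

/-- Lower or upper unitriangular. -/
def triu (q n : ℕ) (lower : Bool) (A : List (List ℕ)) : Bool :=
  (List.range n).all fun i => (List.range n).all fun j =>
    if i = j then ent A i j % q == 1 % q else (if lower then decide (j < i) else decide (i < j)) || ent A i j % q == 0

theorem det_triu [CharP K q] {n : ℕ} {lower : Bool} {A : List (List ℕ)} (h : triu q n lower A = true) :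
    (ML n (ent A) : Matrix (Fin n) (Fin n) K).det = 1 := by
  have h1 : ∀ i j : Fin n, _ := fun i j => List.all_eq_true.1 (List.all_eq_true.1 h i (List.mem_range.2 i.isLt)) j
    (List.mem_range.2 j.isLt)
  have hdiag : ∀ i : Fin n, ((ent A i i : ℕ) : K) = 1 := fun i => by
    have := h1 i i
    rw [if_pos rfl] at this
    rw [← cast_mod (q := q) (ent A i i), eq_of_beq this, cast_mod, Nat.cast_one]
  have hoff : ∀ i j : Fin n, i ≠ j → (if lower then decide (j.val < i.val) else decide (i.val < j.val)) = false →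
      ((ent A i j : ℕ) : K) = 0 := fun i j hij hb => by
    have := h1 i j
    rw [if_neg (fun e => hij (Fin.ext e)), hb, Bool.false_or] at this
    rw [← cast_mod (q := q) (ent A i j), eq_of_beq this, Nat.cast_zero]
  cases lower with
  | true =>
    refine (det_of_lowerTriangular _ fun i j hij => hoff i j (ne_of_lt (OrderDual.toDual_lt_toDual.1 hij)) (by
      simpa using (OrderDual.toDual_lt_toDual.1 hij).le)).trans ?_
    exact Finset.prod_eq_one fun i _ => hdiag i
  | false =>
    refine (det_of_upperTriangular fun i j hij => hoff i j (ne_of_gt hij) (by simpa using (le_of_lt (show j < i from hij)))).trans ?_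
    exact Finset.prod_eq_one fun i _ => hdiag i

/-- Entries of block diagonal companion matrices; the blocks are given by their lower coefficients. -/
def bEnt (q : ℕ) : List (List ℕ) → ℕ → ℕ → ℕ
  | [], _, _ => 0
  | a :: l, i, j =>
    if i < a.length then
      (if j < a.length then
        (if i + 1 < a.length then (if j = i + 1 then 1 else 0) else (q - 1) * a.getD j 0) else 0)
    else (if j < a.length then 0 else bEnt q l (i - a.length) (j - a.length))

/-- The total size. -/
def tot : List (List ℕ) → ℕ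
  | [] => 0
  | a :: l => a.length + tot l

/-- The polynomials of the blocks. -/
noncomputable def polysOf (as : List (List ℕ)) : List K[X] := as.map fun a => ofL (a ++ [1])

/-- The determinants of the blocks. -/
def detOf : List (List ℕ) → K
  | [] => 1
  | a :: l => (-1) ^ a.length * (a.getD 0 0 : ℕ) * detOf l

theorem bEnt_cons [CharP K q] (hq : 0 < q) (a : List ℕ) (l : List (List ℕ)) :
    (ML (a.length + tot l) (bEnt q (a :: l)) : Matrix (Fin (a.length + tot l)) (Fin (a.length + tot l)) K) =
      Matrix.reindex finSumFinEquiv finSumFinEquiv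
        (fromBlocks (cmat fun i : Fin a.length => ((a.getD i 0 : ℕ) : K)) 0 0 (ML (tot l) (bEnt q l))) := by
  ext i j
  induction i using Fin.addCases with
  | left i =>
    induction j using Fin.addCases with
    | left j =>
      simp [ML, bEnt, cmat, i.isLt, j.isLt]
      split_ifs <;> simp [Nat.cast_sub (Nat.one_le_iff_ne_zero.2 hq.ne'), CharP.cast_eq_zero]
    | right j => simp [ML, bEnt, i.isLt]
  | right i =>
    induction j using Fin.addCases with
    | left j => simp [ML, bEnt, j.isLt]
    | right j => simp [ML, bEnt]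

theorem aeval_bmat [CharP K q] (hq : 0 < q) : ∀ as : List (List ℕ),
    aeval (ML (tot as) (bEnt q as) : Matrix (Fin (tot as)) (Fin (tot as)) K) (polysOf as : List K[X]).prod = 0
  | [] => Subsingleton.elim (α := Matrix (Fin 0) (Fin 0) K) _ _
  | a :: l => by
    suffices h : aeval (ML (a.length + tot l) (bEnt q (a :: l)) :
        Matrix (Fin (a.length + tot l)) (Fin (a.length + tot l)) K) (polysOf (a :: l) : List K[X]).prod = 0 from h
    rw [bEnt_cons hq, aeval_reindex, aeval_fromBlocks, polysOf, List.map_cons, List.prod_cons, map_mul, map_mul,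
      ← mpoly_eq_ofL _ a rfl (fun i => rfl), aeval_cmat, Matrix.zero_mul, show (l.map fun a => ofL (a ++ [1])).prod =
        (polysOf l : List K[X]).prod from rfl, aeval_bmat hq l, Matrix.mul_zero, fromBlocks_zero]
    rfl

theorem det_bmat [CharP K q] (hq : 0 < q) : ∀ as : List (List ℕ), (∀ a ∈ as, a ≠ []) →
    (ML (tot as) (bEnt q as) : Matrix (Fin (tot as)) (Fin (tot as)) K).det = detOf as
  | [], _ => Matrix.det_fin_zero
  | a :: l, h => by
    show (ML (a.length + tot l) (bEnt q (a :: l))).det = _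
    rw [bEnt_cons hq, det_reindex_self, det_fromBlocks_zero₁₂, det_bmat hq l (fun b hb => h b (List.mem_cons_of_mem _ hb))]
    obtain ⟨c, t, rfl⟩ := List.exists_cons_of_ne_nil (h a (List.mem_cons_self ..))
    have hd := det_cmat (K := K) (n := t.length) fun i : Fin (t.length + 1) => (((c :: t).getD i 0 : ℕ) : K)
    simp only [List.length_cons, detOf] at hd ⊢
    rw [hd]; simp

/-- A decomposition into the given companion blocks. -/
theorem simTo_of_dec [CharP K q] (hq : 0 < q) : ∀ (as : List (List ℕ)) {n : ℕ} (A : Matrix (Fin n) (Fin n) K),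
    H89.CN.Dec A (polysOf as) → SimTo A (ML (tot as) (bEnt q as) : Matrix (Fin (tot as)) (Fin (tot as)) K)
  | [], n, A, h => by
    have hn : n = 0 := h
    subst hn
    exact ⟨Equiv.refl _, by rw [Subsingleton.elim A (Matrix.reindex _ _ _)]; exact H89.CN.Sim.refl _⟩
  | a :: l, n, A, h => by
    obtain ⟨-, -, N, e, A₂, hs, h2⟩ := h
    obtain ⟨e₂, hs₂⟩ := simTo_of_dec hq l A₂ h2
    have hd : (ofL (a ++ [1]) : K[X]).natDegree = a.length := by
      rw [← mpoly_eq_ofL (fun i : Fin a.length => ((a.getD i 0 : ℕ) : K)) a rfl (fun i => rfl), mpoly_natDegree]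
    set c : Fin a.length ≃ Fin (ofL (a ++ [1]) : K[X]).natDegree := finCongr hd.symm
    refine ⟨finSumFinEquiv.symm.trans ((c.sumCongr e₂).trans e), hs.trans ?_⟩
    show H89.CN.Sim _ (Matrix.reindex _ _ (ML (a.length + tot l) (bEnt q (a :: l))))
    rw [bEnt_cons hq]
    have e1 : H89.CN.rComp (ofL (a ++ [1]) : K[X]).natDegree (ofL (a ++ [1])) =
        Matrix.reindex c c (cmat fun i : Fin a.length => ((a.getD i 0 : ℕ) : K)) := by
      ext i j
      simp only [rComp_eq_cmat, cmat, c, hd, coeff_ofL, reindex_apply, submatrix_apply, Matrix.of_apply,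
        List.getD_append _ _ _ _ (show j.val < a.length by omega), finCongr_symm, finCongr_apply, Fin.val_cast]
    rw [e1]
    refine (H89.CN.Sim.reindex (H89.CN.Sim.blocks (H89.CN.Sim.refl _) hs₂) e).trans ?_
    refine (congrArg (fun X => H89.CN.Sim X _) ?_).mpr (H89.CN.Sim.refl _)
    ext x y
    obtain ⟨u, rfl⟩ := e.surjective x
    obtain ⟨v, rfl⟩ := e.surjective y
    rcases u with u | u <;> rcases v with v | v <;> simp [c]

/-- A witness: base change, its inverse, three unitriangular factors. -/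
abbrev Wit := List (List ℕ) × List (List ℕ) × List (List ℕ) × List (List ℕ) × List (List ℕ)

/-- The witness check. -/
def chk (q : ℕ) (ms as : List (List ℕ)) : Wit → Bool
  | (S, Si, L, U, V) =>
    let n := tot ms
    let M := tab n (bEnt q ms)
    let A := tab n (bEnt q as)
    let P := mulM q n (mulM q n L U) V
    decide (tot as = n) && as.all (fun a => !a.isEmpty) && eqM q n (mulM q n Si S) (oneM n) && triu q n true L &&
      triu q n false U && triu q n true V &&
      eqM q n (mulM q n (mulM q n (mulM q n M S) P) A) (mulM q n (mulM q n S A) P)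

theorem ML_tab (n : ℕ) (f : ℕ → ℕ → ℕ) : (ML n (ent (tab n f)) : Matrix (Fin n) (Fin n) K) = ML n f := by
  ext i j
  simp [ML, ent_tab _ i.isLt j.isLt]

/-- A checked witness gives a factorisation. -/
theorem fac_of_chk [CharP K q] (hq : 0 < q) {ms as : List (List ℕ)} {w : Wit} (h : chk q ms as w = true) :
    Fac (polysOf as).prod (detOf as) (ML (tot ms) (bEnt q ms) : Matrix (Fin (tot ms)) (Fin (tot ms)) K) ∧
      (AFree (ML (tot as) (bEnt q as) : Matrix (Fin (tot as)) (Fin (tot as)) K) →
        AFree (ML (tot as) (bEnt q as) : Matrix (Fin (tot as)) (Fin (tot as)) K)ᵀ →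
        FFac (polysOf as).prod (detOf as) (ML (tot ms) (bEnt q ms) : Matrix (Fin (tot ms)) (Fin (tot ms)) K)) := by
  obtain ⟨S, Si, L, U, V⟩ := w
  simp only [chk, Bool.and_eq_true, decide_eq_true_eq, List.all_eq_true] at h
  obtain ⟨⟨⟨⟨⟨⟨hn, hne⟩, hS⟩, hL⟩, hU⟩, hV⟩, hM⟩ := h
  have hS' := ML_eq_of_eqM (K := K) hS
  rw [ML_mulM, ML_oneM] at hS'
  have hM' := ML_eq_of_eqM (K := K) hM
  simp only [ML_mulM, ML_tab] at hM'
  have hne' : ∀ a ∈ as, a ≠ [] := fun a ha e => by simpa [e] using hne a ha
  have hA := aeval_bmat (K := K) hq as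
  have hdA := det_bmat (K := K) hq as hne'
  rw [hn] at hA hdA
  rw [hn]
  set M := (ML (tot ms) (bEnt q ms) : Matrix (Fin (tot ms)) (Fin (tot ms)) K)
  set A := (ML (tot ms) (bEnt q as) : Matrix (Fin (tot ms)) (Fin (tot ms)) K)
  set S' := (ML (tot ms) (ent S) : Matrix (Fin (tot ms)) (Fin (tot ms)) K)
  set Si' := (ML (tot ms) (ent Si) : Matrix (Fin (tot ms)) (Fin (tot ms)) K)
  set P := (ML (tot ms) (ent L) : Matrix (Fin (tot ms)) (Fin (tot ms)) K) * ML (tot ms) (ent U) * ML (tot ms) (ent V)
    with hP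
  have hPd : P.det = 1 := by rw [hP, det_mul, det_mul, det_triu hL, det_triu hU, det_triu hV, one_mul, one_mul]
  have hsim : H89.CN.Sim M (Si' * M * S') :=
    ⟨Si', IsUnit.of_mul_eq_one S'.det (by rw [← det_mul, hS', det_one]), by
      rw [Matrix.mul_assoc (Si' * M), mul_eq_one_comm.1 hS', Matrix.mul_one]⟩
  have hkey : Si' * M * S' * P * A = A * P :=
    calc Si' * M * S' * P * A = Si' * (M * S' * P * A) := by simp only [Matrix.mul_assoc]
      _ = Si' * S' * (A * P) := by rw [hM']; simp only [Matrix.mul_assoc]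
      _ = A * P := by rw [hS', Matrix.one_mul]
  exact ⟨Fac.of_sim ⟨A, P, hdA, hPd, hA, hkey⟩ hsim,
    fun f1 f2 => FFac.of_sim ⟨A, P, hdA, hPd, hA, hkey, f1, f2⟩ hsim⟩

end H31.Com
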