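import Cfsg.Agent.H31.Commutator.Tower

/-!
Side polynomials given by coefficient lists.
-/

set_option autoImplicit false
set_option linter.unusedSectionVars false

namespace H31.Com

open Matrix Polynomial

variable {K : Type*} [Field K] {q : ℕ} [CharP K q]

/-- The polynomials of the given codes. -/
def pset (cs : List (List ℕ)) : Set K[X] := {f | ∃ a ∈ cs, f = ofL (a ++ [1])}

theorem pset_cons (a : List ℕ) (cs : List (List ℕ)) :
    (pset (a :: cs) : Set K[X]) = insert (ofL (a ++ [1])) (pset cs) := by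
  ext f; simp [pset]

theorem pset_single (a : List ℕ) : (pset [a] : Set K[X]) = {ofL (a ++ [1])} := by
  ext f; simp [pset]

theorem pset_mono {cs ds : List (List ℕ)} (h : cs.all (fun a => ds.contains a) = true) :
    (pset cs : Set K[X]) ⊆ pset ds := by
  rintro f ⟨a, ha, rfl⟩
  have := List.all_eq_true.1 h a ha
  exact ⟨a, List.contains_iff_mem.1 this, rfl⟩

theorem monic_ofL (a : List ℕ) : (ofL (a ++ [1]) : K[X]).Monic := by
  rw [← mpoly_eq_ofL (fun i : Fin a.length => ((a.getD i 0 : ℕ) : K)) a rfl (fun i => rfl)]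
  exact mpoly_monic _

/-- The determinant of a code, as a natural number. -/
def detC (q : ℕ) (a : List ℕ) : ℕ := ((q - 1) ^ a.length * a.getD 0 0) % q

/-- The determinant of several codes. -/
def detN (q : ℕ) : List (List ℕ) → ℕ
  | [] => 1
  | a :: l => detC q a * detN q l % q

theorem cd_code (hq : 0 < q) {a : List ℕ} (ha : 0 < a.length) : cd (ofL (a ++ [1]) : K[X]) = ((detC q a : ℕ) : K) := by
  rw [(cd_ofL ha).2, detC, cast_mod, Nat.cast_mul, Nat.cast_pow, Nat.cast_sub (Nat.one_le_iff_ne_zero.2 hq.ne'),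
    CharP.cast_eq_zero K q, Nat.cast_one, zero_sub]

theorem detOf_eq (hq : 0 < q) : ∀ as : List (List ℕ), (detOf as : K) = ((detN q as : ℕ) : K)
  | [] => by simp [detOf, detN]
  | a :: l => by
    rw [detOf, detN, cast_mod, Nat.cast_mul, ← detOf_eq hq l, detC, cast_mod, Nat.cast_mul, Nat.cast_pow,
      Nat.cast_sub (Nat.one_le_iff_ne_zero.2 hq.ne'), CharP.cast_eq_zero K q, Nat.cast_one, zero_sub]

theorem cast_ne_zero_of {x : ℕ} (h : (x % q != 0) = true) : (x : K) ≠ 0 := fun e => by
  rw [CharP.cast_eq_zero_iff K q] at e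
  simp [Nat.mod_eq_zero_of_dvd, e, Nat.dvd_iff_mod_eq_zero.1 e] at h

theorem rev_code {a : List ℕ} (ha : (a.getD 0 0 % q != 0) = true) :
    (ofL (a ++ [1]) : K[X]).reverse = ofL (a ++ [1]).reverse :=
  reverse_ofL (by simp) (by simp)

/-- Pairwise certificates. -/
def pairCheck (q : ℕ) (rev : Bool) (as bs : List (List ℕ)) (c : List (List ℕ × List ℕ)) : Bool :=
  decide (c.length = (as.flatMap fun a => bs.map fun b => (a, b)).length) &&
    ((as.flatMap fun a => bs.map fun b => (a, b)).zip c).all fun e =>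
      bez q (e.1.1 ++ [1]) (if rev then (e.1.2 ++ [1]).reverse else e.1.2 ++ [1]) e.2.1 e.2.2

theorem coprime_of_pairCheck {rev : Bool} {as bs : List (List ℕ)} {z : List (List ℕ × List ℕ)}
    (h : pairCheck q rev as bs z = true) {a b : List ℕ} (ha : a ∈ as) (hb : b ∈ bs) :
    IsCoprime (ofL (a ++ [1]) : K[X]) (ofL (if rev then (b ++ [1]).reverse else b ++ [1])) := by
  simp only [pairCheck, Bool.and_eq_true, decide_eq_true_eq, List.all_eq_true] at h
  obtain ⟨hlen, hall⟩ := h
  have hm : (a, b) ∈ as.flatMap fun a => bs.map fun b => (a, b) :=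
    List.mem_flatMap.2 ⟨a, ha, List.mem_map.2 ⟨b, hb, rfl⟩⟩
  obtain ⟨i, hi, he⟩ := List.mem_iff_getElem.1 hm
  have := hall ((as.flatMap fun a => bs.map fun b => (a, b))[i], z[i]'(by omega))
    (List.mem_iff_getElem.2 ⟨i, by simp only [List.length_zip]; omega, by simp⟩)
  rw [he] at this
  exact coprime_of_bez this

/-- Codes with nonzero constant term and bounded length. -/
def codeCheck (q J0 : ℕ) (cs : List (List ℕ)) : Bool :=
  cs.all fun a => decide (0 < a.length ∧ a.length < J0) && (a.getD 0 0 % q != 0)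

theorem code_prop {J0 : ℕ} {cs : List (List ℕ)} (h : codeCheck q J0 cs = true) {t : K[X]} (ht : t ∈ pset cs) :
    t.coeff 0 ≠ 0 ∧ t.natDegree < J0 := by
  obtain ⟨a, ha, rfl⟩ := ht
  have := List.all_eq_true.1 h a ha
  simp only [Bool.and_eq_true, decide_eq_true_eq] at this
  refine ⟨?_, by rw [(cd_ofL this.1.1).1]; exact this.1.2⟩
  rw [coeff_ofL, List.getD_append _ _ _ _ this.1.1]
  exact cast_ne_zero_of this.2

theorem free_pset {J0 : ℕ} {cs : List (List ℕ)} {c : List (List ℕ × List ℕ)} (h0 : codeCheck q J0 cs = true)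
    (h : pairCheck q true cs cs c = true) : Free (pset cs : Set K[X]) := by
  rintro p ⟨a, ha, rfl⟩ t ⟨b, hb, rfl⟩
  have h1 := List.all_eq_true.1 h0 b hb
  simp only [Bool.and_eq_true] at h1
  rw [rev_code h1.2]
  simpa using coprime_of_pairCheck h ha hb

/-- A lone linear block against the side polynomials. -/
theorem against_lin {J0 : ℕ} (h3 : 3 ≤ J0) {φ : ℕ → K[X]} (hφ : Chosen J0 φ) {cs : List (List ℕ)} {c : ℕ}
    (hc : (c % q != 0) = true) {z z' : List (List ℕ × List ℕ)} (h0 : codeCheck q J0 cs = true)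
    (h1 : pairCheck q true [[c]] cs z = true) (h2 : pairCheck q true cs [[c]] z' = true) :
    Against (side (pset cs) J0 φ) (ofL ([c] ++ [1])) := by
  have hc' : ((([c] : List ℕ).getD 0 0) % q != 0) = true := by simpa using hc
  rintro t (⟨a, ha, rfl⟩ | ⟨J, hJ, rfl⟩)
  · have hh := List.all_eq_true.1 h0 a ha
    simp only [Bool.and_eq_true] at hh
    refine ⟨?_, ?_⟩
    · rw [rev_code hh.2]
      simpa using coprime_of_pairCheck h1 (List.mem_singleton_self _) ha
    · rw [rev_code hc']
      simpa using coprime_of_pairCheck h2 ha (List.mem_singleton_self _)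
  · obtain ⟨i1, -, i2, -, -⟩ := hφ J hJ
    have hd := (cd_ofL (K := K) (a := [c]) Nat.one_pos).1
    have h00 : (ofL ([c] ++ [1]) : K[X]).coeff 0 ≠ 0 := by
      rw [coeff_ofL]; simpa using cast_ne_zero_of hc
    have hJ2 : 3 ≤ J := h3.trans hJ
    have hcop : IsCoprime (φ J) (ofL ([c] ++ [1]) : K[X]).reverse := coprime_of_degree_lt i1
      (fun e => h00 (by rw [← reverse_reverse' h00, e, reverse_zero, coeff_zero]))
      (lt_of_le_of_lt (reverse_natDegree_le _) (by rw [hd, i2]; simp; omega))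
    exact ⟨coprime_rev_symm (coeff_zero_ne_of_irreducible i1 (by omega)) h00 hcop, hcop⟩

/-- The recursion step with codes. -/
theorem GP.stepN (hq : 0 < q) {P : List K[X] → ℕ → Prop} {lo : ℕ} (hP : Shrinks P lo) {a : List ℕ}
    {Tc : List (List ℕ)} {c : List (List ℕ × List ℕ)} {d δ r : ℕ}
    (h : (decide (0 < a.length ∧ 2 * a.length + 1 ≤ d ∧ lo ≤ d - a.length ∧ detC q a * δ % q = r) &&
      (detC q a % q != 0) && (δ % q != 0) && pairCheck q false [a] Tc c) = true)
    (hg : GP P (pset Tc : Set K[X]) (δ : K) (d - a.length)) : GP P (pset (a :: Tc) : Set K[X]) (r : K) d := by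
  simp only [Bool.and_eq_true, decide_eq_true_eq] at h
  obtain ⟨⟨⟨⟨ha, hd, hlo, hr⟩, hne⟩, hδ⟩, hc⟩ := h
  rw [pset_cons, ← hr, cast_mod, Nat.cast_mul, ← cd_code hq ha]
  refine GP.step hP (monic_ofL a) (cd_ofL ha).1 ha rfl ?_ (cast_ne_zero_of hδ) ?_ hd hlo hg
  · rw [cd_code hq ha]; exact cast_ne_zero_of hne
  · rintro t ⟨b, hb, rfl⟩
    simpa using coprime_of_pairCheck hc (List.mem_singleton_self _) hb

end H31.Com
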