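import Cfsg.Agent.H31.Commutator.Codes

/-!
Side polynomials over 2 elements and the small steps of the recursion.
-/

set_option autoImplicit false
set_option maxHeartbeats 4000000
set_option maxRecDepth 100000
set_option linter.style.longLine false
set_option linter.unusedVariables false

namespace H31.Com.D2

open Matrix Polynomial

def f3 : List ℕ := [1,1,0]
def f4 : List ℕ := [1,1,0,0]
def f5 : List ℕ := [1,0,1,0,0]
def g5 : List ℕ := [1,1,1,1,0]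
def f6 : List ℕ := [1,1,0,0,0,0]
def g6 : List ℕ := [1,1,1,0,1,0]
def f7 : List ℕ := [1,1,0,0,0,0,0]
def g7 : List ℕ := [1,0,0,1,0,0,0]
def f8 : List ℕ := [1,1,0,1,1,0,0,0]
def g8 : List ℕ := [1,0,1,1,1,0,0,0]

def cs : List (List ℕ) := [f3,f4,f5,g5,f6,g6,f7,g7,f8,g8]

def zFree : List (List ℕ × List ℕ) :=
  [([0,1],[1,1]),
  ([0,1,0,1],[1,1,1]),
  ([1,0,0,1],[0,1]),
  ([1,1,0,1,1],[0,0,1]),
  ([1,0,1,0,0,1],[0,1,1]),
  ([0,0,1,1],[1]),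
  ([1,0,0,1,1,1],[0,1]),
  ([0,1,1,1,1,1],[1,1]),
  ([1,0,1,0,0,0,0,1],[0,1,1]),
  ([1,1,0,1,0,0,0,1],[0,0,1]),
  ([1,1],[0,0,1]),
  ([1,1,0,1],[0,0,1,1]),
  ([1,1,1,0,1],[0,0,0,1]),
  ([0,1,1,0,1],[1,1,1,1]),
  ([0,0,1,1,1],[1,0,1]),
  ([1,0,0,0,1,1],[0,1,0,1]),
  ([0,1,0,0,0,1],[1,1,1]),
  ([1,0,0,0,1],[0,1]),
  ([1,1,0,1,0,1,0,1],[0,0,1,1]),
  ([1,1,0,0,1,0,1],[0,0,1]),
  ([0,1],[1,1,1,1]),
  ([1,1,1],[0,1,0,1]),
  ([0,1,1],[1,1,1]),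
  ([0,0,1,1,1],[1,0,0,0,1]),
  ([1,1,0,1],[0,1,1]),
  ([0,0,0,0,1,1],[1,0,1,0,1]),
  ([0,1,0,0,1,0,1],[1,1,0,1,1]),
  ([0,1,1,1,1,0,1],[1,1,1,0,1]),
  ([0,1,1,0,0,0,1],[1,1,1,1]),
  ([0,0,1,1,1,0,1,1],[1,0,1,1,1]),
  ([1],[0,1,1]),
  ([0,1,1],[1,1,0,1]),
  ([0,0,1,1],[1,0,1,1]),
  ([0,0,0,0,1],[1,0,1,1,1]),
  ([0,1,0,1],[1,1,1]),
  ([1,1,1,0,0,1],[0,0,1,1,1]),
  ([0,0,0,0,1,1,1],[1,0,0,0,1]),
  ([0,1,0,1,0,0,1],[1,1,1,0,1]),
  ([1,1,1,0,1,1,0,1],[0,0,1,1,1]),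
  ([0,0,1,1,0,1,0,1],[1,0,1,0,1]),
  ([1,1,1],[0,0,0,1,0,1]),
  ([0,1],[1,1,1,1]),
  ([0,1,0,0,1],[1,1,1,1,0,1]),
  ([1,1,1,1],[0,0,0,0,1]),
  ([0,1,1,0,1],[1,1,0,1,1]),
  ([0,0,1,1,1],[1,0,0,0,1]),
  ([0,0,0,0,1,0,1],[1,0,0,0,1,1]),
  ([1,1,1,0,1,1],[0,0,0,1,1]),
  ([1,0,0,1,0,0,0,1],[0,1,0,1,1,1]),
  ([0,1,1,1],[1,1]),
  ([0,1],[1,1,0,1,1]),
  ([1],[0,1,1]),
  ([0,0,0,1],[1,0,0,0,1]),
  ([0,1,0,0,1],[1,1,0,1,1,1]),
  ([0,0,1,0,1,1],[1,0,1,1,0,1]),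
  ([0,1,1,0,0,1],[1,1,1,1,1,1]),
  ([1,1,0,0,0,1],[0,0,0,1,1]),
  ([1,0,1,1,1,0,1],[0,1,0,0,0,1]),
  ([0,0,1,0,1,0,1],[1,0,1,1,1]),
  ([1,0,0,0,0,0,1,1],[0,1,1,0,1,1]),
  ([0,1,1],[1,1,1,1,0,0,1]),
  ([0,1,1],[1,1,0,0,0,1]),
  ([0,1,0,1,1],[1,1,1,0,1,1,1]),
  ([0,1,1,1],[1,1,1,0,0,1]),
  ([1,1],[0,0,1]),
  ([0,1,1,0,1,1],[1,1,1,0,1,0,1]),
  ([1,1,0,1,1,0,1],[0,0,1,1,0,1,1]),
  ([0,0,0,1],[1,0,0,1]),
  ([0,1,1,1,1,0,1],[1,1,0,0,1,1]),
  ([0,0,0,1,0,0,1],[1,0,0,1,0,1]),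
  ([1,1,1],[0,1,1,0,1,0,1]),
  ([1,1,1],[0,1,1,1,0,1]),
  ([0,1,0,1],[1,1,0,0,0,1]),
  ([0,1,0,1,1],[1,1,1,1,1,0,1]),
  ([1,1,1,0,1,1],[0,1,1,1,0,0,1]),
  ([0,1,1],[1,1,0,1]),
  ([1,0,1,0,1,1,1],[0,0,1,1,1,0,1]),
  ([0,1,1,1],[1,1,1,1]),
  ([1,1,0,0,0,0,1],[0,1,0,1,1,1]),
  ([0,0,0,0,1,1,0,1],[1,0,0,0,0,0,1]),
  ([0,0,1],[1,0,0,0,0,1,1,1]),
  ([0,1],[1,1,1,1,1,1]),
  ([1],[0,1,0,1]),
  ([0,1,0,1,1],[1,1,0,1,1,1,0,1]),
  ([1,0,1,1,1],[0,1,1,1,1,0,1]),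
  ([0,0,0,0,1,1],[1,0,1,0,1,1,0,1]),
  ([1,1,1,1,1],[0,0,0,1,0,1]),
  ([1,0,0,0,1,1],[0,1,0,1,0,1,1]),
  ([1,0,0,1,1],[0,1,0,0,1]),
  ([0,0,0,0,0,1,0,1],[1,0,0,0,1,0,0,1]),
  ([1,1,1],[0,1,0,1,0,1,0,1]),
  ([1,1,0,1],[0,1,1,1,1,0,1,1]),
  ([1,0,1,1,1],[0,0,0,0,1,0,1,1]),
  ([1],[0,0,1,1]),
  ([0,1,1,1,1],[1,1,1,0,1,0,1]),
  ([0,1,1,1,0,1],[1,1,0,1,1,1,1,1]),
  ([0,0,0,1,1,1],[1,0,0,1,1,0,1]),
  ([0,1,1,0,0,1,1],[1,1,1,1,1,0,1,1]),
  ([1,0,0,0,0,0,1,1],[0,0,1,1,1,0,0,1]),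
  ([1,0,1,1,0,1],[0,0,0,0,0,1])]

theorem codes_ok : codeCheck 2 9 cs = true := by decide +kernel

theorem free_ok : pairCheck 2 true cs cs zFree = true := by decide +kernel

def z_lp : List (List ℕ × List ℕ) :=
  [([0,0,1],[1]),
  ([0,0,0,1],[1]),
  ([0,0,0,1,1],[1]),
  ([0,0,1,0,1],[1]),
  ([0,0,0,0,0,1],[1]),
  ([0,0,1,1,0,1],[1]),
  ([0,0,0,0,0,0,1],[1]),
  ([0,0,0,0,1,1,1],[1]),
  ([0,0,0,0,1,0,0,1],[1]),
  ([0,0,0,0,1,0,1,1],[1])]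

def z_lp' : List (List ℕ × List ℕ) :=
  [([1],[0,1,1]),
  ([1],[0,1,1,1]),
  ([1],[0,0,1,1,1]),
  ([1],[0,1,0,1,1]),
  ([1],[0,1,1,1,1,1]),
  ([1],[0,1,0,0,1,1]),
  ([1],[0,1,1,1,1,1,1]),
  ([1],[0,0,0,1,1,1,1]),
  ([1],[0,1,1,0,1,1,1,1]),
  ([1],[0,0,1,0,1,1,1,1])]

theorem lp_ok : pairCheck 2 true [[1]] cs z_lp = true := by decide +kernel

theorem lp_ok' : pairCheck 2 true cs [[1]] z_lp' = true := by decide +kernel

variable {K : Type*} [Field K] [CharP K 2]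

theorem chain0 {P : List K[X] → ℕ → Prop} (hP : Shrinks P 3) (b3_1 : GP P (pset [f3] : Set K[X]) ((1 : ℕ) : K) 3) (b4_1 : GP P (pset [f4] : Set K[X]) ((1 : ℕ) : K) 4) (b5_1 : GP P (pset [g5] : Set K[X]) ((1 : ℕ) : K) 5) (b6_1 : GP P (pset [g6] : Set K[X]) ((1 : ℕ) : K) 6) :
    ∀ d, 3 ≤ d → d ≤ 18 → GP P (pset cs : Set K[X]) ((1 : ℕ) : K) d := by
  have g3_1 := b3_1
  have g4_1 := b4_1
  have g5_1 := b5_1
  have g6_1 := b6_1
  have g7_1 := GP.stepN (K := K) (q := 2) (by norm_num) hP (a := f3) (Tc := [f4]) (c := [([1,0,1],[0,1])]) (d := 7) (δ := 1) (r := 1)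
    (by decide +kernel) g4_1
  have g8_1 := GP.stepN (K := K) (q := 2) (by norm_num) hP (a := f3) (Tc := [g5]) (c := [([1,0,0,1,1],[0,1,1])]) (d := 8) (δ := 1) (r := 1)
    (by decide +kernel) g5_1
  have g9_1 := GP.stepN (K := K) (q := 2) (by norm_num) hP (a := f4) (Tc := [g5]) (c := [([1,0,1],[0,1])]) (d := 9) (δ := 1) (r := 1)
    (by decide +kernel) g5_1
  have g10_1 := GP.stepN (K := K) (q := 2) (by norm_num) hP (a := f4) (Tc := [g6]) (c := [([0,0,1,0,1,1],[1,1,1,1])]) (d := 10) (δ := 1) (r := 1)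
    (by decide +kernel) g6_1
  have g11_1 := GP.stepN (K := K) (q := 2) (by norm_num) hP (a := f5) (Tc := [g6]) (c := [([0,0,0,1,0,1],[1,1,0,0,1])]) (d := 11) (δ := 1) (r := 1)
    (by decide +kernel) g6_1
  have g12_1 := GP.stepN (K := K) (q := 2) (by norm_num) hP (a := f5) (Tc := [f3,f4]) (c := [([1,0,1],[0,0,0,0,1]),([0,1,1,1],[1,0,1,1,1])]) (d := 12) (δ := 1) (r := 1)
    (by decide +kernel) g7_1
  have g13_1 := GP.stepN (K := K) (q := 2) (by norm_num) hP (a := f6) (Tc := [f3,f4]) (c := [([1,1],[0,0,1,1,1]),([0,0,0,1],[1,1,1,0,0,1])]) (d := 13) (δ := 1) (r := 1)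
    (by decide +kernel) g7_1
  have g14_1 := GP.stepN (K := K) (q := 2) (by norm_num) hP (a := f6) (Tc := [f3,g5]) (c := [([1,1],[0,0,1,1,1]),([0,1,0,0,1],[1,0,0,1,0,1])]) (d := 14) (δ := 1) (r := 1)
    (by decide +kernel) g8_1
  have g15_1 := GP.stepN (K := K) (q := 2) (by norm_num) hP (a := f7) (Tc := [f3,g5]) (c := [([1,0,1],[0,1,0,1,0,0,1]),([1,1,1],[0,0,0,1,1])]) (d := 15) (δ := 1) (r := 1)
    (by decide +kernel) g8_1
  have g16_1 := GP.stepN (K := K) (q := 2) (by norm_num) hP (a := f7) (Tc := [f4,g5]) (c := [([1,1,1,1],[0,0,0,0,1,1,1]),([1,1,1],[0,0,0,1,1])]) (d := 16) (δ := 1) (r := 1)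
    (by decide +kernel) g9_1
  have g17_1 := GP.stepN (K := K) (q := 2) (by norm_num) hP (a := f8) (Tc := [f4,g5]) (c := [([0,0,1],[1,1,0,1,0,0,1]),([1,0,1,1,1],[0,1,0,0,0,0,1,1])]) (d := 17) (δ := 1) (r := 1)
    (by decide +kernel) g9_1
  have g18_1 := GP.stepN (K := K) (q := 2) (by norm_num) hP (a := f8) (Tc := [f4,g6]) (c := [([0,0,1],[1,1,0,1,0,0,1]),([0,0,1,0,0,1],[1,1,1,1,1,1,0,1])]) (d := 18) (δ := 1) (r := 1)
    (by decide +kernel) g10_1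
  intro d h1 h2
  interval_cases d
  · exact fun l hl => (g3_1 l hl).mono (pset_mono (by decide +kernel))
  · exact fun l hl => (g4_1 l hl).mono (pset_mono (by decide +kernel))
  · exact fun l hl => (g5_1 l hl).mono (pset_mono (by decide +kernel))
  · exact fun l hl => (g6_1 l hl).mono (pset_mono (by decide +kernel))
  · exact fun l hl => (g7_1 l hl).mono (pset_mono (by decide +kernel))
  · exact fun l hl => (g8_1 l hl).mono (pset_mono (by decide +kernel))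
  · exact fun l hl => (g9_1 l hl).mono (pset_mono (by decide +kernel))
  · exact fun l hl => (g10_1 l hl).mono (pset_mono (by decide +kernel))
  · exact fun l hl => (g11_1 l hl).mono (pset_mono (by decide +kernel))
  · exact fun l hl => (g12_1 l hl).mono (pset_mono (by decide +kernel))
  · exact fun l hl => (g13_1 l hl).mono (pset_mono (by decide +kernel))
  · exact fun l hl => (g14_1 l hl).mono (pset_mono (by decide +kernel))
  · exact fun l hl => (g15_1 l hl).mono (pset_mono (by decide +kernel))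
  · exact fun l hl => (g16_1 l hl).mono (pset_mono (by decide +kernel))
  · exact fun l hl => (g17_1 l hl).mono (pset_mono (by decide +kernel))
  · exact fun l hl => (g18_1 l hl).mono (pset_mono (by decide +kernel))

theorem chain1 {P : List K[X] → ℕ → Prop} (hP : Shrinks P 3) (b3_1 : GP P (pset [f4] : Set K[X]) ((1 : ℕ) : K) 3) (b4_1 : GP P (pset [g5] : Set K[X]) ((1 : ℕ) : K) 4) (b5_1 : GP P (pset [g6] : Set K[X]) ((1 : ℕ) : K) 5) (b6_1 : GP P (pset [g7] : Set K[X]) ((1 : ℕ) : K) 6) :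
    ∀ d, 3 ≤ d → d ≤ 18 → GP P (pset cs : Set K[X]) ((1 : ℕ) : K) d := by
  have g3_1 := b3_1
  have g4_1 := b4_1
  have g5_1 := b5_1
  have g6_1 := b6_1
  have g7_1 := GP.stepN (K := K) (q := 2) (by norm_num) hP (a := f3) (Tc := [g5]) (c := [([1,0,0,1,1],[0,1,1])]) (d := 7) (δ := 1) (r := 1)
    (by decide +kernel) g4_1
  have g8_1 := GP.stepN (K := K) (q := 2) (by norm_num) hP (a := f3) (Tc := [g6]) (c := [([0,0,1,1,1,1],[1,1,1])]) (d := 8) (δ := 1) (r := 1)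
    (by decide +kernel) g5_1
  have g9_1 := GP.stepN (K := K) (q := 2) (by norm_num) hP (a := f4) (Tc := [g6]) (c := [([0,0,1,0,1,1],[1,1,1,1])]) (d := 9) (δ := 1) (r := 1)
    (by decide +kernel) g5_1
  have g10_1 := GP.stepN (K := K) (q := 2) (by norm_num) hP (a := f4) (Tc := [g7]) (c := [([0,0,0,0,0,0,1],[1,0,0,1])]) (d := 10) (δ := 1) (r := 1)
    (by decide +kernel) g6_1
  have g11_1 := GP.stepN (K := K) (q := 2) (by norm_num) hP (a := f5) (Tc := [g7]) (c := [([0,1,0,0,0,0,1],[1,1,0,0,1])]) (d := 11) (δ := 1) (r := 1)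
    (by decide +kernel) g6_1
  have g12_1 := GP.stepN (K := K) (q := 2) (by norm_num) hP (a := f5) (Tc := [f3,g5]) (c := [([1,0,1],[0,0,0,0,1]),([0,1,1,1,1],[1,0,0,1,1])]) (d := 12) (δ := 1) (r := 1)
    (by decide +kernel) g7_1
  have g13_1 := GP.stepN (K := K) (q := 2) (by norm_num) hP (a := f6) (Tc := [f3,g5]) (c := [([1,1],[0,0,1,1,1]),([0,1,0,0,1],[1,0,0,1,0,1])]) (d := 13) (δ := 1) (r := 1)
    (by decide +kernel) g7_1
  have g14_1 := GP.stepN (K := K) (q := 2) (by norm_num) hP (a := f6) (Tc := [f3,g6]) (c := [([1,1],[0,0,1,1,1]),([1,0,1,1,1],[0,1,0,1,1])]) (d := 14) (δ := 1) (r := 1)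
    (by decide +kernel) g8_1
  have g15_1 := GP.stepN (K := K) (q := 2) (by norm_num) hP (a := f7) (Tc := [f3,g6]) (c := [([1,0,1],[0,1,0,1,0,0,1]),([0,1,1,0,1,1],[1,0,1,0,1,1,1])]) (d := 15) (δ := 1) (r := 1)
    (by decide +kernel) g8_1
  have g16_1 := GP.stepN (K := K) (q := 2) (by norm_num) hP (a := f7) (Tc := [f4,g6]) (c := [([1,1,1,1],[0,0,0,0,1,1,1]),([0,1,1,0,1,1],[1,0,1,0,1,1,1])]) (d := 16) (δ := 1) (r := 1)
    (by decide +kernel) g9_1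
  have g17_1 := GP.stepN (K := K) (q := 2) (by norm_num) hP (a := f8) (Tc := [f4,g6]) (c := [([0,0,1],[1,1,0,1,0,0,1]),([0,0,1,0,0,1],[1,1,1,1,1,1,0,1])]) (d := 17) (δ := 1) (r := 1)
    (by decide +kernel) g9_1
  have g18_1 := GP.stepN (K := K) (q := 2) (by norm_num) hP (a := f8) (Tc := [f4,g7]) (c := [([0,0,1],[1,1,0,1,0,0,1]),([1,0,1,1,0,0,1],[0,1,1,1,1,0,0,1])]) (d := 18) (δ := 1) (r := 1)
    (by decide +kernel) g10_1
  intro d h1 h2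
  interval_cases d
  · exact fun l hl => (g3_1 l hl).mono (pset_mono (by decide +kernel))
  · exact fun l hl => (g4_1 l hl).mono (pset_mono (by decide +kernel))
  · exact fun l hl => (g5_1 l hl).mono (pset_mono (by decide +kernel))
  · exact fun l hl => (g6_1 l hl).mono (pset_mono (by decide +kernel))
  · exact fun l hl => (g7_1 l hl).mono (pset_mono (by decide +kernel))
  · exact fun l hl => (g8_1 l hl).mono (pset_mono (by decide +kernel))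
  · exact fun l hl => (g9_1 l hl).mono (pset_mono (by decide +kernel))
  · exact fun l hl => (g10_1 l hl).mono (pset_mono (by decide +kernel))
  · exact fun l hl => (g11_1 l hl).mono (pset_mono (by decide +kernel))
  · exact fun l hl => (g12_1 l hl).mono (pset_mono (by decide +kernel))
  · exact fun l hl => (g13_1 l hl).mono (pset_mono (by decide +kernel))
  · exact fun l hl => (g14_1 l hl).mono (pset_mono (by decide +kernel))
  · exact fun l hl => (g15_1 l hl).mono (pset_mono (by decide +kernel))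
  · exact fun l hl => (g16_1 l hl).mono (pset_mono (by decide +kernel))
  · exact fun l hl => (g17_1 l hl).mono (pset_mono (by decide +kernel))
  · exact fun l hl => (g18_1 l hl).mono (pset_mono (by decide +kernel))

theorem chain2 {P : List K[X] → ℕ → Prop} (hP : Shrinks P 3) (b3_1 : GP P (pset [g5] : Set K[X]) ((1 : ℕ) : K) 3) (b4_1 : GP P (pset [g6] : Set K[X]) ((1 : ℕ) : K) 4) (b5_1 : GP P (pset [g7] : Set K[X]) ((1 : ℕ) : K) 5) (b6_1 : GP P (pset [g8] : Set K[X]) ((1 : ℕ) : K) 6) :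
    ∀ d, 3 ≤ d → d ≤ 18 → GP P (pset cs : Set K[X]) ((1 : ℕ) : K) d := by
  have g3_1 := b3_1
  have g4_1 := b4_1
  have g5_1 := b5_1
  have g6_1 := b6_1
  have g7_1 := GP.stepN (K := K) (q := 2) (by norm_num) hP (a := f3) (Tc := [g6]) (c := [([0,0,1,1,1,1],[1,1,1])]) (d := 7) (δ := 1) (r := 1)
    (by decide +kernel) g4_1
  have g8_1 := GP.stepN (K := K) (q := 2) (by norm_num) hP (a := f3) (Tc := [g7]) (c := [([1,0,1,0,1,1,1],[0,1,1])]) (d := 8) (δ := 1) (r := 1)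
    (by decide +kernel) g5_1
  have g9_1 := GP.stepN (K := K) (q := 2) (by norm_num) hP (a := f4) (Tc := [g7]) (c := [([0,0,0,0,0,0,1],[1,0,0,1])]) (d := 9) (δ := 1) (r := 1)
    (by decide +kernel) g5_1
  have g10_1 := GP.stepN (K := K) (q := 2) (by norm_num) hP (a := f4) (Tc := [g8]) (c := [([0,0,0,1,1,0,1],[1,0,1])]) (d := 10) (δ := 1) (r := 1)
    (by decide +kernel) g6_1
  have g11_1 := GP.stepN (K := K) (q := 2) (by norm_num) hP (a := f5) (Tc := [g8]) (c := [([0,1,1,0,1,0,1],[1,1,0,1])]) (d := 11) (δ := 1) (r := 1)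
    (by decide +kernel) g6_1
  have g12_1 := GP.stepN (K := K) (q := 2) (by norm_num) hP (a := f5) (Tc := [f3,g6]) (c := [([1,0,1],[0,0,0,0,1]),([0,0,0,1,0,1],[1,1,0,0,1])]) (d := 12) (δ := 1) (r := 1)
    (by decide +kernel) g7_1
  have g13_1 := GP.stepN (K := K) (q := 2) (by norm_num) hP (a := f6) (Tc := [f3,g6]) (c := [([1,1],[0,0,1,1,1]),([1,0,1,1,1],[0,1,0,1,1])]) (d := 13) (δ := 1) (r := 1)
    (by decide +kernel) g7_1
  have g14_1 := GP.stepN (K := K) (q := 2) (by norm_num) hP (a := f6) (Tc := [f3,g7]) (c := [([1,1],[0,0,1,1,1]),([0,0,0,0,1,1],[1,0,0,1,1])]) (d := 14) (δ := 1) (r := 1)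
    (by decide +kernel) g8_1
  have g15_1 := GP.stepN (K := K) (q := 2) (by norm_num) hP (a := f7) (Tc := [f3,g7]) (c := [([1,0,1],[0,1,0,1,0,0,1]),([0,0,1,0,1],[1,0,1,0,1])]) (d := 15) (δ := 1) (r := 1)
    (by decide +kernel) g8_1
  have g16_1 := GP.stepN (K := K) (q := 2) (by norm_num) hP (a := f7) (Tc := [f4,g7]) (c := [([1,1,1,1],[0,0,0,0,1,1,1]),([0,0,1,0,1],[1,0,1,0,1])]) (d := 16) (δ := 1) (r := 1)
    (by decide +kernel) g9_1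
  have g17_1 := GP.stepN (K := K) (q := 2) (by norm_num) hP (a := f8) (Tc := [f4,g7]) (c := [([0,0,1],[1,1,0,1,0,0,1]),([1,0,1,1,0,0,1],[0,1,1,1,1,0,0,1])]) (d := 17) (δ := 1) (r := 1)
    (by decide +kernel) g9_1
  have g18_1 := GP.stepN (K := K) (q := 2) (by norm_num) hP (a := f8) (Tc := [f4,g8]) (c := [([0,0,1],[1,1,0,1,0,0,1]),([0,1,0,1,1,1,1],[1,1,0,1,1,1,1])]) (d := 18) (δ := 1) (r := 1)
    (by decide +kernel) g10_1
  intro d h1 h2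
  interval_cases d
  · exact fun l hl => (g3_1 l hl).mono (pset_mono (by decide +kernel))
  · exact fun l hl => (g4_1 l hl).mono (pset_mono (by decide +kernel))
  · exact fun l hl => (g5_1 l hl).mono (pset_mono (by decide +kernel))
  · exact fun l hl => (g6_1 l hl).mono (pset_mono (by decide +kernel))
  · exact fun l hl => (g7_1 l hl).mono (pset_mono (by decide +kernel))
  · exact fun l hl => (g8_1 l hl).mono (pset_mono (by decide +kernel))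
  · exact fun l hl => (g9_1 l hl).mono (pset_mono (by decide +kernel))
  · exact fun l hl => (g10_1 l hl).mono (pset_mono (by decide +kernel))
  · exact fun l hl => (g11_1 l hl).mono (pset_mono (by decide +kernel))
  · exact fun l hl => (g12_1 l hl).mono (pset_mono (by decide +kernel))
  · exact fun l hl => (g13_1 l hl).mono (pset_mono (by decide +kernel))
  · exact fun l hl => (g14_1 l hl).mono (pset_mono (by decide +kernel))
  · exact fun l hl => (g15_1 l hl).mono (pset_mono (by decide +kernel))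
  · exact fun l hl => (g16_1 l hl).mono (pset_mono (by decide +kernel))
  · exact fun l hl => (g17_1 l hl).mono (pset_mono (by decide +kernel))
  · exact fun l hl => (g18_1 l hl).mono (pset_mono (by decide +kernel))

end H31.Com.D2
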