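import Cfsg.Agent.H31.Commutator.Codes

/-!
Side polynomials over 3 elements and the small steps of the recursion.
-/

set_option autoImplicit false
set_option maxHeartbeats 4000000
set_option maxRecDepth 100000
set_option linter.style.longLine false
set_option linter.unusedVariables false

namespace H31.Com.D3

open Matrix Polynomial

def q2 : List ℕ := [2,1]
def f3 : List ℕ := [2,2,0]
def g3p : List ℕ := [2,1,1]
def g3m : List ℕ := [1,2,0]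
def f4 : List ℕ := [1,1,1,0]
def g4p : List ℕ := [1,2,1,0]
def g4m : List ℕ := [2,0,1,0]
def g4n : List ℕ := [2,1,0,0]
def f5 : List ℕ := [2,2,0,0,0]
def g5p : List ℕ := [2,1,1,0,0]
def g5m : List ℕ := [1,2,0,0,0]
def f6 : List ℕ := [1,1,1,0,0,0]
def g6p : List ℕ := [1,0,2,0,0,0]
def g6m : List ℕ := [2,0,0,0,1,0]

def cs : List (List ℕ) := [q2,f3,g3p,g3m,f4,g4p,g4m,g4n,f5,g5p,g5m,f6,g6p,g6m]

def zFree : List (List ℕ × List ℕ) :=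
  [([1,2],[2,2]),
  ([1,2,1],[2,1]),
  ([0,2,1],[1,1]),
  ([1,1],[2]),
  ([0,1,2,2],[1,1]),
  ([1,1,1],[2]),
  ([1,0,0,2],[2,2]),
  ([1,2,0,1],[2,1]),
  ([0,2,2,1,2],[1,2]),
  ([1,1,2,2],[2]),
  ([2,1,0,1,1],[0,2]),
  ([1,1,2,0,1],[2]),
  ([2,0,2,2,1,2],[0,1]),
  ([0,1,2,1,0,1],[1,1]),
  ([2,1],[0,0,1]),
  ([0,2],[1,2]),
  ([0,2,2],[1,1,2]),
  ([1,0,2],[2,1,1]),
  ([0,0,2,2],[1,0,1]),
  ([1,1,2,2],[2,2,1]),
  ([2,0,2,2],[0,2,2]),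
  ([0,1,0,1],[1,1,1]),
  ([1,0,0,1],[2,1]),
  ([2,0,1,1,1],[0,2,1]),
  ([1,2,1],[2]),
  ([1,2,2,2,2,2],[2,0,1]),
  ([2,2,2,0,2,2],[0,1,1]),
  ([1,2,1,0,0,1],[2,0,1]),
  ([2,2],[0,0,2]),
  ([0,1,1],[1,1,1]),
  ([0,0,1],[1,2,1]),
  ([2,2,2],[0,0,1]),
  ([1,1,0,1],[2,0,2]),
  ([0,1,2],[1,1]),
  ([1,1,2,1],[2,0,1]),
  ([0,1,0,2],[1,1,2]),
  ([2,2,2,0,1],[0,0,1]),
  ([2,0,1,0,2],[0,1,2]),
  ([0,1,1,2],[1,1]),
  ([2,1,0,0,1],[0,2]),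
  ([2,0,1,0,1,1],[0,1,2]),
  ([2,2,2,0,2,1],[0,0,1]),
  ([0,1],[1,1,1]),
  ([2,0,1],[2,2,1]),
  ([1,2],[0,2]),
  ([0,2],[1,1]),
  ([2,1,1,2],[2,1,1]),
  ([0,0,1,2],[1,0,1]),
  ([1,0,1,2],[0,1,2]),
  ([2,1,1],[2,1]),
  ([2,2,2],[2]),
  ([1,1,0,2,1],[0,0,1]),
  ([2,0,0,1],[2,2]),
  ([0,2,0,0,0,1],[1,1,2]),
  ([1,2,1,0,1,2],[0,2,1]),
  ([2,2,2,0,0,1],[2,0,1]),
  ([0,2],[1,0,2,2]),
  ([0,2],[1,1,2]),
  ([2],[2,2]),
  ([2,1],[2,0,2]),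
  ([2,0,0,2],[2,1,2,1]),
  ([2,0,1,1],[2,1,1,2]),
  ([1,2,0,2],[0,0,0,2]),
  ([0,1,0,2],[1,2,2,2]),
  ([0,2,1],[1,1]),
  ([2,0,2,2],[2,1,2]),
  ([0,0,2,0,2],[1,0,1,1]),
  ([1,0,0,2,0,2],[0,2,2,1]),
  ([1,2,1,0,1],[0,0,2]),
  ([0,1,1,2],[1,2]),
  ([1],[0,1,1]),
  ([2,2],[2,0,2]),
  ([1,0,2],[0,1,2,2]),
  ([0,1],[1,2,2]),
  ([2,0,1,2],[2,2,1,1]),
  ([2,0,0,1],[2,2,2,2]),
  ([1,1,0,1],[0,0,0,1]),
  ([1,0,2,1],[0,1,0,1]),
  ([0,0,2,0,2],[1,0,1,2]),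
  ([0,1,0,2,2],[1,2,1,2]),
  ([0,1,1],[1,2]),
  ([2,1,0,0,2,1],[2,1,2,2]),
  ([1,1,1,0,1],[0,0,2]),
  ([0,2,1,1],[1,1]),
  ([0,1],[1,0,1,1]),
  ([2,1],[0,1,1]),
  ([1,1,2],[2,2,0,2]),
  ([2,2],[0,2,1]),
  ([1,1,1,2],[2,1,1,1]),
  ([1,2,1,1],[2,2,1,2]),
  ([1,0,2],[2,0,2]),
  ([2,0,1,1],[0,0,2,1]),
  ([2,1,0,0,2],[0,1,1,2]),
  ([1,1,0,1,1],[2,1,2,1]),
  ([2,2,0,0,2],[0,2,1,1]),
  ([1,2,1,1,1,1],[2,2,0,2]),
  ([1,0,1],[2]),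
  ([2,0,1,0,2],[0,0,2]),
  ([2,2],[0,0,1,2]),
  ([2,1,1],[0,2,0,1]),
  ([0,1,1],[1,0,2,1]),
  ([0,1,1],[1,1,1,2]),
  ([0,2,1,2],[1,2,1,1]),
  ([2,1,0,1],[0,2,2,2]),
  ([0,2,1],[1,2,1]),
  ([2,2,0,1],[0,0,1,1]),
  ([0,0,1,2,1],[1,0,1,1]),
  ([0,2,2],[1,2]),
  ([1,2,1,1],[2,1,2]),
  ([2,1,1,1],[0,2]),
  ([2,0,2,2,1],[0,1,2]),
  ([2,0,0,1],[0,1]),
  ([0,1],[1,0,2,1,1]),
  ([0,1,1],[1,1,0,0,1]),
  ([1,0,1],[2,2,0,1,1]),
  ([2,1,1],[0,0,2,1,2]),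
  ([1,1,2,1],[2,2,1,2,2]),
  ([0,1,1,2],[1,1,1,0,1]),
  ([1,2,2],[2,0,2,2]),
  ([2,1],[0,0,1]),
  ([1,0,2,1,1],[2,1,2,0,1]),
  ([2,1,2,0,2],[0,0,0,2,2]),
  ([0,2,2,1,2],[1,2,1,0,1]),
  ([1,1,2,0,0,2],[2,2,0,2,1]),
  ([1,0,2,1],[2,1,2]),
  ([2,0,2,2,2,2],[0,2,2,2,2]),
  ([2,1],[0,2,1,0,1]),
  ([1,1],[2,0,0,1]),
  ([0,2],[1,1,2,2]),
  ([0,1,1],[1,1,1,1,2]),
  ([1,1,1],[2,0,0,2]),
  ([1],[2,2]),
  ([2,1,2,1],[0,2,2,2,1]),
  ([2,0,0,1],[0,1,1,1,1]),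
  ([0,0,2,2,2],[1,0,2,0,2]),
  ([0,0,0,2,2],[1,0,0,1,2]),
  ([0,0,2,0,2],[1,0,2,1,1]),
  ([1,2,0,2,2,2],[2,1,0,0,1]),
  ([2,2,0,0,2,1],[0,0,2,1,2]),
  ([2,2,1,0,0,2],[0,0,0,0,2]),
  ([2,2],[2,1,0,1,2]),
  ([1,1,2],[0,0,2,2,2]),
  ([2,1,1],[2,2,2,2,1]),
  ([0,1,2],[1,2,0,0,1]),
  ([0,1,2,2],[1,2,1,0,1]),
  ([2,1,1,1],[2,1,1,1,2]),
  ([2,2,1],[2,0,2,1]),
  ([0,2,1,1],[1,1,1,2,1]),
  ([0,2,1,1,1],[1,1,1,0,1]),
  ([1,0,0,2,2],[0,1,0,1,2]),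
  ([2,0,1,1,2],[2,2,2,0,1]),
  ([0,1,1,1,1,1],[1,2,0,0,2]),
  ([2,0,1,1],[2,2,2]),
  ([1,0,1,2,1,2],[0,1,2,1,2]),
  ([2,2],[2,0,1,0,1,2]),
  ([2,2,1],[2,2,0,1,1,1]),
  ([2,0,2],[2,2,1,0,2,2]),
  ([1],[0,2,2,2]),
  ([2,1,1,2],[2,0,0,0,1,1]),
  ([0,1,0,2],[1,2,1,2,1,1]),
  ([0,0,1,1],[1,0,1,1,1,1]),
  ([2,2,1,2],[2,2,1,2,0,2]),
  ([2,1,1,2],[2,0,2,2,2]),
  ([2,0,1,1],[2,1,0,2,1]),
  ([2,2,2,0,2],[2,2,0,2,1,1]),
  ([1,0,1,2,2],[0,2,1,0,1]),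
  ([1,2,0,0,0,2],[0,0,0,1,0,1]),
  ([2,1,2,0,1,1],[2,0,2,0,1,1]),
  ([0,1],[1,1,0,2,1,1]),
  ([1,0,2],[0,0,2,0,1,2]),
  ([2],[2,1,2,2]),
  ([1,0,2],[0,0,2,0,1,1]),
  ([1,0,1,2],[0,0,0,1,1,1]),
  ([1,0,1,1],[0,0,0,2,1,2]),
  ([0,0,1],[1,0,1,0,1]),
  ([0,2,2],[1,1,1,1,2]),
  ([2,2,0,2,2],[2,1,2,0,0,2]),
  ([0,1,2,2],[1,2,1,1,2]),
  ([2,1,0,1,2],[2,2,2,0,0,1]),
  ([1,0,2,0,0,2],[0,0,2,0,2,1]),
  ([0,0,2],[1,0,1]),
  ([2],[2]),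
  ([1,2],[2,0,2,1,0,2]),
  ([2,2,1],[0,2,1,2,1,1]),
  ([2,0,1],[0,0,1,2,1,1]),
  ([2,1,1],[0,1,1,1,1,2]),
  ([0,0,2],[1,0,1,2,1]),
  ([0,0,2],[1,0,1,1,1]),
  ([1],[2,0,1]),
  ([1,1,2,1],[2,1,2,2,0,1]),
  ([2,2,2,1],[0,2,2,1,1]),
  ([2,0,0,1],[0,0,0,1,1]),
  ([2,1,2,2],[0,1,2,2,1]),
  ([2,0,2,2,1],[0,0,2,2,2]),
  ([1,0,2,0,1],[2,0,2,0,2]),
  ([2,0,1],[0,0,1])]

theorem codes_ok : codeCheck 3 7 cs = true := by decide +kernel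

theorem free_ok : pairCheck 3 true cs cs zFree = true := by decide +kernel

def z_lp : List (List ℕ × List ℕ) :=
  [([0,1],[1]),
  ([1,1,2],[2]),
  ([1,0,2],[2]),
  ([0,0,2],[1]),
  ([0,0,1,2],[1]),
  ([1,1,0,1],[2]),
  ([0,0,1,1],[1]),
  ([0,0,0,1],[1]),
  ([1,1,1,1,2],[2]),
  ([1,1,1,0,2],[2]),
  ([0,0,0,0,2],[1]),
  ([0,0,0,0,1,2],[1]),
  ([0,0,0,0,2,2],[1]),
  ([0,0,1,1,1,1],[1])]

def z_lp' : List (List ℕ × List ℕ) :=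
  [([1],[2,1]),
  ([2],[0,2,2]),
  ([2],[0,1,2]),
  ([1],[0,1,1]),
  ([1],[0,2,1,1]),
  ([2],[2,1,2,2]),
  ([1],[2,2,1,1]),
  ([1],[2,1,1,1]),
  ([2],[0,2,2,2,2]),
  ([2],[0,1,2,2,2]),
  ([1],[0,1,1,1,1]),
  ([1],[0,2,1,1,1,1]),
  ([1],[0,0,1,1,1,1]),
  ([1],[2,2,2,2,1,1])]

theorem lp_ok : pairCheck 3 true [[2]] cs z_lp = true := by decide +kernel

theorem lp_ok' : pairCheck 3 true cs [[2]] z_lp' = true := by decide +kernel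

def z_lm : List (List ℕ × List ℕ) :=
  [([2,2],[2]),
  ([0,0,1],[1]),
  ([2,2,2],[2]),
  ([2,1,1],[2]),
  ([2,1,0,1],[2]),
  ([0,0,2,2],[1]),
  ([0,0,2,1],[1]),
  ([2,1,2,2],[2]),
  ([0,0,0,0,1],[1]),
  ([2,1,2,2,2],[2]),
  ([2,1,2,1,1],[2]),
  ([2,1,2,1,0,1],[2]),
  ([0,0,0,0,1,2],[1]),
  ([0,0,2,1,2,1],[1])]

def z_lm' : List (List ℕ × List ℕ) :=
  [([2],[0,1]),
  ([2],[0,2,1]),
  ([1],[2,0,2]),
  ([1],[0,1,2]),
  ([2],[2,2,2,1]),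
  ([1],[0,1,1,2]),
  ([1],[2,1,1,2]),
  ([2],[0,1,2,1]),
  ([2],[0,2,1,2,1]),
  ([1],[2,0,2,1,2]),
  ([1],[0,1,2,1,2]),
  ([2],[2,2,2,1,2,1]),
  ([1],[0,0,1,2,1,2]),
  ([1],[2,1,2,1,1,2])]

theorem lm_ok : pairCheck 3 true [[1]] cs z_lm = true := by decide +kernel

theorem lm_ok' : pairCheck 3 true cs [[1]] z_lm' = true := by decide +kernel

variable {K : Type*} [Field K] [CharP K 3]

theorem chainS {P : List K[X] → ℕ → Prop} (hP : Shrinks P 3) (b3_1 : GP P (pset [g3p] : Set K[X]) ((1 : ℕ) : K) 3) (b3_2 : GP P (pset [g3m] : Set K[X]) ((2 : ℕ) : K) 3) (b4_1 : GP P (pset [g4p] : Set K[X]) ((1 : ℕ) : K) 4) (b4_2 : GP P (pset [g4m] : Set K[X]) ((2 : ℕ) : K) 4) :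
    ∀ d, 3 ≤ d → d ≤ 14 → GP P (pset cs : Set K[X]) ((1 : ℕ) : K) d ∧ GP P (pset cs : Set K[X]) ((2 : ℕ) : K) d := by
  have g3_1 := b3_1
  have g3_2 := b3_2
  have g4_1 := b4_1
  have g4_2 := b4_2
  have g5_1 := GP.stepN (K := K) (q := 3) (by norm_num) hP (a := q2) (Tc := [g3m]) (c := [([0,0,2],[1,1])]) (d := 5) (δ := 2) (r := 1)
    (by decide +kernel) g3_2
  have g5_2 := GP.stepN (K := K) (q := 3) (by norm_num) hP (a := q2) (Tc := [g3p]) (c := [([2,0,1],[0,2])]) (d := 5) (δ := 1) (r := 2)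
    (by decide +kernel) g3_1
  have g6_1 := GP.stepN (K := K) (q := 3) (by norm_num) hP (a := q2) (Tc := [g4m]) (c := [([2,0,2,1],[0,2])]) (d := 6) (δ := 2) (r := 1)
    (by decide +kernel) g4_2
  have g6_2 := GP.stepN (K := K) (q := 3) (by norm_num) hP (a := q2) (Tc := [g4p]) (c := [([2,0,1,2],[0,1])]) (d := 6) (δ := 1) (r := 2)
    (by decide +kernel) g4_1
  have g7_1 := GP.stepN (K := K) (q := 3) (by norm_num) hP (a := f3) (Tc := [g4p]) (c := [([2,0,1],[0,2])]) (d := 7) (δ := 1) (r := 1)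
    (by decide +kernel) g4_1
  have g7_2 := GP.stepN (K := K) (q := 3) (by norm_num) hP (a := f3) (Tc := [g4m]) (c := [([0,2,2,2],[2,1,1])]) (d := 7) (δ := 2) (r := 2)
    (by decide +kernel) g4_2
  have g8_1 := GP.stepN (K := K) (q := 3) (by norm_num) hP (a := f3) (Tc := [q2,g3m]) (c := [([0,1],[2,1,2]),([1],[2])]) (d := 8) (δ := 1) (r := 1)
    (by decide +kernel) g5_1
  have g8_2 := GP.stepN (K := K) (q := 3) (by norm_num) hP (a := f3) (Tc := [q2,g3p]) (c := [([0,1],[2,1,2]),([1,2],[1,1])]) (d := 8) (δ := 2) (r := 2)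
    (by decide +kernel) g5_2
  have g9_1 := GP.stepN (K := K) (q := 3) (by norm_num) hP (a := f4) (Tc := [q2,g3m]) (c := [([1],[0,1,2]),([0,1],[1,0,2])]) (d := 9) (δ := 1) (r := 1)
    (by decide +kernel) g5_1
  have g9_2 := GP.stepN (K := K) (q := 3) (by norm_num) hP (a := f4) (Tc := [q2,g3p]) (c := [([1],[0,1,2]),([2,2,1],[1,2,2,2])]) (d := 9) (δ := 2) (r := 2)
    (by decide +kernel) g5_2
  have g10_1 := GP.stepN (K := K) (q := 3) (by norm_num) hP (a := f4) (Tc := [q2,g4m]) (c := [([1],[0,1,2]),([1,1,2,2],[0,2,1,1])]) (d := 10) (δ := 1) (r := 1)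
    (by decide +kernel) g6_1
  have g10_2 := GP.stepN (K := K) (q := 3) (by norm_num) hP (a := f4) (Tc := [q2,g4p]) (c := [([1],[0,1,2]),([2,1,0,1],[2,2,0,2])]) (d := 10) (δ := 2) (r := 2)
    (by decide +kernel) g6_2
  have g11_1 := GP.stepN (K := K) (q := 3) (by norm_num) hP (a := f5) (Tc := [q2,g4m]) (c := [([1,2],[1,1,0,1,1]),([2,2,1,2],[0,2,0,2,1])]) (d := 11) (δ := 1) (r := 1)
    (by decide +kernel) g6_1
  have g11_2 := GP.stepN (K := K) (q := 3) (by norm_num) hP (a := f5) (Tc := [q2,g4p]) (c := [([1,2],[1,1,0,1,1]),([1,1,0,1],[2,1,0,0,2])]) (d := 11) (δ := 2) (r := 2)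
    (by decide +kernel) g6_2
  have g12_1 := GP.stepN (K := K) (q := 3) (by norm_num) hP (a := f5) (Tc := [f3,g4p]) (c := [([1,1,2],[1,0,0,2,1]),([1,1,0,1],[2,1,0,0,2])]) (d := 12) (δ := 1) (r := 1)
    (by decide +kernel) g7_1
  have g12_2 := GP.stepN (K := K) (q := 3) (by norm_num) hP (a := f5) (Tc := [f3,g4m]) (c := [([1,1,2],[1,0,0,2,1]),([2,2,1,2],[0,2,0,2,1])]) (d := 12) (δ := 2) (r := 2)
    (by decide +kernel) g7_2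
  have g13_1 := GP.stepN (K := K) (q := 3) (by norm_num) hP (a := f6) (Tc := [f3,g4p]) (c := [([1,1,1],[0,2,1,1,2,2]),([1,0,1],[0,2,0,0,2])]) (d := 13) (δ := 1) (r := 1)
    (by decide +kernel) g7_1
  have g13_2 := GP.stepN (K := K) (q := 3) (by norm_num) hP (a := f6) (Tc := [f3,g4m]) (c := [([1,1,1],[0,2,1,1,2,2]),([0,1,0,1],[2,1,0,0,0,2])]) (d := 13) (δ := 2) (r := 2)
    (by decide +kernel) g7_2
  have g14_1 := GP.stepN (K := K) (q := 3) (by norm_num) hP (a := f6) (Tc := [f3,q2,g3m]) (c := [([1,1,1],[0,2,1,1,2,2]),([0,1],[2,0,0,1,1,2]),([2,2,1],[2,1,2,0,1,2])]) (d := 14) (δ := 1) (r := 1)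
    (by decide +kernel) g8_1
  have g14_2 := GP.stepN (K := K) (q := 3) (by norm_num) hP (a := f6) (Tc := [f3,q2,g3p]) (c := [([1,1,1],[0,2,1,1,2,2]),([0,1],[2,0,0,1,1,2]),([2,1],[1,1,2,2,2])]) (d := 14) (δ := 2) (r := 2)
    (by decide +kernel) g8_2
  intro d h1 h2
  interval_cases d
  · exact ⟨fun l hl => (g3_1 l hl).mono (pset_mono (by decide +kernel)), fun l hl => (g3_2 l hl).mono (pset_mono (by decide +kernel))⟩
  · exact ⟨fun l hl => (g4_1 l hl).mono (pset_mono (by decide +kernel)), fun l hl => (g4_2 l hl).mono (pset_mono (by decide +kernel))⟩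
  · exact ⟨fun l hl => (g5_1 l hl).mono (pset_mono (by decide +kernel)), fun l hl => (g5_2 l hl).mono (pset_mono (by decide +kernel))⟩
  · exact ⟨fun l hl => (g6_1 l hl).mono (pset_mono (by decide +kernel)), fun l hl => (g6_2 l hl).mono (pset_mono (by decide +kernel))⟩
  · exact ⟨fun l hl => (g7_1 l hl).mono (pset_mono (by decide +kernel)), fun l hl => (g7_2 l hl).mono (pset_mono (by decide +kernel))⟩
  · exact ⟨fun l hl => (g8_1 l hl).mono (pset_mono (by decide +kernel)), fun l hl => (g8_2 l hl).mono (pset_mono (by decide +kernel))⟩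
  · exact ⟨fun l hl => (g9_1 l hl).mono (pset_mono (by decide +kernel)), fun l hl => (g9_2 l hl).mono (pset_mono (by decide +kernel))⟩
  · exact ⟨fun l hl => (g10_1 l hl).mono (pset_mono (by decide +kernel)), fun l hl => (g10_2 l hl).mono (pset_mono (by decide +kernel))⟩
  · exact ⟨fun l hl => (g11_1 l hl).mono (pset_mono (by decide +kernel)), fun l hl => (g11_2 l hl).mono (pset_mono (by decide +kernel))⟩
  · exact ⟨fun l hl => (g12_1 l hl).mono (pset_mono (by decide +kernel)), fun l hl => (g12_2 l hl).mono (pset_mono (by decide +kernel))⟩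
  · exact ⟨fun l hl => (g13_1 l hl).mono (pset_mono (by decide +kernel)), fun l hl => (g13_2 l hl).mono (pset_mono (by decide +kernel))⟩
  · exact ⟨fun l hl => (g14_1 l hl).mono (pset_mono (by decide +kernel)), fun l hl => (g14_2 l hl).mono (pset_mono (by decide +kernel))⟩

theorem chainP {P : List K[X] → ℕ → Prop} (hP : Shrinks P 4) (b4_1 : GP P (pset [g4p] : Set K[X]) ((1 : ℕ) : K) 4) (b4_2 : GP P (pset [g4m] : Set K[X]) ((2 : ℕ) : K) 4) (b5_1 : GP P (pset [g5p] : Set K[X]) ((1 : ℕ) : K) 5) (b5_2 : GP P (pset [g5m] : Set K[X]) ((2 : ℕ) : K) 5) :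
    ∀ d, 4 ≤ d → d ≤ 14 → GP P (pset cs : Set K[X]) ((1 : ℕ) : K) d ∧ GP P (pset cs : Set K[X]) ((2 : ℕ) : K) d := by
  have g4_1 := b4_1
  have g4_2 := b4_2
  have g5_1 := b5_1
  have g5_2 := b5_2
  have g6_1 := GP.stepN (K := K) (q := 3) (by norm_num) hP (a := q2) (Tc := [g4m]) (c := [([2,0,2,1],[0,2])]) (d := 6) (δ := 2) (r := 1)
    (by decide +kernel) g4_2
  have g6_2 := GP.stepN (K := K) (q := 3) (by norm_num) hP (a := q2) (Tc := [g4p]) (c := [([2,0,1,2],[0,1])]) (d := 6) (δ := 1) (r := 2)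
    (by decide +kernel) g4_1
  have g7_1 := GP.stepN (K := K) (q := 3) (by norm_num) hP (a := f3) (Tc := [g4p]) (c := [([2,0,1],[0,2])]) (d := 7) (δ := 1) (r := 1)
    (by decide +kernel) g4_1
  have g7_2 := GP.stepN (K := K) (q := 3) (by norm_num) hP (a := f3) (Tc := [g4m]) (c := [([0,2,2,2],[2,1,1])]) (d := 7) (δ := 2) (r := 2)
    (by decide +kernel) g4_2
  have g8_1 := GP.stepN (K := K) (q := 3) (by norm_num) hP (a := f3) (Tc := [g5p]) (c := [([1,1,2,1],[1,2])]) (d := 8) (δ := 1) (r := 1)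
    (by decide +kernel) g5_1
  have g8_2 := GP.stepN (K := K) (q := 3) (by norm_num) hP (a := f3) (Tc := [g5m]) (c := [([2,2,0,2],[0,1])]) (d := 8) (δ := 2) (r := 2)
    (by decide +kernel) g5_2
  have g9_1 := GP.stepN (K := K) (q := 3) (by norm_num) hP (a := f4) (Tc := [g5p]) (c := [([2,0,1,2,2],[1,0,1,1])]) (d := 9) (δ := 1) (r := 1)
    (by decide +kernel) g5_1
  have g9_2 := GP.stepN (K := K) (q := 3) (by norm_num) hP (a := f4) (Tc := [g5m]) (c := [([2,2,0,0,2],[2,1,0,1])]) (d := 9) (δ := 2) (r := 2)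
    (by decide +kernel) g5_2
  have g10_1 := GP.stepN (K := K) (q := 3) (by norm_num) hP (a := f4) (Tc := [q2,g4m]) (c := [([1],[0,1,2]),([1,1,2,2],[0,2,1,1])]) (d := 10) (δ := 1) (r := 1)
    (by decide +kernel) g6_1
  have g10_2 := GP.stepN (K := K) (q := 3) (by norm_num) hP (a := f4) (Tc := [q2,g4p]) (c := [([1],[0,1,2]),([2,1,0,1],[2,2,0,2])]) (d := 10) (δ := 2) (r := 2)
    (by decide +kernel) g6_2
  have g11_1 := GP.stepN (K := K) (q := 3) (by norm_num) hP (a := f5) (Tc := [q2,g4m]) (c := [([1,2],[1,1,0,1,1]),([2,2,1,2],[0,2,0,2,1])]) (d := 11) (δ := 1) (r := 1)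
    (by decide +kernel) g6_1
  have g11_2 := GP.stepN (K := K) (q := 3) (by norm_num) hP (a := f5) (Tc := [q2,g4p]) (c := [([1,2],[1,1,0,1,1]),([1,1,0,1],[2,1,0,0,2])]) (d := 11) (δ := 2) (r := 2)
    (by decide +kernel) g6_2
  have g12_1 := GP.stepN (K := K) (q := 3) (by norm_num) hP (a := f5) (Tc := [f3,g4p]) (c := [([1,1,2],[1,0,0,2,1]),([1,1,0,1],[2,1,0,0,2])]) (d := 12) (δ := 1) (r := 1)
    (by decide +kernel) g7_1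
  have g12_2 := GP.stepN (K := K) (q := 3) (by norm_num) hP (a := f5) (Tc := [f3,g4m]) (c := [([1,1,2],[1,0,0,2,1]),([2,2,1,2],[0,2,0,2,1])]) (d := 12) (δ := 2) (r := 2)
    (by decide +kernel) g7_2
  have g13_1 := GP.stepN (K := K) (q := 3) (by norm_num) hP (a := f6) (Tc := [f3,g4p]) (c := [([1,1,1],[0,2,1,1,2,2]),([1,0,1],[0,2,0,0,2])]) (d := 13) (δ := 1) (r := 1)
    (by decide +kernel) g7_1
  have g13_2 := GP.stepN (K := K) (q := 3) (by norm_num) hP (a := f6) (Tc := [f3,g4m]) (c := [([1,1,1],[0,2,1,1,2,2]),([0,1,0,1],[2,1,0,0,0,2])]) (d := 13) (δ := 2) (r := 2)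
    (by decide +kernel) g7_2
  have g14_1 := GP.stepN (K := K) (q := 3) (by norm_num) hP (a := f6) (Tc := [f3,g5p]) (c := [([1,1,1],[0,2,1,1,2,2]),([0,2,2,1],[2,1,1,1,2])]) (d := 14) (δ := 1) (r := 1)
    (by decide +kernel) g8_1
  have g14_2 := GP.stepN (K := K) (q := 3) (by norm_num) hP (a := f6) (Tc := [f3,g5m]) (c := [([1,1,1],[0,2,1,1,2,2]),([0,1,0,1],[1,0,2,0,2])]) (d := 14) (δ := 2) (r := 2)
    (by decide +kernel) g8_2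
  intro d h1 h2
  interval_cases d
  · exact ⟨fun l hl => (g4_1 l hl).mono (pset_mono (by decide +kernel)), fun l hl => (g4_2 l hl).mono (pset_mono (by decide +kernel))⟩
  · exact ⟨fun l hl => (g5_1 l hl).mono (pset_mono (by decide +kernel)), fun l hl => (g5_2 l hl).mono (pset_mono (by decide +kernel))⟩
  · exact ⟨fun l hl => (g6_1 l hl).mono (pset_mono (by decide +kernel)), fun l hl => (g6_2 l hl).mono (pset_mono (by decide +kernel))⟩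
  · exact ⟨fun l hl => (g7_1 l hl).mono (pset_mono (by decide +kernel)), fun l hl => (g7_2 l hl).mono (pset_mono (by decide +kernel))⟩
  · exact ⟨fun l hl => (g8_1 l hl).mono (pset_mono (by decide +kernel)), fun l hl => (g8_2 l hl).mono (pset_mono (by decide +kernel))⟩
  · exact ⟨fun l hl => (g9_1 l hl).mono (pset_mono (by decide +kernel)), fun l hl => (g9_2 l hl).mono (pset_mono (by decide +kernel))⟩
  · exact ⟨fun l hl => (g10_1 l hl).mono (pset_mono (by decide +kernel)), fun l hl => (g10_2 l hl).mono (pset_mono (by decide +kernel))⟩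
  · exact ⟨fun l hl => (g11_1 l hl).mono (pset_mono (by decide +kernel)), fun l hl => (g11_2 l hl).mono (pset_mono (by decide +kernel))⟩
  · exact ⟨fun l hl => (g12_1 l hl).mono (pset_mono (by decide +kernel)), fun l hl => (g12_2 l hl).mono (pset_mono (by decide +kernel))⟩
  · exact ⟨fun l hl => (g13_1 l hl).mono (pset_mono (by decide +kernel)), fun l hl => (g13_2 l hl).mono (pset_mono (by decide +kernel))⟩
  · exact ⟨fun l hl => (g14_1 l hl).mono (pset_mono (by decide +kernel)), fun l hl => (g14_2 l hl).mono (pset_mono (by decide +kernel))⟩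

end H31.Com.D3
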