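import Cfsg.Agent.H89.CN.Decomp

/-!
Commutators `A P A⁻¹ P⁻¹` with a prescribed annihilating polynomial for `A`, and the corner step.
-/

set_option autoImplicit false
set_option linter.unusedSectionVars false

namespace H31.Com

open Matrix Polynomial
open H89.CN (Sim)

variable {K : Type*} [Field K] {ι κ : Type*} [Fintype ι] [DecidableEq ι] [Fintype κ] [DecidableEq κ]

/-- `M = A P A⁻¹ P⁻¹` with `det A = ε`, `det P = 1` and `Φ(A) = 0`. -/
def Fac (Φ : K[X]) (ε : K) (M : Matrix ι ι K) : Prop :=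
  ∃ A P : Matrix ι ι K, A.det = ε ∧ P.det = 1 ∧ aeval A Φ = 0 ∧ M * P * A = A * P

theorem aeval_fromBlocks (A : Matrix ι ι K) (B : Matrix κ κ K) (p : K[X]) :
    aeval (fromBlocks A 0 0 B) p = fromBlocks (aeval A p) 0 0 (aeval B p) := by
  induction p using Polynomial.induction_on' with
  | add p q hp hq => simp [map_add, hp, hq, fromBlocks_add]
  | monomial n a =>
    rw [aeval_monomial, aeval_monomial, aeval_monomial]
    have h : ∀ k : ℕ, fromBlocks A 0 0 B ^ k = fromBlocks (A ^ k) 0 0 (B ^ k) := by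
      intro k
      induction k with
      | zero => simp
      | succ k ih => rw [pow_succ, ih, fromBlocks_multiply]; simp [pow_succ]
    rw [h, ← Algebra.smul_def, ← Algebra.smul_def, ← Algebra.smul_def, fromBlocks_smul, smul_zero, smul_zero]

theorem aeval_reindex (e : ι ≃ κ) (A : Matrix ι ι K) (p : K[X]) :
    aeval (Matrix.reindex e e A) p = Matrix.reindex e e (aeval A p) :=
  aeval_algHom_apply (Matrix.reindexAlgEquiv K K e).toAlgHom A p

theorem aeval_conj {P A B : Matrix ι ι K} (h : P * A = B * P) (p : K[X]) :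
    P * aeval A p = aeval B p * P := by
  induction p using Polynomial.induction_on' with
  | add p q hp hq => simp [map_add, Matrix.mul_add, Matrix.add_mul, hp, hq]
  | monomial n a =>
    have hk : ∀ k : ℕ, P * A ^ k = B ^ k * P := by
      intro k
      induction k with
      | zero => simp
      | succ k ih => rw [pow_succ, ← Matrix.mul_assoc, ih, Matrix.mul_assoc, h, ← Matrix.mul_assoc, ← pow_succ]
    rw [aeval_monomial, aeval_monomial, ← Algebra.smul_def, ← Algebra.smul_def, Matrix.mul_smul, hk,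
      Matrix.smul_mul]

theorem Fac.of_sim {Φ : K[X]} {ε : K} {M M' : Matrix ι ι K} (h : Fac Φ ε M') (hs : Sim M M') : Fac Φ ε M := by
  obtain ⟨A, P, hA, hP, hΦ, hM⟩ := h
  obtain ⟨S, hS, he⟩ := hs.symm
  have hS' : S⁻¹ * S = 1 := Matrix.nonsing_inv_mul _ hS
  refine ⟨S * A * S⁻¹, S * P * S⁻¹, ?_, ?_, ?_, ?_⟩
  · rw [det_mul_right_comm, Matrix.mul_nonsing_inv _ hS, Matrix.one_mul, hA]
  · rw [det_mul_right_comm, Matrix.mul_nonsing_inv _ hS, Matrix.one_mul, hP]
  · have h1 := aeval_conj (P := S) (A := A) (B := S * A * S⁻¹)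
      (by rw [Matrix.mul_assoc _ S⁻¹, hS', Matrix.mul_one]) Φ
    rw [hΦ, Matrix.mul_zero] at h1
    have h2 := congrArg (· * S⁻¹) h1.symm
    simpa [Matrix.mul_assoc, Matrix.mul_nonsing_inv _ hS] using h2
  · calc M * (S * P * S⁻¹) * (S * A * S⁻¹) = (M * S) * P * (S⁻¹ * S) * A * S⁻¹ := by
          simp only [Matrix.mul_assoc]
      _ = S * (M' * P * A) * S⁻¹ := by rw [hS', Matrix.mul_one, ← he]; simp only [Matrix.mul_assoc]
      _ = S * A * (S⁻¹ * S) * P * S⁻¹ := by rw [hM, hS', Matrix.mul_one]; simp only [Matrix.mul_assoc]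
      _ = _ := by simp only [Matrix.mul_assoc]

theorem Fac.reindex {Φ : K[X]} {ε : K} {M : Matrix ι ι K} (h : Fac Φ ε M) (e : ι ≃ κ) :
    Fac Φ ε (Matrix.reindex e e M) := by
  obtain ⟨A, P, hA, hP, hΦ, hM⟩ := h
  refine ⟨Matrix.reindex e e A, Matrix.reindex e e P, by rwa [det_reindex_self], by rwa [det_reindex_self], ?_, ?_⟩
  · rw [aeval_reindex, hΦ]; rfl
  · simp only [reindex_apply, submatrix_mul_equiv, hM]

theorem Fac.sum {Φ Ψ : K[X]} {ε δ : K} {M : Matrix ι ι K} {N : Matrix κ κ K} (h : Fac Φ ε M) (h' : Fac Ψ δ N) :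
    Fac (Φ * Ψ) (ε * δ) (fromBlocks M 0 0 N) := by
  obtain ⟨A, P, hA, hP, hΦ, hM⟩ := h
  obtain ⟨B, Q, hB, hQ, hΨ, hN⟩ := h'
  refine ⟨fromBlocks A 0 0 B, fromBlocks P 0 0 Q, by rw [det_fromBlocks_zero₁₂, hA, hB],
    by rw [det_fromBlocks_zero₁₂, hP, hQ, mul_one], ?_, ?_⟩
  · rw [aeval_fromBlocks, map_mul, map_mul, hΦ, hΨ, Matrix.zero_mul, Matrix.mul_zero, fromBlocks_zero]
  · simp [fromBlocks_multiply, hM, hN]

theorem Fac.one {Φ : K[X]} {ε : K} (A : Matrix ι ι K) (hd : A.det = ε) (hΦ : aeval A Φ = 0) :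
    Fac Φ ε (1 : Matrix ι ι K) :=
  ⟨A, 1, hd, det_one, hΦ, by simp⟩

/-- No nonzero intertwiner between coprime annihilators. -/
theorem intertwine_eq_zero {p q : K[X]} (hpq : IsCoprime p q) {A : Matrix ι ι K} {B : Matrix κ κ K}
    (hA : aeval A p = 0) (hB : aeval B q = 0) {Z : Matrix κ ι K} (h : Z * A = B * Z) : Z = 0 := by
  have key : ∀ f : K[X], Z * aeval A f = aeval B f * Z := by
    intro f
    induction f using Polynomial.induction_on' with
    | add f g hf hg => simp [map_add, Matrix.mul_add, Matrix.add_mul, hf, hg]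
    | monomial n a =>
      have hk : ∀ k : ℕ, Z * A ^ k = B ^ k * Z := by
        intro k
        induction k with
        | zero => simp
        | succ k ih => rw [pow_succ, ← Matrix.mul_assoc, ih, Matrix.mul_assoc, h, ← Matrix.mul_assoc, ← pow_succ]
      rw [aeval_monomial, aeval_monomial, ← Algebra.smul_def, ← Algebra.smul_def, Matrix.mul_smul, hk,
        Matrix.smul_mul]
  obtain ⟨a, b, hab⟩ := hpq
  have h1 := key (a * p + b * q)
  rw [hab, map_one, Matrix.mul_one] at h1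
  have h2 := key (a * p)
  rw [map_mul, hA, Matrix.mul_zero, Matrix.mul_zero] at h2
  rw [map_one, Matrix.one_mul] at *
  have h3 : Z = aeval B (a * p) * Z + aeval B (b * q) * Z := by
    rw [← Matrix.add_mul, ← map_add, hab, map_one, Matrix.one_mul]
  rw [← h2, map_mul, hB, Matrix.mul_zero, Matrix.zero_mul, add_zero] at h3
  exact h3

theorem exists_sylvester {p q : K[X]} (hpq : IsCoprime p q) {A : Matrix ι ι K} {B : Matrix κ κ K}
    (hA : aeval A p = 0) (hB : aeval B q = 0) (c : Matrix κ ι K) : ∃ Z : Matrix κ ι K, Z * A - B * Z = c := by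
  let f : Matrix κ ι K →ₗ[K] Matrix κ ι K :=
    { toFun := fun Z => Z * A - B * Z
      map_add' := fun Z W => by rw [Matrix.add_mul, Matrix.mul_add]; abel
      map_smul' := fun r Z => by rw [Matrix.smul_mul, Matrix.mul_smul, RingHom.id_apply, smul_sub] }
  have hf : Function.Injective f := (injective_iff_map_eq_zero f).2 fun Z hZ =>
    intertwine_eq_zero hpq hA hB (sub_eq_zero.1 hZ)
  exact LinearMap.injective_iff_surjective.1 hf c

/-- The corner step. -/
theorem Fac.corner {Φ Ψ : K[X]} {ε δ : K} (hcop : IsCoprime Φ Ψ) (hε : ε ≠ 0) (hδ : δ ≠ 0)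
    {A : Matrix ι ι K} (hA : A.det = ε) (hAΦ : aeval A Φ = 0) {N : Matrix κ κ K} (h : Fac Ψ δ N)
    (r : Matrix ι κ K) (c : Matrix κ ι K) :
    Fac (Φ * Ψ) (ε * δ) (fromBlocks 1 r c (c * r + N)) := by
  obtain ⟨B, Q, hB, hQ, hBΨ, hN⟩ := h
  have uA : IsUnit A.det := IsUnit.mk0 _ (by rw [hA]; exact hε)
  have uB : IsUnit B.det := IsUnit.mk0 _ (by rw [hB]; exact hδ)
  have uQ : IsUnit Q.det := by rw [hQ]; exact isUnit_one
  obtain ⟨Z, hZ⟩ := exists_sylvester hcop hAΦ hBΨ (c * A)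
  -- the second factor
  obtain ⟨W, hW⟩ := exists_sylvester hcop.symm hBΨ hAΦ (-(r * Q * B))
  -- W * B - A * W = - r Q B
  refine ⟨fromBlocks 1 0 Z 1 * fromBlocks A 0 0 B * fromBlocks 1 0 (-Z) 1,
    fromBlocks 1 (W * Q⁻¹) 0 1 * fromBlocks 1 0 0 Q * fromBlocks 1 0 (-Z) 1, ?_, ?_, ?_, ?_⟩
  · simp [det_mul, hA, hB]
  · simp [det_mul, hQ]
  · have h1 := aeval_conj (P := fromBlocks 1 0 Z 1) (A := fromBlocks A 0 0 B)
      (B := fromBlocks 1 0 Z 1 * fromBlocks A 0 0 B * fromBlocks 1 0 (-Z) 1)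
      (by simp [fromBlocks_multiply]) (Φ * Ψ)
    rw [aeval_fromBlocks, map_mul, map_mul, hAΦ, hBΨ, Matrix.zero_mul, Matrix.mul_zero, fromBlocks_zero,
      Matrix.mul_zero] at h1
    have h2 := congrArg (· * fromBlocks 1 0 (-Z) 1) h1.symm
    simpa [Matrix.mul_assoc, fromBlocks_multiply] using h2
  · have hW' : A * W = W * B + r * Q * B := by
      calc A * W = W * B - (W * B - A * W) := by abel
        _ = W * B + r * Q * B := by rw [hW, sub_neg_eq_add]
    have hL : fromBlocks 1 r c (c * r + N) * fromBlocks 1 W 0 Q * fromBlocks A 0 0 B =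
        fromBlocks A 0 (c * A) B * fromBlocks 1 W 0 Q := by
      simp only [fromBlocks_multiply, Matrix.mul_one, Matrix.one_mul, Matrix.mul_zero, Matrix.zero_mul,
        add_zero, zero_add]
      congr 1
      · rw [hW', Matrix.add_mul]
      · rw [Matrix.mul_assoc c A W, hW', Matrix.add_mul, Matrix.add_mul, ← hN, Matrix.mul_add c (W * B)]
        simp only [Matrix.add_mul, Matrix.mul_assoc, add_assoc]
    have hT : fromBlocks 1 0 Z 1 * fromBlocks A 0 0 B * fromBlocks 1 0 (-Z) 1 = fromBlocks A 0 (c * A) B := by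
      simp [fromBlocks_multiply, ← hZ, sub_eq_add_neg]
    have hP : fromBlocks (1 : Matrix ι ι K) (W * Q⁻¹) 0 (1 : Matrix κ κ K) *
        fromBlocks (1 : Matrix ι ι K) 0 0 Q = fromBlocks 1 W 0 Q := by
      simp [fromBlocks_multiply, Matrix.mul_assoc, Matrix.nonsing_inv_mul _ uQ]
    have hTT : fromBlocks 1 0 (-Z) 1 * fromBlocks 1 0 Z 1 = (1 : Matrix (ι ⊕ κ) (ι ⊕ κ) K) := by
      simp [fromBlocks_multiply]
    rw [hP]
    calc fromBlocks 1 r c (c * r + N) * (fromBlocks 1 W 0 Q * fromBlocks 1 0 (-Z) 1) *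
          (fromBlocks 1 0 Z 1 * fromBlocks A 0 0 B * fromBlocks 1 0 (-Z) 1)
        = fromBlocks 1 r c (c * r + N) * fromBlocks 1 W 0 Q * (fromBlocks 1 0 (-Z) 1 * fromBlocks 1 0 Z 1) *
            fromBlocks A 0 0 B * fromBlocks 1 0 (-Z) 1 := by simp only [Matrix.mul_assoc]
      _ = fromBlocks A 0 (c * A) B * (fromBlocks 1 W 0 Q * fromBlocks 1 0 (-Z) 1) := by
          rw [hTT, Matrix.mul_one, hL, Matrix.mul_assoc]
      _ = _ := by rw [hT]

end H31.Com
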