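import Cfsg.Agent.H31.Commutator.Big
import Cfsg.Agent.H31.Commutator.Cert

/-!
Factorisations over five elements in even dimension, through a corner of size two.
-/

set_option autoImplicit false
set_option linter.style.haveILetI false
set_option linter.unusedSectionVars false

namespace H31.Com.Five

open Matrix Polynomial H21.ClassSquare H41 H41.Reg
open H89.CN (Sim)

variable {K : Type*} [Field K]

section general

variable {ι κ : Type*} [Fintype ι] [DecidableEq ι] [Fintype κ] [DecidableEq κ]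

/-- A corner which is a commutator. -/
theorem corner_any {Φ Ψ : K[X]} {ε δ : K} (hcop : IsCoprime Φ Ψ) (hε : ε ≠ 0) (hδ : δ ≠ 0)
    {C Ci A P₀ : Matrix ι ι K} (hC : Ci * C = 1) (hA : A.det = ε) (hAΦ : aeval A Φ = 0)
    (hP₀ : C * P₀ * A = A * P₀) {N B Q : Matrix κ κ K} (hB : B.det = δ) (hBΨ : aeval B Ψ = 0)
    (hN : N * Q * B = B * Q) (hPQ : P₀.det * Q.det = 1) (R : Matrix ι κ K) (L : Matrix κ ι K) :
    Fac (Φ * Ψ) (ε * δ) (fromBlocks C R L (L * Ci * R + N)) := by
  have hP0 : P₀ * A = Ci * A * P₀ := by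
    calc P₀ * A = Ci * C * (P₀ * A) := by rw [hC, Matrix.one_mul]
      _ = Ci * (C * P₀ * A) := by simp only [Matrix.mul_assoc]
      _ = _ := by rw [hP₀]; simp only [Matrix.mul_assoc]
  have hCi : C * Ci = 1 := mul_eq_one_comm.1 hC
  have hEΦ : aeval (Ci * A) Φ = 0 := by
    have h := aeval_conj hP0 Φ
    rw [hAΦ, Matrix.mul_zero] at h
    have hu : IsUnit P₀.det := IsUnit.of_mul_eq_one _ hPQ
    have h' := congrArg (· * P₀⁻¹) h.symm
    simpa [Matrix.mul_assoc, Matrix.mul_nonsing_inv _ hu] using h'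
  obtain ⟨W, hW⟩ := exists_sylvester hcop.symm hBΨ hEΦ (-(Ci * R * Q * B))
  obtain ⟨Z, hZ⟩ := exists_sylvester hcop hAΦ hBΨ (L * Ci * A)
  refine ⟨fromBlocks 1 0 Z 1 * fromBlocks A 0 0 B * fromBlocks 1 0 (-Z) 1,
    fromBlocks P₀ W 0 Q * fromBlocks 1 0 (-Z) 1, ?_, ?_, ?_, ?_⟩
  · simp [det_mul, hA, hB]
  · simp [det_mul, hPQ]
  · have h1 := aeval_conj (P := fromBlocks 1 0 Z 1) (A := fromBlocks A 0 0 B)
      (B := fromBlocks 1 0 Z 1 * fromBlocks A 0 0 B * fromBlocks 1 0 (-Z) 1)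
      (by simp [fromBlocks_multiply]) (Φ * Ψ)
    rw [aeval_fromBlocks, map_mul, map_mul, hAΦ, hBΨ, Matrix.zero_mul, Matrix.mul_zero, fromBlocks_zero,
      Matrix.mul_zero] at h1
    have h2 := congrArg (· * fromBlocks 1 0 (-Z) 1) h1.symm
    simpa [Matrix.mul_assoc, fromBlocks_multiply] using h2
  · have hW' : A * W = C * W * B + R * Q * B := by
      have h := congrArg (C * ·) hW
      simp only [Matrix.mul_sub, Matrix.mul_neg, ← Matrix.mul_assoc, hCi, Matrix.one_mul] at h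
      rw [sub_eq_iff_eq_add] at h
      rw [h]; abel
    have hL : fromBlocks C R L (L * Ci * R + N) * fromBlocks P₀ W 0 Q * fromBlocks A 0 0 B =
        fromBlocks A 0 (L * Ci * A) B * fromBlocks P₀ W 0 Q := by
      simp only [fromBlocks_multiply, Matrix.mul_zero, Matrix.zero_mul, add_zero, zero_add]
      congr 1
      · rw [hW', Matrix.add_mul]
      · rw [Matrix.mul_assoc L P₀ A, hP0]; simp only [Matrix.mul_assoc]
      · rw [Matrix.mul_assoc (L * Ci) A W, hW', Matrix.mul_add, Matrix.add_mul, Matrix.add_mul, Matrix.add_mul, ← hN]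
        simp only [Matrix.mul_assoc]
        rw [← Matrix.mul_assoc Ci C, hC, Matrix.one_mul]
        abel
    have hT : fromBlocks 1 0 Z 1 * fromBlocks A 0 0 B * fromBlocks 1 0 (-Z) 1 = fromBlocks A 0 (L * Ci * A) B := by
      simp [fromBlocks_multiply, ← hZ, sub_eq_add_neg]
    have hTT : fromBlocks 1 0 (-Z) 1 * fromBlocks 1 0 Z 1 = (1 : Matrix (ι ⊕ κ) (ι ⊕ κ) K) := by
      simp [fromBlocks_multiply]
    calc fromBlocks C R L (L * Ci * R + N) * (fromBlocks P₀ W 0 Q * fromBlocks 1 0 (-Z) 1) *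
          (fromBlocks 1 0 Z 1 * fromBlocks A 0 0 B * fromBlocks 1 0 (-Z) 1)
        = fromBlocks C R L (L * Ci * R + N) * fromBlocks P₀ W 0 Q * (fromBlocks 1 0 (-Z) 1 * fromBlocks 1 0 Z 1) *
            fromBlocks A 0 0 B * fromBlocks 1 0 (-Z) 1 := by simp only [Matrix.mul_assoc]
      _ = fromBlocks A 0 (L * Ci * A) B * (fromBlocks P₀ W 0 Q * fromBlocks 1 0 (-Z) 1) := by
          rw [hTT, Matrix.mul_one, hL, Matrix.mul_assoc]
      _ = _ := by rw [hT]

/-- Completing independent vectors to a base change. -/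
theorem exists_cols {j : ℕ} (s : Fin j → ι) (hs : Function.Injective s) {w : Fin j → ι → K}
    (hw : LinearIndependent K w) : ∃ P : Matrix ι ι K, IsUnit P.det ∧ ∀ i x, P x (s i) = w i x := by
  classical
  let b := Module.Basis.sumExtend hw
  haveI : Finite (Fin j ⊕ Module.Basis.sumExtendIndex hw) := Module.Finite.finite_basis b
  haveI : Fintype (Module.Basis.sumExtendIndex hw) := by
    haveI : Finite (Module.Basis.sumExtendIndex hw) := Finite.sum_right (Fin j)
    exact Fintype.ofFinite _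
  have hc : Fintype.card (Module.Basis.sumExtendIndex hw) = Fintype.card ↥(Set.range s)ᶜ := by
    have h := Module.finrank_eq_card_basis b
    rw [Module.finrank_fintype_fun_eq_card, Fintype.card_sum, Fintype.card_fin] at h
    rw [Fintype.card_compl_set, Set.card_range_of_injective hs, Fintype.card_fin]
    omega
  let e : Fin j ⊕ Module.Basis.sumExtendIndex hw ≃ ι :=
    ((Equiv.ofInjective s hs).sumCongr (Fintype.equivOfCardEq hc)).trans (Equiv.Set.sumCompl _)
  let b' := b.reindex e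
  refine ⟨(Pi.basisFun K ι).toMatrix b', ?_, fun i x => ?_⟩
  · letI := (Pi.basisFun K ι).invertibleToMatrix b'
    exact Matrix.isUnit_det_of_invertible _
  · have he : e.symm (s i) = Sum.inl i := by
      rw [Equiv.symm_apply_eq]; simp [e]
    simp [b', Module.Basis.toMatrix_apply, he, b, Module.Basis.sumExtend]
    rfl

end general

variable [CharP K 5] [Fintype K]

/-- The quadratic side polynomial. -/
noncomputable def qq : K[X] := ofL ([4, 2] ++ [1])

/-- Corners which are commutators with a prescribed determinant. -/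
def Good (C : Matrix (Fin 2) (Fin 2) K) : Prop :=
  ∀ t : K, t ≠ 0 → ∃ A P : Matrix (Fin 2) (Fin 2) K, aeval A (qq : K[X]) = 0 ∧ A.det = 4 ∧ P.det = t ∧
    C * P * A = A * P

theorem good_of (hK : Fintype.card K = 5) (C A : Matrix (Fin 2) (Fin 2) (ZMod 5))
    (f : ZMod 5 → Matrix (Fin 2) (Fin 2) (ZMod 5)) (hA : A * A + 2 • A + 4 • 1 = 0)
    (hd : A 0 0 * A 1 1 - A 0 1 * A 1 0 = 4)
    (hf : ∀ t : ZMod 5, t ≠ 0 → f t 0 0 * f t 1 1 - f t 0 1 * f t 1 0 = t ∧ C * f t * A = A * f t) :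
    Good (C.map (ZMod.castHom (dvd_refl 5) K)) := by
  intro t ht
  haveI := Fact.mk (show Nat.Prime 5 by norm_num)
  let ψ : ZMod 5 →+* K := ZMod.castHom (dvd_refl 5) K
  obtain ⟨s, rfl⟩ : ∃ s, ψ s = t := ((Fintype.bijective_iff_injective_and_card ψ).2
    ⟨ψ.injective, by rw [ZMod.card, hK]⟩).surjective t
  obtain ⟨h1, h2⟩ := hf s fun e => ht (by rw [e, map_zero])
  refine ⟨ψ.mapMatrix A, ψ.mapMatrix (f s), ?_, ?_, ?_, ?_⟩
  · have h := congrArg ψ.mapMatrix hA
    rw [map_add, map_add, map_mul, map_nsmul, map_nsmul, map_one, map_zero] at h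
    simp only [qq, ofL, List.cons_append, List.nil_append, map_add, map_mul, aeval_C, aeval_X, mul_zero, add_zero,
      Nat.cast_one, Nat.cast_ofNat, map_one, mul_one]
    rw [← h, show algebraMap K (Matrix (Fin 2) (Fin 2) K) 2 = 2 from map_ofNat _ 2,
      show algebraMap K (Matrix (Fin 2) (Fin 2) K) 4 = 4 from map_ofNat _ 4, Matrix.mul_add]
    simp only [nsmul_eq_mul, mul_one, Nat.cast_ofNat]
    have hc : ∀ M : Matrix (Fin 2) (Fin 2) K, M * 2 = 2 * M := fun M => by rw [mul_two, two_mul]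
    rw [hc]; abel
  · rw [← RingHom.map_det, det_fin_two, hd]; exact map_ofNat ψ 4
  · rw [← RingHom.map_det, det_fin_two, h1]
  · show ψ.mapMatrix C * _ * _ = _
    rw [← map_mul, ← map_mul, h2, map_mul]

theorem bz {p r u v : List ℕ} (h : bez 5 p r u v = true) : IsCoprime (ofL p : K[X]) (ofL r) := coprime_of_bez h

theorem rev' {a : List ℕ} (h : (a.getD 0 0 % 5 != 0) = true) :
    (ofL (a ++ [1]) : K[X]).reverse = ofL (a ++ [1]).reverse :=
  reverse_ofL (by simp) (by simp)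

/-- The linear side polynomial. -/
noncomputable def ll : K[X] := ofL ([3] ++ [1])

theorem ll_eq : (ll : K[X]) = X - C 2 := by
  have h : ((3 : ℕ) : K) = -2 := by
    rw [eq_neg_iff_add_eq_zero]; exact_mod_cast (CharP.cast_eq_zero K 5)
  simp [ll, ofL, ← sub_neg_eq_add]
  rw [show (3 : K) = -2 from by exact_mod_cast h, C_neg]; ring

theorem free_prod (k : ℕ) :
    IsCoprime ((qq : K[X]) * ll ^ k) ((qq : K[X]) * ll ^ k).reverse ∧
      IsCoprime ((qq : K[X]) * ll ^ k) (X - Polynomial.C 1) := by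
  have e1 : (X - Polynomial.C 1 : K[X]) = ofL ([4] ++ [1]) := by
    have h : ((4 : ℕ) : K) = -1 := by
      rw [eq_neg_iff_add_eq_zero]; exact_mod_cast (CharP.cast_eq_zero K 5)
    simp only [ofL, List.cons_append, List.nil_append, h, C_neg, Nat.cast_one, map_one]; ring
  constructor
  · rw [reverse_mul_of_domain, reverse_pow, qq, ll, rev' (by decide), rev' (by decide)]
    exact (((bz (u := [2, 4]) (v := [3, 4]) (by decide)).mul_right
      ((bz (u := [4]) (v := [0, 2]) (by decide)).pow_right)).mul_left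
      ((((bz (u := [0, 1]) (v := [1]) (by decide)).mul_right
        ((bz (u := [1]) (v := [3]) (by decide)).pow_right))).pow_left))
  · rw [e1, qq, ll]
    exact (bz (u := [3]) (v := [1, 2]) (by decide)).mul_left ((bz (u := [4]) (v := [1]) (by decide)).pow_left)

theorem coprime_qq_ll (k : ℕ) : IsCoprime (qq : K[X]) (ll ^ k) :=
  (bz (p := [4, 2] ++ [1]) (r := [3] ++ [1]) (u := [3]) (v := [3, 2]) (by decide)).pow_right

theorem of_blocks (hK : Fintype.card K = 5) {n : ℕ} (hn : 1 ≤ n) {C Ci : Matrix (Fin 2) (Fin 2) K} (hg : Good C)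
    (hCi : Ci * C = 1) (R : Matrix (Fin 2) (Fin (n + 1)) K) (L : Matrix (Fin (n + 1)) (Fin 2) K)
    (D : Matrix (Fin (n + 1)) (Fin (n + 1)) K) (hdet : (fromBlocks C R L D).det = 1)
    (hns : ∀ μ : K, D - L * Ci * R ≠ μ • 1) :
    Fac ((qq : K[X]) * ll ^ (n + 1)) (4 * 2 ^ (n + 1)) (fromBlocks C R L D) := by
  obtain ⟨N, hN⟩ : ∃ N, N = D - L * Ci * R := ⟨_, rfl⟩
  rw [← hN] at hns
  have hD : D = L * Ci * R + N := by rw [hN]; abel
  have h2 : (2 : K) ≠ 0 := fun e => by
    have := (CharP.cast_eq_zero_iff K 5 2).1 (by exact_mod_cast e); omega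
  have h4 : (4 : K) ≠ 0 := fun e => by
    have := (CharP.cast_eq_zero_iff K 5 4).1 (by exact_mod_cast e); omega
  -- the determinant of the complement
  have hdC : C.det = 1 := by
    obtain ⟨A, P, -, hA, hP, hCPA⟩ := hg 1 one_ne_zero
    have := congrArg Matrix.det hCPA
    rw [det_mul, det_mul, det_mul, hA, hP, mul_one, mul_one] at this
    exact (mul_left_eq_self₀.1 this).resolve_right h4
  have hdN : N.det = 1 := by
    have e : fromBlocks C R L D = fromBlocks 1 0 (L * Ci) 1 * fromBlocks C R 0 N := by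
      simp [fromBlocks_multiply, hD, Matrix.mul_assoc L Ci C, hCi]
    rw [e, det_mul, det_fromBlocks_zero₁₂, det_fromBlocks_zero₂₁, det_one, hdC] at hdet
    simpa using hdet
  set l : Kˣ := Units.mk0 2 h2
  obtain ⟨x, y, hx, hy, hxy⟩ := pair_scal_inv (n := n) (by omega) l
    (GeneralLinearGroup.mk'' N (by rw [hdN]; exact isUnit_one)) (Or.inr hns) hdN
  set a : GL (Fin (n + 1)) K := scal l * jordanGL K (n + 1) with ha
  have hai : IsConj a⁻¹ (scal l⁻¹ * jordanGL K (n + 1)) := by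
    refine IsConj.symm ?_
    rw [ha, _root_.mul_inv_rev, show (scal l : GL (Fin (n + 1)) K)⁻¹ = scal l⁻¹ from (map_inv _ _).symm,
      ← (scal_comm l⁻¹ _).eq]
    exact isConj_scal_mul _ (isConj_jordan_inv (Nat.succ_pos _))
  obtain ⟨g, hgx⟩ := isConj_iff.1 hx
  obtain ⟨h, hhy⟩ := isConj_iff.1 (hai.trans hy)
  obtain ⟨A, P, hAq, hA, hP, hCPA⟩ := hg ((h * g⁻¹ : GL (Fin (n + 1)) K).val.det)⁻¹
    (inv_ne_zero ((isUnit_iff_isUnit_det _).1 (h * g⁻¹).isUnit).ne_zero)
  have hxl : aeval x.val ((ll : K[X]) ^ (n + 1)) = 0 := by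
    have h0 : aeval a.val ((ll : K[X]) ^ (n + 1)) = 0 := by
      rw [ll_eq, ha, Units.val_mul, coe_scal, coe_jordanGL, smul_mul, Matrix.one_mul]
      exact aeval_scalJordan (2 : K)
    have hc := aeval_conj (P := g.val) (A := a.val) (B := x.val)
      (by rw [← Units.val_mul, ← Units.val_mul, ← hgx, inv_mul_cancel_right]) ((ll : K[X]) ^ (n + 1))
    rw [h0, Matrix.mul_zero] at hc
    have := congrArg (· * (g⁻¹).val) hc.symm
    simpa [Matrix.mul_assoc, ← Units.val_mul] using this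
  have hxd : x.val.det = 2 ^ (n + 1) := by
    rw [← hgx, Units.val_mul, Units.val_mul, det_units_conj, ha, Units.val_mul, coe_scal, coe_jordanGL, smul_mul,
      Matrix.one_mul, det_smul, det_jordan, mul_one, Fintype.card_fin]
    rfl
  rw [hD]
  refine corner_any (coprime_qq_ll _) h4 (pow_ne_zero _ h2) hCi hA hAq hCPA (B := x.val) (Q := (h * g⁻¹).val)
    hxd hxl ?_ (by rw [hP, inv_mul_cancel₀ ((isUnit_iff_isUnit_det _).1 (h * g⁻¹).isUnit).ne_zero]) R L
  rw [show N = (x * y).val by rw [← hxy]; rfl, ← Units.val_mul, ← Units.val_mul, ← Units.val_mul]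
  congr 1
  rw [← hgx, ← hhy]; group


variable {n : ℕ}

theorem det_blocks {C Ci : Matrix (Fin 2) (Fin 2) K} (hCi : Ci * C = 1) (R : Matrix (Fin 2) (Fin (n + 1)) K)
    (L : Matrix (Fin (n + 1)) (Fin 2) K) (D : Matrix (Fin (n + 1)) (Fin (n + 1)) K) :
    (fromBlocks C R L D).det = C.det * (D - L * Ci * R).det := by
  have e : fromBlocks C R L D = fromBlocks 1 0 (L * Ci) 1 * fromBlocks C R 0 (D - L * Ci * R) := by
    simp [fromBlocks_multiply, Matrix.mul_assoc L Ci C, hCi]
  rw [e, det_mul, det_fromBlocks_zero₁₂, det_fromBlocks_zero₂₁, det_one, one_mul, det_one, one_mul]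

/-- The first corner. -/
def c0 : Matrix (Fin 2) (Fin 2) K := !![0, -1; 1, 0]

theorem c0_inv : (!![0, 1; -1, 0] : Matrix (Fin 2) (Fin 2) K) * c0 = 1 := by
  ext i j; fin_cases i <;> fin_cases j <;> simp [c0]

theorem good_c0 (hK : Fintype.card K = 5) : Good (c0 : Matrix (Fin 2) (Fin 2) K) := by
  have h := good_of (K := K) hK !![0, 4; 1, 0] !![1, 3; 1, 2]
    (fun t => if t = 1 then !![1, 3; 4, 3] else if t = 2 then !![0, 1; 3, 3] else if t = 3 then !![0, 2; 1, 1]
      else !![1, 0; 0, 4]) (by decide) (by decide) (by decide)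
  convert h using 1
  have e4 : (ZMod.castHom (dvd_refl 5) K) 4 = -1 := by
    rw [show (4 : ZMod 5) = -1 by decide, map_neg, map_one]
  ext i j; fin_cases i <;> fin_cases j <;> simp [c0, e4, map_zero, map_one]

theorem good_one (hK : Fintype.card K = 5) : Good (!![1, 0; 0, 1] : Matrix (Fin 2) (Fin 2) K) := by
  have h := good_of (K := K) hK !![1, 0; 0, 1] !![0, 1; 1, 3]
    (fun t => if t = 1 then !![0, 2; 2, 1] else if t = 2 then !![1, 4; 4, 3] else if t = 3 then !![1, 1; 1, 4]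
      else !![0, 1; 1, 3]) (by decide) (by decide) (by decide)
  convert h using 1
  ext i j; fin_cases i <;> fin_cases j <;> simp [map_zero, map_one]

theorem good_four (hK : Fintype.card K = 5) : Good (!![4, 1; 0, 4] : Matrix (Fin 2) (Fin 2) K) := by
  have h := good_of (K := K) hK !![4, 1; 0, 4] !![0, 4; 4, 3]
    (fun t => if t = 1 then !![1, 1; 1, 2] else if t = 2 then !![0, 1; 3, 4] else if t = 3 then !![0, 2; 1, 3]
      else !![1, 3; 2, 0]) (by decide) (by decide) (by decide)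
  convert h using 1
  have e4 : (ZMod.castHom (dvd_refl 5) K) 4 = 4 := map_ofNat _ 4
  ext i j; fin_cases i <;> fin_cases j <;> simp [e4, map_zero, map_one]

theorem good_two (hK : Fintype.card K = 5) : Good (!![3, 0; 0, 2] : Matrix (Fin 2) (Fin 2) K) := by
  have h := good_of (K := K) hK !![3, 0; 0, 2] !![1, 1; 3, 2]
    (fun t => if t = 1 then !![0, 1; 4, 0] else if t = 2 then !![1, 1; 1, 3] else if t = 3 then !![1, 0; 2, 3]
      else !![0, 2; 3, 0]) (by decide) (by decide) (by decide)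
  convert h using 1
  have e3 : (ZMod.castHom (dvd_refl 5) K) 3 = 3 := map_ofNat _ 3
  have e2 : (ZMod.castHom (dvd_refl 5) K) 2 = 2 := map_ofNat _ 2
  ext i j; fin_cases i <;> fin_cases j <;> simp [e3, e2, map_zero]

theorem good_three (hK : Fintype.card K = 5) : Good (!![2, 0; 0, 3] : Matrix (Fin 2) (Fin 2) K) := by
  have h := good_of (K := K) hK !![2, 0; 0, 3] !![2, 1; 3, 1]
    (fun t => if t = 1 then !![0, 2; 2, 0] else if t = 2 then !![1, 0; 2, 2] else if t = 3 then !![1, 4; 1, 2]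
      else !![0, 1; 1, 0]) (by decide) (by decide) (by decide)
  convert h using 1
  have e3 : (ZMod.castHom (dvd_refl 5) K) 3 = 3 := map_ofNat _ 3
  have e2 : (ZMod.castHom (dvd_refl 5) K) 2 = 2 := map_ofNat _ 2
  ext i j; fin_cases i <;> fin_cases j <;> simp [e3, e2, map_zero]

theorem conj_col {ι : Type*} [Fintype ι] [DecidableEq ι] {M P : Matrix ι ι K} (hP : IsUnit P.det) {j : ι}
    {v : ι → K} (h : M *ᵥ (fun x => P x j) = P *ᵥ v) (i : ι) : (P⁻¹ * M * P) i j = v i := by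
  have e : (fun x => (P⁻¹ * M * P) x j) = P⁻¹ *ᵥ (M *ᵥ fun x => P x j) := by
    funext x
    rw [mulVec_mulVec]
    simp [Matrix.mul_apply, mulVec, dotProduct]
  rw [h, mulVec_mulVec, Matrix.nonsing_inv_mul _ hP, one_mulVec] at e
  exact congrFun e i

theorem sim_conj {ι : Type*} [Fintype ι] [DecidableEq ι] {M P : Matrix ι ι K} (hP : IsUnit P.det) :
    Sim M (P⁻¹ * M * P) :=
  ⟨P⁻¹, isUnit_nonsing_inv_det P hP, by
    rw [Matrix.mul_assoc (P⁻¹ * M), Matrix.mul_nonsing_inv _ hP, Matrix.mul_one]⟩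

/-- Three steps independent. -/
theorem case_three (hK : Fintype.card K = 5) (hn : 1 ≤ n) {M : Matrix (Fin 2 ⊕ Fin (n + 1)) (Fin 2 ⊕ Fin (n + 1)) K}
    (hdet : M.det = 1) (u : Fin 2 ⊕ Fin (n + 1) → K)
    (hu : LinearIndependent K ![u, M *ᵥ u, M *ᵥ (M *ᵥ u) + u]) :
    Fac ((qq : K[X]) * ll ^ (n + 1)) (4 * 2 ^ (n + 1)) M := by
  have i01 : (0 : Fin (n + 1)) ≠ ⟨1, by omega⟩ := fun e => by simp [Fin.ext_iff] at e
  obtain ⟨P, hP, hc⟩ := exists_cols (K := K) ![Sum.inl 0, Sum.inl 1, (Sum.inr 0 : Fin 2 ⊕ Fin (n + 1))]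
    (fun i j h => by fin_cases i <;> fin_cases j <;> simp_all) hu
  have main : ∀ P : Matrix (Fin 2 ⊕ Fin (n + 1)) (Fin 2 ⊕ Fin (n + 1)) K, IsUnit P.det →
      (∀ x, P x (Sum.inl 0) = u x) → (∀ x, P x (Sum.inl 1) = (M *ᵥ u) x) →
      (∀ x, P x (Sum.inr 0) = (M *ᵥ (M *ᵥ u) + u) x) →
      (∀ μ : K, (Matrix.of fun i j => (P⁻¹ * M * P) (Sum.inr i) (Sum.inr j) +
          if i = 0 then (P⁻¹ * M * P) (Sum.inl 0) (Sum.inr j) else 0 : Matrix (Fin (n + 1)) (Fin (n + 1)) K) ≠ μ • 1) →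
      Fac ((qq : K[X]) * ll ^ (n + 1)) (4 * 2 ^ (n + 1)) M := by
    intro P hP p0 p1 p2 hns
    refine Fac.of_sim ?_ (sim_conj (M := M) hP)
    set M' := P⁻¹ * M * P with hM'
    have hd : M'.det = 1 := by
      rw [hM', det_mul_right_comm, Matrix.nonsing_inv_mul _ hP, Matrix.one_mul, hdet]
    have c1 : ∀ i, M' i (Sum.inl 0) = (Pi.single (Sum.inl 1) 1 : Fin 2 ⊕ Fin (n + 1) → K) i := conj_col hP (by
      rw [mulVec_single_one]; funext x
      show (M *ᵥ fun x => P x (Sum.inl 0)) x = P x (Sum.inl 1)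
      rw [p1, show (fun x => P x (Sum.inl 0)) = u from funext p0])
    have c2 : ∀ i, M' i (Sum.inl 1) = (Pi.single (Sum.inr 0) 1 - Pi.single (Sum.inl 0) 1 :
        Fin 2 ⊕ Fin (n + 1) → K) i := conj_col hP (by
      rw [mulVec_sub, mulVec_single_one, mulVec_single_one]; funext x
      show (M *ᵥ fun x => P x (Sum.inl 1)) x = P x (Sum.inr 0) - P x (Sum.inl 0)
      rw [p2, p0, show (fun x => P x (Sum.inl 1)) = M *ᵥ u from funext p1]
      simp)
    rw [← fromBlocks_toBlocks M'] at hd ⊢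
    have hC : M'.toBlocks₁₁ = c0 := by
      ext i j
      fin_cases i <;> fin_cases j <;> simp [toBlocks₁₁, c0, c1, c2]
    rw [hC] at hd ⊢
    refine of_blocks hK hn (good_c0 hK) c0_inv _ _ _ hd fun μ e => hns μ (Eq.trans ?_ e)
    ext i j
    by_cases hi : i = 0 <;>
      simp [Matrix.mul_apply, toBlocks₂₁, toBlocks₁₂, toBlocks₂₂, c1, c2, hi, Pi.single_apply, Fin.sum_univ_two]
  by_cases hgood : ∀ μ : K, (Matrix.of fun i j => (P⁻¹ * M * P) (Sum.inr i) (Sum.inr j) +
      if i = 0 then (P⁻¹ * M * P) (Sum.inl 0) (Sum.inr j) else 0 : Matrix (Fin (n + 1)) (Fin (n + 1)) K) ≠ μ • 1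
  · exact main P hP (fun x => hc 0 x) (fun x => hc 1 x) (fun x => hc 2 x) hgood
  push Not at hgood
  obtain ⟨μ, hμ⟩ := hgood
  set j1 : Fin (n + 1) := ⟨1, by omega⟩ with hj1
  set T : Matrix (Fin 2 ⊕ Fin (n + 1)) (Fin 2 ⊕ Fin (n + 1)) K := transvection (Sum.inl 0) (Sum.inr j1) 1 with hT
  have hTd : T.det = 1 := det_transvection_of_ne _ _ (by simp) _
  have hTi : T⁻¹ = transvection (Sum.inl 0) (Sum.inr j1) (-1 : K) :=
    Matrix.inv_eq_left_inv (by rw [hT, transvection_mul_transvection_same _ _ (by simp)]; simp)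
  have hcol : ∀ (k : Fin 2 ⊕ Fin (n + 1)) x, k ≠ Sum.inr j1 → (P * T) x k = P x k := fun k x hk => by
    rw [hT, mul_transvection_apply_of_ne _ _ _ _ hk]
  refine main (P * T) (by rw [det_mul, hTd, mul_one]; exact hP)
    (fun x => by rw [hcol _ _ (by simp)]; exact hc 0 x) (fun x => by rw [hcol _ _ (by simp)]; exact hc 1 x)
    (fun x => by rw [hcol _ _ (by simpa using i01)]; exact hc 2 x) fun ν hν => ?_
  set M' := P⁻¹ * M * P with hM'
  have e : (P * T)⁻¹ * M * (P * T) = transvection (Sum.inl 0) (Sum.inr j1) (-1 : K) * M' * T := by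
    rw [Matrix.mul_inv_rev, hTi, hM']; simp only [Matrix.mul_assoc]
  rw [e] at hν
  have c1 : ∀ i, M' i (Sum.inl 0) = (Pi.single (Sum.inl 1) 1 : Fin 2 ⊕ Fin (n + 1) → K) i := conj_col hP (by
    rw [mulVec_single_one]; funext x
    show (M *ᵥ fun x => P x (Sum.inl 0)) x = P x (Sum.inl 1)
    rw [show P x (Sum.inl 1) = _ from hc 1 x, show (fun x => P x (Sum.inl 0)) = u from funext fun x => hc 0 x]
    rfl)
  have h01 := congrFun (congrFun hν 0) j1
  have g01 := congrFun (congrFun hμ 0) j1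
  have g11 := congrFun (congrFun hμ j1) j1
  simp only [Matrix.of_apply, if_true, Matrix.smul_apply, Matrix.one_apply, if_neg i01, if_neg i01.symm,
    smul_eq_mul, mul_zero, mul_one] at h01 g01 g11
  simp [hT, mul_transvection_apply_same, transvection_mul_apply_same, transvection_mul_apply_of_ne, c1] at h01
  have hμ0 : μ = 0 := by linear_combination g01 - h01 - g11
  -- the complement cannot vanish
  have hd : M'.det = 1 := by
    rw [hM', det_mul_right_comm, Matrix.nonsing_inv_mul _ hP, Matrix.one_mul, hdet]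
  have c2 : ∀ i, M' i (Sum.inl 1) = (Pi.single (Sum.inr 0) 1 - Pi.single (Sum.inl 0) 1 :
      Fin 2 ⊕ Fin (n + 1) → K) i := conj_col hP (by
    rw [mulVec_sub, mulVec_single_one, mulVec_single_one]; funext x
    show (M *ᵥ fun x => P x (Sum.inl 1)) x = P x (Sum.inr 0) - P x (Sum.inl 0)
    rw [show P x (Sum.inr 0) = _ from hc 2 x, show P x (Sum.inl 0) = _ from hc 0 x,
      show (fun x => P x (Sum.inl 1)) = M *ᵥ u from funext fun x => hc 1 x]
    show _ = (M *ᵥ (M *ᵥ u) + u) x - u x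
    simp)
  have hC : M'.toBlocks₁₁ = c0 := by
    ext i j
    fin_cases i <;> fin_cases j <;> simp [toBlocks₁₁, c0, c1, c2]
  rw [← fromBlocks_toBlocks M', hC, det_blocks c0_inv, show M'.toBlocks₂₂ -
      M'.toBlocks₂₁ * (!![0, 1; -1, 0] : Matrix (Fin 2) (Fin 2) K) * M'.toBlocks₁₂ = μ • 1 from Eq.trans (by
    ext i j
    by_cases hi : i = 0 <;>
      simp [Matrix.mul_apply, toBlocks₂₁, toBlocks₁₂, toBlocks₂₂, c1, c2, hi, Pi.single_apply, Fin.sum_univ_two]) hμ,
    hμ0, zero_smul, det_zero, mul_zero] at hd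
  exact zero_ne_one hd

/-- Two independent planes. -/
theorem case_pair (hK : Fintype.card K = 5) (hn : 1 ≤ n) {M : Matrix (Fin 2 ⊕ Fin (n + 1)) (Fin 2 ⊕ Fin (n + 1)) K}
    (hdet : M.det = 1) {a b : K} (u v : Fin 2 ⊕ Fin (n + 1) → K) (hu : M *ᵥ (M *ᵥ u) = a • (M *ᵥ u) + b • u)
    (hv : M *ᵥ (M *ᵥ v) = a • (M *ᵥ v) + b • v) (h4 : LinearIndependent K ![u, v, M *ᵥ u, M *ᵥ v]) :
    Fac ((qq : K[X]) * ll ^ (n + 1)) (4 * 2 ^ (n + 1)) M := by
  have i01 : (0 : Fin (n + 1)) ≠ ⟨1, by omega⟩ := fun e => by simp [Fin.ext_iff] at e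
  set j1 : Fin (n + 1) := ⟨1, by omega⟩ with hj1
  have h4' : LinearIndependent K ![u, v, M *ᵥ u - v, M *ᵥ v + u] := by
    rw [Fintype.linearIndependent_iff] at h4 ⊢
    intro g hg
    have h := h4 ![g 0 + g 3, g 1 - g 2, g 2, g 3] (by
      rw [← hg]; simp [Fin.sum_univ_four, smul_add, smul_sub, add_smul, sub_smul]; abel)
    have h0 := h 0; have h1 := h 1; have h2 := h 2; have h3 := h 3
    simp at h0 h1 h2 h3
    intro i
    fin_cases i
    · simpa [h3] using h0
    · simpa [h2] using h1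
    · exact h2
    · exact h3
  obtain ⟨P, hP, hc⟩ := exists_cols (K := K) ![Sum.inl 0, Sum.inl 1, Sum.inr 0, (Sum.inr j1 : Fin 2 ⊕ Fin (n + 1))]
    (fun i j h => by fin_cases i <;> fin_cases j <;> simp_all [Fin.ext_iff]) h4'
  have p0 : (fun x => P x (Sum.inl 0)) = u := funext fun x => hc 0 x
  have p1 : (fun x => P x (Sum.inl 1)) = v := funext fun x => hc 1 x
  have p2 : (fun x => P x (Sum.inr 0)) = M *ᵥ u - v := funext fun x => hc 2 x
  have p3 : (fun x => P x (Sum.inr j1)) = M *ᵥ v + u := funext fun x => hc 3 x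
  refine Fac.of_sim ?_ (sim_conj (M := M) hP)
  set M' := P⁻¹ * M * P with hM'
  have hd : M'.det = 1 := by
    rw [hM', det_mul_right_comm, Matrix.nonsing_inv_mul _ hP, Matrix.one_mul, hdet]
  have col : ∀ j : Fin 2 ⊕ Fin (n + 1), P *ᵥ Pi.single j 1 = fun x => P x j := fun j => by
    rw [mulVec_single_one]; rfl
  have c1 : ∀ i, M' i (Sum.inl 0) = (Pi.single (Sum.inl 1) 1 + Pi.single (Sum.inr 0) 1 :
      Fin 2 ⊕ Fin (n + 1) → K) i := conj_col hP (by
    rw [mulVec_add, col, col, p0, p1, p2]; abel)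
  have c2 : ∀ i, M' i (Sum.inl 1) = (Pi.single (Sum.inr j1) 1 - Pi.single (Sum.inl 0) 1 :
      Fin 2 ⊕ Fin (n + 1) → K) i := conj_col hP (by
    rw [mulVec_sub, col, col, p3, p1, p0]; abel)
  have c4 : ∀ i, M' i (Sum.inr j1) = (Pi.single (Sum.inr 0) 1 + (b + 1) • Pi.single (Sum.inl 1) 1 +
      a • Pi.single (Sum.inr j1) 1 - a • Pi.single (Sum.inl 0) 1 : Fin 2 ⊕ Fin (n + 1) → K) i := conj_col hP (by
    rw [mulVec_sub, mulVec_add, mulVec_add, mulVec_smul, mulVec_smul, mulVec_smul, col, col, col, col, p3, p2, p1,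
      p0, mulVec_add, hv, add_smul, one_smul, smul_add]
    abel)
  have hb : b ≠ 0 := fun hb => by
    rw [hb, zero_smul, add_zero] at hu
    have h := mulVec_injective_iff_isUnit.2 ((isUnit_iff_isUnit_det M).2 (by rw [hdet]; exact isUnit_one))
      (show M *ᵥ (M *ᵥ u) = M *ᵥ (a • u) by rw [hu, mulVec_smul])
    have := Fintype.linearIndependent_iff.1 h4 ![-a, 0, 1, 0] (by simp [Fin.sum_univ_four, h]) 2
    simp at this
  rw [← fromBlocks_toBlocks M'] at hd ⊢
  have hC : M'.toBlocks₁₁ = c0 := by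
    ext i j
    fin_cases i <;> fin_cases j <;> simp [toBlocks₁₁, c0, c1, c2]
  rw [hC] at hd ⊢
  refine of_blocks hK hn (good_c0 hK) c0_inv _ _ _ hd fun μ e => hb ?_
  have h01 := congrFun (congrFun e 0) j1
  simp [Matrix.mul_apply, toBlocks₂₁, toBlocks₁₂, toBlocks₂₂, c1, c2, c4, i01, i01.symm, Pi.single_apply,
    Fin.sum_univ_two] at h01
  linear_combination h01

/-- A scalar with a rank one perturbation. -/
theorem case_one (hK : Fintype.card K = 5) (hn : 1 ≤ n) {M : Matrix (Fin 2 ⊕ Fin (n + 1)) (Fin 2 ⊕ Fin (n + 1)) K}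
    (hdet : M.det = 1) {lam : K} {x y : Fin 2 ⊕ Fin (n + 1) → K} (hx : x ≠ 0) (hy : y ≠ 0)
    (hM : M = lam • 1 + vecMulVec x y) : Fac ((qq : K[X]) * ll ^ (n + 1)) (4 * 2 ^ (n + 1)) M := by
  classical
  have i01 : (0 : Fin (n + 1)) ≠ ⟨1, by omega⟩ := fun e => by simp [Fin.ext_iff] at e
  set j1 : Fin (n + 1) := ⟨1, by omega⟩ with hj1
  have hl0 : lam ≠ 0 := fun e => by
    rw [hM, e, zero_smul, zero_add, vecMulVec_eq Unit] at hdet
    have : (replicateCol Unit x * replicateRow Unit y).det = 0 := by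
      obtain ⟨z, hz0, hz⟩ : ∃ z, z ≠ 0 ∧ y ⬝ᵥ z = 0 := by
        obtain ⟨i, hi⟩ : ∃ i, y i ≠ 0 := by by_contra h; push Not at h; exact hy (funext h)
        haveI : Nontrivial (Fin 2 ⊕ Fin (n + 1)) := ⟨⟨Sum.inl 0, Sum.inl 1, by simp⟩⟩
        obtain ⟨k, hk⟩ : ∃ k, k ≠ i := exists_ne i
        refine ⟨y k • Pi.single i 1 - y i • Pi.single k 1, fun h0 => hi ?_, by simp [dotProduct_sub]; ring⟩
        simpa [hk] using congrFun h0 k
      exact exists_mulVec_eq_zero_iff.1 ⟨z, hz0, by rw [← vecMulVec_eq, vecMulVec_mulVec, hz]; simp⟩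
    rw [this] at hdet; exact zero_ne_one hdet
  -- the normal form of the pair
  have norm : ∀ xh yh : Fin 2 ⊕ Fin (n + 1) → K, xh = Pi.single (Sum.inl 0) 1 + Pi.single (Sum.inr 0) 1 →
      yh (Sum.inr j1) = 1 → yh ⬝ᵥ xh = y ⬝ᵥ x →
      ∃ P : Matrix (Fin 2 ⊕ Fin (n + 1)) (Fin 2 ⊕ Fin (n + 1)) K, IsUnit P.det ∧
        Sim M (lam • 1 + vecMulVec xh yh) := by
    intro xh yh hxh hyh hdot
    obtain ⟨P, hP, hc⟩ := exists_cols (K := K) ![(Sum.inl 0 : Fin 2 ⊕ Fin (n + 1))] (fun i j _ => Subsingleton.elim i j)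
      (w := ![x]) (linearIndependent_unique_iff.2 hx)
    set e0 : Fin 2 ⊕ Fin (n + 1) → K := Pi.single (Sum.inl 0) 1
    set e' : Fin 2 ⊕ Fin (n + 1) → K := Pi.single (Sum.inr 0) 1
    set S := (1 : Matrix (Fin 2 ⊕ Fin (n + 1)) (Fin 2 ⊕ Fin (n + 1)) K) + vecMulVec (-e') e0
    have hS : S.det = 1 := by
      simp only [S]
      rw [vecMulVec_eq Unit, det_one_add_replicateCol_mul_replicateRow]; simp [e0, e']
    have hSx : S *ᵥ xh = e0 := by
      rw [add_mulVec, one_mulVec, vecMulVec_mulVec, hxh]; simp [e0, e', dotProduct_add]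
    set P1 := P * S
    have hP1 : IsUnit P1.det := by rw [det_mul, hS, mul_one]; exact hP
    have hP1x : P1 *ᵥ xh = x := by
      rw [← mulVec_mulVec, hSx, mulVec_single_one]; funext z; exact hc 0 z
    set y' := y ᵥ* P1
    have hy' : y' ≠ 0 := fun e => hy (by
      have := congrArg (· ᵥ* P1⁻¹) e
      simpa [y', vecMul_vecMul, Matrix.mul_nonsing_inv _ hP1] using this)
    obtain ⟨z, hz1, hz2⟩ : ∃ z, y' ⬝ᵥ z ≠ 0 ∧ yh ⬝ᵥ z ≠ 0 := by
      obtain ⟨i, hi⟩ : ∃ i, y' i ≠ 0 := by by_contra h; push Not at h; exact hy' (funext h)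
      by_cases h1 : yh i ≠ 0
      · exact ⟨Pi.single i 1, by simpa using hi, by simpa using h1⟩
      push Not at h1
      by_cases h2 : y' (Sum.inr j1) ≠ 0
      · exact ⟨Pi.single (Sum.inr j1) 1, by simpa using h2, by simp [hyh]⟩
      push Not at h2
      exact ⟨Pi.single i 1 + Pi.single (Sum.inr j1) 1, by simp [dotProduct_add, hi, h2],
        by simp [dotProduct_add, h1, hyh]⟩
    set w := (y' ⬝ᵥ z)⁻¹ • (yh - y')
    set Q := (1 : Matrix (Fin 2 ⊕ Fin (n + 1)) (Fin 2 ⊕ Fin (n + 1)) K) + vecMulVec z w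
    have hy'x : y' ⬝ᵥ xh = y ⬝ᵥ x := by rw [← dotProduct_mulVec, hP1x]
    have hQx : Q *ᵥ xh = xh := by
      rw [add_mulVec, one_mulVec, vecMulVec_mulVec, smul_dotProduct, sub_dotProduct, hdot, hy'x]
      simp
    have hQy : y' ᵥ* Q = yh := by
      rw [vecMul_add, vecMul_one, vecMul_vecMulVec, smul_smul, mul_inv_cancel₀ hz1, one_smul]; abel
    have hQ : IsUnit Q.det := by
      simp only [Q]
      rw [vecMulVec_eq Unit, det_one_add_replicateCol_mul_replicateRow, smul_dotProduct, smul_eq_mul,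
        sub_dotProduct, isUnit_iff_ne_zero]
      intro e
      field_simp at e
      exact hz2 (by linear_combination e)
    have hPQ : IsUnit (P1 * Q).det := by rw [det_mul]; exact hP1.mul hQ
    refine ⟨P1 * Q, hPQ, (sim_conj (M := M) hPQ).trans ?_⟩
    refine (congrArg (fun X => Sim X _) ?_).mpr (Sim.refl _)
    have e : M * (P1 * Q) = (P1 * Q) * (lam • 1 + vecMulVec xh yh) := by
      rw [hM, Matrix.add_mul, Matrix.mul_add (P1 * Q), smul_mul, Matrix.one_mul, Matrix.mul_smul, Matrix.mul_one,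
        vecMulVec_mul, mul_vecMulVec, ← vecMul_vecMul, hQy, ← mulVec_mulVec, hQx, hP1x]
    rw [Matrix.mul_assoc, e, ← Matrix.mul_assoc, Matrix.nonsing_inv_mul _ hPQ, Matrix.one_mul]
  -- the corners
  have fin : ∀ y0 y1 : K, Good !![lam + y0, y1; 0, lam] → lam + y0 ≠ 0 →
      Fac ((qq : K[X]) * ll ^ (n + 1)) (4 * 2 ^ (n + 1)) M := by
    intro y0 y1 hg h0
    set yh : Fin 2 ⊕ Fin (n + 1) → K := Sum.elim ![y0, y1]
      (Pi.single 0 (y ⬝ᵥ x - y0) + Pi.single j1 1) with hyh
    set xh : Fin 2 ⊕ Fin (n + 1) → K := Pi.single (Sum.inl 0) 1 + Pi.single (Sum.inr 0) 1 with hxh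
    obtain ⟨P, hP, hs⟩ := norm xh yh rfl (by simp [hyh, i01.symm]) (by
      simp [hxh, hyh, dotProduct_add, i01])
    refine Fac.of_sim ?_ hs
    set M' := lam • 1 + vecMulVec xh yh
    have hd : M'.det = 1 := hs.det_eq.symm.trans hdet
    rw [← fromBlocks_toBlocks M'] at hd ⊢
    have hC : M'.toBlocks₁₁ = !![lam + y0, y1; 0, lam] := by
      ext i j
      fin_cases i <;> fin_cases j <;>
        simp [toBlocks₁₁, M', hxh, hyh, vecMulVec_apply, Matrix.one_apply]
    rw [hC] at hd ⊢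
    refine of_blocks hK hn hg (Ci := !![(lam + y0)⁻¹, -y1 * (lam + y0)⁻¹ * lam⁻¹; 0, lam⁻¹]) ?_ _ _ _ hd
      fun μ e => ?_
    · ext i j
      fin_cases i <;> fin_cases j <;> simp [Matrix.mul_apply, Fin.sum_univ_two, h0, hl0]
      field_simp; ring
    have h01 := congrFun (congrFun e 0) j1
    simp [M', Matrix.mul_apply, toBlocks₂₁, toBlocks₁₂, toBlocks₂₂, hxh, hyh, vecMulVec_apply, i01, i01.symm,
      Fin.sum_univ_two, Matrix.one_apply] at h01
    field_simp at h01
    exact hl0 (by linear_combination h01)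
  have hcases : ∀ s : ZMod 5, s = 0 ∨ s = 1 ∨ s = 2 ∨ s = 3 ∨ s = 4 := by decide
  haveI := Fact.mk (show Nat.Prime 5 by norm_num)
  let ψ : ZMod 5 →+* K := ZMod.castHom (dvd_refl 5) K
  obtain ⟨s, hs⟩ := ((Fintype.bijective_iff_injective_and_card ψ).2 ⟨ψ.injective, by rw [ZMod.card, hK]⟩).surjective lam
  have h5 : (5 : K) = 0 := by exact_mod_cast CharP.cast_eq_zero K 5
  rcases hcases s with rfl | rfl | rfl | rfl | rfl
  · exact absurd (by rw [← hs, map_zero]) hl0
  · rw [map_one] at hs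
    subst hs
    refine fin 0 0 ?_ (by simp)
    simpa using good_one hK
  · rw [map_ofNat] at hs
    subst hs
    refine fin 1 0 ?_ ?_
    · rw [show (2 : K) + 1 = 3 by norm_num]; exact good_two hK
    · rw [show (2 : K) + 1 = 3 by norm_num]
      exact_mod_cast fun e => absurd ((CharP.cast_eq_zero_iff K 5 3).1 e) (by omega)
  · rw [map_ofNat] at hs
    subst hs
    refine fin 4 0 ?_ ?_
    · rw [show (3 : K) + 4 = 2 by linear_combination h5]; exact good_three hK
    · rw [show (3 : K) + 4 = 2 by linear_combination h5]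
      exact_mod_cast fun e => absurd ((CharP.cast_eq_zero_iff K 5 2).1 e) (by omega)
  · rw [map_ofNat] at hs
    subst hs
    refine fin 0 1 ?_ (by simpa using hl0)
    simpa using good_four hK

/-- **Five elements, even dimension.** -/
theorem fac_five (hK : Fintype.card K = 5) (hn : 1 ≤ n) {M : Matrix (Fin 2 ⊕ Fin (n + 1)) (Fin 2 ⊕ Fin (n + 1)) K}
    (hdet : M.det = 1) (hns : ∀ μ : K, M ≠ μ • 1) : Fac ((qq : K[X]) * ll ^ (n + 1)) (4 * 2 ^ (n + 1)) M := by
  classical
  by_cases h3 : ∃ u, LinearIndependent K ![u, M *ᵥ u, M *ᵥ (M *ᵥ u) + u]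
  · obtain ⟨u, hu⟩ := h3; exact case_three hK hn hdet u hu
  push Not at h3
  have loc : ∀ u, LinearIndependent K ![u, M *ᵥ u] → ∃ a b : K, M *ᵥ (M *ᵥ u) = a • (M *ᵥ u) + b • u := by
    intro u hu
    have h := h3 u
    have e : (![u, M *ᵥ u, M *ᵥ (M *ᵥ u) + u]) = Fin.snoc ![u, M *ᵥ u] (M *ᵥ (M *ᵥ u) + u) := by
      funext i; fin_cases i <;> rfl
    rw [e, linearIndependent_finSnoc, not_and, not_not] at h
    have h' := h hu
    rw [Matrix.range_cons, Matrix.range_cons, Matrix.range_empty, Set.union_empty, ← Set.insert_eq,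
      Submodule.mem_span_pair] at h'
    obtain ⟨c, d, hcd⟩ := h'
    exact ⟨d, c - 1, by rw [sub_smul, one_smul, add_sub, add_comm (d • _), hcd, add_sub_cancel_right]⟩
  obtain ⟨u, hu⟩ : ∃ u, LinearIndependent K ![u, M *ᵥ u] := by
    by_contra h
    push Not at h
    have hdep : ∀ v : Fin 2 ⊕ Fin (n + 1) → K, v ≠ 0 → ∃ c : K, M *ᵥ v = c • v := fun v hv => by
      have := h v
      rw [LinearIndependent.pair_iff' hv] at this
      push Not at this
      obtain ⟨c, hc⟩ := this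
      exact ⟨c, hc.symm⟩
    choose! c hc using hdep
    have hne : ∀ i, (Pi.single i (1 : K) : Fin 2 ⊕ Fin (n + 1) → K) ≠ 0 := fun i e => by
      simpa using congrFun e i
    have hd : ∀ i j, M i j = if i = j then c (Pi.single j 1) else 0 := fun i j => by
      have := congrFun (hc _ (hne j)) i
      simpa [Pi.single_apply] using this
    refine hns (c (Pi.single (Sum.inl 0) 1)) (ext fun i j => ?_)
    rw [hd]
    by_cases hij : i = j
    · subst hij
      by_cases h0 : i = Sum.inl 0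
      · simp [h0]
      have hs : (Pi.single (Sum.inl 0) 1 + Pi.single i 1 : Fin 2 ⊕ Fin (n + 1) → K) ≠ 0 := fun e => by
        simpa [h0] using congrFun e i
      have e1 := congrFun (hc _ hs) (Sum.inl 0)
      have e2 := congrFun (hc _ hs) i
      simp [mulVec_add, hd, h0, Ne.symm h0] at e1 e2
      simp [e1, e2]
    · simp [hij]
  obtain ⟨a, b, hab⟩ := loc u hu
  by_cases h4 : ∃ v, LinearIndependent K ![u, v, M *ᵥ u, M *ᵥ v]
  · obtain ⟨v, hv⟩ := h4
    have sub : ∀ g : Fin 4 → K, g 0 • u + g 1 • v + g 2 • (M *ᵥ u) + g 3 • (M *ᵥ v) = 0 → ∀ i, g i = 0 :=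
      fun g hg => Fintype.linearIndependent_iff.1 hv g (by simpa [Fin.sum_univ_four] using hg)
    have pv : LinearIndependent K ![v, M *ᵥ v] := LinearIndependent.pair_iff.2 fun s t hst => by
      have := sub ![0, s, 0, t] (by simpa using hst)
      exact ⟨this 1, this 3⟩
    have puv : LinearIndependent K ![u + v, M *ᵥ (u + v)] := LinearIndependent.pair_iff.2 fun s t hst => by
      have := sub ![s, s, t, t] (by rw [← hst, mulVec_add, smul_add, smul_add]; simp; abel)
      exact ⟨this 0, this 2⟩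
    obtain ⟨a', b', hab'⟩ := loc v pv
    obtain ⟨a'', b'', hab''⟩ := loc _ puv
    rw [mulVec_add, mulVec_add, hab, hab'] at hab''
    have := sub ![b - b'', b' - b'', a - a'', a' - a''] (by
      have h0 := sub_eq_zero.2 hab''
      rw [← h0]; simp [sub_smul, smul_add]; abel)
    have q0 : b = b'' := sub_eq_zero.1 (this 0)
    have q1 : b' = b'' := sub_eq_zero.1 (this 1)
    have q2 : a = a'' := sub_eq_zero.1 (this 2)
    have q3 : a' = a'' := sub_eq_zero.1 (this 3)
    exact case_pair hK hn hdet u v hab (by rw [hab', q1, q3, q0, q2]) hv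
  push Not at h4
  -- scalar modulo the plane
  set Mu := M *ᵥ u with hMu
  let W : Submodule K (Fin 2 ⊕ Fin (n + 1) → K) := Submodule.span K {u, Mu}
  have memW : ∀ s t : K, s • u + t • Mu ∈ W := fun s t => Submodule.mem_span_pair.2 ⟨s, t, rfl⟩
  have hMW : ∀ w ∈ W, M *ᵥ w ∈ W := fun w hw => by
    obtain ⟨s, t, rfl⟩ := Submodule.mem_span_pair.1 hw
    rw [mulVec_add, mulVec_smul, mulVec_smul, ← hMu, hab, smul_add, smul_smul, smul_smul]
    have := memW (t * b) (s + t * a)
    rw [add_smul] at this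
    convert this using 1
    abel
  have hdepW : ∀ v ∉ W, ∃ c : K, M *ᵥ v - c • v ∈ W := by
    intro v hv
    have h := h4 v
    rw [Fintype.linearIndependent_iff] at h
    push Not at h
    obtain ⟨g, hg, i, hi⟩ := h
    simp [Fin.sum_univ_four] at hg
    by_cases g3 : g 3 = 0
    · rw [g3, zero_smul, add_zero] at hg
      by_cases g1 : g 1 = 0
      · exfalso
        rw [g1, zero_smul, add_zero] at hg
        obtain ⟨h0, h2⟩ := LinearIndependent.pair_iff.1 hu _ _ hg
        apply hi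
        fin_cases i <;> assumption
      · exfalso
        refine hv ?_
        rw [show v = (g 1)⁻¹ • (-(g 0 • u + g 2 • Mu)) by
          rw [← inv_smul_smul₀ g1 v]; congr 1; rw [eq_neg_iff_add_eq_zero, ← hg]; abel]
        exact W.smul_mem _ (W.neg_mem (memW _ _))
    · refine ⟨-(g 3)⁻¹ * g 1, ?_⟩
      rw [show M *ᵥ v - (-(g 3)⁻¹ * g 1) • v = (g 3)⁻¹ • (-(g 0 • u + g 2 • Mu)) by
        rw [show -(g 0 • u + g 2 • Mu) = g 1 • v + g 3 • (M *ᵥ v) by
          rw [neg_eq_iff_add_eq_zero, ← hg]; abel, smul_add, smul_smul, smul_smul, inv_mul_cancel₀ g3, one_smul]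
        module]
      exact W.smul_mem _ (W.neg_mem (memW _ _))
  have hWtop : W ≠ ⊤ := fun e => by
    have h2 : Module.finrank K W ≤ 2 := by
      refine (finrank_span_le_card _).trans ?_
      rw [Set.toFinset_insert, Set.toFinset_singleton]
      exact (Finset.card_insert_le _ _).trans (by simp)
    rw [e, finrank_top, Module.finrank_fintype_fun_eq_card] at h2
    simp at h2
  obtain ⟨v₀, hv₀⟩ : ∃ v, v ∉ W := SetLike.exists_not_mem_of_ne_top W hWtop rfl
  obtain ⟨lam, hlam⟩ := hdepW v₀ hv₀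
  set T := M - lam • 1 with hT
  have hTv : ∀ z, T *ᵥ z = M *ᵥ z - lam • z := fun z => by rw [hT, sub_mulVec, smul_mulVec, one_mulVec]
  have hTW : ∀ w ∈ W, T *ᵥ w ∈ W := fun w hw => by
    rw [hTv]; exact W.sub_mem (hMW w hw) (W.smul_mem _ hw)
  have hall : ∀ z, T *ᵥ z ∈ W := by
    intro z
    by_cases hz : z ∈ W
    · exact hTW z hz
    obtain ⟨c, hc⟩ := hdepW z hz
    rw [hTv]
    by_cases hs : ∃ r : K, z - r • v₀ ∈ W
    · obtain ⟨r, hr⟩ := hs
      have h1 := hTW _ hr
      rw [hTv, mulVec_sub, mulVec_smul] at h1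
      convert W.add_mem h1 (W.smul_mem r hlam) using 1
      simp only [smul_sub, smul_smul, mul_comm]; abel
    push Not at hs
    have hzv : z + v₀ ∉ W := fun h => hs (-1) (by simpa using h)
    obtain ⟨d, hd⟩ := hdepW _ hzv
    have h2 : (d - c) • z + (d - lam) • v₀ ∈ W := by
      convert W.sub_mem (W.add_mem hc hlam) hd using 1
      rw [mulVec_add, smul_add, sub_smul, sub_smul]; abel
    have hdc : d - c = 0 := by
      by_contra hne
      refine hs (-((d - c)⁻¹ * (d - lam))) ?_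
      convert W.smul_mem (d - c)⁻¹ h2 using 1
      rw [smul_add, smul_smul, smul_smul, inv_mul_cancel₀ hne, one_smul, neg_smul, sub_neg_eq_add]
    rw [hdc, zero_smul, zero_add] at h2
    have hdl : d - lam = 0 := by
      by_contra hne
      exact hv₀ (by simpa [smul_smul, hne] using W.smul_mem (d - lam)⁻¹ h2)
    rw [sub_eq_zero] at hdc hdl
    rwa [← hdl, hdc]
  -- the image is a line
  set x := T *ᵥ u with hx
  have hxM : x = Mu - lam • u := by rw [hx, hTv]
  have hux : ∀ s t : K, s • u + t • x = 0 → s = 0 ∧ t = 0 := fun s t h => by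
    rw [hxM, smul_sub, smul_smul] at h
    have h' : (s - t * lam) • u + t • Mu = 0 := by rw [← h, sub_smul]; abel
    obtain ⟨h1, h2⟩ := LinearIndependent.pair_iff.1 hu _ _ h'
    rw [h2, zero_mul, sub_zero] at h1
    exact ⟨h1, h2⟩
  have hW' : ∀ w ∈ W, ∃ s t : K, w = s • u + t • x := fun w hw => by
    obtain ⟨s, t, rfl⟩ := Submodule.mem_span_pair.1 hw
    exact ⟨s + t * lam, t, by rw [hxM, smul_sub, smul_smul, add_smul]; abel⟩
  obtain ⟨d, e, hde⟩ := hW' _ (hall x)
  -- every vector satisfies a quadratic relation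
  have key : ∀ z, z ∉ W → ∀ s t : K, T *ᵥ z = s • u + t • x →
      ∃ c : K, T *ᵥ (T *ᵥ z) = c • (T *ᵥ z) := by
    intro z hz s t hzt
    by_cases h0 : LinearIndependent K ![z, M *ᵥ z]
    · obtain ⟨a', b', h'⟩ := loc z h0
      have hq : T *ᵥ (T *ᵥ z) = (a' - 2 * lam) • (T *ᵥ z) + (b' + a' * lam - lam * lam) • z := by
        simp only [hTv, mulVec_sub, mulVec_smul, h']
        module
      by_cases hc0 : b' + a' * lam - lam * lam = 0
      · exact ⟨_, by rw [hq, hc0, zero_smul, add_zero]⟩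
      exfalso
      refine hz ?_
      have h1 : (b' + a' * lam - lam * lam) • z ∈ W := by
        rw [show (b' + a' * lam - lam * lam) • z = T *ᵥ (T *ᵥ z) - (a' - 2 * lam) • (T *ᵥ z) by rw [hq]; abel]
        exact W.sub_mem (hall _) (W.smul_mem _ (hall _))
      simpa [smul_smul, hc0] using W.smul_mem (b' + a' * lam - lam * lam)⁻¹ h1
    · have hz0 : z ≠ 0 := fun e0 => hz (e0 ▸ W.zero_mem)
      rw [LinearIndependent.pair_iff' hz0] at h0
      push Not at h0
      obtain ⟨c, hc⟩ := h0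
      refine ⟨c - lam, ?_⟩
      have : T *ᵥ z = (c - lam) • z := by rw [hTv, ← hc, sub_smul]
      conv_lhs => rw [this, mulVec_smul]
  have hd0 : d = 0 := by
    by_contra hd
    obtain ⟨v, hv⟩ : ∃ v, v ∉ W := ⟨v₀, hv₀⟩
    obtain ⟨s, t, hst⟩ := hW' _ (hall v)
    set w := (t - s * e / d) • u + (s / d) • x with hwdef
    have hwW : w ∈ W := by
      have := memW (t - s * e / d - s / d * lam) (s / d)
      convert this using 1
      rw [hwdef, hxM]; module
    have hTvw : T *ᵥ (v - w) = 0 := by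
      rw [mulVec_sub, hst, hwdef, mulVec_add, mulVec_smul, mulVec_smul, ← hx, hde, smul_add, smul_smul, smul_smul,
        sub_smul, show s / d * d = s by field_simp, show s / d * e = s * e / d by ring]
      abel
    have hz : u + (v - w) ∉ W := fun h => hv (by
      convert W.add_mem (W.sub_mem h (memW 1 0)) hwW using 1
      simp)
    have hTz : T *ᵥ (u + (v - w)) = (0 : K) • u + (1 : K) • x := by rw [mulVec_add, hTvw, ← hx]; simp
    obtain ⟨c, hc⟩ := key _ hz 0 1 hTz
    rw [hTz, zero_smul, one_smul, zero_add, hde] at hc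
    exact hd (hux d (e - c) (by rw [sub_smul]; rw [← sub_eq_zero] at hc; rw [← hc]; abel)).1
  subst hd0
  rw [zero_smul, zero_add] at hde
  have hline : ∀ z, ∃ t : K, T *ᵥ z = t • x := by
    intro z
    by_cases hz : z ∈ W
    · obtain ⟨s, t, rfl⟩ := hW' z hz
      exact ⟨s + t * e, by rw [mulVec_add, mulVec_smul, mulVec_smul, hde, ← hx, add_smul, smul_smul]⟩
    obtain ⟨s, t, hst⟩ := hW' _ (hall z)
    by_cases hs : s = 0
    · exact ⟨t, by rw [hst, hs, zero_smul, zero_add]⟩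
    exfalso
    have rel : ∀ z', z' ∉ W → ∀ t' : K, T *ᵥ z' = s • u + t' • x → s + t' * e = 0 := fun z' hz' t' h' => by
      obtain ⟨c, hc⟩ := key z' hz' s t' h'
      rw [h', mulVec_add, mulVec_smul, mulVec_smul, ← hx, hde, smul_smul] at hc
      obtain ⟨e1, e2⟩ := hux (c * s) (c * t' - s - t' * e) (by
        rw [sub_smul, sub_smul, ← smul_smul, ← smul_smul c t']
        rw [smul_add] at hc
        rw [show c • s • u + (c • t' • x - s • x - (t' * e) • x) =
          (c • s • u + c • t' • x) - (s • x + (t' * e) • x) by abel, ← hc, sub_self])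
      rw [(mul_eq_zero.1 e1).resolve_right hs, zero_mul, zero_sub] at e2
      linear_combination -e2
    have r1 := rel z hz t hst
    have r2 := rel (u + z) (fun h => hz (by simpa using W.sub_mem h (memW 1 0))) (t + 1) (by
      rw [mulVec_add, hst, ← hx, add_smul, one_smul]; abel)
    have he : e = 0 := by linear_combination r2 - r1
    rw [he, mul_zero, add_zero] at r1
    exact hs r1
  choose y hy using hline
  set yv : Fin 2 ⊕ Fin (n + 1) → K := fun j => y (Pi.single j 1)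
  have hx0 : x ≠ 0 := fun e0 => one_ne_zero (hux 0 1 (by simp [e0])).2
  have hM : M = lam • 1 + vecMulVec x yv := by
    rw [← sub_eq_iff_eq_add', ← hT]
    ext i j
    have := congrFun (hy (Pi.single j 1)) i
    simpa [vecMulVec_apply, yv, mul_comm] using this
  refine case_one hK hn hdet hx0 (fun e0 => hns lam ?_) hM
  rw [hM, e0, vecMulVec_zero, add_zero]

end H31.Com.Five
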