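import Cfsg.Agent.H31.Commutator.Plus
import Cfsg.Agent.H44.Pairs
import Cfsg.Agent.H37.Generation

/-!
The Siegel Levi data of `Ω⁻`.
-/

set_option autoImplicit false
set_option linter.style.haveILetI false
set_option linter.unusedSectionVars false

namespace H31.Com.Minus

open Matrix H21.ClassSquare
open H43 (orthGroup qMinus polB)

/-- The index type. -/
abbrev Idx (m : ℕ) := (Fin m ⊕ Fin m) ⊕ Fin 2

variable {K : Type*} [Field K] {m : ℕ} {a b : K}

/-- The anisotropic binary form. -/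
def nrm (a b : K) (z : Fin 2 → K) : K := z 0 ^ 2 + a * z 0 * z 1 + b * z 1 ^ 2

/-- Its polar matrix. -/
def gram (a b : K) : Matrix (Fin 2) (Fin 2) K := !![2, a; a, 2 * b]

/-- A matrix of the form itself. -/
def tmat (a b : K) : Matrix (Fin 2) (Fin 2) K := !![1, a; 0, b]

theorem nrm_eq (z : Fin 2 → K) : nrm a b z = z ⬝ᵥ tmat a b *ᵥ z := by
  simp [nrm, tmat, mulVec, dotProduct, Fin.sum_univ_two]; ring

theorem nrm_add (z w : Fin 2 → K) : nrm a b (z + w) = nrm a b z + nrm a b w + z ⬝ᵥ gram a b *ᵥ w := by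
  simp [nrm, gram, mulVec, dotProduct, Fin.sum_univ_two]; ring

theorem nrm_smul (t : K) (z : Fin 2 → K) : nrm a b (t • z) = t ^ 2 * nrm a b z := by
  simp [nrm]; ring

theorem nrm_zero : nrm a b 0 = 0 := by simp [nrm]

theorem gram_transpose : (gram a b)ᵀ = gram a b := by
  ext i j; fin_cases i <;> fin_cases j <;> simp [gram]

theorem dot_gram_comm (z w : Fin 2 → K) : z ⬝ᵥ gram a b *ᵥ w = w ⬝ᵥ gram a b *ᵥ z := by
  rw [dotProduct_mulVec, ← mulVec_transpose, gram_transpose, dotProduct_comm]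

theorem dot_gram_self (z : Fin 2 → K) : z ⬝ᵥ gram a b *ᵥ z = 2 * nrm a b z := by
  simp [nrm, gram, mulVec, dotProduct, Fin.sum_univ_two]; ring

/-- Anisotropy of the binary form. -/
class Ani (a b : K) : Prop where
  ani : ∀ z : Fin 2 → K, nrm a b z = 0 → z = 0

theorem ani_of {a b : K} (hab : ∀ z₁ z₂ : K, z₁ ^ 2 + a * z₁ * z₂ + b * z₂ ^ 2 = 0 → z₁ = 0 ∧ z₂ = 0) :
    Ani a b :=
  ⟨fun z hz => funext fun i => by obtain ⟨h1, h2⟩ := hab _ _ hz; fin_cases i; exacts [h1, h2]⟩

theorem nrm_ne_zero [Ani a b] {z : Fin 2 → K} (hz : z ≠ 0) : nrm a b z ≠ 0 := fun h => hz (Ani.ani z h)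

theorem hab' [Ani a b] (z₁ z₂ : K) (h : z₁ ^ 2 + a * z₁ * z₂ + b * z₂ ^ 2 = 0) : z₁ = 0 ∧ z₂ = 0 := by
  have h2 : (![z₁, z₂] : Fin 2 → K) = 0 := Ani.ani (a := a) (b := b) _ (by simpa [nrm] using h)
  exact ⟨congrFun h2 0, congrFun h2 1⟩

theorem gram_det_ne_zero [Ani a b] [Finite K] : (gram a b).det ≠ 0 := fun h =>
  H43.disc_ne_zero_of_anisotropic (hab' (a := a) (b := b)) (by simp [gram, det_fin_two] at h; linear_combination -h)

/-- A vector from its three parts. -/
abbrev tri (x y : Fin m → K) (z : Fin 2 → K) : Idx m → K := Sum.elim (Sum.elim x y) z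

theorem tri_eta (v : Idx m → K) :
    v = tri (fun i => v (Sum.inl (Sum.inl i))) (fun i => v (Sum.inl (Sum.inr i))) (fun i => v (Sum.inr i)) := by
  funext i; rcases i with (i | i) | i <;> rfl

theorem tri_inj {x y x' y' : Fin m → K} {z z' : Fin 2 → K} :
    tri x y z = tri x' y' z' ↔ x = x' ∧ y = y' ∧ z = z' := by
  constructor
  · intro h
    exact ⟨funext fun i => congrFun h (Sum.inl (Sum.inl i)), funext fun i => congrFun h (Sum.inl (Sum.inr i)),
      funext fun i => congrFun h (Sum.inr i)⟩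
  · rintro ⟨rfl, rfl, rfl⟩; rfl

theorem quad_tri (x y : Fin m → K) (z : Fin 2 → K) :
    Cfsg.quadFormMinus m K a b (tri x y z) = x ⬝ᵥ y + nrm a b z := rfl

/-- A matrix from nine blocks. -/
def mat3 (A B C D : Matrix (Fin m) (Fin m) K) (P Q : Matrix (Fin m) (Fin 2) K) (W V : Matrix (Fin 2) (Fin m) K)
    (Z : Matrix (Fin 2) (Fin 2) K) : Matrix (Idx m) (Idx m) K :=
  fromBlocks (fromBlocks A B C D) (fromRows P Q) (fromCols W V) Z

theorem mat3_mulVec (A B C D : Matrix (Fin m) (Fin m) K) (P Q : Matrix (Fin m) (Fin 2) K)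
    (W V : Matrix (Fin 2) (Fin m) K) (Z : Matrix (Fin 2) (Fin 2) K) (x y : Fin m → K) (z : Fin 2 → K) :
    mat3 A B C D P Q W V Z *ᵥ tri x y z =
      tri (A *ᵥ x + B *ᵥ y + P *ᵥ z) (C *ᵥ x + D *ᵥ y + Q *ᵥ z) (W *ᵥ x + V *ᵥ y + Z *ᵥ z) := by
  funext i
  rcases i with (i | i) | i <;>
    simp only [mat3, mulVec, dotProduct, Fintype.sum_sum_type, fromBlocks_apply₁₁, fromBlocks_apply₁₂,
      fromBlocks_apply₂₁, fromBlocks_apply₂₂, fromRows_apply_inl, fromRows_apply_inr, fromCols_apply_inl,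
      fromCols_apply_inr, Pi.add_apply, Sum.elim_inl, Sum.elim_inr]

theorem mat3_mul (A B C D : Matrix (Fin m) (Fin m) K) (P Q : Matrix (Fin m) (Fin 2) K)
    (W V : Matrix (Fin 2) (Fin m) K) (Z : Matrix (Fin 2) (Fin 2) K)
    (A' B' C' D' : Matrix (Fin m) (Fin m) K) (P' Q' : Matrix (Fin m) (Fin 2) K)
    (W' V' : Matrix (Fin 2) (Fin m) K) (Z' : Matrix (Fin 2) (Fin 2) K) :
    mat3 A B C D P Q W V Z * mat3 A' B' C' D' P' Q' W' V' Z' =
      mat3 (A * A' + B * C' + P * W') (A * B' + B * D' + P * V') (C * A' + D * C' + Q * W')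
        (C * B' + D * D' + Q * V') (A * P' + B * Q' + P * Z') (C * P' + D * Q' + Q * Z')
        (W * A' + V * C' + Z * W') (W * B' + V * D' + Z * V') (W * P' + V * Q' + Z * Z') := by
  ext i j
  rcases i with (i | i) | i <;> rcases j with (j | j) | j <;>
    simp [mat3, Matrix.mul_apply, Fintype.sum_sum_type]

theorem mat3_one : mat3 (1 : Matrix (Fin m) (Fin m) K) 0 0 1 0 0 0 0 1 = 1 := by
  ext i j
  rcases i with (i | i) | i <;> rcases j with (j | j) | j <;> simp [mat3, Matrix.one_apply]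

theorem mat3_inj {A B C D A' B' C' D' : Matrix (Fin m) (Fin m) K} {P Q P' Q' : Matrix (Fin m) (Fin 2) K}
    {W V W' V' : Matrix (Fin 2) (Fin m) K} {Z Z' : Matrix (Fin 2) (Fin 2) K} :
    mat3 A B C D P Q W V Z = mat3 A' B' C' D' P' Q' W' V' Z' ↔
      A = A' ∧ B = B' ∧ C = C' ∧ D = D' ∧ P = P' ∧ Q = Q' ∧ W = W' ∧ V = V' ∧ Z = Z' := by
  simp only [mat3, fromBlocks_inj, fromRows_ext_iff, fromCols_ext_iff]
  tauto

theorem eq_mat3 (M : Matrix (Idx m) (Idx m) K) : M = mat3 M.toBlocks₁₁.toBlocks₁₁ M.toBlocks₁₁.toBlocks₁₂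
    M.toBlocks₁₁.toBlocks₂₁ M.toBlocks₁₁.toBlocks₂₂ M.toBlocks₁₂.toRows₁ M.toBlocks₁₂.toRows₂ M.toBlocks₂₁.toCols₁
    M.toBlocks₂₁.toCols₂ M.toBlocks₂₂ := by
  rw [mat3, fromBlocks_toBlocks, fromRows_toRows, fromCols_toCols, fromBlocks_toBlocks]

/-- The isometry group. -/
abbrev Iso (m : ℕ) {K : Type*} [Field K] (a b : K) := Cfsg.isometryGroup K (Cfsg.quadFormMinus m K a b)

/-- The matrix of an isometry. -/
abbrev mx (g : Iso m a b) : Matrix (Idx m) (Idx m) K := ((g : GL (Idx m) K) : Matrix _ _ K)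

theorem mx_mul (g h : Iso m a b) : mx (g * h) = mx g * mx h := rfl

theorem mx_one : mx (1 : Iso m a b) = 1 := rfl

theorem mx_ext {g h : Iso m a b} (e : mx g = mx h) : g = h := Subtype.ext (Units.ext e)

theorem mx_quad (g : Iso m a b) (v : Idx m → K) :
    Cfsg.quadFormMinus m K a b (mx g *ᵥ v) = Cfsg.quadFormMinus m K a b v := g.2 v v

theorem mx_inj (g : Iso m a b) : Function.Injective fun x => mx g *ᵥ x :=
  mulVec_injective_iff_isUnit.2 (g : GL (Idx m) K).isUnit

/-- The comparison with linear isometries. -/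
noncomputable def theta (m : ℕ) {K : Type*} [Field K] (a b : K) : Iso m a b ≃* orthGroup (qMinus m K a b) :=
  (MulEquiv.subgroupCongr (show Cfsg.isometryGroup K (Cfsg.quadFormMinus m K a b) =
    Cfsg.isometryGroup K ⇑(qMinus m K a b) by rw [H43.coe_qMinus])).trans (H43.toOrth _)

theorem theta_apply (g : Iso m a b) (x : Idx m → K) : (theta m a b g).1 x = mx g *ᵥ x := rfl

/-- The isometry group of the binary form. -/
abbrev Oz {K : Type*} [Field K] (a b : K) : Subgroup (GL (Fin 2) K) := Cfsg.isometryGroup K (nrm a b)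

/-- The matrix of a binary isometry. -/
abbrev zm (θ : Oz a b) : Matrix (Fin 2) (Fin 2) K := ((θ : GL (Fin 2) K) : Matrix _ _ K)

theorem zm_mul (θ η : Oz a b) : zm (θ * η) = zm θ * zm η := rfl

theorem zm_one : zm (1 : Oz a b) = 1 := rfl

theorem zm_ext {θ η : Oz a b} (e : zm θ = zm η) : θ = η := Subtype.ext (Units.ext e)

theorem zm_nrm (θ : Oz a b) (z : Fin 2 → K) : nrm a b (zm θ *ᵥ z) = nrm a b z := θ.2 z z

theorem zm_gram (θ : Oz a b) : (zm θ)ᵀ * gram a b * zm θ = gram a b := by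
  refine Matrix.ext fun i j => ?_
  have h := nrm_add (a := a) (b := b) (zm θ *ᵥ Pi.single i 1) (zm θ *ᵥ Pi.single j 1)
  rw [← mulVec_add, zm_nrm, zm_nrm, zm_nrm, nrm_add, add_right_inj, mulVec_mulVec, dotProduct_mulVec,
    ← mulVec_transpose] at h
  simp only [mulVec_single_one, dotProduct_single_one, single_one_dotProduct, gram_transpose, Matrix.col_apply] at h
  rw [Matrix.mul_assoc, Matrix.mul_apply']
  exact h.symm.trans (congrFun (congrFun gram_transpose i) j)

variable [Fintype K] [Ani a b]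

theorem hnd : (polB (qMinus m K a b)).Nondegenerate := H43.qMinus_nondeg m hab'

theorem gen (hm : 3 ≤ m) : H43.ReflGenerates K (Idx m → K) :=
  H43.reflGenerates_of_card (Or.inr (by rw [H43.finrank_qMinus]; omega))

theorem omega_iff (hm : 3 ≤ m) (g : Iso m a b) :
    g ∈ commutator (Iso m a b) ↔ H43.dickson (theta m a b g) = 1 ∧ H43.spinor (theta m a b g) = 1 := by
  rw [← H44.mem_commutator_iff hnd (gen hm)]
  have e : (commutator (Iso m a b)).map (theta m a b : Iso m a b →* orthGroup (qMinus m K a b)) =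
      commutator (orthGroup (qMinus m K a b)) := by
    rw [commutator_def, Subgroup.map_commutator, Subgroup.map_top_of_surjective _ (theta m a b).surjective,
      commutator_def]
  rw [← e]
  exact (Subgroup.mem_map_iff_mem (theta m a b).injective).symm

/-- An isometry from a matrix preserving the form. -/
noncomputable def mk (M : Matrix (Idx m) (Idx m) K)
    (h : ∀ v, Cfsg.quadFormMinus m K a b (M *ᵥ v) = Cfsg.quadFormMinus m K a b v) : Iso m a b :=
  (theta m a b).symm (H43.ofIsometry hnd (Matrix.toLin' M) fun x => by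
    rw [H43.coe_qMinus, Matrix.toLin'_apply, h])

theorem mx_mk (M : Matrix (Idx m) (Idx m) K)
    (h : ∀ v, Cfsg.quadFormMinus m K a b (M *ᵥ v) = Cfsg.quadFormMinus m K a b v) : mx (mk M h) = M := by
  refine Matrix.ext_iff_mulVec.2 fun x => ?_
  rw [← theta_apply, mk, MulEquiv.apply_symm_apply, H43.ofIsometry_apply, Matrix.toLin'_apply]

/-- A binary isometry from a matrix preserving the form. -/
noncomputable def zmk (M : Matrix (Fin 2) (Fin 2) K) (h : ∀ z, nrm a b (M *ᵥ z) = nrm a b z) : Oz a b :=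
  ⟨GeneralLinearGroup.mk'' M ((isUnit_iff_isUnit_det M).1 (mulVec_injective_iff_isUnit.1 fun x y e => by
    refine sub_eq_zero.1 (Ani.ani (a := a) (b := b) _ ?_)
    rw [← h, mulVec_sub, show M *ᵥ x = M *ᵥ y from e, sub_self, nrm_zero])), fun z _ => h z⟩

theorem zm_zmk (M : Matrix (Fin 2) (Fin 2) K) (h : ∀ z, nrm a b (M *ᵥ z) = nrm a b z) : zm (zmk M h) = M := rfl

/-- Pairs parametrising the Siegel radical. -/
def MinPair (a b : K) (R : Matrix (Fin 2) (Fin m) K) (S : Matrix (Fin m) (Fin m) K) : Prop :=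
  ∀ y, y ⬝ᵥ S *ᵥ y = -nrm a b (R *ᵥ y)

/-- The block tied to `R`. -/
def pblk (a b : K) (R : Matrix (Fin 2) (Fin m) K) : Matrix (Fin m) (Fin 2) K := -(Rᵀ * gram a b)

theorem pblk_mulVec (R : Matrix (Fin 2) (Fin m) K) (y : Fin m → K) (z : Fin 2 → K) :
    y ⬝ᵥ pblk a b R *ᵥ z = -(z ⬝ᵥ gram a b *ᵥ (R *ᵥ y)) := by
  rw [pblk, neg_mulVec, dotProduct_neg, ← mulVec_mulVec, dotProduct_mulVec, vecMul_transpose, dot_gram_comm]

/-- An upper unipotent isometry. -/
noncomputable def up (R : Matrix (Fin 2) (Fin m) K) (S : Matrix (Fin m) (Fin m) K) (h : MinPair a b R S) :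
    Iso m a b :=
  mk (mat3 1 S 0 1 (pblk a b R) 0 0 R 1) fun v => by
    rw [tri_eta v, mat3_mulVec, quad_tri, quad_tri]
    generalize (fun i => v (Sum.inl (Sum.inl i))) = x
    generalize (fun i => v (Sum.inl (Sum.inr i))) = y
    generalize (fun i => v (Sum.inr i)) = z
    simp only [one_mulVec, zero_mulVec, zero_add, add_zero, add_dotProduct]
    rw [nrm_add, dotProduct_comm (S *ᵥ y) y, h y, dotProduct_comm (pblk a b R *ᵥ z) y, pblk_mulVec,
      dot_gram_comm (R *ᵥ y) z]
    ring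

/-- A lower unipotent isometry. -/
noncomputable def lo (R : Matrix (Fin 2) (Fin m) K) (S : Matrix (Fin m) (Fin m) K) (h : MinPair a b R S) :
    Iso m a b :=
  mk (mat3 1 0 S 1 0 (pblk a b R) R 0 1) fun v => by
    rw [tri_eta v, mat3_mulVec, quad_tri, quad_tri]
    generalize (fun i => v (Sum.inl (Sum.inl i))) = x
    generalize (fun i => v (Sum.inl (Sum.inr i))) = y
    generalize (fun i => v (Sum.inr i)) = z
    simp only [one_mulVec, zero_mulVec, zero_add, add_zero, dotProduct_add]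
    rw [nrm_add, h x, pblk_mulVec, dot_gram_comm (R *ᵥ x) z]
    ring

theorem mx_up {R : Matrix (Fin 2) (Fin m) K} {S : Matrix (Fin m) (Fin m) K} (h : MinPair a b R S) :
    mx (up R S h) = mat3 1 S 0 1 (pblk a b R) 0 0 R 1 := mx_mk _ _

theorem mx_lo {R : Matrix (Fin 2) (Fin m) K} {S : Matrix (Fin m) (Fin m) K} (h : MinPair a b R S) :
    mx (lo R S h) = mat3 1 0 S 1 0 (pblk a b R) R 0 1 := mx_mk _ _

/-- The Levi element as a matrix. -/
def levM (p : GL (Fin m) K × Oz a b) : Matrix (Idx m) (Idx m) K :=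
  mat3 p.1.val 0 0 (p.1⁻¹ : GL (Fin m) K).valᵀ 0 0 0 0 (zm p.2)

theorem levM_quad (p : GL (Fin m) K × Oz a b) (v : Idx m → K) :
    Cfsg.quadFormMinus m K a b (levM p *ᵥ v) = Cfsg.quadFormMinus m K a b v := by
  rw [tri_eta v, levM, mat3_mulVec, quad_tri, quad_tri]
  simp only [zero_mulVec, add_zero, zero_add]
  rw [H31.CSQ.Plus.inv_transpose_dot, zm_nrm]

/-- The Levi homomorphism. -/
noncomputable def lev : GL (Fin m) K × Oz a b →* Iso m a b where
  toFun p := mk (levM p) (levM_quad p)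
  map_one' := mx_ext (by simp [mx_mk, mx_one, levM, zm_one, mat3_one])
  map_mul' p q := mx_ext (by simp [mx_mk, mx_mul, levM, zm_mul, mat3_mul, transpose_mul])

theorem mx_lev (X : GL (Fin m) K) (θ : Oz a b) :
    mx (lev (X, θ)) = mat3 X.val 0 0 (X⁻¹ : GL (Fin m) K).valᵀ 0 0 0 0 (zm θ) := mx_mk _ (levM_quad (X, θ))

/-- The Levi homomorphism on the general linear factor. -/
noncomputable def levX : GL (Fin m) K →* Iso m a b := lev.comp (MonoidHom.inl _ _)

/-- The Levi homomorphism on the binary factor. -/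
noncomputable def levZ : Oz a b →* Iso m a b := lev.comp (MonoidHom.inr _ _)

/-- The Siegel data. -/
noncomputable def siegel (m : ℕ) {K : Type*} [Field K] [Fintype K] (a b : K) [Ani a b] :
    Siegel (Iso m a b) (Idx m) K m where
  mat := (Cfsg.isometryGroup K (Cfsg.quadFormMinus m K a b)).subtype
  inj := Subtype.val_injective
  ε := Sum.elim (Sum.elim (fun _ => 1) fun _ => -1) fun _ => 0
  e i := Sum.inl (Sum.inl i)
  f i := Sum.inl (Sum.inr i)
  ε_e _ := rfl
  ε_f _ := rfl
  ε_le x := by rcases x with (x | x) | x <;> simp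
  ε_ge x := by rcases x with (x | x) | x <;> simp
  e_surj x hx := by
    rcases x with (x | x) | x
    · exact ⟨x, rfl⟩
    · simp at hx
    · simp at hx
  e_inj _ _ h := Sum.inl_injective (Sum.inl_injective h)
  f_inj _ _ h := Sum.inr_injective (Sum.inl_injective h)
  L := levX
  L_block X x y h := by
    show mx (lev (X, 1)) x y = 0
    rw [mx_lev]
    rcases x with (x | x) | x <;> rcases y with (y | y) | y <;> simp_all [mat3]
  L_e X i j := by
    show mx (lev (X, 1)) (Sum.inl (Sum.inl i)) (Sum.inl (Sum.inl j)) = _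
    simp [mx_lev, mat3]

@[simp] theorem siegel_mat (g : Iso m a b) :
    (((siegel m a b).mat g : GL (Idx m) K) : Matrix (Idx m) (Idx m) K) = mx g := rfl

theorem up_mem {R : Matrix (Fin 2) (Fin m) K} {S : Matrix (Fin m) (Fin m) K} (h : MinPair a b R S) :
    up R S h ∈ (siegel m a b).U := by
  rw [Siegel.mem_U]
  intro x y hxy
  rw [siegel_mat, mx_up]
  rcases x with (x | x) | x <;> rcases y with (y | y) | y <;> simp [siegel] at hxy <;>
    simp [mat3, Matrix.one_apply]

theorem lo_mem {R : Matrix (Fin 2) (Fin m) K} {S : Matrix (Fin m) (Fin m) K} (h : MinPair a b R S) :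
    lo R S h ∈ (siegel m a b).V := by
  rw [Siegel.mem_V]
  intro x y hxy
  rw [siegel_mat, mx_lo]
  rcases x with (x | x) | x <;> rcases y with (y | y) | y <;> simp [siegel] at hxy <;>
    simp [mat3, Matrix.one_apply]

theorem lev_conj_U {u : Iso m a b} (hu : u ∈ (siegel m a b).U) (p : GL (Fin m) K × Oz a b) :
    lev p * u * (lev p)⁻¹ ∈ (siegel m a b).U := by
  show (siegel m a b).mat _ ∈ gradUnip (siegel m a b).ε
  rw [map_mul, map_mul, map_inv]
  refine gradUnip_conj hu ?_ ?_
  · intro x y h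
    show mx (lev p) x y = 0
    rw [← Prod.mk.eta (p := p), mx_lev]
    rcases x with (x | x) | x <;> rcases y with (y | y) | y <;> simp [siegel] at h <;> simp [mat3]
  · rw [← map_inv, ← map_inv]
    intro x y h
    show mx (lev p⁻¹) x y = 0
    rw [← Prod.mk.eta (p := p⁻¹), mx_lev]
    rcases x with (x | x) | x <;> rcases y with (y | y) | y <;> simp [siegel] at h <;> simp [mat3]

theorem lev_conj_V {u : Iso m a b} (hu : u ∈ (siegel m a b).V) (p : GL (Fin m) K × Oz a b) :
    lev p * u * (lev p)⁻¹ ∈ (siegel m a b).V := by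
  show (siegel m a b).mat _ ∈ gradUnip fun x => -(siegel m a b).ε x
  rw [map_mul, map_mul, map_inv]
  refine gradUnip_conj hu ?_ ?_
  · intro x y h
    show mx (lev p) x y = 0
    rw [← Prod.mk.eta (p := p), mx_lev]
    rcases x with (x | x) | x <;> rcases y with (y | y) | y <;> simp [siegel] at h <;> simp [mat3]
  · rw [← map_inv, ← map_inv]
    intro x y h
    show mx (lev p⁻¹) x y = 0
    rw [← Prod.mk.eta (p := p⁻¹), mx_lev]
    rcases x with (x | x) | x <;> rcases y with (y | y) | y <;> simp [siegel] at h <;> simp [mat3]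

theorem exists_up {g : Iso m a b} (hg : g ∈ (siegel m a b).U) : ∃ R S h, g = up R S h := by
  rw [Siegel.mem_U] at hg
  simp only [siegel_mat] at hg
  set S : Matrix (Fin m) (Fin m) K := (mx g).toBlocks₁₁.toBlocks₁₂
  set P : Matrix (Fin m) (Fin 2) K := (mx g).toBlocks₁₂.toRows₁
  set R : Matrix (Fin 2) (Fin m) K := (mx g).toBlocks₂₁.toCols₂
  have e : mx g = mat3 1 S 0 1 P 0 0 R 1 := by
    ext i j
    rcases i with (i | i) | i <;> rcases j with (j | j) | j <;>
      first
        | rfl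
        | (rw [hg _ _ (by simp [siegel])]; simp [mat3, Matrix.one_apply])
  have hq : ∀ z y, (S *ᵥ y + P *ᵥ z) ⬝ᵥ y + nrm a b (R *ᵥ y + z) = nrm a b z := fun z y => by
    have := mx_quad g (tri 0 y z)
    rw [e, mat3_mulVec, quad_tri, quad_tri] at this
    simpa using this
  have hodd : MinPair a b R S := fun y => by
    have := hq 0 y
    simp only [mulVec_zero, add_zero, nrm_zero] at this
    rw [dotProduct_comm]
    linear_combination this
  have hp : P = pblk a b R := by
    refine Matrix.ext_iff_mulVec.2 fun z => funext fun i => ?_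
    have h1 := hq z (Pi.single i 1)
    rw [add_dotProduct, nrm_add, dot_gram_comm] at h1
    have h0 := hodd (Pi.single i 1)
    have h3 := pblk_mulVec (a := a) (b := b) R (Pi.single i 1) z
    rw [single_one_dotProduct] at h3
    rw [dotProduct_comm] at h0
    rw [h3]
    rw [dotProduct_single_one, dotProduct_single_one] at h1
    rw [dotProduct_single_one] at h0
    linear_combination h1 - h0
  exact ⟨R, S, hodd, mx_ext (by rw [mx_up, e, hp])⟩

theorem exists_lo {g : Iso m a b} (hg : g ∈ (siegel m a b).V) : ∃ R S h, g = lo R S h := by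
  rw [Siegel.mem_V] at hg
  simp only [siegel_mat] at hg
  set S : Matrix (Fin m) (Fin m) K := (mx g).toBlocks₁₁.toBlocks₂₁
  set P : Matrix (Fin m) (Fin 2) K := (mx g).toBlocks₁₂.toRows₂
  set R : Matrix (Fin 2) (Fin m) K := (mx g).toBlocks₂₁.toCols₁
  have e : mx g = mat3 1 0 S 1 0 P R 0 1 := by
    ext i j
    rcases i with (i | i) | i <;> rcases j with (j | j) | j <;>
      first
        | rfl
        | (rw [hg _ _ (by simp [siegel])]; simp [mat3, Matrix.one_apply])
  have hq : ∀ z x, x ⬝ᵥ (S *ᵥ x + P *ᵥ z) + nrm a b (R *ᵥ x + z) = nrm a b z := fun z x => by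
    have := mx_quad g (tri x 0 z)
    rw [e, mat3_mulVec, quad_tri, quad_tri] at this
    simpa using this
  have hodd : MinPair a b R S := fun y => by
    have := hq 0 y
    simp only [mulVec_zero, add_zero, nrm_zero] at this
    linear_combination this
  have hp : P = pblk a b R := by
    refine Matrix.ext_iff_mulVec.2 fun z => funext fun i => ?_
    have h1 := hq z (Pi.single i 1)
    rw [dotProduct_add, nrm_add, dot_gram_comm] at h1
    have h0 := hodd (Pi.single i 1)
    have h3 := pblk_mulVec (a := a) (b := b) R (Pi.single i 1) z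
    rw [single_one_dotProduct] at h3
    rw [h3]
    rw [single_one_dotProduct, single_one_dotProduct] at h1
    rw [single_one_dotProduct] at h0
    linear_combination h1 - h0
  exact ⟨R, S, hodd, mx_ext (by rw [mx_lo, e, hp])⟩

theorem mx_up_mul_lo {R R' : Matrix (Fin 2) (Fin m) K} {S S' : Matrix (Fin m) (Fin m) K} (h : MinPair a b R S)
    (h' : MinPair a b R' S') :
    mx (up R S h * lo R' S' h') = mat3 (1 + S * S' + pblk a b R * R') S S' 1
      (S * pblk a b R' + pblk a b R) (pblk a b R') (R * S' + R') R (R * pblk a b R' + 1) := by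
  simp [mx_mul, mx_up, mx_lo, mat3_mul]

theorem top_eq (g : Iso m a b) : (siegel m a b).top g = (mx g).toBlocks₁₁.toBlocks₁₁ := rfl

theorem top_mat3 (g : Iso m a b) {A B C D : Matrix (Fin m) (Fin m) K} {P Q : Matrix (Fin m) (Fin 2) K}
    {W V : Matrix (Fin 2) (Fin m) K} {Z : Matrix (Fin 2) (Fin 2) K} (h : mx g = mat3 A B C D P Q W V Z) :
    (siegel m a b).top g = A := by
  rw [top_eq, h, mat3, toBlocks_fromBlocks₁₁, toBlocks_fromBlocks₁₁]

end H31.Com.Minus
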