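import Cfsg.Agent.H31.Commutator.MinusLevi

/-!
Absorption of the radicals of `Ω⁻`.
-/

set_option autoImplicit false
set_option linter.style.haveILetI false
set_option linter.unusedSectionVars false

namespace H31.Com.Minus

open Matrix H21.ClassSquare
open scoped commutatorElement

variable {K : Type*} [Field K] [Fintype K] {m : ℕ} {a b : K} [Ani a b]

/-- No map intertwines `A` with the binary isometry `θ`. -/
def NoInt (θ : Oz a b) (A : Matrix (Fin m) (Fin m) K) : Prop :=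
  ∀ Z : Matrix (Fin m) (Fin 2) K, A * Z = Z * zm θ → Z = 0

/-- A factorisation `M = A B` which lifts to a commutator of `Ω⁻` and absorbs both radicals. -/
def Split (m : ℕ) {K : Type*} [Field K] [Fintype K] (a b : K) [Ani a b] (M : Matrix (Fin m) (Fin m) K) : Prop :=
  ∃ (θ : Oz a b) (A B : GL (Fin m) K), ∃ c ∈ commutator (Iso m a b),
    (A * B).val = M ∧ (lev (A, θ) : Iso m a b) ∈ commutator (Iso m a b) ∧
      (lev (B, θ⁻¹) : Iso m a b) = c * (lev (A, θ))⁻¹ * c⁻¹ ∧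
      AFree A.valᵀ ∧ NoInt θ⁻¹ A.valᵀ ∧ AFree B.val ∧ NoInt θ⁻¹ B.val

/-- The factorisations needed in `SL_n`. -/
def SLFacM (m : ℕ) {K : Type*} [Field K] [Fintype K] (a b : K) [Ani a b] : Prop :=
  ∀ M : Matrix (Fin m) (Fin m) K, M.det = 1 → (∀ μ : K, M ≠ μ • 1) → Split m a b M

theorem pblk_eq_zero {R : Matrix (Fin 2) (Fin m) K} (h : pblk a b R = 0) : R = 0 := by
  rw [pblk, neg_eq_zero] at h
  have hG : IsUnit (gram a b).det := IsUnit.mk0 _ gram_det_ne_zero
  have := congrArg (· * (gram a b)⁻¹) h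
  simp only [Matrix.mul_assoc, mul_nonsing_inv _ hG, Matrix.mul_one, Matrix.zero_mul, transpose_eq_zero] at this
  exact this

theorem pblk_zero : pblk a b (0 : Matrix (Fin 2) (Fin m) K) = 0 := by simp [pblk]

theorem MinPair.alt {S : Matrix (Fin m) (Fin m) K} (h : MinPair a b (0 : Matrix (Fin 2) (Fin m) K) S) :
    ∀ y, y ⬝ᵥ S *ᵥ y = 0 := fun y => by simpa [nrm_zero] using h y

theorem lev_U_commute {X : GL (Fin m) K} {θ : Oz a b} {u : Iso m a b} (hu : u ∈ (siegel m a b).U)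
    (hX : AFree X.val) (hZ : NoInt θ X.val) (h : lev (X, θ) * u = u * lev (X, θ)) : u = 1 := by
  obtain ⟨R, S, hodd, rfl⟩ := exists_up hu
  have e := congrArg mx h
  rw [mx_mul, mx_mul, mx_lev, mx_up, mat3_mul, mat3_mul, mat3_inj] at e
  simp only [Matrix.mul_zero, Matrix.zero_mul, Matrix.one_mul, Matrix.mul_one, add_zero, zero_add] at e
  obtain ⟨-, h2, -, -, h5, -⟩ := e
  obtain rfl := pblk_eq_zero (hZ _ h5)
  obtain rfl : S = 0 := hX S hodd.alt (by
    rw [h2, Matrix.mul_assoc, ← transpose_mul, X.mul_inv, transpose_one, Matrix.mul_one])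
  exact mx_ext (by rw [mx_up, pblk_zero, mx_one, mat3_one])

theorem lev_V_commute {X : GL (Fin m) K} {θ : Oz a b} {v : Iso m a b} (hv : v ∈ (siegel m a b).V)
    (hX : AFree X.valᵀ) (hZ : NoInt θ⁻¹ X.valᵀ) (h : lev (X, θ) * v = v * lev (X, θ)) : v = 1 := by
  obtain ⟨R, S, hodd, rfl⟩ := exists_lo hv
  have e := congrArg mx h
  rw [mx_mul, mx_mul, mx_lev, mx_lo, mat3_mul, mat3_mul, mat3_inj] at e
  simp only [Matrix.mul_zero, Matrix.zero_mul, Matrix.one_mul, Matrix.mul_one, add_zero, zero_add] at e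
  obtain ⟨-, -, h3, -, -, h6, -⟩ := e
  have hinv : X.valᵀ * (X⁻¹ : GL (Fin m) K).valᵀ = 1 := by rw [← transpose_mul, X.inv_mul, transpose_one]
  obtain rfl := pblk_eq_zero (hZ _ (by
    have := congrArg (fun Q => X.valᵀ * Q * zm θ⁻¹) h6
    simp only [← Matrix.mul_assoc, hinv, Matrix.one_mul] at this
    rw [this, Matrix.mul_assoc _ (zm θ) (zm θ⁻¹), ← zm_mul, mul_inv_cancel, zm_one, Matrix.mul_one]))
  obtain rfl : S = 0 := hX S hodd.alt (by
    rw [transpose_transpose, Matrix.mul_assoc, ← h3, ← Matrix.mul_assoc, hinv, Matrix.one_mul])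
  exact mx_ext (by rw [mx_lo, pblk_zero, mx_one, mat3_one])

/-- A commutator of two elements of `Ω⁻`. -/
def IsComm (g : Iso m a b) : Prop :=
  ∃ x ∈ commutator (Iso m a b), ∃ y ∈ commutator (Iso m a b), g = x * y * x⁻¹ * y⁻¹

theorem commutator_conj {g : Iso m a b} (hg : g ∈ commutator (Iso m a b)) (c : Iso m a b) :
    c * g * c⁻¹ ∈ commutator (Iso m a b) :=
  (inferInstance : (commutator (Iso m a b)).Normal).conj_mem g hg c

theorem IsComm.of_conj {g : Iso m a b} (c : Iso m a b) (h : IsComm (c * g * c⁻¹)) : IsComm g := by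
  obtain ⟨x, hx, y, hy, e⟩ := h
  refine ⟨c⁻¹ * x * c, by simpa using commutator_conj hx c⁻¹, c⁻¹ * y * c, by simpa using commutator_conj hy c⁻¹, ?_⟩
  calc g = c⁻¹ * (c * g * c⁻¹) * c := by group
    _ = _ := by rw [e]; group

theorem radical_mem {W : Subgroup (Iso m a b)} {s : Iso m a b} (hn : ∀ w ∈ W, s * w * s⁻¹ ∈ W)
    (hf : ∀ w ∈ W, s * w = w * s → w = 1) {w : Iso m a b} (hw : w ∈ W) : w ∈ commutator (Iso m a b) := by
  obtain ⟨z, -, hz⟩ := exists_absorb hn hf hw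
  have e : w = ⁅z, s⁆ := by rw [commutatorElement_def, hz]; group
  rw [e, commutator_def]
  exact Subgroup.commutator_mem_commutator (Subgroup.mem_top _) (Subgroup.mem_top _)

theorem radicals_le (hm : 3 ≤ m) (hGL : SLFacM m a b) {g : Iso m a b}
    (hg : g ∈ (siegel m a b).U ∨ g ∈ (siegel m a b).V) : g ∈ commutator (Iso m a b) := by
  set i0 : Fin m := ⟨0, by omega⟩
  set i1 : Fin m := ⟨1, by omega⟩
  have h01 : i0 ≠ i1 := fun e => by simp [i0, i1] at e
  obtain ⟨θ, A, B, c, -, -, -, -, f2, n2, f1, n1⟩ :=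
    hGL (transvection i0 i1 1) (det_transvection_of_ne i0 i1 h01 1) (fun μ e => by
      have := congrFun (congrFun e i0) i1
      simp [transvection, h01] at this)
  rcases hg with hg | hg
  · exact radical_mem (W := (siegel m a b).U) (fun w hw => lev_conj_U hw (B, θ⁻¹))
      (fun w hw e => lev_U_commute hw f1 n1 e) hg
  · exact radical_mem (W := (siegel m a b).V) (fun w hw => lev_conj_V hw (A, θ))
      (fun w hw e => lev_V_commute hw f2 n2 e) hg

set_option maxHeartbeats 800000 in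
theorem block_comm (hm : 3 ≤ m) (hGL : SLFacM m a b) {v u : Iso m a b} (hv : v ∈ (siegel m a b).V)
    (hu : u ∈ (siegel m a b).U) {X : GL (Fin m) K} (hX : X.val.det = 1) (hns : ∀ μ : K, X.val ≠ μ • 1) :
    IsComm (v * levX X * u) := by
  obtain ⟨θ, A, B, c, hc, hAB, hsΩ, htp, f2, n2, f1, n1⟩ := hGL X.val hX hns
  have hst : lev (A, θ) * lev (B, θ⁻¹) = (levX X : Iso m a b) := by
    rw [← map_mul, Prod.mk_mul_mk, mul_inv_cancel, levX_apply, show A * B = X from Units.ext hAB]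
  set s : Iso m a b := lev (A, θ)
  set t : Iso m a b := lev (B, θ⁻¹)
  obtain ⟨x, hx, hxe⟩ := exists_absorb (s := s) (fun w hw => lev_conj_V hw (A, θ))
    (fun w hw e => lev_V_commute hw f2 n2 e) hv
  obtain ⟨y, hy, hye⟩ := exists_absorb (s := t) (fun w hw => lev_conj_U hw (B, θ⁻¹))
    (fun w hw e => lev_U_commute hw f1 n1 e) (lev_conj_U hu (B, θ⁻¹))
  have hxΩ := radical_mem (W := (siegel m a b).V) (fun w hw => lev_conj_V hw (A, θ))
    (fun w hw e => lev_V_commute hw f2 n2 e) hx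
  have hyΩ := radical_mem (W := (siegel m a b).U) (fun w hw => lev_conj_U hw (B, θ⁻¹))
    (fun w hw e => lev_U_commute hw f1 n1 e) hy
  refine ⟨x * s * x⁻¹, commutator_conj hsΩ x, y * c * x⁻¹, mul_mem (mul_mem hyΩ hc) (inv_mem hxΩ), ?_⟩
  calc v * levX X * u = (v * s) * (t * u * t⁻¹ * t) := by rw [← hst]; group
    _ = (x * s * x⁻¹) * (y * t * y⁻¹) := congrArg₂ (· * ·) hxe.symm hye.symm
    _ = _ := by rw [htp]; group

set_option maxHeartbeats 800000 in
/-- A commutator in the Levi subgroup gives a factorisation. -/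
theorem split_of_comm (hm : 3 ≤ m) {θ : Oz a b} (hθ : (levZ θ : Iso m a b) ∈ commutator (Iso m a b))
    {M A P : Matrix (Fin m) (Fin m) K} (hP : P.det = 1) (hA : IsSquare A.det) (hA0 : A.det ≠ 0)
    (hM : M * P * A = A * P) (f1 : AFree A) (f2 : AFree Aᵀ) (n1 : NoInt θ A) (n2 : NoInt θ⁻¹ Aᵀ) :
    Split m a b M := by
  let x₀ : GL (Fin m) K := GeneralLinearGroup.mk'' A (IsUnit.mk0 _ hA0)
  let p : GL (Fin m) K := GeneralLinearGroup.mk'' P (by rw [hP]; exact isUnit_one)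
  set B := p * x₀⁻¹ * p⁻¹ with hB
  have hMe : (x₀ * B).val = M := by
    have e : (x₀ * p : GL (Fin m) K).val * ((x₀⁻¹ * p⁻¹ : GL (Fin m) K)).val = M := by
      show (A * P) * _ = M
      rw [← hM, show M * P * A = M * (p * x₀).val by rw [Units.val_mul, ← Matrix.mul_assoc]; rfl, Matrix.mul_assoc,
        ← Units.val_mul, show p * x₀ * (x₀⁻¹ * p⁻¹) = 1 by group, Units.val_one, Matrix.mul_one]
    rw [← e, hB, ← Units.val_mul]
    congr 1; group
  have hBf : AFree B.val := by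
    refine ((f1.inv (IsUnit.mk0 _ hA0)).congr_left (P := P) (by rw [hP]; exact isUnit_one) ?_)
    have e : (x₀⁻¹ : GL (Fin m) K).val = A⁻¹ := coe_units_inv _
    rw [← e]
    show (p * x₀⁻¹).val = (B * p).val
    rw [hB, inv_mul_cancel_right]
  have hBn : NoInt θ⁻¹ B.val := fun Z hZ => by
    have h1 : (x₀ * p⁻¹).val * (B.val * Z) * zm θ = (x₀ * p⁻¹).val * (Z * zm θ⁻¹) * zm θ := by rw [hZ]
    rw [← Matrix.mul_assoc (x₀ * p⁻¹).val B.val Z, ← Units.val_mul, show x₀ * p⁻¹ * B = p⁻¹ by rw [hB]; group,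
      Matrix.mul_assoc (x₀ * p⁻¹).val, Matrix.mul_assoc Z, ← zm_mul, inv_mul_cancel, zm_one, Matrix.mul_one,
      Units.val_mul, Matrix.mul_assoc x₀.val] at h1
    have h2 := n1 ((p⁻¹ : GL (Fin m) K).val * Z) h1.symm
    have := congrArg (p.val * ·) h2
    simpa [← Matrix.mul_assoc] using this
  have hsΩ : (lev (x₀, θ) : Iso m a b) ∈ commutator (Iso m a b) := by
    rw [lev_eq]
    exact mul_mem ((levX_mem_iff hm x₀).2 hA) hθ
  refine ⟨θ, x₀, B, levX p, (levX_mem_iff hm p).2 (by show IsSquare P.det; rw [hP]; exact IsSquare.one),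
    hMe, hsΩ, ?_, f2, n2, hBf, hBn⟩
  rw [levX_apply, ← map_inv, ← map_inv, ← map_mul, ← map_mul, hB]
  simp

end H31.Com.Minus
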