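import Cfsg.Agent.H31.Commutator.MinusBlock
import Cfsg.Agent.H31.Commutator.PlusMain

/-!
Binary rotations in characteristic two admit no intertwiner with free matrices.
-/

set_option autoImplicit false
set_option linter.style.haveILetI false
set_option linter.unusedSectionVars false

namespace H31.Com.Minus

open Matrix H21.ClassSquare
open H43 (orthGroup qMinus polB)

variable {K : Type*} [Field K] [Fintype K] {m : ℕ} {a b : K} [Ani a b]

theorem noInt_of_afree {A : Matrix (Fin m) (Fin m) K} (hA : AFree A) {θ : Oz a b} (hd : (zm θ).det = 1)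
    (he : ∀ (v : Fin 2 → K) (c : K), zm θ *ᵥ v = c • v → v = 0) : NoInt θ A := by
  intro Z hZ
  set J : Matrix (Fin 2) (Fin 2) K := !![0, 1; -1, 0] with hJ
  have hJ' : zm θ * J * (zm θ)ᵀ = J := by
    rw [det_fin_two] at hd
    ext i j
    fin_cases i <;> fin_cases j <;> simp [J, Matrix.mul_apply, Fin.sum_univ_two] <;> first | ring1 | linear_combination hd | linear_combination -hd
  have hS : ∀ y, y ⬝ᵥ (Z * J * Zᵀ) *ᵥ y = 0 := fun y => by
    rw [← mulVec_mulVec, ← mulVec_mulVec, dotProduct_mulVec, ← mulVec_transpose]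
    simp [J, mulVec, dotProduct, Fin.sum_univ_two]
    ring
  have hz := hA _ hS (by
    rw [show A * (Z * J * Zᵀ) * Aᵀ = (A * Z) * J * (A * Z)ᵀ by rw [transpose_mul]; simp only [Matrix.mul_assoc],
      hZ, transpose_mul, show Z * zm θ * J * ((zm θ)ᵀ * Zᵀ) = Z * (zm θ * J * (zm θ)ᵀ) * Zᵀ by
        simp only [Matrix.mul_assoc], hJ'])
  have hm2 : ∀ i j, Z i 0 * Z j 1 = Z i 1 * Z j 0 := fun i j => by
    have := congrFun (congrFun hz i) j
    simp [J, Matrix.mul_apply, Fin.sum_univ_two] at this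
    linear_combination this
  by_contra hne
  obtain ⟨i, hi⟩ : ∃ i, Z i ≠ 0 := by
    by_contra hc
    push Not at hc
    exact hne (Matrix.ext fun i j => congrFun (hc i) j)
  obtain ⟨c, hc⟩ : ∃ c : K, (zm θ)ᵀ *ᵥ Z i = c • Z i := by
    have h1 : ∀ j, ∃ c : K, Z j = c • Z i := fun j => by
      by_cases h0 : Z i 0 = 0
      · have h1 : Z i 1 ≠ 0 := fun e => hi (funext fun k => by fin_cases k <;> assumption)
        refine ⟨Z j 1 / Z i 1, funext fun k => ?_⟩
        have := hm2 i j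
        rw [h0, zero_mul, zero_eq_mul] at this
        fin_cases k
        · simp [this.resolve_left h1, h0]
        · simp; field_simp
      · refine ⟨Z j 0 / Z i 0, funext fun k => ?_⟩
        fin_cases k <;> simp <;> field_simp
        linear_combination (hm2 i j)
    choose x hx using h1
    refine ⟨A i ⬝ᵥ x, funext fun k => ?_⟩
    have h2 := congrFun (congrFun hZ i) k
    rw [Matrix.mul_apply] at h2
    simp only [mulVec, dotProduct, transpose_apply, Pi.smul_apply, smul_eq_mul, Finset.sum_mul]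
    refine (Eq.trans ?_ h2.symm).trans ?_
    · rw [Matrix.mul_apply]
      exact Finset.sum_congr rfl fun l _ => mul_comm _ _
    · exact Finset.sum_congr rfl fun j _ => by rw [hx j, Pi.smul_apply, smul_eq_mul]; ring
  have hdet : ((zm θ)ᵀ - c • (1 : Matrix (Fin 2) (Fin 2) K)).det = 0 :=
    exists_mulVec_eq_zero_iff.1 ⟨Z i, hi, by rw [sub_mulVec, smul_mulVec, one_mulVec, hc, sub_self]⟩
  rw [← det_transpose, transpose_sub, transpose_transpose, transpose_smul, transpose_one] at hdet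
  obtain ⟨v, hv0, hv⟩ := exists_mulVec_eq_zero_iff.2 hdet
  rw [sub_mulVec, smul_mulVec, one_mulVec, sub_eq_zero] at hv
  exact hv0 (he v c hv)

theorem rot_props [CharP K 2] (hm : 3 ≤ m) {θ : Oz a b}
    (hd : H43.dickson (theta m a b (levZ θ)) = 1) (h1 : θ ≠ 1) :
    (zm θ).det = 1 ∧ ∀ (v : Fin 2 → K) (c : K), zm θ *ᵥ v = c • v → v = 0 := by
  constructor
  · have h := congrArg Matrix.det (zm_gram θ)
    rw [det_mul, det_mul, det_transpose] at h
    have h2 : ((zm θ).det - 1) ^ 2 = 0 := by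
      have hG := gram_det_ne_zero (a := a) (b := b)
      have h3 : (zm θ).det * (zm θ).det = 1 := mul_right_cancel₀ hG (by linear_combination h)
      linear_combination h3 + (1 - (zm θ).det) * (CharTwo.two_eq_zero : (2 : K) = 0)
    exact sub_eq_zero.1 (pow_eq_zero_iff two_ne_zero |>.1 h2)
  · intro v c hv
    by_contra hv0
    have h := zm_nrm θ v
    rw [hv, nrm_smul] at h
    have h2 : (c - 1) ^ 2 = 0 := by
      have h3 : c ^ 2 = 1 := mul_right_cancel₀ (nrm_ne_zero (a := a) (b := b) hv0) (by rw [one_mul]; exact h)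
      linear_combination h3 + (1 - c) * (CharTwo.two_eq_zero : (2 : K) = 0)
    rw [sub_eq_zero.1 (pow_eq_zero_iff two_ne_zero |>.1 h2), one_smul] at hv
    rcases eq_of_fix hv0 hv with e | ⟨w, hw, e⟩
    · exact h1 e
    · rw [e, (zrefl_invariants hm hw).1] at hd
      exact absurd hd (by decide)

theorem exists_rot [CharP K 2] (hm : 3 ≤ m) : ∃ θ : Oz a b,
    (levZ θ : Iso m a b) ∈ commutator (Iso m a b) ∧ θ ≠ 1 ∧ θ⁻¹ ≠ 1 ∧
      H43.dickson (theta m a b (levZ θ)) = 1 ∧ H43.dickson (theta m a b (levZ θ⁻¹)) = 1 := by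
  set e : Fin 2 → K := Pi.single 0 1 with he
  set f : Fin 2 → K := Pi.single 1 1 with hf
  have he0 : e ≠ 0 := by simp [e]
  have hf0 : f ≠ 0 := by simp [f]
  have h2 : (2 : K) = 0 := CharTwo.two_eq_zero
  have ha : a ≠ 0 := fun h0 => by
    refine gram_det_ne_zero (a := a) (b := b) ?_
    simp [gram, det_fin_two, h0, h2]
  set θ : Oz a b := zrefl e * zrefl f with hθ
  have hΩ : (levZ θ : Iso m a b) ∈ commutator (Iso m a b) :=
    (zrefl_two_mem hm he0 hf0).2 (FiniteField.isSquare_of_char_two (ringChar.eq K 2) _)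
  have h1 : θ ≠ 1 := fun h0 => by
    have h3 : zm (zrefl f : Oz a b) *ᵥ e = zm (zrefl e : Oz a b) *ᵥ e := by
      have h4 : (zrefl f : Oz a b) = zrefl e := by rw [← one_mul (zrefl f), ← zrefl_sq e, mul_assoc, ← hθ, h0, mul_one]
      rw [h4]
    rw [zrefl_self he0, zrefl_mulVec] at h3
    have h4 := congrFun h3 1
    simp [e, f, gram, nrm, dotProduct, mulVec, Fin.sum_univ_two, ha] at h4
    have hb : b ≠ 0 := fun h5 => nrm_ne_zero (a := a) (b := b) hf0 (by simp [nrm, f, h5])
    exact hb h4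
  refine ⟨θ, hΩ, h1, fun h0 => h1 (inv_eq_one.1 h0), ((omega_iff hm _).1 hΩ).1, ?_⟩
  rw [map_inv]
  exact ((omega_iff hm _).1 (inv_mem hΩ)).1

theorem slFacM_even [CharP K 2] (hm : 3 ≤ m) (h : SLFac m K) : SLFacM m a b := by
  intro M hM hns
  obtain ⟨θ, hΩ, h1, h1', hd, hd'⟩ := exists_rot (a := a) (b := b) hm
  obtain ⟨Φ, ε, hε, hε0, A, P, hA, hP, -, hMP, f1, f2⟩ := h M hM hns
  obtain ⟨d1, e1⟩ := rot_props hm hd h1
  obtain ⟨d2, e2⟩ := rot_props hm hd' h1'
  exact split_of_comm hm hΩ hP (hA ▸ hε) (hA ▸ hε0) hMP f1 f2 (noInt_of_afree f1 d1 e1) (noInt_of_afree f2 d2 e2)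

theorem noInt_one {A : Matrix (Fin m) (Fin m) K} (h : ∀ r, A *ᵥ r = r → r = 0) : NoInt (1 : Oz a b) A := by
  intro Z hZ
  rw [zm_one, Matrix.mul_one] at hZ
  refine Matrix.ext fun i j => congrFun (h (fun i => Z i j) (funext fun i => ?_)) i
  exact congrFun (congrFun hZ i) j

end H31.Com.Minus
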