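import Cfsg.Agent.H31.Commutator.MinusBlock

/-!
The factorisations in `SL_3(2)` needed for `Ω⁻(8,2)`.
-/

set_option autoImplicit false
set_option maxRecDepth 100000
set_option linter.style.longLine false

namespace H31.Com.Minus.Two

/-- Matrices `M = A P Aᵀ P⁻¹`, as bit codes of `M, A, P, P⁻¹`. -/
def swapTab : List (ℕ × ℕ × ℕ × ℕ) :=
  [(84,442,468,87),(85,396,492,115),(87,244,236,123),(93,244,172,99),(94,172,468,87),(95,396,204,114),
  (98,396,380,117),(99,500,244,95),(102,492,124,124),(106,244,428,107),(110,500,468,87),(111,204,372,93),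
  (114,412,84,84),(115,156,412,111),(117,204,500,94),(123,244,492,115),(124,354,348,125),(125,156,156,102),
  (140,354,84,84),(141,500,156,102),(142,244,500,94),(156,370,172,99),(157,396,460,122),(159,244,372,93),
  (161,244,116,92),(167,500,340,85),(171,244,244,95),(172,250,92,116),(174,354,492,115),(177,396,188,103),
  (179,492,244,95),(181,226,348,125),(183,412,396,106),(185,486,156,102),(187,396,212,86),(190,500,204,114),
  (204,426,124,124),(206,500,444,110),(207,172,428,107),(213,102,380,117),(214,396,236,123),(215,114,244,95),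
  (226,492,116,92),(229,500,140,98),(230,156,468,87),(233,500,116,92),(234,396,84,84),(236,114,116,92),
  (241,172,172,99),(244,106,244,95),(247,396,412,111),(249,370,140,98),(250,500,492,115),(253,396,500,94),
  (266,500,212,86),(267,172,412,111),(271,370,500,94),(275,396,428,107),(277,244,188,103),(279,172,500,94),
  (281,354,204,114),(282,244,460,122),(286,500,372,93),(299,486,428,107),(302,244,340,85),(303,396,124,124),
  (305,226,396,106),(309,396,468,87),(313,244,92,116),(314,334,500,94),(318,354,212,86),(331,412,444,110),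
  (334,172,396,106),(335,244,444,110),(337,244,84,84),(340,426,340,85),(342,204,204,114),(345,396,140,98),
  (346,500,396,106),(348,442,348,125),(354,412,460,122),(355,244,348,125),(359,172,124,124),(370,396,244,95),
  (372,94,372,93),(375,204,444,110),(379,500,380,117),(380,114,428,107),(382,244,204,114),(395,492,444,110),
  (396,370,212,86),(397,244,156,102),(401,172,188,103),(403,244,396,106),(410,334,204,114),(412,354,172,99),
  (415,500,236,123),(417,500,124,124),(419,172,116,92),(421,250,116,92),(423,244,468,87),(425,226,460,122),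
  (426,500,348,125),(431,156,428,107),(442,244,380,117),(444,106,380,117),(445,204,468,87),(458,244,212,86),
  (459,354,124,124),(461,226,84,84),(465,396,172,99),(468,94,468,87),(470,156,372,93),(474,396,396,106),
  (477,204,492,115),(478,244,412,111),(481,190,460,122),(485,244,140,98),(486,396,340,85),(489,244,124,124),
  (491,396,116,92),(492,354,500,94),(498,204,212,86),(499,172,460,122),(500,426,140,98)]

/-- Matrices `M = A P A⁻¹ P⁻¹`, as bit codes of `M, A, P, P⁻¹`. -/
def commTab : List (ℕ × ℕ × ℕ × ℕ) :=
  [(86,396,460,122),(92,354,84,84),(103,500,372,93),(107,244,188,103),(116,426,460,122),(122,244,124,124),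
  (143,244,84,84),(158,244,468,87),(163,244,340,85),(165,500,444,110),(169,244,212,86),(188,354,396,106),
  (205,500,396,106),(212,426,84,84),(225,500,468,87),(239,396,340,85),(242,396,500,94),(254,500,124,124),
  (270,500,340,85),(285,244,396,106),(298,244,492,115),(307,172,372,93),(311,396,156,102),(317,396,244,95),
  (330,500,116,92),(339,244,92,116),(351,500,212,86),(358,396,92,116),(369,396,444,110),(377,244,236,123),
  (394,244,372,93),(405,204,140,98),(407,244,172,99),(409,172,140,98),(428,354,244,95),(443,244,460,122),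
  (460,354,380,117),(467,396,140,98),(473,396,428,107),(482,396,84,84),(494,244,116,92),(501,204,156,102)]

/-- An entry of a coded matrix. -/
def bit (c i j : ℕ) : ℕ := c / 2 ^ (3 * i + j) % 2

/-- An entry of a product modulo 2. -/
def mulC (f g : ℕ → ℕ → ℕ) (i j : ℕ) : ℕ := (f i 0 * g 0 j + f i 1 * g 1 j + f i 2 * g 2 j) % 2

/-- Equality of coded matrices. -/
def eqC (f g : ℕ → ℕ → ℕ) : Bool := (List.range 3).all fun i => (List.range 3).all fun j => f i j % 2 == g i j % 2

/-- The unit matrix. -/
def oneC (i j : ℕ) : ℕ := if i = j then 1 else 0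

/-- `A` is a root of an irreducible cubic. -/
def rootC (A : ℕ → ℕ → ℕ) : Bool :=
  eqC (fun i j => mulC (mulC A A) A i j + A i j + oneC i j) (fun _ _ => 0) ||
    eqC (fun i j => mulC (mulC A A) A i j + mulC A A i j + oneC i j) (fun _ _ => 0)

/-- Check of a row of `swapTab`. -/
def swapOk : ℕ × ℕ × ℕ × ℕ → Bool
  | (M, A, P, Q) => rootC (bit A) && eqC (mulC (bit P) (bit Q)) oneC &&
      eqC (mulC (bit M) (bit P)) (mulC (mulC (bit A) (bit P)) fun i j => bit A j i)

/-- Check of a row of `commTab`. -/
def commOk : ℕ × ℕ × ℕ × ℕ → Bool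
  | (M, A, P, Q) => rootC (bit A) && eqC (mulC (bit P) (bit Q)) oneC &&
      eqC (mulC (mulC (bit M) (bit P)) (bit A)) (mulC (bit A) (bit P))

theorem swapTab_ok : swapTab.all swapOk = true := by decide +kernel

theorem commTab_ok : commTab.all commOk = true := by decide +kernel

/-- The determinant modulo 2. -/
def detC (f : ℕ → ℕ → ℕ) : ℕ :=
  (f 0 0 * (f 1 1 * f 2 2 + f 1 2 * f 2 1) + f 0 1 * (f 1 0 * f 2 2 + f 1 2 * f 2 0) +
    f 0 2 * (f 1 0 * f 2 1 + f 1 1 * f 2 0)) % 2

theorem cover : (List.range 512).all (fun M => detC (bit M) == 0 || eqC (bit M) oneC ||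
    swapTab.any (fun e => e.1 == M) || commTab.any fun e => e.1 == M) = true := by decide +kernel

end H31.Com.Minus.Two
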