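import Cfsg.Agent.H31.Commutator.Small

/-!
Families of blocks with a fixed tail, and factorisations with one further forbidden root.
-/

set_option autoImplicit false
set_option linter.unusedSectionVars false

namespace H31.Com

open Matrix Polynomial
open H89.CN (Sim Dec)

variable {K : Type*} [Field K]

theorem dec_reindex {n n' : ℕ} (e : Fin n ≃ Fin n') {A : Matrix (Fin n) (Fin n) K} {l : List K[X]} (h : Dec A l) :
    Dec (Matrix.reindex e e A) l := by
  cases l with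
  | nil =>
    show n' = 0
    have h' : n = 0 := h
    have := Fintype.card_congr e
    simp only [Fintype.card_fin] at this
    omega
  | cons f l =>
    obtain ⟨hf, hf0, N, c, B, hs, h2⟩ := h
    refine ⟨hf, hf0, N, c.trans e, B, ?_, h2⟩
    refine (Sim.reindex hs e).trans ((congrArg (fun X => Sim X _) ?_).mpr (Sim.refl _))
    ext i j; simp

theorem dec_join : ∀ {l₁ : List K[X]} {n₁ : ℕ} {A₁ : Matrix (Fin n₁) (Fin n₁) K}, Dec A₁ l₁ →
    ∀ {n₂ : ℕ} {A₂ : Matrix (Fin n₂) (Fin n₂) K} {l₂ : List K[X]}, Dec A₂ l₂ →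
    ∀ {n : ℕ} (e : Fin n₁ ⊕ Fin n₂ ≃ Fin n),
      Dec (Matrix.reindex e e (fromBlocks A₁ 0 0 A₂)) (l₁ ++ l₂)
  | [], n₁, A₁, h, n₂, A₂, l₂, h₂, n, e => by
    obtain rfl : n₁ = 0 := h
    have h' := dec_reindex ((Equiv.emptySum (Fin 0) (Fin n₂)).symm.trans e) h₂
    refine (congrArg (fun X => Dec X ([] ++ l₂)) ?_).mpr h'
    ext x y
    obtain ⟨u, rfl⟩ := e.surjective x
    obtain ⟨v, rfl⟩ := e.surjective y
    rcases u with u | u
    · exact u.elim0
    rcases v with v | v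
    · exact v.elim0
    simp [Equiv.emptySum]
  | f :: l₁, n₁, A₁, ⟨hf, hf0, N, e₁, B, hs, h1⟩, n₂, A₂, l₂, h₂, n, e => by
    let c : Fin N ⊕ Fin n₂ ≃ Fin (N + n₂) := finSumFinEquiv
    refine ⟨hf, hf0, N + n₂,
      ((Equiv.refl _).sumCongr c.symm).trans ((Equiv.sumAssoc _ _ _).symm.trans ((e₁.sumCongr (Equiv.refl _)).trans e)),
      Matrix.reindex c c (fromBlocks B 0 0 A₂), ?_, dec_join h1 h₂ c⟩
    refine (Sim.reindex (Sim.blocks hs (Sim.refl A₂)) e).trans ?_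
    refine (congrArg (fun X => Sim X _) ?_).mpr (Sim.refl _)
    ext x y
    obtain ⟨u, rfl⟩ := e.surjective x
    obtain ⟨v, rfl⟩ := e.surjective y
    rcases u with u | u
    · obtain ⟨u, rfl⟩ := e₁.surjective u
      rcases v with v | v
      · obtain ⟨v, rfl⟩ := e₁.surjective v
        rcases u with u | u <;> rcases v with v | v <;> simp
      · rcases u with u | u <;> simp
    · rcases v with v | v
      · obtain ⟨v, rfl⟩ := e₁.surjective v
        rcases v with v | v <;> simp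
      · simp

/-- A family with a fixed tail, indexed by the size of the moving part. -/
def WithTail (P : List K[X] → ℕ → Prop) (T : List K[X]) (l : List K[X]) (d : ℕ) : Prop :=
  ∃ l₀, P l₀ d ∧ l = l₀ ++ T

theorem shrinks_withTail {P : List K[X] → ℕ → Prop} {lo : ℕ} (hP : Shrinks P lo) (T : List K[X]) :
    Shrinks (WithTail P T) lo := by
  rintro l d j n A ⟨l₀, h₀, rfl⟩ h2 hlo hA
  obtain ⟨n₁, n₂, A₁, A₂, hs, d₁, d₂⟩ := dec_append hA
  obtain ⟨l', N, A', hr, hA', hl'⟩ := hP l₀ d j n₁ A₁ h₀ h2 hlo d₁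
  obtain ⟨r, c, hrc⟩ := (hr.sum (Red.zero A₂)).of_simTo hs
  let e : Fin N ⊕ Fin n₂ ≃ Fin (N + n₂) := finSumFinEquiv
  refine ⟨l' ++ T, N + n₂, Matrix.reindex e e (fromBlocks A' 0 0 A₂), ?_, dec_join hA' d₂ e, l', hl', rfl⟩
  refine ⟨r.submatrix id e.symm, c.submatrix e.symm id, hrc.trans ?_⟩
  refine ⟨(Equiv.refl _).sumCongr e.symm, ?_⟩
  refine (congrArg (fun X => Sim _ X) ?_).mpr (Sim.refl _)
  ext x y
  rcases x with x | x <;> rcases y with y | y <;> simp [Matrix.mul_apply, Matrix.one_apply]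

variable {S : Set K[X]} {p : K[X]}

/-- Against one more polynomial. -/
theorem FG.toFR1 (hS : Free S) (hp : Against S p) {ε : K} {l : List K[X]} (h : FG S ε l) :
    FR (insert p S) ε l := fun n A hA => by
  obtain ⟨Φ, hΦ, hf⟩ := h n A hA
  refine ⟨Φ, ?_, hf.free (coprime_reverse hS hΦ hΦ)⟩
  rintro t (rfl | ht)
  · obtain ⟨c1, c2⟩ := closure_rev hp hΦ
    exact ⟨c2, c1⟩
  · exact ⟨coprime_reverse hS hΦ (Submonoid.subset_closure ht), coprime_reverse hS (Submonoid.subset_closure ht) hΦ⟩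

theorem FR.append1 (hS : Free S) (hp : Against S p) {ε δ : K} {l l' : List K[X]} (h : FR (insert p S) ε l)
    (h' : FG S δ l') : FR (insert p S) (ε * δ) (l ++ l') := fun n A hA => by
  obtain ⟨n₁, n₂, A₁, A₂, hs, d₁, d₂⟩ := dec_append hA
  obtain ⟨Φ, m₁, f₁⟩ := h n₁ A₁ d₁
  obtain ⟨Ψ, m₂, f₂⟩ := h' n₂ A₂ d₂
  obtain ⟨c1, c2⟩ := closure_rev (fun t ht => m₁ t (Set.mem_insert_of_mem _ ht)) m₂
  refine ⟨Φ * Ψ, fun t ht => ?_, (f₁.sum (f₂.free (coprime_reverse hS m₂ m₂)) c1 c2).of_simTo hs⟩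
  obtain ⟨d1, d2⟩ := m₁ t ht
  have h3 : IsCoprime Ψ t.reverse ∧ IsCoprime t Ψ.reverse := by
    rcases ht with rfl | ht
    · obtain ⟨e1, e2⟩ := closure_rev hp m₂
      exact ⟨e2, e1⟩
    · exact ⟨coprime_reverse hS m₂ (Submonoid.subset_closure ht), coprime_reverse hS (Submonoid.subset_closure ht) m₂⟩
  exact ⟨d1.mul_left h3.1, by rw [reverse_mul_of_domain]; exact d2.mul_right h3.2⟩

theorem against_insert (hp : Against S p) (hS : Free S) {a : K[X]} (ha : a ∈ S) : Against (insert p S) a := by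
  rintro t (rfl | ht)
  · exact ⟨(hp a ha).2, (hp a ha).1⟩
  · exact ⟨hS a ha t ht, hS t ht a ha⟩

end H31.Com
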