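import Cfsg.Agent.H31.Commutator.DataO

/-!
Witness tables without fixed vectors over three elements.
-/

set_option autoImplicit false
set_option maxHeartbeats 4000000
set_option maxRecDepth 100000
set_option linter.style.longLine false
set_option linter.unusedVariables false

namespace H31.Com.DO

open Matrix Polynomial

def c2o4 : Tbl :=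
  [([[1,0],[2],[2]], [[1,2,2,2],[2,2,2,0],[2,0,0,0],[1,0,1,0]], [[0,0,2,0],[0,2,0,2],[0,0,1,1],[2,1,1,0]], [[1,0,0,0],[0,1,0,0],[2,1,1,0],[1,0,1,1]], [[1,0,0,0],[0,1,1,2],[0,0,1,1],[0,0,0,1]], [[1,0,0,0],[0,1,0,0],[0,0,1,0],[0,0,0,1]]),
  ([[1,1],[2],[2]], [[2,1,2,1],[2,2,1,0],[0,1,0,0],[0,0,1,2]], [[2,0,1,2],[0,0,1,0],[2,1,2,2],[2,1,2,1]], [[1,0,0,0],[0,1,0,0],[0,2,1,0],[0,1,2,1]], [[1,2,0,2],[0,1,2,1],[0,0,1,0],[0,0,0,1]], [[1,0,0,0],[0,1,0,0],[0,0,1,0],[0,0,0,1]]),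
  ([[1,2],[2],[2]], [[1,0,2,1],[0,2,1,0],[1,2,0,2],[2,2,1,1]], [[2,0,1,2],[0,1,2,2],[0,2,2,2],[2,2,1,0]], [[1,0,0,0],[0,1,0,0],[1,2,1,0],[1,1,1,1]], [[1,2,1,0],[0,1,0,0],[0,0,1,2],[0,0,0,1]], [[1,0,0,0],[0,1,0,0],[0,0,1,0],[0,0,0,1]])]

theorem c2o4_ok : tblOk 3 [[1],g3m] c2o4 = true := by decide +kernel

theorem c2o4_keys : keys c2o4 = ((detV 3 2 1).map fun a => [a, [2], [2]]) := by decide +kernel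

def cjp6 : Tbl :=
  [([[1,0],[1,0],[1,1]], [[2,1,2,0,2,1],[1,0,2,0,0,1],[1,1,1,2,2,1],[0,2,1,1,1,2],[0,1,2,0,1,0],[1,1,2,0,2,2]], [[1,1,2,2,0,2],[2,1,1,1,2,0],[1,1,1,1,0,2],[2,1,2,0,0,2],[2,0,0,0,2,2],[0,1,2,2,0,0]], [[1,0,0,0,0,0],[2,1,0,0,0,0],[1,0,1,0,0,0],[0,1,0,1,0,0],[0,0,1,2,1,0],[0,2,2,0,0,1]], [[1,1,0,0,2,1],[0,1,2,1,1,0],[0,0,1,2,2,0],[0,0,0,1,2,0],[0,0,0,0,1,2],[0,0,0,0,0,1]], [[1,0,0,0,0,0],[1,1,0,0,0,0],[1,2,1,0,0,0],[1,1,0,1,0,0],[1,1,0,2,1,0],[2,0,2,1,0,1]]),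
  ([[1,0],[1,1],[1,1]], [[2,1,1,2,1,1],[0,2,0,0,0,2],[2,2,2,2,2,0],[1,1,0,0,2,1],[0,2,1,0,0,1],[1,2,0,0,2,0]], [[2,1,1,0,2,1],[0,1,0,1,0,2],[0,0,0,2,1,1],[2,1,0,1,1,1],[2,0,1,2,2,1],[0,1,0,2,0,1]], [[1,0,0,0,0,0],[1,1,0,0,0,0],[1,0,1,0,0,0],[0,0,1,1,0,0],[1,0,2,1,1,0],[2,0,1,0,1,1]], [[1,1,2,0,2,2],[0,1,0,0,1,1],[0,0,1,1,2,0],[0,0,0,1,0,0],[0,0,0,0,1,2],[0,0,0,0,0,1]], [[1,0,0,0,0,0],[0,1,0,0,0,0],[0,0,1,0,0,0],[0,0,0,1,0,0],[0,0,0,0,1,0],[0,0,0,0,0,1]]),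
  ([[1,0],[1,2],[1,1]], [[0,0,2,2,2,0],[1,0,0,2,2,0],[2,2,2,1,0,0],[2,0,0,0,2,0],[0,1,0,0,1,0],[0,1,0,0,2,2]], [[2,2,1,0,1,0],[2,2,1,1,2,0],[0,2,2,0,2,0],[1,0,2,1,2,0],[1,1,2,2,2,0],[1,1,2,2,0,2]], [[1,0,0,0,0,0],[2,1,0,0,0,0],[1,0,1,0,0,0],[0,1,1,1,0,0],[0,1,2,0,1,0],[0,2,2,0,2,1]], [[1,1,2,0,1,1],[0,1,0,0,2,0],[0,0,1,1,2,1],[0,0,0,1,0,2],[0,0,0,0,1,0],[0,0,0,0,0,1]], [[1,0,0,0,0,0],[0,1,0,0,0,0],[1,0,1,0,0,0],[0,2,1,1,0,0],[0,0,2,2,1,0],[0,1,0,2,1,1]]),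
  ([[1,1],[1,0],[1,1]], [[0,1,1,2,2,2],[0,2,1,1,0,0],[1,1,0,0,1,1],[2,0,0,1,0,2],[0,2,2,0,1,1],[0,2,2,0,2,1]], [[2,2,1,0,1,0],[1,0,1,1,2,2],[2,1,1,1,0,2],[2,0,0,0,2,0],[0,0,0,0,2,1],[0,1,2,2,1,0]], [[1,0,0,0,0,0],[1,1,0,0,0,0],[1,1,1,0,0,0],[1,2,0,1,0,0],[1,0,1,0,1,0],[2,1,0,1,2,1]], [[1,0,0,0,1,1],[0,1,1,0,1,2],[0,0,1,0,2,0],[0,0,0,1,1,2],[0,0,0,0,1,0],[0,0,0,0,0,1]], [[1,0,0,0,0,0],[0,1,0,0,0,0],[0,0,1,0,0,0],[0,0,0,1,0,0],[0,0,0,0,1,0],[0,0,0,0,0,1]]),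
  ([[1,1],[1,1],[1,1]], [[0,2,2,2,0,0],[1,2,2,2,0,1],[1,1,2,0,0,1],[0,2,2,2,2,0],[2,1,2,0,2,1],[1,1,2,2,2,0]], [[1,0,2,2,1,0],[1,0,2,0,1,2],[0,1,1,0,1,2],[1,2,0,0,1,2],[1,0,0,2,0,0],[1,1,1,1,2,0]], [[1,0,0,0,0,0],[0,1,0,0,0,0],[1,0,1,0,0,0],[0,0,0,1,0,0],[0,2,0,1,1,0],[0,0,2,0,2,1]], [[1,1,1,1,0,2],[0,1,0,1,2,2],[0,0,1,0,2,1],[0,0,0,1,1,2],[0,0,0,0,1,2],[0,0,0,0,0,1]], [[1,0,0,0,0,0],[1,1,0,0,0,0],[2,1,1,0,0,0],[1,2,2,1,0,0],[2,2,0,1,1,0],[1,0,0,1,2,1]]),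
  ([[1,1],[1,2],[1,1]], [[0,0,0,0,0,2],[0,2,0,2,1,2],[1,0,0,1,2,1],[1,0,1,2,2,0],[0,0,1,0,0,1],[1,2,0,0,1,1]], [[1,2,1,2,1,1],[1,1,0,2,1,1],[1,0,0,0,1,0],[1,0,2,1,2,0],[1,2,2,0,0,1],[2,0,0,0,0,0]], [[1,0,0,0,0,0],[1,1,0,0,0,0],[1,2,1,0,0,0],[2,2,1,1,0,0],[0,1,1,2,1,0],[0,0,0,0,2,1]], [[1,1,2,2,1,2],[0,1,2,2,0,2],[0,0,1,2,0,1],[0,0,0,1,0,0],[0,0,0,0,1,2],[0,0,0,0,0,1]], [[1,0,0,0,0,0],[0,1,0,0,0,0],[1,2,1,0,0,0],[1,1,1,1,0,0],[2,1,0,2,1,0],[0,0,2,0,1,1]]),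
  ([[1,2],[1,0],[1,1]], [[1,2,2,0,2,0],[1,2,2,0,2,2],[0,1,2,0,2,1],[2,1,2,1,2,2],[2,2,0,2,1,1],[2,0,2,1,2,0]], [[1,0,2,2,0,1],[1,2,0,1,0,2],[1,0,2,1,2,1],[0,1,1,0,0,1],[1,1,0,0,1,1],[1,2,0,0,0,0]], [[1,0,0,0,0,0],[2,1,0,0,0,0],[0,2,1,0,0,0],[0,1,2,1,0,0],[0,2,1,2,1,0],[0,2,1,0,0,1]], [[1,0,2,1,2,1],[0,1,0,0,0,2],[0,0,1,0,2,1],[0,0,0,1,2,2],[0,0,0,0,1,0],[0,0,0,0,0,1]], [[1,0,0,0,0,0],[0,1,0,0,0,0],[0,0,1,0,0,0],[0,0,0,1,0,0],[0,0,0,0,1,0],[0,0,0,0,0,1]]),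
  ([[1,2],[1,1],[1,1]], [[1,2,1,0,2,2],[2,1,2,0,0,1],[2,0,0,0,2,0],[0,0,1,0,1,2],[1,0,1,2,1,2],[0,1,2,0,1,0]], [[1,1,2,0,0,0],[2,0,2,1,0,0],[1,2,2,1,0,2],[1,1,2,1,2,0],[2,2,0,0,0,0],[0,1,2,0,0,2]], [[1,0,0,0,0,0],[2,1,0,0,0,0],[1,2,1,0,0,0],[2,2,2,1,0,0],[1,1,0,1,1,0],[0,2,2,2,2,1]], [[1,2,0,2,2,0],[0,1,2,0,0,2],[0,0,1,1,2,1],[0,0,0,1,0,0],[0,0,0,0,1,1],[0,0,0,0,0,1]], [[1,0,0,0,0,0],[0,1,0,0,0,0],[0,0,1,0,0,0],[0,0,0,1,0,0],[0,0,0,0,1,0],[0,0,0,0,0,1]]),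
  ([[1,2],[1,2],[1,1]], [[2,1,1,0,2,0],[2,1,2,2,1,1],[1,1,1,1,1,1],[1,2,2,0,1,2],[0,2,0,0,0,0],[1,2,0,0,1,2]], [[1,1,1,1,1,1],[0,0,0,0,2,0],[0,0,0,2,0,1],[2,0,1,0,2,1],[1,2,2,1,1,0],[2,0,0,2,0,0]], [[1,0,0,0,0,0],[1,1,0,0,0,0],[1,1,1,0,0,0],[2,2,2,1,0,0],[0,0,2,2,1,0],[0,0,0,1,1,1]], [[1,2,1,2,1,1],[0,1,1,2,0,2],[0,0,1,2,1,2],[0,0,0,1,2,2],[0,0,0,0,1,0],[0,0,0,0,0,1]], [[1,0,0,0,0,0],[2,1,0,0,0,0],[2,0,1,0,0,0],[0,0,1,1,0,0],[2,0,0,1,1,0],[2,2,2,0,0,1]])]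

theorem cjp6_ok : tblOk 3 [g6p] cjp6 = true := by decide +kernel

theorem cjp6_keys : keys cjp6 = ((detV 3 2 1).flatMap fun a => (detV 3 2 1).map fun b => [a, b, [1, 1]]) := by decide +kernel

def cmmp6 : Tbl :=
  [([[1,0],[1,0],[1],[1]], [[2,1,1,2,1,1],[2,2,1,1,2,1],[2,0,2,1,2,1],[0,0,2,1,0,2],[1,0,2,2,0,1],[2,1,1,1,0,2]], [[0,1,2,1,2,1],[0,0,0,0,1,1],[0,2,1,0,2,2],[2,0,2,2,2,1],[1,1,2,2,1,0],[2,1,1,1,0,2]], [[1,0,0,0,0,0],[0,1,0,0,0,0],[2,1,1,0,0,0],[1,0,0,1,0,0],[2,0,2,2,1,0],[2,0,1,2,2,1]], [[1,1,2,2,0,2],[0,1,1,2,1,2],[0,0,1,2,0,2],[0,0,0,1,0,1],[0,0,0,0,1,2],[0,0,0,0,0,1]], [[1,0,0,0,0,0],[0,1,0,0,0,0],[0,0,1,0,0,0],[0,0,0,1,0,0],[0,0,0,0,1,0],[0,0,0,0,0,1]]),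
  ([[1,0],[1,1],[1],[1]], [[1,1,1,2,2,2],[0,2,2,0,1,2],[1,2,2,1,0,1],[1,0,2,0,1,1],[0,2,1,0,2,1],[0,1,1,2,1,0]], [[1,1,2,1,2,1],[0,1,0,0,1,0],[0,0,1,2,0,1],[1,0,1,1,2,2],[1,2,0,2,1,2],[1,0,2,0,0,1]], [[1,0,0,0,0,0],[2,1,0,0,0,0],[2,2,1,0,0,0],[1,2,0,1,0,0],[0,2,1,1,1,0],[2,1,2,2,0,1]], [[1,0,1,0,2,2],[0,1,0,2,0,1],[0,0,1,1,0,0],[0,0,0,1,2,1],[0,0,0,0,1,2],[0,0,0,0,0,1]], [[1,0,0,0,0,0],[0,1,0,0,0,0],[0,0,1,0,0,0],[0,0,0,1,0,0],[0,0,0,0,1,0],[0,0,0,0,0,1]]),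
  ([[1,0],[1,2],[1],[1]], [[2,0,1,1,1,2],[1,1,1,1,2,1],[2,2,2,1,2,2],[1,2,2,2,2,2],[0,2,1,0,1,2],[2,2,0,0,2,0]], [[1,1,1,0,2,1],[1,0,1,2,2,0],[2,1,1,1,0,2],[1,1,0,1,2,1],[1,2,1,1,2,1],[2,0,1,0,2,0]], [[1,0,0,0,0,0],[0,1,0,0,0,0],[0,1,1,0,0,0],[2,2,1,1,0,0],[0,1,0,0,1,0],[2,0,1,0,0,1]], [[1,0,2,2,0,2],[0,1,2,1,2,1],[0,0,1,1,1,0],[0,0,0,1,0,1],[0,0,0,0,1,1],[0,0,0,0,0,1]], [[1,0,0,0,0,0],[0,1,0,0,0,0],[1,2,1,0,0,0],[0,1,1,1,0,0],[0,1,2,2,1,0],[2,1,0,2,0,1]]),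
  ([[1,1],[1,0],[1],[1]], [[2,2,0,1,1,0],[1,2,1,2,0,2],[0,2,1,1,0,2],[1,0,1,2,2,1],[2,0,1,1,1,1],[1,1,2,1,1,2]], [[2,0,0,0,2,2],[2,0,0,1,2,0],[2,1,1,0,0,1],[1,1,2,0,1,1],[1,2,1,1,0,1],[1,2,2,2,2,2]], [[1,0,0,0,0,0],[1,1,0,0,0,0],[2,1,1,0,0,0],[1,1,1,1,0,0],[2,1,1,0,1,0],[2,1,1,0,2,1]], [[1,0,1,2,2,1],[0,1,0,2,0,0],[0,0,1,1,1,2],[0,0,0,1,0,0],[0,0,0,0,1,2],[0,0,0,0,0,1]], [[1,0,0,0,0,0],[1,1,0,0,0,0],[0,1,1,0,0,0],[1,2,1,1,0,0],[1,2,0,0,1,0],[1,1,0,2,0,1]]),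
  ([[1,1],[1,1],[1],[1]], [[1,1,1,0,1,2],[2,1,1,2,0,0],[2,1,2,0,0,0],[1,2,1,1,2,2],[2,0,1,0,1,1],[1,2,2,1,2,1]], [[0,2,0,2,2,0],[2,2,2,0,0,2],[2,0,1,1,1,2],[1,2,0,2,2,1],[2,2,1,2,1,0],[2,0,1,2,1,1]], [[1,0,0,0,0,0],[2,1,0,0,0,0],[1,1,1,0,0,0],[2,0,1,1,0,0],[1,2,1,0,1,0],[2,1,2,0,1,1]], [[1,1,1,0,0,2],[0,1,1,1,0,1],[0,0,1,1,0,1],[0,0,0,1,1,0],[0,0,0,0,1,2],[0,0,0,0,0,1]], [[1,0,0,0,0,0],[1,1,0,0,0,0],[0,0,1,0,0,0],[0,1,1,1,0,0],[1,1,2,1,1,0],[1,1,2,0,1,1]]),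
  ([[1,1],[1,2],[1],[1]], [[2,2,0,2,2,0],[1,2,2,1,2,1],[1,2,1,2,2,1],[2,2,2,0,2,1],[1,0,1,2,1,0],[2,0,0,0,1,0]], [[0,1,2,0,2,1],[2,2,0,1,0,2],[0,0,1,2,2,1],[0,2,2,2,2,1],[0,1,2,0,2,2],[2,1,2,1,0,0]], [[1,0,0,0,0,0],[2,1,0,0,0,0],[1,0,1,0,0,0],[0,2,0,1,0,0],[2,2,1,0,1,0],[0,1,0,2,0,1]], [[1,0,1,2,2,0],[0,1,2,0,0,0],[0,0,1,2,2,2],[0,0,0,1,0,2],[0,0,0,0,1,2],[0,0,0,0,0,1]], [[1,0,0,0,0,0],[2,1,0,0,0,0],[1,0,1,0,0,0],[0,2,1,1,0,0],[1,2,2,1,1,0],[0,1,1,0,2,1]]),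
  ([[1,2],[1,0],[1],[1]], [[0,2,0,1,1,1],[1,0,2,1,1,2],[0,0,2,0,2,1],[0,2,1,2,2,1],[0,0,0,1,1,1],[0,2,0,2,0,0]], [[2,1,0,1,1,0],[2,0,0,0,1,0],[0,0,1,2,0,1],[1,0,0,0,2,2],[1,0,2,2,1,0],[1,0,1,1,1,1]], [[1,0,0,0,0,0],[2,1,0,0,0,0],[1,0,1,0,0,0],[0,1,2,1,0,0],[2,0,0,2,1,0],[1,2,2,0,1,1]], [[1,1,1,1,0,0],[0,1,2,2,1,0],[0,0,1,1,1,0],[0,0,0,1,0,0],[0,0,0,0,1,2],[0,0,0,0,0,1]], [[1,0,0,0,0,0],[2,1,0,0,0,0],[0,2,1,0,0,0],[1,1,0,1,0,0],[2,2,1,0,1,0],[1,0,1,0,2,1]]),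
  ([[1,2],[1,1],[1],[1]], [[2,0,2,2,2,2],[0,0,2,1,0,0],[0,2,0,2,0,1],[0,0,2,0,1,2],[0,1,1,1,2,1],[0,1,0,1,2,0]], [[2,2,1,0,1,0],[0,2,1,2,1,1],[0,0,2,2,0,2],[0,1,2,2,0,2],[0,0,0,1,1,2],[0,0,1,1,1,0]], [[1,0,0,0,0,0],[2,1,0,0,0,0],[0,2,1,0,0,0],[0,2,0,1,0,0],[2,2,2,0,1,0],[1,0,2,0,1,1]], [[1,2,2,0,2,1],[0,1,1,2,0,0],[0,0,1,2,2,0],[0,0,0,1,2,1],[0,0,0,0,1,0],[0,0,0,0,0,1]], [[1,0,0,0,0,0],[0,1,0,0,0,0],[0,0,1,0,0,0],[0,0,0,1,0,0],[0,0,0,0,1,0],[0,0,0,0,0,1]]),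
  ([[1,2],[1,2],[1],[1]], [[2,2,0,1,1,1],[1,1,1,0,0,0],[2,1,1,1,0,2],[0,2,0,1,0,2],[2,1,2,1,2,1],[0,1,0,0,0,0]], [[0,2,1,2,0,2],[0,0,0,0,0,1],[0,2,2,1,0,0],[1,0,1,1,1,0],[2,2,2,1,1,1],[1,0,1,0,1,2]], [[1,0,0,0,0,0],[0,1,0,0,0,0],[1,2,1,0,0,0],[0,1,1,1,0,0],[1,1,1,1,1,0],[0,2,2,0,2,1]], [[1,1,1,0,0,2],[0,1,1,1,0,1],[0,0,1,0,2,2],[0,0,0,1,0,2],[0,0,0,0,1,1],[0,0,0,0,0,1]], [[1,0,0,0,0,0],[0,1,0,0,0,0],[0,0,1,0,0,0],[0,0,0,1,0,0],[0,0,0,0,1,0],[0,0,0,0,0,1]])]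

theorem cmmp6_ok : tblOk 3 [g6p] cmmp6 = true := by decide +kernel

theorem cmmp6_keys : keys cmmp6 = ((detV 3 2 1).flatMap fun a => (detV 3 2 1).map fun b => [a, b, [1], [1]]) := by decide +kernel

def jm46 : Tbl :=
  [([[1,0],[1],[1],[1],[1]], [[2,1,0,1,0,1],[0,1,0,0,2,1],[0,2,2,0,2,1],[2,1,0,1,0,2],[0,2,2,2,1,1],[0,1,0,0,1,1]], [[2,1,1,0,2,0],[1,2,0,2,0,2],[1,0,2,2,0,2],[0,2,1,0,2,1],[0,1,0,0,0,2],[2,0,0,1,0,0]], [[1,0,0,0,0,0],[2,1,0,0,0,0],[0,2,1,0,0,0],[1,1,0,1,0,0],[0,0,1,2,1,0],[2,1,0,0,1,1]], [[1,1,1,1,1,1],[0,1,2,2,2,2],[0,0,1,0,2,0],[0,0,0,1,1,2],[0,0,0,0,1,2],[0,0,0,0,0,1]], [[1,0,0,0,0,0],[1,1,0,0,0,0],[0,2,1,0,0,0],[2,1,2,1,0,0],[0,1,1,1,1,0],[0,1,2,0,2,1]]),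
  ([[1,1],[1],[1],[1],[1]], [[1,0,1,0,2,0],[2,0,2,1,2,0],[1,0,1,0,0,2],[1,1,2,0,1,0],[2,1,2,0,0,0],[1,1,2,2,2,0]], [[2,2,0,0,1,2],[0,2,0,1,1,2],[1,0,0,1,2,0],[2,2,0,2,0,1],[2,2,0,1,0,2],[0,2,2,1,0,2]], [[1,0,0,0,0,0],[2,1,0,0,0,0],[1,0,1,0,0,0],[2,1,0,1,0,0],[2,0,1,2,1,0],[2,0,1,1,1,1]], [[1,1,2,1,1,2],[0,1,1,2,0,2],[0,0,1,0,0,0],[0,0,0,1,2,1],[0,0,0,0,1,1],[0,0,0,0,0,1]], [[1,0,0,0,0,0],[2,1,0,0,0,0],[1,0,1,0,0,0],[1,0,0,1,0,0],[1,0,1,1,1,0],[2,0,1,2,2,1]]),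
  ([[1,2],[1],[1],[1],[1]], [[2,1,2,1,0,0],[2,2,0,0,1,2],[2,2,0,2,1,1],[0,1,2,2,0,0],[0,2,0,1,0,2],[0,0,2,1,0,1]], [[2,1,2,0,2,1],[0,0,0,2,1,1],[0,1,2,0,0,2],[0,2,1,1,1,2],[2,1,0,1,2,0],[0,2,1,2,2,1]], [[1,0,0,0,0,0],[2,1,0,0,0,0],[0,2,1,0,0,0],[1,0,0,1,0,0],[2,0,0,0,1,0],[1,2,0,0,2,1]], [[1,2,2,0,1,2],[0,1,1,2,1,1],[0,0,1,0,0,1],[0,0,0,1,2,2],[0,0,0,0,1,2],[0,0,0,0,0,1]], [[1,0,0,0,0,0],[1,1,0,0,0,0],[1,2,1,0,0,0],[0,0,0,1,0,0],[0,1,0,1,1,0],[1,1,2,1,1,1]])]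

theorem jm46_ok : tblOk 3 [g6q] jm46 = true := by decide +kernel

theorem jm46_keys : keys jm46 = ((detV 3 2 1).map fun a => [a, [1], [1], [1], [1]]) := by decide +kernel

def pjm6 : Tbl :=
  [([[1,0,0],[1],[1,1]], [[0,2,1,2,2,1],[1,2,1,1,0,2],[2,1,0,0,1,2],[2,1,2,1,0,1],[0,0,1,1,1,0],[2,2,0,1,1,1]], [[1,0,0,0,2,2],[0,2,0,1,2,1],[2,2,1,2,2,2],[0,2,0,2,0,0],[1,2,2,2,2,1],[0,1,1,0,2,0]], [[1,0,0,0,0,0],[0,1,0,0,0,0],[1,1,1,0,0,0],[0,0,0,1,0,0],[2,2,2,2,1,0],[1,1,2,0,1,1]], [[1,1,1,1,1,2],[0,1,0,1,1,2],[0,0,1,2,0,2],[0,0,0,1,1,2],[0,0,0,0,1,1],[0,0,0,0,0,1]], [[1,0,0,0,0,0],[1,1,0,0,0,0],[1,2,1,0,0,0],[1,1,0,1,0,0],[1,2,1,0,1,0],[1,1,1,1,2,1]]),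
  ([[1,0,1],[1],[1,1]], [[0,2,1,2,1,0],[0,2,0,0,0,2],[0,2,2,2,1,0],[2,1,2,0,0,1],[1,2,1,1,0,1],[0,2,2,0,0,0]], [[1,2,2,2,0,0],[1,0,2,0,0,2],[2,0,1,0,0,0],[2,2,1,1,1,1],[2,2,2,1,1,0],[2,2,1,0,0,1]], [[1,0,0,0,0,0],[1,1,0,0,0,0],[2,0,1,0,0,0],[1,0,2,1,0,0],[0,0,2,1,1,0],[0,0,0,1,0,1]], [[1,0,1,0,1,2],[0,1,0,0,0,2],[0,0,1,2,0,2],[0,0,0,1,0,0],[0,0,0,0,1,1],[0,0,0,0,0,1]], [[1,0,0,0,0,0],[2,1,0,0,0,0],[1,2,1,0,0,0],[1,2,1,1,0,0],[0,1,1,1,1,0],[1,2,2,1,0,1]]),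
  ([[1,0,2],[1],[1,1]], [[1,2,2,2,1,1],[2,2,2,2,0,0],[2,2,0,2,1,0],[2,0,0,1,1,1],[0,1,2,0,0,2],[1,2,2,1,2,0]], [[0,2,2,1,1,0],[2,1,1,2,1,2],[2,1,0,2,1,1],[2,1,0,1,0,0],[1,1,1,1,2,2],[0,0,1,0,2,1]], [[1,0,0,0,0,0],[2,1,0,0,0,0],[0,2,1,0,0,0],[0,1,2,1,0,0],[1,1,1,0,1,0],[2,0,1,0,1,1]], [[1,0,2,2,2,0],[0,1,2,2,0,2],[0,0,1,2,0,1],[0,0,0,1,0,2],[0,0,0,0,1,1],[0,0,0,0,0,1]], [[1,0,0,0,0,0],[2,1,0,0,0,0],[0,2,1,0,0,0],[2,0,1,1,0,0],[0,2,1,2,1,0],[2,2,2,0,2,1]]),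
  ([[1,1,0],[1],[1,1]], [[1,0,0,0,0,2],[1,2,0,1,0,1],[1,1,1,0,1,0],[1,2,1,1,0,1],[0,2,0,2,2,0],[1,0,1,0,1,1]], [[0,1,1,1,2,1],[2,1,2,1,2,0],[0,2,0,1,0,0],[0,0,0,2,1,1],[1,2,1,0,2,2],[2,1,1,1,2,1]], [[1,0,0,0,0,0],[1,1,0,0,0,0],[2,0,1,0,0,0],[2,2,1,1,0,0],[0,2,1,0,1,0],[1,0,0,2,1,1]], [[1,2,2,1,0,0],[0,1,0,2,2,0],[0,0,1,1,2,1],[0,0,0,1,1,2],[0,0,0,0,1,1],[0,0,0,0,0,1]], [[1,0,0,0,0,0],[0,1,0,0,0,0],[0,0,1,0,0,0],[0,0,0,1,0,0],[0,0,0,0,1,0],[0,0,0,0,0,1]]),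
  ([[1,1,1],[1],[1,1]], [[2,1,0,1,0,2],[1,0,0,1,0,0],[0,2,1,1,2,0],[1,2,2,2,0,1],[1,2,1,0,0,2],[2,0,2,1,0,0]], [[2,2,0,2,0,1],[0,1,0,1,1,0],[2,0,0,2,0,0],[1,2,0,1,0,2],[0,1,2,2,2,2],[1,1,0,0,1,1]], [[1,0,0,0,0,0],[1,1,0,0,0,0],[1,0,1,0,0,0],[0,2,1,1,0,0],[2,2,2,1,1,0],[1,2,0,0,0,1]], [[1,2,1,1,0,1],[0,1,0,0,1,2],[0,0,1,2,0,1],[0,0,0,1,2,0],[0,0,0,0,1,1],[0,0,0,0,0,1]], [[1,0,0,0,0,0],[0,1,0,0,0,0],[2,1,1,0,0,0],[0,0,0,1,0,0],[0,0,0,1,1,0],[2,0,1,2,2,1]]),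
  ([[1,1,2],[1],[1,1]], [[2,0,1,0,0,2],[1,0,0,2,1,0],[2,1,2,1,2,1],[1,0,2,2,2,2],[1,0,2,1,2,0],[2,0,1,0,1,1]], [[1,1,0,1,2,2],[2,2,1,1,2,2],[2,1,0,2,0,1],[0,0,0,2,0,2],[2,0,0,1,1,0],[0,0,0,1,1,2]], [[1,0,0,0,0,0],[0,1,0,0,0,0],[0,2,1,0,0,0],[1,2,1,1,0,0],[0,2,1,0,1,0],[2,1,2,0,0,1]], [[1,1,2,1,0,2],[0,1,0,1,0,1],[0,0,1,0,0,2],[0,0,0,1,2,2],[0,0,0,0,1,2],[0,0,0,0,0,1]], [[1,0,0,0,0,0],[2,1,0,0,0,0],[1,0,1,0,0,0],[1,1,0,1,0,0],[0,0,1,0,1,0],[0,2,0,2,1,1]]),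
  ([[1,2,0],[1],[1,1]], [[1,0,0,1,1,0],[2,2,2,1,0,2],[1,2,2,2,1,0],[1,1,2,1,1,0],[2,1,0,0,0,2],[2,0,1,0,0,1]], [[1,2,1,1,2,1],[2,2,1,0,1,0],[0,2,1,2,1,0],[1,1,0,2,2,0],[2,0,2,0,2,2],[1,0,0,2,1,2]], [[1,0,0,0,0,0],[1,1,0,0,0,0],[1,1,1,0,0,0],[2,2,1,1,0,0],[0,0,1,0,1,0],[1,0,0,1,2,1]], [[1,0,1,0,2,2],[0,1,1,1,2,1],[0,0,1,2,0,0],[0,0,0,1,1,0],[0,0,0,0,1,0],[0,0,0,0,0,1]], [[1,0,0,0,0,0],[2,1,0,0,0,0],[2,2,1,0,0,0],[1,2,2,1,0,0],[0,0,1,0,1,0],[2,2,0,2,0,1]]),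
  ([[1,2,1],[1],[1,1]], [[2,0,2,2,0,1],[2,1,0,0,1,1],[1,1,2,1,0,2],[2,2,2,2,2,1],[1,1,1,0,2,0],[1,2,0,0,0,0]], [[0,0,1,1,2,2],[0,0,1,1,2,1],[1,0,0,2,1,2],[0,1,0,2,2,1],[1,0,2,1,1,2],[2,1,1,2,2,2]], [[1,0,0,0,0,0],[0,1,0,0,0,0],[1,2,1,0,0,0],[2,0,2,1,0,0],[0,0,1,0,1,0],[1,0,1,2,2,1]], [[1,2,1,1,1,2],[0,1,0,2,1,0],[0,0,1,0,1,2],[0,0,0,1,2,0],[0,0,0,0,1,2],[0,0,0,0,0,1]], [[1,0,0,0,0,0],[0,1,0,0,0,0],[0,0,1,0,0,0],[0,0,0,1,0,0],[0,0,0,0,1,0],[0,0,0,0,0,1]]),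
  ([[1,2,2],[1],[1,1]], [[0,1,2,2,0,0],[0,0,1,1,1,1],[2,0,2,2,1,0],[2,1,0,0,1,0],[0,1,2,2,1,0],[2,1,1,2,0,1]], [[1,0,1,1,1,0],[2,0,1,2,0,0],[0,1,1,0,1,2],[1,2,0,2,2,1],[2,0,0,0,1,0],[0,1,2,1,2,0]], [[1,0,0,0,0,0],[2,1,0,0,0,0],[1,2,1,0,0,0],[0,0,2,1,0,0],[2,2,2,0,1,0],[0,2,0,1,1,1]], [[1,0,1,2,0,0],[0,1,2,2,2,2],[0,0,1,2,1,1],[0,0,0,1,1,2],[0,0,0,0,1,0],[0,0,0,0,0,1]], [[1,0,0,0,0,0],[2,1,0,0,0,0],[1,2,1,0,0,0],[2,0,2,1,0,0],[0,2,2,1,1,0],[0,2,2,0,1,1]]),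
  ([[2,0],[2,0],[1,1]], [[1,0,0,2,1,0],[0,1,0,2,0,0],[2,2,0,0,2,1],[2,2,0,1,2,0],[2,0,1,2,1,0],[0,2,2,2,2,2]], [[1,0,2,2,2,2],[2,0,0,2,0,0],[1,0,1,1,2,1],[2,2,0,2,0,0],[2,2,1,0,1,1],[2,2,1,1,0,0]], [[1,0,0,0,0,0],[1,1,0,0,0,0],[1,2,1,0,0,0],[2,1,1,1,0,0],[0,1,1,0,1,0],[0,2,0,0,0,1]], [[1,2,2,0,2,2],[0,1,2,1,0,1],[0,0,1,2,2,0],[0,0,0,1,0,2],[0,0,0,0,1,1],[0,0,0,0,0,1]], [[1,0,0,0,0,0],[1,1,0,0,0,0],[1,0,1,0,0,0],[2,0,0,1,0,0],[1,0,0,2,1,0],[2,2,0,2,1,1]]),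
  ([[2,0],[2,1],[1,1]], [[0,0,0,1,0,0],[2,2,2,1,1,0],[0,2,2,0,0,2],[1,1,2,0,0,2],[2,2,0,2,0,2],[2,1,0,1,0,2]], [[2,0,2,1,1,2],[2,0,0,0,1,2],[0,0,1,1,2,2],[1,0,0,0,0,0],[0,1,0,2,1,0],[1,0,1,2,0,2]], [[1,0,0,0,0,0],[0,1,0,0,0,0],[1,0,1,0,0,0],[1,1,2,1,0,0],[0,1,2,0,1,0],[0,2,1,1,2,1]], [[1,1,2,2,1,0],[0,1,2,0,0,1],[0,0,1,2,2,2],[0,0,0,1,2,2],[0,0,0,0,1,2],[0,0,0,0,0,1]], [[1,0,0,0,0,0],[1,1,0,0,0,0],[1,1,1,0,0,0],[2,2,1,1,0,0],[0,0,0,0,1,0],[1,1,1,0,1,1]]),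
  ([[2,0],[2,2],[1,1]], [[2,2,2,1,1,0],[0,0,1,0,0,1],[2,1,2,0,0,1],[0,2,2,1,2,1],[0,0,1,2,1,0],[1,0,2,0,0,1]], [[0,2,2,2,2,0],[0,1,2,1,1,2],[0,0,1,1,1,1],[2,0,0,1,2,2],[2,0,2,0,2,1],[0,1,2,2,2,2]], [[1,0,0,0,0,0],[2,1,0,0,0,0],[0,0,1,0,0,0],[2,0,2,1,0,0],[0,1,2,2,1,0],[2,1,0,0,0,1]], [[1,2,1,2,0,0],[0,1,0,1,1,1],[0,0,1,2,0,2],[0,0,0,1,1,1],[0,0,0,0,1,2],[0,0,0,0,0,1]], [[1,0,0,0,0,0],[1,1,0,0,0,0],[0,2,1,0,0,0],[0,2,1,1,0,0],[0,0,0,1,1,0],[0,1,1,2,2,1]]),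
  ([[2,1],[2,0],[1,1]], [[0,2,1,0,2,1],[2,0,1,1,2,2],[1,0,0,2,1,1],[2,2,1,1,2,1],[0,2,1,1,2,0],[1,0,1,1,2,2]], [[0,1,0,0,0,2],[0,0,0,1,1,1],[0,1,1,0,0,0],[2,1,0,1,0,2],[2,2,1,0,1,1],[0,1,0,1,2,2]], [[1,0,0,0,0,0],[1,1,0,0,0,0],[2,0,1,0,0,0],[2,0,1,1,0,0],[0,0,2,2,1,0],[0,2,1,2,1,1]], [[1,2,2,1,0,0],[0,1,0,0,2,0],[0,0,1,2,1,1],[0,0,0,1,2,0],[0,0,0,0,1,1],[0,0,0,0,0,1]], [[1,0,0,0,0,0],[2,1,0,0,0,0],[2,0,1,0,0,0],[0,2,1,1,0,0],[2,2,2,2,1,0],[2,1,0,0,2,1]]),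
  ([[2,1],[2,1],[1,1]], [[1,2,0,0,2,0],[0,2,2,1,1,1],[2,1,2,2,0,2],[1,0,1,1,0,2],[2,0,0,1,0,0],[1,0,2,2,0,0]], [[2,2,1,1,2,1],[2,2,2,0,2,2],[0,0,0,0,2,2],[2,2,1,1,0,1],[2,0,2,1,0,2],[1,1,2,1,1,1]], [[1,0,0,0,0,0],[1,1,0,0,0,0],[2,0,1,0,0,0],[1,2,0,1,0,0],[0,2,0,0,1,0],[2,0,2,2,1,1]], [[1,2,2,1,0,1],[0,1,1,0,0,2],[0,0,1,1,1,0],[0,0,0,1,1,2],[0,0,0,0,1,0],[0,0,0,0,0,1]], [[1,0,0,0,0,0],[1,1,0,0,0,0],[2,1,1,0,0,0],[1,0,0,1,0,0],[1,0,0,0,1,0],[2,0,0,0,0,1]]),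
  ([[2,1],[2,2],[1,1]], [[2,2,1,1,2,2],[1,1,1,1,2,0],[0,2,2,1,1,0],[2,1,1,2,2,0],[0,1,0,0,2,2],[0,0,0,1,1,1]], [[0,0,2,2,0,0],[0,1,2,1,1,1],[1,0,2,2,1,2],[0,2,1,2,0,0],[1,2,1,1,2,0],[2,2,1,0,1,1]], [[1,0,0,0,0,0],[0,1,0,0,0,0],[2,0,1,0,0,0],[0,2,2,1,0,0],[0,0,2,1,1,0],[0,1,1,2,2,1]], [[1,2,0,0,2,0],[0,1,1,0,0,1],[0,0,1,2,1,2],[0,0,0,1,0,2],[0,0,0,0,1,1],[0,0,0,0,0,1]], [[1,0,0,0,0,0],[0,1,0,0,0,0],[0,2,1,0,0,0],[0,0,0,1,0,0],[1,1,2,1,1,0],[0,1,0,0,0,1]]),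
  ([[2,2],[2,0],[1,1]], [[1,1,2,2,2,1],[0,1,0,1,1,1],[1,2,2,1,0,0],[2,1,0,1,0,2],[2,0,2,1,0,2],[1,0,1,0,1,0]], [[0,2,2,0,2,1],[2,2,2,2,2,0],[1,1,1,2,0,0],[0,1,2,1,0,2],[2,0,0,1,1,0],[2,1,2,2,0,1]], [[1,0,0,0,0,0],[2,1,0,0,0,0],[0,2,1,0,0,0],[1,2,2,1,0,0],[2,0,2,2,1,0],[2,1,1,1,0,1]], [[1,2,0,1,2,2],[0,1,0,2,0,0],[0,0,1,0,2,1],[0,0,0,1,2,0],[0,0,0,0,1,0],[0,0,0,0,0,1]], [[1,0,0,0,0,0],[0,1,0,0,0,0],[0,0,1,0,0,0],[0,0,0,1,0,0],[0,0,0,0,1,0],[0,0,0,0,0,1]]),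
  ([[2,2],[2,1],[1,1]], [[1,1,1,1,1,2],[2,1,2,0,1,2],[0,2,1,0,1,2],[2,2,2,2,2,2],[0,0,1,0,0,2],[2,1,2,2,2,1]], [[2,2,1,1,1,1],[2,0,0,0,0,2],[1,0,0,1,1,0],[1,1,1,2,2,1],[2,0,1,0,2,2],[1,0,0,1,0,0]], [[1,0,0,0,0,0],[2,1,0,0,0,0],[1,0,1,0,0,0],[2,1,1,1,0,0],[2,2,0,0,1,0],[1,2,0,1,0,1]], [[1,1,0,0,2,0],[0,1,2,0,0,0],[0,0,1,0,0,2],[0,0,0,1,1,2],[0,0,0,0,1,1],[0,0,0,0,0,1]], [[1,0,0,0,0,0],[1,1,0,0,0,0],[2,1,1,0,0,0],[2,2,2,1,0,0],[2,2,1,0,1,0],[0,1,1,2,0,1]]),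
  ([[2,2],[2,2],[1,1]], [[0,1,2,0,2,2],[1,1,2,2,0,2],[2,0,2,2,2,1],[1,0,0,2,2,0],[2,2,2,2,1,1],[0,2,0,1,0,0]], [[0,0,1,1,2,1],[2,1,1,2,2,0],[0,1,2,0,2,2],[2,1,1,2,2,1],[1,2,0,1,0,0],[0,1,2,1,0,1]], [[1,0,0,0,0,0],[2,1,0,0,0,0],[0,2,1,0,0,0],[0,1,1,1,0,0],[1,2,0,1,1,0],[2,1,2,0,0,1]], [[1,2,1,1,0,0],[0,1,2,1,1,2],[0,0,1,2,2,2],[0,0,0,1,2,1],[0,0,0,0,1,2],[0,0,0,0,0,1]], [[1,0,0,0,0,0],[2,1,0,0,0,0],[0,2,1,0,0,0],[1,0,2,1,0,0],[0,1,2,0,1,0],[0,0,2,2,1,1]])]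

theorem pjm6_ok : tblOk 3 [g6m] pjm6 = true := by decide +kernel

theorem pjm6_keys : keys pjm6 = (((detV 3 3 2).flatMap fun a => (detV 3 1 2).map fun b => [a, b, [1, 1]]) ++ ((detV 3 2 2).flatMap fun a => (detV 3 2 2).map fun b => [a, b, [1, 1]])) := by decide +kernel

def pjm7 : Tbl :=
  [([[2,0,0,0],[1],[1,1]], [[2,0,2,2,0,0,0],[1,0,1,2,1,0,2],[0,0,0,2,1,0,2],[2,2,2,1,1,1,2],[0,2,1,1,0,2,0],[2,0,1,1,1,1,1],[1,1,0,1,1,0,0]], [[2,0,1,0,1,1,1],[2,0,0,1,2,1,1],[1,1,1,0,2,2,2],[2,2,1,0,0,0,0],[0,1,1,2,0,1,2],[1,0,2,2,2,1,1],[1,2,2,2,0,1,2]], [[1,0,0,0,0,0,0],[1,1,0,0,0,0,0],[2,1,1,0,0,0,0],[1,2,2,1,0,0,0],[1,1,0,2,1,0,0],[1,0,0,1,2,1,0],[0,1,2,2,1,2,1]],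 [[1,2,2,1,0,0,2],[0,1,0,1,0,0,2],[0,0,1,0,0,0,0],[0,0,0,1,1,1,1],[0,0,0,0,1,1,1],[0,0,0,0,0,1,1],[0,0,0,0,0,0,1]], [[1,0,0,0,0,0,0],[2,1,0,0,0,0,0],[1,0,1,0,0,0,0],[1,1,2,1,0,0,0],[2,0,2,1,1,0,0],[2,1,0,1,2,1,0],[0,0,1,2,1,2,1]]),
  ([[2,0,0,1],[1],[1,1]], [[1,1,1,2,2,0,0],[1,0,1,2,2,2,1],[1,0,2,2,1,2,2],[2,1,2,0,2,1,0],[2,0,1,1,2,0,2],[2,1,1,1,2,2,2],[0,2,1,1,0,0,0]], [[0,2,1,1,0,1,2],[1,2,1,0,1,0,0],[2,1,0,2,0,1,2],[2,1,1,1,1,2,2],[0,1,1,2,0,0,2],[1,2,1,0,2,2,0],[1,2,2,0,0,2,0]], [[1,0,0,0,0,0,0],[1,1,0,0,0,0,0],[2,0,1,0,0,0,0],[1,0,1,1,0,0,0],[1,1,0,0,1,0,0],[2,1,1,2,0,1,0],[0,1,0,1,2,1,1]], [[1,1,0,2,0,1,2],[0,1,0,1,1,1,0],[0,0,1,1,2,0,2],[0,0,0,1,2,0,2],[0,0,0,0,1,0,2],[0,0,0,0,0,1,0],[0,0,0,0,0,0,1]],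 [[1,0,0,0,0,0,0],[2,1,0,0,0,0,0],[0,0,1,0,0,0,0],[0,2,2,1,0,0,0],[1,1,2,2,1,0,0],[0,0,2,0,0,1,0],[1,0,2,1,2,2,1]]),
  ([[2,0,0,2],[1],[1,1]], [[1,1,0,2,0,0,1],[0,0,2,0,2,2,0],[1,1,0,1,1,0,1],[0,0,2,0,0,0,1],[0,0,2,2,2,1,1],[1,2,1,0,0,2,2],[1,2,1,2,1,0,2]], [[2,2,0,2,1,2,0],[1,2,1,1,1,2,2],[2,2,1,1,2,0,0],[1,0,2,2,1,1,2],[0,0,0,2,1,1,2],[1,0,2,0,0,2,1],[2,2,1,2,2,0,0]], [[1,0,0,0,0,0,0],[2,1,0,0,0,0,0],[0,2,1,0,0,0,0],[0,2,1,1,0,0,0],[0,0,0,1,1,0,0],[1,1,2,1,0,1,0],[0,0,1,1,2,1,1]], [[1,2,0,2,2,2,1],[0,1,2,2,1,1,2],[0,0,1,2,1,2,2],[0,0,0,1,2,1,1],[0,0,0,0,1,2,1],[0,0,0,0,0,1,2],[0,0,0,0,0,0,1]], [[1,0,0,0,0,0,0],[0,1,0,0,0,0,0],[0,0,1,0,0,0,0],[0,0,0,1,0,0,0],[0,0,0,0,1,0,0],[0,0,0,0,0,1,0],[0,0,0,0,0,0,1]]),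
  ([[2,0,1,0],[1],[1,1]], [[0,0,0,1,2,1,1],[2,0,0,1,1,2,2],[1,1,2,1,2,0,2],[0,0,1,0,2,1,2],[2,2,0,0,1,0,2],[0,1,0,2,2,2,1],[1,1,0,0,0,1,2]], [[2,1,1,1,1,1,2],[1,1,1,1,2,0,2],[1,1,0,1,0,2,1],[0,1,2,2,2,2,1],[1,2,1,1,0,1,1],[1,1,0,0,2,2,0],[1,0,2,2,2,0,0]], [[1,0,0,0,0,0,0],[1,1,0,0,0,0,0],[0,1,1,0,0,0,0],[0,0,1,1,0,0,0],[1,1,1,0,1,0,0],[2,1,2,1,2,1,0],[2,0,0,2,0,1,1]], [[1,0,0,2,0,0,2],[0,1,1,1,1,2,2],[0,0,1,0,0,2,0],[0,0,0,1,1,0,2],[0,0,0,0,1,2,0],[0,0,0,0,0,1,1],[0,0,0,0,0,0,1]], [[1,0,0,0,0,0,0],[0,1,0,0,0,0,0],[1,0,1,0,0,0,0],[2,1,1,1,0,0,0],[2,2,1,0,1,0,0],[2,0,2,0,0,1,0],[2,2,2,0,1,0,1]]),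
  ([[2,0,1,1],[1],[1,1]], [[2,0,0,0,2,1,0],[1,0,0,1,0,2,2],[1,2,2,0,0,0,2],[1,2,0,0,1,0,1],[2,1,0,2,1,1,1],[0,0,1,2,1,0,2],[2,1,0,1,0,2,2]], [[2,0,2,0,0,2,2],[1,2,1,0,0,1,2],[1,1,0,2,1,1,1],[0,0,2,1,0,2,0],[2,2,2,0,1,2,1],[2,2,1,0,1,1,0],[0,0,0,1,2,0,2]], [[1,0,0,0,0,0,0],[0,1,0,0,0,0,0],[2,1,1,0,0,0,0],[0,2,1,1,0,0,0],[2,1,1,2,1,0,0],[1,2,2,1,2,1,0],[0,2,0,2,0,0,1]], [[1,1,0,1,1,1,1],[0,1,2,1,2,2,1],[0,0,1,2,1,2,0],[0,0,0,1,0,2,1],[0,0,0,0,1,2,2],[0,0,0,0,0,1,2],[0,0,0,0,0,0,1]], [[1,0,0,0,0,0,0],[1,1,0,0,0,0,0],[2,1,1,0,0,0,0],[1,1,1,1,0,0,0],[0,0,1,1,1,0,0],[0,1,0,1,2,1,0],[2,1,2,1,0,0,1]]),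
  ([[2,0,1,2],[1],[1,1]], [[0,0,2,0,1,1,0],[1,1,1,2,2,0,1],[0,1,0,1,1,2,1],[1,1,0,1,2,1,0],[1,1,2,1,1,2,0],[0,1,2,0,2,2,1],[1,1,1,2,2,0,0]], [[0,1,0,2,0,2,1],[1,2,2,1,1,2,2],[0,0,1,2,2,2,2],[2,0,0,0,2,0,1],[2,0,0,2,1,0,0],[2,0,1,0,1,2,2],[0,1,0,0,0,0,2]], [[1,0,0,0,0,0,0],[2,1,0,0,0,0,0],[0,0,1,0,0,0,0],[1,0,0,1,0,0,0],[2,2,0,1,1,0,0],[0,2,1,2,1,1,0],[1,2,1,0,1,1,1]], [[1,1,0,0,1,1,0],[0,1,1,0,0,1,2],[0,0,1,2,1,2,0],[0,0,0,1,0,1,1],[0,0,0,0,1,0,0],[0,0,0,0,0,1,2],[0,0,0,0,0,0,1]], [[1,0,0,0,0,0,0],[0,1,0,0,0,0,0],[2,1,1,0,0,0,0],[0,1,1,1,0,0,0],[2,0,2,0,1,0,0],[2,0,0,1,2,1,0],[0,1,0,2,1,1,1]]),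
  ([[2,0,2,0],[1],[1,1]], [[2,0,1,2,0,1,1],[2,2,0,1,2,2,2],[2,1,0,0,2,2,1],[0,1,0,1,2,2,1],[1,0,2,0,2,1,2],[2,2,2,2,2,1,2],[2,1,1,2,0,0,2]], [[1,1,1,0,1,0,0],[2,2,0,2,0,2,0],[0,1,0,2,1,2,1],[2,2,1,1,2,0,0],[1,2,1,0,2,0,1],[2,2,1,2,1,0,2],[2,0,1,0,1,1,0]], [[1,0,0,0,0,0,0],[1,1,0,0,0,0,0],[2,0,1,0,0,0,0],[2,2,2,1,0,0,0],[2,1,0,2,1,0,0],[2,0,2,1,2,1,0],[1,1,2,0,1,0,1]], [[1,1,2,0,0,0,0],[0,1,1,0,0,1,1],[0,0,1,0,0,0,1],[0,0,0,1,2,1,1],[0,0,0,0,1,0,2],[0,0,0,0,0,1,2],[0,0,0,0,0,0,1]], [[1,0,0,0,0,0,0],[0,1,0,0,0,0,0],[0,0,1,0,0,0,0],[0,0,0,1,0,0,0],[0,0,0,0,1,0,0],[0,0,0,0,0,1,0],[0,0,0,0,0,0,1]]),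
  ([[2,0,2,1],[1],[1,1]], [[2,1,2,1,1,0,2],[2,2,1,1,0,0,1],[2,0,0,2,0,0,0],[2,1,0,2,0,1,2],[0,1,0,2,0,1,2],[0,0,1,1,1,0,0],[2,0,1,0,1,2,2]], [[0,0,0,2,1,0,0],[1,2,1,0,2,0,2],[2,2,2,0,0,1,0],[0,0,2,1,2,0,0],[1,1,2,2,1,0,0],[1,2,1,2,2,2,0],[2,1,0,1,1,2,2]], [[1,0,0,0,0,0,0],[0,1,0,0,0,0,0],[2,0,1,0,0,0,0],[1,0,2,1,0,0,0],[2,2,2,1,1,0,0],[2,2,2,1,0,1,0],[2,2,2,0,0,1,1]], [[1,0,1,1,0,2,1],[0,1,0,1,1,0,1],[0,0,1,0,2,0,0],[0,0,0,1,1,2,1],[0,0,0,0,1,1,1],[0,0,0,0,0,1,2],[0,0,0,0,0,0,1]], [[1,0,0,0,0,0,0],[1,1,0,0,0,0,0],[1,1,1,0,0,0,0],[0,1,0,1,0,0,0],[1,1,1,1,1,0,0],[0,0,0,1,1,1,0],[1,2,2,1,0,0,1]]),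
  ([[2,0,2,2],[1],[1,1]], [[2,2,2,1,1,0,0],[0,2,0,0,1,1,2],[2,0,1,2,1,1,1],[0,2,0,2,1,0,0],[2,0,0,2,0,1,1],[1,2,1,1,1,2,2],[0,0,0,1,1,1,2]], [[2,0,0,2,2,2,0],[0,0,1,0,1,2,0],[0,1,1,2,2,0,2],[0,2,2,0,2,1,1],[0,2,0,1,0,0,1],[1,2,0,2,0,1,0],[1,0,2,0,2,2,1]], [[1,0,0,0,0,0,0],[2,1,0,0,0,0,0],[2,1,1,0,0,0,0],[1,0,2,1,0,0,0],[0,0,2,0,1,0,0],[0,2,2,1,2,1,0],[2,1,0,0,0,1,1]], [[1,2,1,1,0,0,2],[0,1,0,2,1,1,2],[0,0,1,2,1,1,2],[0,0,0,1,2,1,1],[0,0,0,0,1,0,2],[0,0,0,0,0,1,1],[0,0,0,0,0,0,1]], [[1,0,0,0,0,0,0],[0,1,0,0,0,0,0],[1,1,1,0,0,0,0],[0,0,1,1,0,0,0],[1,2,2,2,1,0,0],[0,0,1,0,1,1,0],[1,1,2,1,1,0,1]]),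
  ([[2,1,0,0],[1],[1,1]], [[0,0,0,1,2,2,1],[0,2,1,0,0,1,1],[1,2,2,0,2,0,2],[0,2,1,0,0,1,0],[1,2,0,1,1,1,2],[2,1,1,0,2,1,1],[0,2,0,2,1,1,1]], [[1,1,1,2,1,1,2],[2,2,0,1,0,0,2],[2,0,1,2,2,0,1],[1,2,1,1,0,1,0],[0,1,2,0,2,1,2],[0,2,2,0,1,0,1],[0,1,0,2,0,0,0]], [[1,0,0,0,0,0,0],[2,1,0,0,0,0,0],[1,1,1,0,0,0,0],[2,2,1,1,0,0,0],[2,1,2,2,1,0,0],[1,2,1,0,0,1,0],[2,1,0,2,0,2,1]], [[1,0,2,0,1,1,2],[0,1,0,0,0,1,0],[0,0,1,2,1,0,1],[0,0,0,1,2,0,2],[0,0,0,0,1,1,1],[0,0,0,0,0,1,1],[0,0,0,0,0,0,1]], [[1,0,0,0,0,0,0],[0,1,0,0,0,0,0],[2,2,1,0,0,0,0],[1,0,0,1,0,0,0],[0,2,1,1,1,0,0],[2,0,2,0,0,1,0],[1,1,1,2,0,1,1]]),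
  ([[2,1,0,1],[1],[1,1]], [[1,0,0,0,0,0,1],[2,0,2,0,0,1,1],[0,0,2,1,0,1,2],[1,2,1,1,2,0,2],[1,0,0,0,2,2,0],[2,1,2,0,0,1,0],[2,1,2,2,1,1,2]], [[2,2,1,1,1,2,2],[2,0,2,2,2,2,1],[1,0,2,0,2,1,2],[2,2,1,0,0,0,0],[1,0,0,2,2,0,2],[1,2,1,2,1,2,0],[2,1,2,2,2,1,1]], [[1,0,0,0,0,0,0],[0,1,0,0,0,0,0],[2,2,1,0,0,0,0],[1,2,1,1,0,0,0],[1,0,1,1,1,0,0],[1,2,0,0,1,1,0],[1,0,1,2,1,1,1]], [[1,2,1,1,0,2,2],[0,1,1,1,0,2,0],[0,0,1,2,1,0,2],[0,0,0,1,0,1,0],[0,0,0,0,1,1,2],[0,0,0,0,0,1,0],[0,0,0,0,0,0,1]], [[1,0,0,0,0,0,0],[1,1,0,0,0,0,0],[0,1,1,0,0,0,0],[1,0,0,1,0,0,0],[1,0,0,1,1,0,0],[2,2,0,0,1,1,0],[0,0,0,2,1,0,1]]),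
  ([[2,1,0,2],[1],[1,1]], [[1,2,0,2,2,2,1],[0,2,2,0,0,1,2],[2,2,2,1,2,1,1],[2,2,0,1,1,1,2],[2,0,2,2,1,0,2],[2,0,1,1,0,1,2],[1,2,0,1,1,1,0]], [[1,0,2,1,0,2,2],[1,0,0,1,0,0,0],[2,1,0,1,2,1,2],[2,0,2,1,2,1,1],[0,1,0,0,2,0,2],[1,2,2,2,2,0,2],[1,0,2,0,0,2,0]], [[1,0,0,0,0,0,0],[0,1,0,0,0,0,0],[0,0,1,0,0,0,0],[0,1,0,1,0,0,0],[2,0,0,2,1,0,0],[2,1,1,2,1,1,0],[0,0,2,2,2,2,1]], [[1,0,1,1,1,0,0],[0,1,2,0,1,1,0],[0,0,1,2,0,1,1],[0,0,0,1,2,1,0],[0,0,0,0,1,1,1],[0,0,0,0,0,1,0],[0,0,0,0,0,0,1]], [[1,0,0,0,0,0,0],[0,1,0,0,0,0,0],[0,0,1,0,0,0,0],[0,0,0,1,0,0,0],[0,0,0,0,1,0,0],[0,0,0,0,0,1,0],[0,0,0,0,0,0,1]]),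
  ([[2,1,1,0],[1],[1,1]], [[2,2,1,1,1,2,2],[0,0,2,2,2,2,0],[1,1,0,1,2,2,1],[1,1,1,1,0,0,2],[2,0,1,0,1,2,1],[0,2,2,0,1,0,1],[2,2,2,2,1,1,0]], [[1,2,2,0,2,0,1],[2,0,1,2,2,1,2],[0,2,2,0,2,2,0],[0,1,1,2,2,2,1],[2,0,0,2,2,2,1],[1,2,0,2,0,0,1],[0,2,0,0,2,2,1]], [[1,0,0,0,0,0,0],[0,1,0,0,0,0,0],[1,0,1,0,0,0,0],[1,0,1,1,0,0,0],[2,0,0,0,1,0,0],[2,1,0,2,0,1,0],[1,2,2,1,1,1,1]], [[1,2,0,0,1,2,1],[0,1,1,0,2,2,2],[0,0,1,2,1,1,0],[0,0,0,1,2,1,0],[0,0,0,0,1,0,0],[0,0,0,0,0,1,0],[0,0,0,0,0,0,1]], [[1,0,0,0,0,0,0],[1,1,0,0,0,0,0],[0,1,1,0,0,0,0],[0,1,1,1,0,0,0],[0,2,0,0,1,0,0],[2,2,2,0,2,1,0],[1,1,2,0,2,0,1]]),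
  ([[2,1,1,1],[1],[1,1]], [[1,1,0,0,1,1,0],[1,1,2,1,2,2,0],[1,2,0,0,2,0,0],[0,1,0,0,0,1,2],[2,2,0,2,1,1,0],[2,2,1,0,2,0,0],[1,0,0,2,2,0,1]], [[0,1,2,0,1,1,0],[0,0,1,1,2,0,1],[0,2,0,0,2,0,0],[1,1,0,1,2,1,1],[0,1,0,2,2,1,2],[1,1,0,0,1,1,0],[1,1,1,0,0,1,1]], [[1,0,0,0,0,0,0],[1,1,0,0,0,0,0],[0,2,1,0,0,0,0],[1,0,1,1,0,0,0],[2,2,0,2,1,0,0],[0,2,1,1,1,1,0],[2,1,0,2,2,1,1]], [[1,1,1,0,0,1,0],[0,1,1,2,0,2,2],[0,0,1,2,1,2,0],[0,0,0,1,0,0,2],[0,0,0,0,1,2,2],[0,0,0,0,0,1,1],[0,0,0,0,0,0,1]], [[1,0,0,0,0,0,0],[1,1,0,0,0,0,0],[1,0,1,0,0,0,0],[2,2,2,1,0,0,0],[0,0,1,0,1,0,0],[2,1,1,1,2,1,0],[1,1,1,1,1,2,1]]),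
  ([[2,1,1,2],[1],[1,1]], [[2,1,1,0,2,2,1],[0,1,2,2,2,1,0],[0,0,1,2,0,2,2],[2,1,1,0,2,2,2],[1,0,2,1,0,2,2],[1,1,1,1,0,2,1],[0,0,0,2,1,1,1]], [[2,1,2,0,0,0,0],[1,2,2,1,2,0,1],[2,2,2,0,0,2,1],[1,0,2,0,2,2,1],[0,1,0,0,1,2,2],[2,2,2,2,1,0,0],[2,0,0,1,0,0,0]], [[1,0,0,0,0,0,0],[2,1,0,0,0,0,0],[0,2,1,0,0,0,0],[1,1,0,1,0,0,0],[2,0,1,1,1,0,0],[0,1,0,2,2,1,0],[1,2,2,2,1,0,1]], [[1,1,2,1,1,1,1],[0,1,0,0,0,1,2],[0,0,1,1,0,0,1],[0,0,0,1,2,2,2],[0,0,0,0,1,2,2],[0,0,0,0,0,1,0],[0,0,0,0,0,0,1]], [[1,0,0,0,0,0,0],[1,1,0,0,0,0,0],[0,1,1,0,0,0,0],[1,2,2,1,0,0,0],[1,1,2,2,1,0,0],[2,0,2,2,0,1,0],[1,1,2,2,0,1,1]]),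
  ([[2,1,2,0],[1],[1,1]], [[0,0,2,2,0,0,2],[1,1,1,0,2,0,1],[2,2,2,2,2,1,2],[1,0,0,2,0,1,1],[1,0,0,2,0,2,0],[0,0,0,1,1,2,2],[1,0,2,2,2,1,0]], [[2,2,2,1,2,2,1],[0,1,0,1,0,2,1],[0,1,1,1,0,1,2],[0,1,1,2,1,2,0],[1,1,1,0,1,2,2],[2,1,1,2,0,0,1],[2,1,1,0,2,0,1]], [[1,0,0,0,0,0,0],[0,1,0,0,0,0,0],[0,1,1,0,0,0,0],[0,1,2,1,0,0,0],[2,1,2,1,1,0,0],[1,0,2,1,1,1,0],[1,0,2,2,0,2,1]], [[1,0,0,0,0,1,1],[0,1,1,2,2,0,1],[0,0,1,2,2,1,2],[0,0,0,1,1,1,1],[0,0,0,0,1,0,2],[0,0,0,0,0,1,1],[0,0,0,0,0,0,1]], [[1,0,0,0,0,0,0],[1,1,0,0,0,0,0],[1,1,1,0,0,0,0],[2,0,0,1,0,0,0],[0,2,2,2,1,0,0],[0,0,2,0,1,1,0],[0,0,2,0,1,2,1]]),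
  ([[2,1,2,1],[1],[1,1]], [[1,1,0,1,0,0,0],[2,1,2,2,2,0,1],[0,0,0,2,2,1,2],[0,2,2,2,1,0,0],[2,1,2,1,2,0,0],[2,1,0,1,0,0,2],[1,0,2,1,0,1,0]], [[0,2,1,1,1,1,2],[2,2,0,0,1,2,0],[0,2,1,2,2,1,2],[2,2,2,2,1,0,1],[1,0,0,2,1,0,0],[1,1,1,2,0,0,0],[1,2,1,1,1,0,2]], [[1,0,0,0,0,0,0],[1,1,0,0,0,0,0],[2,2,1,0,0,0,0],[2,1,1,1,0,0,0],[0,1,1,0,1,0,0],[1,0,2,0,1,1,0],[1,1,1,0,1,2,1]], [[1,2,1,0,1,1,1],[0,1,2,2,1,1,2],[0,0,1,0,0,1,0],[0,0,0,1,2,2,2],[0,0,0,0,1,0,2],[0,0,0,0,0,1,0],[0,0,0,0,0,0,1]], [[1,0,0,0,0,0,0],[2,1,0,0,0,0,0],[2,0,1,0,0,0,0],[0,2,2,1,0,0,0],[1,1,2,1,1,0,0],[0,0,2,2,0,1,0],[2,0,1,1,0,2,1]]),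
  ([[2,1,2,2],[1],[1,1]], [[0,2,1,0,1,2,0],[2,2,0,0,2,1,2],[0,0,0,1,0,2,2],[2,0,0,2,1,1,2],[2,1,1,0,2,1,1],[1,2,1,2,0,2,1],[0,0,2,1,2,0,2]], [[0,1,2,0,1,0,1],[2,0,1,0,0,0,2],[0,2,0,2,0,1,0],[0,0,0,0,1,1,2],[2,1,1,2,2,2,0],[2,0,0,1,2,0,1],[1,0,2,2,2,1,1]], [[1,0,0,0,0,0,0],[2,1,0,0,0,0,0],[2,0,1,0,0,0,0],[0,2,2,1,0,0,0],[1,1,0,1,1,0,0],[2,1,1,1,2,1,0],[2,2,2,1,1,2,1]], [[1,1,1,2,0,0,1],[0,1,0,2,0,2,1],[0,0,1,2,0,1,0],[0,0,0,1,1,2,1],[0,0,0,0,1,0,2],[0,0,0,0,0,1,1],[0,0,0,0,0,0,1]], [[1,0,0,0,0,0,0],[1,1,0,0,0,0,0],[2,1,1,0,0,0,0],[2,0,0,1,0,0,0],[2,2,0,2,1,0,0],[0,2,1,1,2,1,0],[1,2,0,2,0,2,1]]),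
  ([[2,2,0,0],[1],[1,1]], [[2,0,2,1,2,2,0],[2,1,2,1,0,2,1],[0,0,0,2,0,1,1],[0,2,2,2,1,1,2],[2,1,0,0,2,0,2],[2,1,1,0,0,0,2],[0,1,0,0,1,1,2]], [[0,2,0,2,2,1,0],[1,0,0,1,0,2,0],[0,1,1,0,0,2,0],[1,2,2,0,0,0,1],[0,2,2,0,2,2,0],[0,0,2,1,2,1,1],[1,2,1,2,1,2,0]], [[1,0,0,0,0,0,0],[0,1,0,0,0,0,0],[1,1,1,0,0,0,0],[2,2,0,1,0,0,0],[1,0,0,0,1,0,0],[2,0,2,0,1,1,0],[1,1,0,1,2,1,1]], [[1,2,0,1,2,2,0],[0,1,2,1,2,2,0],[0,0,1,1,2,1,0],[0,0,0,1,2,1,0],[0,0,0,0,1,1,2],[0,0,0,0,0,1,0],[0,0,0,0,0,0,1]], [[1,0,0,0,0,0,0],[0,1,0,0,0,0,0],[0,1,1,0,0,0,0],[0,1,0,1,0,0,0],[0,1,2,0,1,0,0],[1,1,1,2,2,1,0],[1,0,2,1,2,2,1]]),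
  ([[2,2,0,1],[1],[1,1]], [[1,0,2,0,0,0,2],[2,0,1,1,1,1,1],[1,2,2,2,1,0,2],[2,2,1,0,1,1,1],[0,2,1,1,1,1,0],[0,1,2,1,2,2,1],[2,1,1,2,1,2,1]], [[0,0,0,2,2,1,0],[1,2,1,2,0,0,1],[0,1,1,2,1,0,1],[2,2,2,0,0,0,2],[2,1,1,2,0,0,0],[0,1,0,1,0,0,1],[2,2,2,0,1,1,2]], [[1,0,0,0,0,0,0],[1,1,0,0,0,0,0],[2,0,1,0,0,0,0],[2,2,0,1,0,0,0],[2,0,1,1,1,0,0],[1,2,2,0,0,1,0],[2,1,1,1,2,2,1]], [[1,1,1,2,0,1,0],[0,1,2,2,0,2,1],[0,0,1,2,0,0,0],[0,0,0,1,0,0,1],[0,0,0,0,1,1,0],[0,0,0,0,0,1,0],[0,0,0,0,0,0,1]], [[1,0,0,0,0,0,0],[0,1,0,0,0,0,0],[2,1,1,0,0,0,0],[0,0,1,1,0,0,0],[1,1,0,0,1,0,0],[2,0,0,2,1,1,0],[1,2,1,2,0,2,1]]),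
  ([[2,2,0,2],[1],[1,1]], [[2,0,1,1,2,2,0],[2,1,0,2,1,0,0],[0,1,2,1,1,0,2],[1,2,0,1,0,0,1],[2,1,2,1,2,0,0],[0,2,0,0,0,0,0],[1,0,0,0,1,2,0]], [[0,1,1,1,2,0,0],[0,0,0,0,0,2,0],[0,0,1,1,1,1,0],[2,0,0,0,2,2,1],[2,2,1,1,1,0,1],[2,0,2,2,0,0,0],[1,2,2,0,2,0,2]], [[1,0,0,0,0,0,0],[1,1,0,0,0,0,0],[1,1,1,0,0,0,0],[1,1,0,1,0,0,0],[1,2,0,2,1,0,0],[0,0,0,0,0,1,0],[1,2,1,0,0,1,1]], [[1,2,1,0,2,1,2],[0,1,2,1,2,1,2],[0,0,1,2,1,1,0],[0,0,0,1,0,0,2],[0,0,0,0,1,2,0],[0,0,0,0,0,1,2],[0,0,0,0,0,0,1]], [[1,0,0,0,0,0,0],[0,1,0,0,0,0,0],[0,0,1,0,0,0,0],[0,0,0,1,0,0,0],[0,0,0,0,1,0,0],[0,0,0,0,0,1,0],[0,0,0,0,0,0,1]]),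
  ([[2,2,1,0],[1],[1,1]], [[2,2,2,1,1,0,0],[1,2,2,1,2,1,0],[2,0,2,2,2,0,0],[0,2,0,1,2,2,0],[1,0,2,2,2,2,2],[2,1,0,1,0,1,0],[2,1,0,0,0,0,1]], [[1,2,2,2,1,1,1],[0,2,0,0,1,2,1],[0,0,2,1,0,1,0],[0,2,2,0,2,0,2],[2,2,2,0,0,1,0],[1,1,0,2,1,0,1],[1,0,2,2,0,2,1]], [[1,0,0,0,0,0,0],[0,1,0,0,0,0,0],[2,0,1,0,0,0,0],[0,1,0,1,0,0,0],[0,1,1,2,1,0,0],[0,0,0,2,1,1,0],[2,1,2,1,2,1,1]], [[1,1,1,2,0,0,1],[0,1,2,1,0,0,2],[0,0,1,1,1,1,1],[0,0,0,1,2,2,2],[0,0,0,0,1,0,1],[0,0,0,0,0,1,0],[0,0,0,0,0,0,1]], [[1,0,0,0,0,0,0],[0,1,0,0,0,0,0],[2,0,1,0,0,0,0],[2,1,2,1,0,0,0],[1,2,2,0,1,0,0],[2,1,0,2,2,1,0],[1,1,2,2,0,1,1]]),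
  ([[2,2,1,1],[1],[1,1]], [[1,2,0,2,1,0,1],[1,2,0,0,1,2,2],[0,0,1,1,0,2,2],[0,1,2,1,0,0,0],[0,0,2,0,1,1,0],[2,0,1,2,2,0,1],[2,1,2,2,2,2,0]], [[1,1,2,0,2,2,2],[2,2,1,2,0,1,0],[1,1,0,0,0,0,2],[2,2,2,2,0,2,2],[1,2,0,1,1,1,2],[0,2,0,2,0,2,0],[0,1,1,0,0,0,1]], [[1,0,0,0,0,0,0],[1,1,0,0,0,0,0],[0,0,1,0,0,0,0],[0,2,0,1,0,0,0],[2,1,0,2,1,0,0],[2,1,2,0,1,1,0],[0,0,1,1,1,0,1]], [[1,2,2,0,2,2,2],[0,1,2,0,2,1,2],[0,0,1,1,1,0,2],[0,0,0,1,2,2,0],[0,0,0,0,1,1,0],[0,0,0,0,0,1,1],[0,0,0,0,0,0,1]], [[1,0,0,0,0,0,0],[0,1,0,0,0,0,0],[1,1,1,0,0,0,0],[2,0,2,1,0,0,0],[0,2,2,1,1,0,0],[2,0,2,0,2,1,0],[2,2,1,1,1,1,1]]),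
  ([[2,2,1,2],[1],[1,1]], [[0,1,2,0,0,1,0],[2,2,0,2,1,0,0],[0,0,1,0,0,2,1],[1,2,0,1,1,1,0],[2,0,0,0,1,0,1],[1,2,0,0,1,0,0],[2,0,2,1,1,2,2]], [[2,0,2,0,1,2,0],[1,0,2,2,2,1,1],[1,1,0,0,1,0,1],[2,2,2,0,1,0,0],[2,0,0,2,1,0,1],[1,1,1,1,2,2,0],[0,0,2,1,1,2,2]], [[1,0,0,0,0,0,0],[1,1,0,0,0,0,0],[0,0,1,0,0,0,0],[1,0,0,1,0,0,0],[0,2,1,1,1,0,0],[2,1,0,0,2,1,0],[1,2,2,1,2,1,1]], [[1,0,2,0,1,0,0],[0,1,1,0,1,1,2],[0,0,1,2,0,2,2],[0,0,0,1,1,1,2],[0,0,0,0,1,0,1],[0,0,0,0,0,1,1],[0,0,0,0,0,0,1]], [[1,0,0,0,0,0,0],[1,1,0,0,0,0,0],[1,0,1,0,0,0,0],[1,0,1,1,0,0,0],[0,2,1,2,1,0,0],[0,0,0,2,0,1,0],[0,0,0,2,0,1,1]]),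
  ([[2,2,2,0],[1],[1,1]], [[1,0,1,2,2,0,0],[2,0,0,2,0,1,2],[0,0,0,1,1,2,0],[2,0,0,0,2,2,2],[2,0,2,1,1,1,1],[2,2,1,2,1,0,1],[0,1,2,1,1,0,1]], [[2,1,1,2,2,2,2],[1,2,2,0,0,2,0],[2,2,0,0,1,2,2],[0,1,2,2,0,0,0],[0,2,2,0,0,1,1],[0,0,0,2,0,1,1],[1,0,0,1,1,2,2]], [[1,0,0,0,0,0,0],[2,1,0,0,0,0,0],[2,0,1,0,0,0,0],[1,2,1,1,0,0,0],[1,0,0,2,1,0,0],[2,1,0,0,1,1,0],[0,2,2,2,0,0,1]], [[1,1,2,2,1,2,2],[0,1,1,1,2,1,0],[0,0,1,0,0,0,2],[0,0,0,1,0,0,0],[0,0,0,0,1,0,0],[0,0,0,0,0,1,2],[0,0,0,0,0,0,1]], [[1,0,0,0,0,0,0],[0,1,0,0,0,0,0],[2,1,1,0,0,0,0],[0,2,2,1,0,0,0],[0,1,0,1,1,0,0],[2,0,2,1,0,1,0],[0,1,2,0,0,2,1]]),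
  ([[2,2,2,1],[1],[1,1]], [[2,0,0,0,2,1,2],[1,0,2,0,0,0,0],[2,0,2,1,1,2,1],[2,2,2,0,0,1,2],[2,2,2,1,0,1,1],[0,1,1,1,2,2,2],[2,0,2,0,2,2,1]], [[1,2,2,0,2,2,2],[1,1,1,2,1,1,2],[1,1,2,0,2,2,2],[1,2,1,0,0,0,0],[1,2,0,0,0,0,1],[1,0,0,1,1,2,0],[1,2,1,1,2,0,0]], [[1,0,0,0,0,0,0],[0,1,0,0,0,0,0],[0,2,1,0,0,0,0],[0,2,0,1,0,0,0],[2,0,1,1,1,0,0],[2,0,1,1,2,1,0],[0,1,1,2,1,0,1]], [[1,1,2,1,2,1,2],[0,1,1,2,2,2,2],[0,0,1,1,2,1,0],[0,0,0,1,0,2,1],[0,0,0,0,1,0,0],[0,0,0,0,0,1,0],[0,0,0,0,0,0,1]], [[1,0,0,0,0,0,0],[2,1,0,0,0,0,0],[0,2,1,0,0,0,0],[2,0,0,1,0,0,0],[1,1,2,0,1,0,0],[0,1,1,2,1,1,0],[1,0,2,2,2,0,1]]),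
  ([[2,2,2,2],[1],[1,1]], [[1,0,2,0,2,2,0],[0,2,2,1,0,0,2],[0,0,1,0,1,1,0],[1,0,1,0,2,2,2],[0,2,0,0,1,0,1],[0,1,0,2,2,1,2],[1,0,2,2,1,0,2]], [[1,0,1,0,0,0,0],[1,0,0,0,0,1,2],[2,1,2,0,2,0,1],[2,1,0,2,0,1,2],[2,1,2,1,0,1,0],[2,1,0,2,1,2,2],[2,2,1,2,1,0,2]], [[1,0,0,0,0,0,0],[2,1,0,0,0,0,0],[0,0,1,0,0,0,0],[2,0,2,1,0,0,0],[2,1,0,2,1,0,0],[0,0,2,1,0,1,0],[1,0,1,1,2,1,1]], [[1,2,1,1,0,1,1],[0,1,1,0,2,0,1],[0,0,1,2,2,1,1],[0,0,0,1,0,2,2],[0,0,0,0,1,1,2],[0,0,0,0,0,1,1],[0,0,0,0,0,0,1]], [[1,0,0,0,0,0,0],[0,1,0,0,0,0,0],[2,2,1,0,0,0,0],[0,1,0,1,0,0,0],[1,2,2,0,1,0,0],[1,2,0,2,1,1,0],[1,0,0,1,1,1,1]]),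
  ([[1,0,0],[2,0],[1,1]], [[1,0,1,1,1,1,0],[0,1,2,0,0,0,1],[2,0,0,1,0,0,0],[1,2,0,0,1,2,1],[1,1,0,1,2,2,2],[0,2,2,2,0,1,0],[1,1,2,0,1,0,2]], [[1,0,2,1,0,0,1],[0,2,1,1,2,0,1],[2,1,1,2,2,2,1],[1,0,0,1,0,0,1],[0,2,1,1,0,1,0],[0,0,2,1,1,0,0],[2,0,0,1,0,2,0]], [[1,0,0,0,0,0,0],[0,1,0,0,0,0,0],[2,1,1,0,0,0,0],[0,0,0,1,0,0,0],[0,1,2,2,1,0,0],[0,1,2,1,2,1,0],[0,1,0,2,0,0,1]], [[1,2,2,2,1,1,1],[0,1,2,1,2,0,0],[0,0,1,2,1,2,1],[0,0,0,1,0,0,2],[0,0,0,0,1,1,1],[0,0,0,0,0,1,2],[0,0,0,0,0,0,1]], [[1,0,0,0,0,0,0],[0,1,0,0,0,0,0],[2,2,1,0,0,0,0],[2,1,0,1,0,0,0],[0,2,1,2,1,0,0],[2,0,0,0,2,1,0],[1,2,0,2,2,1,1]]),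
  ([[1,0,0],[2,1],[1,1]], [[1,1,1,0,0,2,2],[0,2,2,1,1,1,1],[2,2,0,2,0,2,1],[2,2,0,1,1,2,0],[1,2,2,1,2,1,2],[1,0,2,1,0,0,0],[1,1,1,2,2,1,0]], [[2,0,1,2,2,0,0],[1,1,1,0,1,2,0],[0,0,0,1,0,0,1],[1,0,2,2,1,1,1],[1,1,0,2,0,2,2],[2,0,0,1,1,1,0],[0,1,2,2,2,1,1]], [[1,0,0,0,0,0,0],[2,1,0,0,0,0,0],[1,1,1,0,0,0,0],[1,1,0,1,0,0,0],[2,1,2,0,1,0,0],[2,2,1,1,0,1,0],[0,0,2,0,0,2,1]], [[1,1,0,0,0,1,0],[0,1,2,1,1,1,0],[0,0,1,1,2,0,0],[0,0,0,1,0,1,2],[0,0,0,0,1,2,0],[0,0,0,0,0,1,0],[0,0,0,0,0,0,1]], [[1,0,0,0,0,0,0],[2,1,0,0,0,0,0],[0,1,1,0,0,0,0],[2,2,1,1,0,0,0],[1,0,1,2,1,0,0],[2,0,1,2,2,1,0],[2,2,2,2,2,1,1]]),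
  ([[1,0,0],[2,2],[1,1]], [[2,2,1,0,0,0,2],[2,1,2,0,0,1,1],[1,2,0,2,2,1,0],[1,1,0,2,2,1,2],[2,2,1,2,0,0,2],[1,0,1,2,0,2,1],[0,1,2,0,1,1,1]], [[2,0,0,1,0,2,1],[2,2,2,1,1,2,0],[0,0,1,0,0,2,1],[1,0,0,0,2,0,0],[1,2,0,2,0,1,0],[2,1,0,2,0,1,2],[1,1,2,1,2,1,0]], [[1,0,0,0,0,0,0],[2,1,0,0,0,0,0],[1,2,1,0,0,0,0],[0,2,2,1,0,0,0],[0,1,2,1,1,0,0],[2,0,1,0,2,1,0],[2,1,0,0,0,0,1]], [[1,0,1,0,2,0,2],[0,1,1,0,2,0,1],[0,0,1,2,1,2,0],[0,0,0,1,0,2,2],[0,0,0,0,1,1,0],[0,0,0,0,0,1,2],[0,0,0,0,0,0,1]], [[1,0,0,0,0,0,0],[2,1,0,0,0,0,0],[0,2,1,0,0,0,0],[0,2,1,1,0,0,0],[2,0,0,1,1,0,0],[0,0,2,0,1,1,0],[0,0,1,1,2,1,1]]),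
  ([[1,0,1],[2,0],[1,1]], [[0,1,0,1,1,0,2],[0,1,1,1,0,1,1],[2,2,0,2,2,1,1],[2,2,1,2,0,0,2],[2,2,0,2,0,2,0],[2,2,1,0,2,0,1],[2,2,1,0,1,1,2]], [[2,0,0,0,2,1,2],[2,2,0,2,2,2,0],[1,2,1,2,0,0,0],[2,1,2,1,2,2,2],[1,2,0,1,2,0,0],[0,0,1,0,2,1,2],[1,2,2,1,0,1,2]], [[1,0,0,0,0,0,0],[2,1,0,0,0,0,0],[1,2,1,0,0,0,0],[0,1,0,1,0,0,0],[2,0,2,0,1,0,0],[2,2,2,2,2,1,0],[0,1,1,2,2,1,1]], [[1,1,2,1,0,1,0],[0,1,2,1,2,0,0],[0,0,1,1,1,2,2],[0,0,0,1,2,0,2],[0,0,0,0,1,0,1],[0,0,0,0,0,1,1],[0,0,0,0,0,0,1]], [[1,0,0,0,0,0,0],[1,1,0,0,0,0,0],[1,0,1,0,0,0,0],[1,2,0,1,0,0,0],[0,2,0,2,1,0,0],[1,1,1,2,1,1,0],[0,1,1,2,2,2,1]]),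
  ([[1,0,1],[2,1],[1,1]], [[1,1,2,1,1,2,0],[2,0,1,0,1,1,2],[0,2,1,2,2,1,1],[0,2,1,1,1,0,2],[1,0,0,0,1,0,0],[1,2,0,0,2,2,0],[2,1,0,0,1,1,1]], [[1,0,1,0,0,2,2],[2,2,1,2,2,1,0],[2,0,1,2,2,0,1],[1,2,1,1,2,1,2],[2,0,2,0,1,1,1],[0,1,1,1,0,2,1],[0,0,0,0,0,1,1]], [[1,0,0,0,0,0,0],[2,1,0,0,0,0,0],[0,2,1,0,0,0,0],[2,2,0,1,0,0,0],[0,1,0,0,1,0,0],[0,1,2,1,1,1,0],[1,2,2,0,1,1,1]], [[1,1,2,0,2,2,0],[0,1,1,1,0,2,0],[0,0,1,1,0,0,2],[0,0,0,1,1,2,0],[0,0,0,0,1,1,2],[0,0,0,0,0,1,1],[0,0,0,0,0,0,1]], [[1,0,0,0,0,0,0],[2,1,0,0,0,0,0],[0,0,1,0,0,0,0],[1,0,1,1,0,0,0],[2,2,1,1,1,0,0],[1,0,1,0,0,1,0],[0,1,2,1,0,2,1]]),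
  ([[1,0,1],[2,2],[1,1]], [[0,0,2,2,1,2,2],[2,0,0,2,2,0,0],[1,2,2,2,1,2,1],[2,1,2,2,1,1,1],[0,2,2,1,1,2,0],[2,1,0,1,0,1,1],[2,1,1,0,2,1,2]], [[0,0,2,2,2,2,0],[1,0,1,1,2,1,2],[0,2,1,0,1,2,0],[0,0,2,0,0,0,2],[0,2,2,1,1,1,1],[2,0,2,0,0,1,1],[0,0,0,1,0,1,1]], [[1,0,0,0,0,0,0],[1,1,0,0,0,0,0],[0,2,1,0,0,0,0],[2,1,0,1,0,0,0],[0,1,0,1,1,0,0],[1,1,2,1,0,1,0],[0,1,2,0,0,1,1]], [[1,2,0,0,0,0,1],[0,1,1,0,0,1,0],[0,0,1,0,2,0,2],[0,0,0,1,1,0,2],[0,0,0,0,1,1,1],[0,0,0,0,0,1,0],[0,0,0,0,0,0,1]], [[1,0,0,0,0,0,0],[2,1,0,0,0,0,0],[1,0,1,0,0,0,0],[1,1,2,1,0,0,0],[0,1,2,0,1,0,0],[1,0,1,2,2,1,0],[0,1,1,1,1,0,1]]),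
  ([[1,0,2],[2,0],[1,1]], [[1,2,1,1,1,1,2],[2,2,1,0,1,1,2],[0,1,1,2,1,2,1],[1,0,2,2,0,2,1],[0,1,2,2,0,1,1],[1,1,2,2,1,1,2],[0,1,1,2,1,0,0]], [[1,2,0,1,0,1,2],[2,2,1,0,0,0,1],[2,1,1,2,0,0,2],[2,1,0,1,0,1,2],[1,1,1,2,0,1,0],[1,0,1,0,2,2,2],[1,0,2,0,2,2,1]], [[1,0,0,0,0,0,0],[0,1,0,0,0,0,0],[0,0,1,0,0,0,0],[1,2,1,1,0,0,0],[2,2,0,1,1,0,0],[0,0,0,2,1,1,0],[1,0,0,0,1,1,1]], [[1,0,1,1,1,1,0],[0,1,1,2,2,2,2],[0,0,1,0,0,1,1],[0,0,0,1,2,0,1],[0,0,0,0,1,2,2],[0,0,0,0,0,1,0],[0,0,0,0,0,0,1]], [[1,0,0,0,0,0,0],[1,1,0,0,0,0,0],[2,1,1,0,0,0,0],[0,0,0,1,0,0,0],[1,0,1,1,1,0,0],[2,0,1,2,1,1,0],[2,2,1,2,2,0,1]]),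
  ([[1,0,2],[2,1],[1,1]], [[0,2,2,1,0,2,1],[0,0,0,2,0,1,0],[1,2,0,2,2,1,0],[1,2,1,0,0,1,1],[0,1,0,0,1,0,1],[2,0,0,1,2,1,2],[2,1,1,2,2,2,2]], [[0,2,2,1,1,0,2],[2,1,1,0,2,2,2],[0,1,1,2,1,1,2],[2,0,2,2,0,1,0],[1,2,0,1,2,1,0],[2,1,2,2,0,1,0],[0,0,2,2,0,0,1]], [[1,0,0,0,0,0,0],[0,1,0,0,0,0,0],[2,1,1,0,0,0,0],[2,1,2,1,0,0,0],[0,2,0,0,1,0,0],[1,0,2,1,0,1,0],[1,2,1,0,0,2,1]], [[1,1,0,0,1,1,0],[0,1,1,1,0,1,2],[0,0,1,0,0,0,1],[0,0,0,1,1,2,0],[0,0,0,0,1,1,1],[0,0,0,0,0,1,2],[0,0,0,0,0,0,1]], [[1,0,0,0,0,0,0],[1,1,0,0,0,0,0],[0,1,1,0,0,0,0],[2,1,2,1,0,0,0],[1,2,2,2,1,0,0],[2,0,2,2,0,1,0],[2,2,2,1,0,0,1]]),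
  ([[1,0,2],[2,2],[1,1]], [[1,1,2,1,1,2,2],[2,2,2,2,0,1,0],[0,2,2,1,0,1,0],[2,0,0,2,0,1,2],[0,0,0,0,1,1,2],[0,2,2,2,2,0,1],[0,2,1,1,0,1,2]], [[0,2,0,0,1,1,0],[2,2,1,0,2,1,0],[2,0,0,2,2,1,1],[0,0,2,0,1,1,0],[0,1,1,2,2,1,0],[1,2,0,2,0,1,1],[1,0,1,1,1,2,1]], [[1,0,0,0,0,0,0],[2,1,0,0,0,0,0],[0,2,1,0,0,0,0],[1,1,1,1,0,0,0],[1,1,0,2,1,0,0],[2,1,0,2,2,1,0],[1,0,1,1,0,2,1]], [[1,0,1,1,0,1,1],[0,1,0,2,1,1,1],[0,0,1,2,2,1,1],[0,0,0,1,1,1,2],[0,0,0,0,1,2,2],[0,0,0,0,0,1,2],[0,0,0,0,0,0,1]], [[1,0,0,0,0,0,0],[0,1,0,0,0,0,0],[0,0,1,0,0,0,0],[0,0,0,1,0,0,0],[0,0,0,0,1,0,0],[0,0,0,0,0,1,0],[0,0,0,0,0,0,1]]),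
  ([[1,1,0],[2,0],[1,1]], [[0,2,1,2,2,1,1],[2,2,0,2,0,1,0],[1,1,2,0,1,2,2],[0,2,1,2,0,0,1],[0,1,1,1,0,1,0],[1,1,0,2,1,2,1],[2,2,2,2,0,2,2]], [[0,1,0,1,0,0,1],[0,1,2,0,1,1,2],[2,0,1,0,2,1,2],[2,1,2,1,0,0,1],[1,1,1,0,1,1,1],[2,1,1,2,1,1,1],[0,2,0,2,2,0,1]], [[1,0,0,0,0,0,0],[0,1,0,0,0,0,0],[2,2,1,0,0,0,0],[2,2,2,1,0,0,0],[0,0,1,0,1,0,0],[0,2,1,1,1,1,0],[2,0,0,1,2,2,1]], [[1,1,2,2,2,0,2],[0,1,1,1,2,1,2],[0,0,1,2,2,2,2],[0,0,0,1,0,0,1],[0,0,0,0,1,2,0],[0,0,0,0,0,1,1],[0,0,0,0,0,0,1]], [[1,0,0,0,0,0,0],[0,1,0,0,0,0,0],[2,2,1,0,0,0,0],[0,2,2,1,0,0,0],[0,0,2,2,1,0,0],[1,0,1,2,2,1,0],[0,0,2,0,1,0,1]]),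
  ([[1,1,0],[2,1],[1,1]], [[2,0,1,0,2,2,0],[0,0,0,2,1,0,2],[1,1,2,1,1,0,1],[2,1,1,0,2,2,1],[0,0,0,2,2,0,0],[1,2,1,1,1,0,2],[0,0,0,2,2,2,2]], [[0,0,2,0,1,2,0],[1,2,1,0,0,0,2],[2,0,1,1,0,2,0],[1,2,2,1,1,0,1],[2,1,1,2,1,0,2],[2,2,1,2,1,0,1],[1,1,2,1,0,0,1]], [[1,0,0,0,0,0,0],[2,1,0,0,0,0,0],[1,1,1,0,0,0,0],[0,1,1,1,0,0,0],[0,0,1,1,1,0,0],[2,2,0,1,1,1,0],[0,2,1,1,2,1,1]], [[1,2,1,0,2,2,1],[0,1,0,0,1,2,0],[0,0,1,1,0,0,2],[0,0,0,1,2,1,2],[0,0,0,0,1,2,2],[0,0,0,0,0,1,0],[0,0,0,0,0,0,1]], [[1,0,0,0,0,0,0],[1,1,0,0,0,0,0],[0,0,1,0,0,0,0],[1,2,1,1,0,0,0],[2,2,2,0,1,0,0],[2,2,1,0,1,1,0],[0,0,1,1,0,0,1]]),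
  ([[1,1,0],[2,2],[1,1]], [[2,1,1,1,0,1,0],[2,0,0,1,1,2,2],[0,1,0,0,2,1,2],[2,1,0,0,0,0,1],[1,0,0,2,1,1,1],[0,2,1,0,0,1,2],[0,2,2,1,2,2,0]], [[2,0,2,1,1,0,2],[1,2,2,0,0,2,0],[2,2,0,0,1,2,0],[0,1,1,2,0,0,0],[0,2,0,0,2,0,0],[0,1,2,2,0,2,2],[1,1,0,2,1,1,2]], [[1,0,0,0,0,0,0],[0,1,0,0,0,0,0],[2,2,1,0,0,0,0],[2,0,2,1,0,0,0],[2,2,1,0,1,0,0],[1,2,1,0,0,1,0],[2,0,0,0,1,0,1]], [[1,0,1,1,1,1,1],[0,1,1,1,1,2,1],[0,0,1,2,1,2,1],[0,0,0,1,1,0,2],[0,0,0,0,1,2,2],[0,0,0,0,0,1,1],[0,0,0,0,0,0,1]], [[1,0,0,0,0,0,0],[2,1,0,0,0,0,0],[1,2,1,0,0,0,0],[0,2,2,1,0,0,0],[0,1,0,0,1,0,0],[1,0,0,1,0,1,0],[0,0,2,0,2,2,1]]),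
  ([[1,1,1],[2,0],[1,1]], [[0,0,0,2,1,0,0],[0,2,1,2,2,1,1],[0,0,0,2,2,1,2],[0,1,2,0,0,2,2],[1,2,2,1,2,1,2],[1,2,0,2,2,1,2],[0,1,2,0,1,2,1]], [[0,0,0,0,2,2,1],[0,0,1,0,2,1,1],[2,2,0,2,2,1,0],[1,1,0,1,0,0,0],[2,1,0,1,0,0,0],[2,0,1,1,0,0,2],[2,1,0,2,0,0,2]], [[1,0,0,0,0,0,0],[0,1,0,0,0,0,0],[0,1,1,0,0,0,0],[1,2,0,1,0,0,0],[2,0,1,2,1,0,0],[0,0,0,0,2,1,0],[0,2,1,1,1,2,1]], [[1,2,2,1,2,1,1],[0,1,2,1,2,2,0],[0,0,1,1,2,2,2],[0,0,0,1,1,1,0],[0,0,0,0,1,1,1],[0,0,0,0,0,1,2],[0,0,0,0,0,0,1]], [[1,0,0,0,0,0,0],[0,1,0,0,0,0,0],[0,0,1,0,0,0,0],[0,0,0,1,0,0,0],[0,0,0,0,1,0,0],[0,0,0,0,0,1,0],[0,0,0,0,0,0,1]]),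
  ([[1,1,1],[2,1],[1,1]], [[0,2,1,1,1,2,2],[1,1,2,0,2,1,1],[0,1,0,2,2,1,2],[2,1,1,0,0,0,1],[0,0,0,2,2,1,1],[1,2,2,1,1,2,0],[0,2,0,0,0,2,0]], [[1,0,2,0,0,1,0],[0,0,1,1,0,1,0],[1,0,1,1,1,1,0],[0,1,1,0,0,2,0],[0,2,1,1,1,2,2],[0,0,2,2,0,2,2],[0,0,0,2,2,2,0]], [[1,0,0,0,0,0,0],[0,1,0,0,0,0,0],[0,2,1,0,0,0,0],[0,1,0,1,0,0,0],[2,2,1,2,1,0,0],[1,1,0,1,0,1,0],[0,0,1,2,1,1,1]], [[1,0,1,0,2,0,0],[0,1,2,0,2,0,2],[0,0,1,0,2,0,0],[0,0,0,1,0,0,1],[0,0,0,0,1,2,2],[0,0,0,0,0,1,2],[0,0,0,0,0,0,1]], [[1,0,0,0,0,0,0],[1,1,0,0,0,0,0],[2,2,1,0,0,0,0],[0,1,2,1,0,0,0],[0,0,2,1,1,0,0],[0,2,0,2,1,1,0],[1,0,0,2,1,1,1]]),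
  ([[1,1,1],[2,2],[1,1]], [[0,1,1,0,0,2,1],[0,1,2,2,2,1,0],[1,0,2,0,0,0,1],[1,2,1,0,1,0,0],[2,1,1,2,1,0,1],[0,0,1,0,0,1,1],[2,2,0,1,0,0,2]], [[0,2,1,0,2,1,1],[0,0,0,2,1,0,1],[1,1,0,1,0,0,1],[1,1,1,0,1,0,0],[2,0,2,2,2,2,2],[1,0,0,1,2,2,2],[1,2,0,1,1,2,0]], [[1,0,0,0,0,0,0],[0,1,0,0,0,0,0],[1,0,1,0,0,0,0],[1,0,1,1,0,0,0],[1,2,2,0,1,0,0],[2,1,2,2,0,1,0],[2,2,2,1,0,1,1]], [[1,2,1,2,2,0,2],[0,1,0,2,2,1,2],[0,0,1,2,1,2,1],[0,0,0,1,0,0,2],[0,0,0,0,1,1,0],[0,0,0,0,0,1,2],[0,0,0,0,0,0,1]], [[1,0,0,0,0,0,0],[0,1,0,0,0,0,0],[0,0,1,0,0,0,0],[0,2,1,1,0,0,0],[1,0,0,1,1,0,0],[0,0,1,0,1,1,0],[0,0,0,0,2,2,1]]),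
  ([[1,1,2],[2,0],[1,1]], [[1,0,1,1,2,0,2],[0,0,2,2,2,0,1],[2,2,1,0,0,1,1],[0,0,0,2,0,1,0],[1,0,1,1,0,0,1],[2,0,1,0,2,2,1],[0,1,1,1,2,0,1]], [[1,1,1,2,1,0,1],[1,1,0,0,2,0,1],[2,0,2,0,2,2,2],[2,2,1,0,0,1,1],[0,0,2,1,2,0,2],[2,2,1,1,0,1,1],[1,0,2,1,1,0,2]], [[1,0,0,0,0,0,0],[1,1,0,0,0,0,0],[1,0,1,0,0,0,0],[1,2,0,1,0,0,0],[2,0,2,2,1,0,0],[0,0,2,2,0,1,0],[0,0,2,0,0,0,1]], [[1,0,1,2,0,1,1],[0,1,0,1,2,2,1],[0,0,1,0,0,1,2],[0,0,0,1,2,1,2],[0,0,0,0,1,1,0],[0,0,0,0,0,1,1],[0,0,0,0,0,0,1]], [[1,0,0,0,0,0,0],[0,1,0,0,0,0,0],[0,1,1,0,0,0,0],[1,1,0,1,0,0,0],[2,1,1,0,1,0,0],[1,1,1,1,2,1,0],[0,1,1,0,2,1,1]]),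
  ([[1,1,2],[2,1],[1,1]], [[2,1,2,0,0,1,0],[0,2,1,1,2,1,1],[1,2,2,1,2,2,1],[2,1,1,2,1,1,0],[0,1,0,1,1,1,0],[0,2,2,2,0,0,2],[2,1,1,1,2,2,0]], [[2,2,1,2,0,0,2],[1,1,1,2,1,2,1],[1,1,0,2,2,1,0],[1,1,1,1,0,2,2],[1,2,1,1,2,0,2],[0,2,0,2,1,2,1],[0,0,1,1,0,0,0]], [[1,0,0,0,0,0,0],[0,1,0,0,0,0,0],[0,1,1,0,0,0,0],[1,1,0,1,0,0,0],[2,1,2,2,1,0,0],[1,0,1,0,0,1,0],[0,1,1,0,0,0,1]], [[1,2,2,1,2,0,2],[0,1,1,1,0,2,2],[0,0,1,2,2,1,2],[0,0,0,1,0,1,0],[0,0,0,0,1,0,1],[0,0,0,0,0,1,0],[0,0,0,0,0,0,1]], [[1,0,0,0,0,0,0],[0,1,0,0,0,0,0],[0,0,1,0,0,0,0],[0,0,0,1,0,0,0],[0,0,0,0,1,0,0],[0,0,0,0,0,1,0],[0,0,0,0,0,0,1]]),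
  ([[1,1,2],[2,2],[1,1]], [[0,2,1,0,1,0,1],[2,2,1,0,2,1,0],[2,2,1,1,2,1,0],[2,0,1,0,2,0,1],[2,2,0,2,1,0,0],[2,1,2,0,1,1,0],[0,2,0,2,0,2,2]], [[0,2,1,1,0,1,1],[1,2,1,2,1,0,0],[2,1,1,2,0,2,1],[0,2,1,0,0,0,0],[1,0,0,0,2,1,1],[0,1,1,1,0,0,1],[2,1,0,0,2,0,1]], [[1,0,0,0,0,0,0],[0,1,0,0,0,0,0],[0,1,1,0,0,0,0],[0,2,1,1,0,0,0],[2,2,2,2,1,0,0],[2,0,2,0,1,1,0],[0,2,1,2,0,0,1]], [[1,2,2,0,2,2,2],[0,1,2,0,2,1,0],[0,0,1,0,1,0,0],[0,0,0,1,1,1,2],[0,0,0,0,1,2,0],[0,0,0,0,0,1,0],[0,0,0,0,0,0,1]], [[1,0,0,0,0,0,0],[2,1,0,0,0,0,0],[1,1,1,0,0,0,0],[1,0,0,1,0,0,0],[1,0,1,1,1,0,0],[1,2,0,2,0,1,0],[0,1,2,2,1,1,1]]),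
  ([[1,2,0],[2,0],[1,1]], [[2,0,2,0,0,1,0],[1,1,1,2,2,0,2],[2,1,1,0,0,0,2],[0,2,1,1,2,2,0],[1,1,1,0,1,2,2],[0,1,0,0,1,1,2],[1,0,0,2,1,2,0]], [[1,2,0,0,2,2,1],[0,0,0,2,1,2,2],[0,1,0,0,0,2,2],[2,1,2,0,2,1,1],[0,2,2,0,2,0,1],[2,0,0,0,2,1,0],[2,2,2,2,2,2,0]], [[1,0,0,0,0,0,0],[2,1,0,0,0,0,0],[1,0,1,0,0,0,0],[1,1,2,1,0,0,0],[2,1,0,1,1,0,0],[0,0,2,1,1,1,0],[0,2,2,1,2,0,1]], [[1,0,1,1,1,0,0],[0,1,0,1,0,1,2],[0,0,1,0,2,0,1],[0,0,0,1,1,1,2],[0,0,0,0,1,0,0],[0,0,0,0,0,1,2],[0,0,0,0,0,0,1]], [[1,0,0,0,0,0,0],[1,1,0,0,0,0,0],[0,2,1,0,0,0,0],[1,1,0,1,0,0,0],[0,0,1,2,1,0,0],[2,0,1,2,0,1,0],[1,0,2,2,2,2,1]]),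
  ([[1,2,0],[2,1],[1,1]], [[1,2,2,1,1,1,1],[0,2,2,0,1,2,1],[0,1,2,0,0,1,2],[0,2,0,2,1,2,1],[1,0,1,1,1,2,1],[0,1,1,1,2,1,2],[1,0,1,1,1,0,0]], [[0,1,2,0,0,2,1],[0,0,1,1,1,1,2],[0,0,0,1,0,1,0],[0,1,0,0,0,1,0],[0,1,1,2,0,2,0],[2,0,2,0,0,0,1],[2,0,2,0,1,0,0]], [[1,0,0,0,0,0,0],[2,1,0,0,0,0,0],[1,0,1,0,0,0,0],[2,2,1,1,0,0,0],[1,2,1,2,1,0,0],[1,2,2,0,0,1,0],[2,1,2,1,1,1,1]], [[1,2,2,0,0,2,1],[0,1,1,0,2,1,2],[0,0,1,1,1,1,0],[0,0,0,1,2,0,2],[0,0,0,0,1,1,0],[0,0,0,0,0,1,0],[0,0,0,0,0,0,1]], [[1,0,0,0,0,0,0],[0,1,0,0,0,0,0],[0,0,1,0,0,0,0],[0,0,0,1,0,0,0],[0,0,0,0,1,0,0],[0,0,0,0,0,1,0],[0,0,0,0,0,0,1]]),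
  ([[1,2,0],[2,2],[1,1]], [[0,0,1,2,1,1,1],[1,2,2,0,0,1,2],[2,1,0,2,0,0,0],[1,0,2,0,1,0,1],[0,2,0,1,1,2,2],[0,0,0,0,2,0,1],[1,0,1,2,0,1,2]], [[2,0,0,0,0,2,1],[1,2,2,1,2,1,2],[2,1,1,0,0,2,0],[2,2,1,1,2,2,1],[0,2,2,2,0,1,1],[1,0,2,0,2,0,2],[0,2,2,2,0,2,1]], [[1,0,0,0,0,0,0],[2,1,0,0,0,0,0],[1,2,1,0,0,0,0],[0,1,0,1,0,0,0],[1,2,1,2,1,0,0],[0,1,2,0,2,1,0],[0,2,1,2,1,0,1]], [[1,0,2,0,2,1,1],[0,1,1,1,2,1,2],[0,0,1,0,1,0,2],[0,0,0,1,0,2,1],[0,0,0,0,1,0,1],[0,0,0,0,0,1,1],[0,0,0,0,0,0,1]], [[1,0,0,0,0,0,0],[0,1,0,0,0,0,0],[2,0,1,0,0,0,0],[0,1,0,1,0,0,0],[1,0,1,1,1,0,0],[0,2,0,1,0,1,0],[0,1,1,2,0,2,1]]),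
  ([[1,2,1],[2,0],[1,1]], [[2,0,1,0,0,2,0],[2,1,0,2,0,1,1],[0,2,0,0,1,2,1],[1,1,1,1,2,2,1],[1,2,0,2,0,0,0],[0,2,1,0,2,0,0],[2,2,0,1,1,2,2]], [[2,2,0,2,1,2,1],[0,2,1,2,2,1,2],[1,1,1,0,1,0,2],[2,0,2,0,1,1,2],[1,2,0,1,2,1,0],[1,2,1,1,0,1,1],[0,2,0,2,0,1,0]], [[1,0,0,0,0,0,0],[0,1,0,0,0,0,0],[2,1,1,0,0,0,0],[0,2,2,1,0,0,0],[0,2,2,0,1,0,0],[2,1,2,2,1,1,0],[2,1,0,1,1,0,1]], [[1,0,1,2,1,2,0],[0,1,0,2,0,0,0],[0,0,1,2,2,0,1],[0,0,0,1,0,2,0],[0,0,0,0,1,1,0],[0,0,0,0,0,1,2],[0,0,0,0,0,0,1]], [[1,0,0,0,0,0,0],[1,1,0,0,0,0,0],[1,2,1,0,0,0,0],[2,2,0,1,0,0,0],[1,0,1,1,1,0,0],[0,2,1,2,1,1,0],[1,0,0,0,0,2,1]]),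
  ([[1,2,1],[2,1],[1,1]], [[0,2,0,2,2,2,0],[2,0,2,2,0,1,2],[1,0,0,0,0,2,2],[0,0,2,1,2,2,1],[1,2,0,1,0,0,2],[2,0,0,0,1,1,2],[2,1,1,0,1,2,0]], [[0,2,1,0,2,1,2],[2,2,2,1,0,0,0],[1,2,1,2,1,1,2],[1,1,2,0,0,0,1],[1,2,0,1,2,0,0],[1,1,2,1,1,0,2],[2,1,1,2,1,1,0]], [[1,0,0,0,0,0,0],[0,1,0,0,0,0,0],[1,2,1,0,0,0,0],[1,0,2,1,0,0,0],[2,2,1,2,1,0,0],[1,0,2,1,1,1,0],[0,0,2,2,2,1,1]], [[1,0,0,1,2,1,1],[0,1,1,2,0,0,0],[0,0,1,1,1,0,0],[0,0,0,1,1,1,2],[0,0,0,0,1,2,0],[0,0,0,0,0,1,0],[0,0,0,0,0,0,1]], [[1,0,0,0,0,0,0],[0,1,0,0,0,0,0],[1,1,1,0,0,0,0],[0,2,2,1,0,0,0],[0,1,1,1,1,0,0],[0,1,0,0,2,1,0],[1,2,0,1,0,0,1]]),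
  ([[1,2,1],[2,2],[1,1]], [[1,0,0,2,0,2,2],[0,0,0,2,0,0,0],[0,1,0,0,2,0,0],[1,2,2,1,2,2,0],[1,2,1,2,2,2,2],[0,1,1,2,1,2,1],[1,2,0,2,1,2,0]], [[2,1,0,2,0,2,0],[1,1,0,2,2,0,1],[1,2,2,1,2,0,2],[0,2,0,0,0,0,0],[1,1,2,2,2,0,1],[2,2,2,2,0,2,2],[2,0,1,0,0,0,1]], [[1,0,0,0,0,0,0],[2,1,0,0,0,0,0],[0,0,1,0,0,0,0],[2,2,0,1,0,0,0],[0,1,2,2,1,0,0],[1,0,2,0,2,1,0],[2,1,2,1,2,1,1]], [[1,1,0,1,0,1,0],[0,1,0,0,1,1,2],[0,0,1,2,0,0,0],[0,0,0,1,2,1,1],[0,0,0,0,1,2,1],[0,0,0,0,0,1,0],[0,0,0,0,0,0,1]], [[1,0,0,0,0,0,0],[2,1,0,0,0,0,0],[0,1,1,0,0,0,0],[1,2,1,1,0,0,0],[2,2,1,2,1,0,0],[0,2,2,2,0,1,0],[2,2,2,1,0,0,1]]),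
  ([[1,2,2],[2,0],[1,1]], [[0,1,1,2,1,1,1],[0,0,0,1,0,2,1],[2,2,1,0,1,2,0],[2,0,0,0,2,2,2],[0,2,0,0,1,0,2],[1,0,0,2,1,0,1],[0,2,2,2,0,0,2]], [[2,2,0,0,0,1,2],[1,1,2,1,1,0,0],[2,2,2,1,0,0,0],[0,1,1,1,1,2,1],[1,0,0,1,0,1,1],[0,2,2,1,2,0,2],[0,2,1,0,1,1,1]], [[1,0,0,0,0,0,0],[0,1,0,0,0,0,0],[2,1,1,0,0,0,0],[1,0,0,1,0,0,0],[1,2,1,0,1,0,0],[0,1,1,2,2,1,0],[1,2,1,1,1,0,1]], [[1,2,2,2,2,2,2],[0,1,0,2,2,1,1],[0,0,1,2,2,2,1],[0,0,0,1,1,0,0],[0,0,0,0,1,2,1],[0,0,0,0,0,1,2],[0,0,0,0,0,0,1]], [[1,0,0,0,0,0,0],[2,1,0,0,0,0,0],[0,1,1,0,0,0,0],[2,2,2,1,0,0,0],[2,1,1,2,1,0,0],[0,1,0,0,2,1,0],[0,1,2,1,2,0,1]]),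
  ([[1,2,2],[2,1],[1,1]], [[1,1,1,0,2,0,0],[0,0,0,1,2,1,1],[2,1,2,1,1,1,0],[1,1,2,0,2,0,0],[2,0,0,0,0,1,0],[1,1,1,1,2,0,2],[2,2,2,1,0,2,2]], [[2,2,2,1,1,0,2],[2,2,2,0,0,1,1],[2,0,0,1,0,0,0],[1,0,1,2,1,1,2],[2,1,1,2,1,1,0],[2,2,2,1,2,0,2],[2,0,1,2,1,0,2]], [[1,0,0,0,0,0,0],[2,1,0,0,0,0,0],[0,2,1,0,0,0,0],[2,1,1,1,0,0,0],[2,1,0,2,1,0,0],[2,2,1,1,2,1,0],[0,2,2,1,2,2,1]], [[1,2,1,0,1,1,0],[0,1,2,2,1,0,1],[0,0,1,1,2,1,0],[0,0,0,1,2,2,0],[0,0,0,0,1,0,1],[0,0,0,0,0,1,0],[0,0,0,0,0,0,1]], [[1,0,0,0,0,0,0],[2,1,0,0,0,0,0],[2,1,1,0,0,0,0],[2,1,1,1,0,0,0],[2,0,2,1,1,0,0],[0,1,0,2,1,1,0],[2,0,1,0,1,2,1]]),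
  ([[1,2,2],[2,2],[1,1]], [[2,1,2,1,2,0,1],[0,1,1,1,0,1,1],[2,1,0,1,2,2,2],[1,0,1,2,1,2,1],[0,2,2,2,0,0,1],[2,0,0,2,0,2,0],[1,1,0,0,1,1,0]], [[0,1,1,1,2,2,0],[2,1,2,0,2,0,1],[2,1,1,0,1,0,0],[1,1,1,1,1,0,1],[2,0,2,1,2,1,1],[2,1,1,1,0,0,2],[2,0,1,1,2,0,2]], [[1,0,0,0,0,0,0],[1,1,0,0,0,0,0],[0,2,1,0,0,0,0],[0,0,1,1,0,0,0],[1,2,1,2,1,0,0],[0,0,0,1,1,1,0],[0,2,0,0,2,2,1]], [[1,1,1,0,1,0,1],[0,1,0,2,1,2,0],[0,0,1,0,1,0,1],[0,0,0,1,0,1,0],[0,0,0,0,1,1,2],[0,0,0,0,0,1,2],[0,0,0,0,0,0,1]], [[1,0,0,0,0,0,0],[1,1,0,0,0,0,0],[1,2,1,0,0,0,0],[0,0,0,1,0,0,0],[0,2,0,0,1,0,0],[2,2,1,2,1,1,0],[0,2,2,1,2,1,1]])]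

theorem pjm7_ok : tblOk 3 [g7m] pjm7 = true := by decide +kernel

theorem pjm7_keys : keys pjm7 = (((detV 3 4 2).flatMap fun a => (detV 3 1 2).map fun b => [a, b, [1, 1]]) ++ ((detV 3 3 2).flatMap fun a => (detV 3 2 2).map fun b => [a, b, [1, 1]])) := by decide +kernel

def pjp5 : Tbl :=
  [([[2,0],[1],[1,1]], [[0,1,1,2,2],[0,2,1,2,0],[0,2,1,0,0],[2,1,0,2,2],[2,2,1,1,2]], [[1,2,2,1,1],[0,1,0,1,2],[0,1,1,1,2],[0,2,1,0,0],[2,0,0,2,1]], [[1,0,0,0,0],[2,1,0,0,0],[0,1,1,0,0],[1,0,1,1,0],[2,0,0,1,1]], [[1,2,1,1,1],[0,1,1,1,2],[0,0,1,0,1],[0,0,0,1,0],[0,0,0,0,1]], [[1,0,0,0,0],[0,1,0,0,0],[0,0,1,0,0],[0,0,0,1,0],[0,0,0,0,1]]),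
  ([[2,1],[1],[1,1]], [[2,1,0,1,0],[0,2,0,0,2],[1,2,2,0,2],[1,2,2,1,1],[0,2,1,2,1]], [[2,2,2,1,0],[2,0,2,0,2],[2,0,1,1,0],[1,2,0,1,1],[1,2,1,0,1]], [[1,0,0,0,0],[2,1,0,0,0],[2,2,1,0,0],[1,0,2,1,0],[1,1,0,1,1]], [[1,0,2,2,1],[0,1,0,1,1],[0,0,1,1,0],[0,0,0,1,2],[0,0,0,0,1]], [[1,0,0,0,0],[0,1,0,0,0],[0,0,1,0,0],[0,0,0,1,0],[0,0,0,0,1]]),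
  ([[2,2],[1],[1,1]], [[0,0,1,1,1],[0,0,2,1,1],[0,2,0,2,1],[1,2,2,1,1],[1,2,2,2,1]], [[2,1,2,0,1],[2,2,2,2,1],[2,1,0,0,0],[0,0,0,2,1],[2,2,0,1,2]], [[1,0,0,0,0],[2,1,0,0,0],[1,2,1,0,0],[0,2,2,1,0],[1,2,0,2,1]], [[1,0,0,2,1],[0,1,2,1,2],[0,0,1,0,0],[0,0,0,1,0],[0,0,0,0,1]], [[1,0,0,0,0],[0,1,0,0,0],[0,0,1,0,0],[0,0,0,1,0],[0,0,0,0,1]])]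

theorem pjp5_ok : tblOk 3 [g5p] pjp5 = true := by decide +kernel

theorem pjp5_keys : keys pjp5 = (((detV 3 2 2).flatMap fun a => (detV 3 1 2).map fun b => [a, b, [1, 1]])) := by decide +kernel

def pjp6 : Tbl :=
  [([[1,0,0],[1],[1,1]], [[2,0,1,2,0,0],[0,2,2,1,2,1],[1,1,2,2,2,1],[0,2,0,0,2,0],[0,0,2,1,2,2],[1,0,1,2,2,0]], [[0,2,0,1,2,1],[2,2,0,0,2,2],[0,1,1,0,2,2],[2,2,1,2,0,1],[1,1,0,2,1,1],[1,0,0,0,2,1]], [[1,0,0,0,0,0],[2,1,0,0,0,0],[1,2,1,0,0,0],[2,0,2,1,0,0],[2,1,2,1,1,0],[1,1,2,1,1,1]], [[1,0,2,2,0,0],[0,1,1,2,2,1],[0,0,1,2,0,0],[0,0,0,1,2,2],[0,0,0,0,1,2],[0,0,0,0,0,1]], [[1,0,0,0,0,0],[1,1,0,0,0,0],[1,0,1,0,0,0],[0,0,1,1,0,0],[1,0,1,2,1,0],[0,1,2,2,1,1]]),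
  ([[1,0,1],[1],[1,1]], [[0,2,0,1,2,1],[2,1,1,1,0,0],[0,2,2,0,0,2],[1,0,2,0,2,1],[0,2,1,2,2,2],[2,1,1,0,0,1]], [[0,0,2,0,0,2],[1,2,0,2,0,0],[2,0,1,2,2,2],[0,2,1,2,1,0],[1,1,2,2,2,1],[0,1,1,2,1,1]], [[1,0,0,0,0,0],[2,1,0,0,0,0],[1,1,1,0,0,0],[1,0,2,1,0,0],[0,1,2,0,1,0],[0,1,1,2,2,1]], [[1,0,1,2,1,0],[0,1,2,0,2,0],[0,0,1,2,1,2],[0,0,0,1,0,2],[0,0,0,0,1,2],[0,0,0,0,0,1]], [[1,0,0,0,0,0],[1,1,0,0,0,0],[2,2,1,0,0,0],[2,0,1,1,0,0],[0,2,2,1,1,0],[0,2,1,0,0,1]]),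
  ([[1,0,2],[1],[1,1]], [[2,1,0,2,0,1],[2,1,2,2,2,1],[0,0,2,2,1,2],[2,2,2,0,0,1],[0,2,2,0,0,0],[2,2,0,1,1,1]], [[2,0,2,2,2,1],[0,1,0,1,1,1],[0,2,0,2,1,2],[2,1,0,2,0,1],[1,0,0,1,2,1],[2,0,2,0,1,1]], [[1,0,0,0,0,0],[1,1,0,0,0,0],[0,1,1,0,0,0],[0,0,1,1,0,0],[1,2,1,0,1,0],[0,1,2,2,0,1]], [[1,0,0,2,1,0],[0,1,2,0,0,0],[0,0,1,0,0,1],[0,0,0,1,2,1],[0,0,0,0,1,1],[0,0,0,0,0,1]], [[1,0,0,0,0,0],[0,1,0,0,0,0],[0,0,1,0,0,0],[0,0,0,1,0,0],[0,0,0,0,1,0],[0,0,0,0,0,1]]),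
  ([[1,1,0],[1],[1,1]], [[2,2,2,0,0,1],[2,2,0,1,2,2],[1,1,2,1,1,0],[0,1,0,2,1,0],[2,2,0,1,2,0],[0,0,2,0,1,0]], [[0,0,0,2,2,0],[1,1,1,1,2,1],[1,1,2,0,0,2],[2,2,0,0,2,1],[1,1,2,0,0,0],[0,2,0,0,1,0]], [[1,0,0,0,0,0],[2,1,0,0,0,0],[1,0,1,0,0,0],[0,1,2,1,0,0],[1,2,0,2,1,0],[1,1,0,2,0,1]], [[1,1,2,2,2,1],[0,1,0,1,0,0],[0,0,1,1,1,1],[0,0,0,1,0,1],[0,0,0,0,1,2],[0,0,0,0,0,1]], [[1,0,0,0,0,0],[0,1,0,0,0,0],[0,0,1,0,0,0],[0,0,0,1,0,0],[0,0,0,0,1,0],[0,0,0,0,0,1]]),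
  ([[1,1,1],[1],[1,1]], [[2,0,2,0,0,2],[2,2,2,1,2,2],[0,1,0,0,1,2],[2,1,2,2,1,1],[1,1,1,0,0,0],[1,1,0,0,0,0]], [[0,1,0,1,2,1],[0,2,0,2,1,0],[0,0,0,0,1,2],[1,0,1,2,0,0],[2,0,1,0,2,0],[2,2,0,2,0,0]], [[1,0,0,0,0,0],[1,1,0,0,0,0],[1,0,1,0,0,0],[2,1,0,1,0,0],[0,2,2,0,1,0],[0,0,1,1,0,1]], [[1,1,0,2,2,2],[0,1,0,0,2,1],[0,0,1,2,1,2],[0,0,0,1,2,2],[0,0,0,0,1,0],[0,0,0,0,0,1]], [[1,0,0,0,0,0],[0,1,0,0,0,0],[0,2,1,0,0,0],[2,0,2,1,0,0],[2,1,0,2,1,0],[1,2,2,2,1,1]]),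
  ([[1,1,2],[1],[1,1]], [[2,2,0,2,0,1],[0,1,2,1,0,2],[0,0,0,0,1,1],[2,2,1,1,1,1],[0,2,2,1,2,1],[2,1,1,2,2,2]], [[1,1,0,2,0,2],[0,2,1,0,1,0],[1,1,0,1,0,1],[0,2,0,2,1,1],[1,1,0,2,1,0],[2,2,1,1,2,0]], [[1,0,0,0,0,0],[1,1,0,0,0,0],[1,2,1,0,0,0],[2,0,0,1,0,0],[0,0,2,1,1,0],[0,0,2,0,2,1]], [[1,2,1,1,2,2],[0,1,0,0,1,0],[0,0,1,0,0,0],[0,0,0,1,1,0],[0,0,0,0,1,0],[0,0,0,0,0,1]], [[1,0,0,0,0,0],[2,1,0,0,0,0],[0,0,1,0,0,0],[1,2,0,1,0,0],[2,1,0,1,1,0],[1,0,0,0,0,1]]),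
  ([[1,2,0],[1],[1,1]], [[0,1,1,1,2,2],[0,2,1,2,0,0],[1,1,2,0,1,2],[1,0,1,0,2,0],[2,0,0,1,2,2],[1,1,0,1,0,1]], [[1,2,2,2,2,2],[1,0,1,0,0,2],[2,1,0,1,0,2],[1,0,2,1,0,0],[0,0,2,2,2,1],[0,1,1,0,1,0]], [[1,0,0,0,0,0],[1,1,0,0,0,0],[0,1,1,0,0,0],[1,0,1,1,0,0],[0,1,1,2,1,0],[1,1,0,1,1,1]], [[1,1,2,1,2,0],[0,1,1,0,0,1],[0,0,1,2,1,0],[0,0,0,1,0,0],[0,0,0,0,1,1],[0,0,0,0,0,1]], [[1,0,0,0,0,0],[0,1,0,0,0,0],[0,2,1,0,0,0],[0,0,1,1,0,0],[0,1,1,1,1,0],[1,0,2,1,2,1]]),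
  ([[1,2,1],[1],[1,1]], [[1,1,1,1,2,1],[0,1,2,1,0,1],[1,1,1,2,2,0],[2,2,0,2,0,2],[1,0,2,2,2,2],[1,2,0,0,1,1]], [[2,1,2,1,0,1],[0,0,1,1,1,2],[1,1,1,1,0,2],[0,1,2,0,1,0],[0,1,1,0,0,2],[1,1,1,0,1,0]], [[1,0,0,0,0,0],[2,1,0,0,0,0],[2,2,1,0,0,0],[0,0,2,1,0,0],[0,1,2,1,1,0],[2,1,0,2,1,1]], [[1,2,0,1,0,0],[0,1,2,2,1,2],[0,0,1,0,2,1],[0,0,0,1,0,0],[0,0,0,0,1,1],[0,0,0,0,0,1]], [[1,0,0,0,0,0],[0,1,0,0,0,0],[0,0,1,0,0,0],[0,0,0,1,0,0],[0,0,0,0,1,0],[0,0,0,0,0,1]]),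
  ([[1,2,2],[1],[1,1]], [[0,0,2,2,2,1],[1,1,2,2,1,0],[1,0,1,0,2,1],[2,0,0,1,0,2],[0,2,0,2,1,0],[1,2,1,0,2,0]], [[2,2,0,2,1,1],[1,2,1,2,2,2],[1,2,2,0,0,2],[1,0,0,1,2,1],[2,2,1,0,2,0],[2,1,0,1,1,0]], [[1,0,0,0,0,0],[2,1,0,0,0,0],[1,0,1,0,0,0],[2,0,2,1,0,0],[0,2,2,1,1,0],[2,1,0,2,0,1]], [[1,1,0,0,2,1],[0,1,1,1,0,2],[0,0,1,2,1,0],[0,0,0,1,1,0],[0,0,0,0,1,2],[0,0,0,0,0,1]], [[1,0,0,0,0,0],[0,1,0,0,0,0],[1,1,1,0,0,0],[0,0,1,1,0,0],[1,0,0,0,1,0],[0,0,1,0,1,1]]),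
  ([[2,0],[2,0],[1,1]], [[2,2,2,0,0,0],[1,0,0,0,1,1],[1,2,2,1,0,0],[1,2,0,0,1,2],[1,0,1,2,2,1],[1,0,2,2,0,2]], [[1,2,1,1,0,1],[0,0,1,1,1,0],[1,1,1,1,2,2],[0,2,2,1,0,1],[2,0,1,0,2,2],[0,2,1,2,1,0]], [[1,0,0,0,0,0],[0,1,0,0,0,0],[1,2,1,0,0,0],[2,2,2,1,0,0],[2,2,0,1,1,0],[2,0,1,0,1,1]], [[1,2,1,2,0,1],[0,1,2,1,1,1],[0,0,1,1,2,1],[0,0,0,1,2,1],[0,0,0,0,1,2],[0,0,0,0,0,1]], [[1,0,0,0,0,0],[1,1,0,0,0,0],[1,1,1,0,0,0],[2,1,0,1,0,0],[2,2,0,0,1,0],[1,1,1,0,2,1]]),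
  ([[2,0],[2,1],[1,1]], [[2,1,0,1,0,1],[0,0,1,2,1,2],[1,2,2,1,1,1],[0,1,2,1,2,2],[1,1,2,0,0,1],[1,2,2,1,2,2]], [[1,1,1,2,1,0],[2,2,2,0,2,1],[1,2,1,0,0,0],[2,0,1,1,1,0],[2,1,1,2,2,2],[1,2,1,1,1,2]], [[1,0,0,0,0,0],[1,1,0,0,0,0],[2,2,1,0,0,0],[1,2,1,1,0,0],[2,2,1,0,1,0],[0,2,0,2,1,1]], [[1,1,0,1,0,1],[0,1,1,0,0,2],[0,0,1,1,1,0],[0,0,0,1,0,0],[0,0,0,0,1,2],[0,0,0,0,0,1]], [[1,0,0,0,0,0],[0,1,0,0,0,0],[0,0,1,0,0,0],[0,0,0,1,0,0],[0,0,0,0,1,0],[0,0,0,0,0,1]]),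
  ([[2,0],[2,2],[1,1]], [[0,0,2,1,1,2],[1,1,0,0,1,2],[0,1,1,0,0,0],[0,2,2,1,1,2],[0,2,0,1,0,0],[1,0,0,1,1,0]], [[0,1,2,2,1,0],[1,0,0,2,0,0],[2,0,1,1,0,0],[1,0,0,2,1,0],[2,2,1,2,1,1],[0,2,0,0,2,1]], [[1,0,0,0,0,0],[2,1,0,0,0,0],[2,2,1,0,0,0],[0,0,0,1,0,0],[0,1,0,1,1,0],[2,0,1,0,0,1]], [[1,2,1,1,2,0],[0,1,1,2,1,0],[0,0,1,1,1,0],[0,0,0,1,1,2],[0,0,0,0,1,1],[0,0,0,0,0,1]], [[1,0,0,0,0,0],[0,1,0,0,0,0],[0,0,1,0,0,0],[0,0,0,1,0,0],[0,0,0,0,1,0],[0,0,0,0,0,1]]),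
  ([[2,1],[2,0],[1,1]], [[1,2,2,2,0,0],[2,2,2,2,1,2],[2,2,0,1,0,2],[2,0,0,2,1,0],[1,1,1,0,1,1],[2,0,0,2,0,2]], [[1,1,0,0,2,1],[2,1,2,2,0,0],[0,1,1,0,2,0],[1,2,0,1,0,1],[2,0,0,2,2,2],[1,0,0,2,1,0]], [[1,0,0,0,0,0],[1,1,0,0,0,0],[2,1,1,0,0,0],[0,2,2,1,0,0],[1,2,1,0,1,0],[0,0,0,2,1,1]], [[1,0,2,0,2,0],[0,1,0,2,2,2],[0,0,1,0,1,0],[0,0,0,1,1,0],[0,0,0,0,1,1],[0,0,0,0,0,1]], [[1,0,0,0,0,0],[1,1,0,0,0,0],[2,1,1,0,0,0],[2,2,0,1,0,0],[2,2,2,2,1,0],[2,0,2,1,0,1]]),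
  ([[2,1],[2,1],[1,1]], [[1,2,0,0,0,2],[1,2,0,0,1,0],[0,1,2,0,0,2],[1,0,1,0,2,2],[1,2,1,2,0,2],[1,0,0,0,2,2]], [[2,1,0,0,0,1],[2,2,2,2,0,0],[0,0,0,1,0,2],[1,0,0,1,2,2],[0,2,2,2,0,2],[2,2,1,1,0,1]], [[1,0,0,0,0,0],[1,1,0,0,0,0],[2,1,1,0,0,0],[2,0,1,1,0,0],[0,0,2,2,1,0],[0,0,0,0,0,1]], [[1,0,1,1,1,0],[0,1,0,1,2,1],[0,0,1,0,2,2],[0,0,0,1,2,1],[0,0,0,0,1,1],[0,0,0,0,0,1]], [[1,0,0,0,0,0],[2,1,0,0,0,0],[2,0,1,0,0,0],[0,2,2,1,0,0],[1,1,1,2,1,0],[2,0,2,0,2,1]]),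
  ([[2,1],[2,2],[1,1]], [[0,2,0,2,1,0],[2,1,1,2,2,1],[2,0,0,1,2,1],[0,2,2,0,1,2],[0,2,1,0,0,1],[1,0,0,1,1,1]], [[2,1,2,0,2,1],[2,1,1,1,0,2],[0,2,0,0,2,2],[1,1,1,2,1,2],[1,2,2,0,1,1],[2,2,1,1,2,0]], [[1,0,0,0,0,0],[2,1,0,0,0,0],[1,2,1,0,0,0],[0,1,0,1,0,0],[1,2,2,0,1,0],[0,0,0,0,2,1]], [[1,2,1,1,0,0],[0,1,0,1,0,1],[0,0,1,2,1,2],[0,0,0,1,1,2],[0,0,0,0,1,2],[0,0,0,0,0,1]], [[1,0,0,0,0,0],[0,1,0,0,0,0],[0,0,1,0,0,0],[0,0,0,1,0,0],[0,0,0,0,1,0],[0,0,0,0,0,1]]),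
  ([[2,2],[2,0],[1,1]], [[0,1,2,2,0,0],[2,0,1,1,1,2],[2,0,0,2,1,0],[0,0,2,0,0,1],[1,2,2,0,1,0],[0,0,1,0,0,0]], [[2,0,1,0,2,1],[1,2,1,2,0,1],[0,0,0,0,0,1],[0,2,1,2,0,0],[2,2,0,2,2,1],[0,0,0,1,0,1]], [[1,0,0,0,0,0],[2,1,0,0,0,0],[0,2,1,0,0,0],[0,2,1,1,0,0],[2,0,0,2,1,0],[0,0,1,1,0,1]], [[1,1,1,1,0,1],[0,1,2,0,2,2],[0,0,1,2,0,2],[0,0,0,1,0,1],[0,0,0,0,1,2],[0,0,0,0,0,1]], [[1,0,0,0,0,0],[1,1,0,0,0,0],[2,1,1,0,0,0],[0,0,0,1,0,0],[0,0,2,2,1,0],[0,0,0,1,1,1]]),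
  ([[2,2],[2,1],[1,1]], [[2,2,0,1,1,0],[1,1,0,0,0,2],[2,0,1,1,2,0],[2,2,2,0,2,1],[0,2,0,1,0,2],[2,1,2,2,0,0]], [[0,2,2,1,2,1],[2,1,1,1,0,0],[1,2,1,0,1,0],[1,0,1,0,0,1],[2,0,2,2,2,0],[2,2,0,2,2,1]], [[1,0,0,0,0,0],[1,1,0,0,0,0],[1,1,1,0,0,0],[1,1,1,1,0,0],[1,2,1,2,1,0],[2,1,0,1,1,1]], [[1,0,0,0,1,2],[0,1,0,0,0,1],[0,0,1,2,0,2],[0,0,0,1,1,2],[0,0,0,0,1,0],[0,0,0,0,0,1]], [[1,0,0,0,0,0],[0,1,0,0,0,0],[2,2,1,0,0,0],[1,2,2,1,0,0],[0,2,2,0,1,0],[2,1,0,0,2,1]]),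
  ([[2,2],[2,2],[1,1]], [[0,2,1,0,0,1],[2,2,1,0,1,1],[0,1,0,0,0,2],[0,1,2,2,1,0],[2,0,2,1,1,2],[0,2,1,0,1,0]], [[1,1,1,1,1,0],[1,2,2,1,1,2],[1,0,1,0,0,0],[0,1,2,1,2,2],[0,2,1,1,1,0],[1,2,1,1,1,2]], [[1,0,0,0,0,0],[0,1,0,0,0,0],[2,0,1,0,0,0],[0,0,0,1,0,0],[0,0,2,0,1,0],[1,0,0,0,2,1]], [[1,1,1,2,0,2],[0,1,0,1,2,1],[0,0,1,1,2,2],[0,0,0,1,0,0],[0,0,0,0,1,0],[0,0,0,0,0,1]], [[1,0,0,0,0,0],[0,1,0,0,0,0],[0,0,1,0,0,0],[0,0,0,1,0,0],[0,0,0,0,1,0],[0,0,0,0,0,1]])]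

theorem pjp6_ok : tblOk 3 [g6p] pjp6 = true := by decide +kernel

theorem pjp6_keys : keys pjp6 = (((detV 3 3 2).flatMap fun a => (detV 3 1 2).map fun b => [a, b, [1, 1]]) ++ ((detV 3 2 2).flatMap fun a => (detV 3 2 2).map fun b => [a, b, [1, 1]])) := by decide +kernel

def pjp7 : Tbl :=
  [([[2,0,0,0],[1],[1,1]], [[0,2,1,1,2,2,2],[2,2,1,1,2,0,2],[2,2,2,2,0,1,0],[2,1,2,0,1,2,2],[0,2,1,1,2,0,0],[1,1,2,2,2,2,0],[0,2,2,0,1,2,1]], [[0,1,1,1,1,1,2],[0,0,1,0,2,1,0],[0,0,0,1,1,1,1],[2,1,1,2,0,1,2],[2,1,0,0,1,1,0],[2,2,1,1,1,1,2],[0,1,2,2,0,2,1]], [[1,0,0,0,0,0,0],[1,1,0,0,0,0,0],[2,0,1,0,0,0,0],[2,0,0,1,0,0,0],[2,1,0,2,1,0,0],[1,2,1,2,2,1,0],[0,0,1,0,1,0,1]],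 [[1,2,0,2,1,0,1],[0,1,0,0,0,1,0],[0,0,1,0,1,2,1],[0,0,0,1,1,1,1],[0,0,0,0,1,2,2],[0,0,0,0,0,1,2],[0,0,0,0,0,0,1]], [[1,0,0,0,0,0,0],[0,1,0,0,0,0,0],[1,1,1,0,0,0,0],[2,0,0,1,0,0,0],[0,0,2,2,1,0,0],[0,1,2,0,1,1,0],[1,0,0,2,0,2,1]]),
  ([[2,0,0,1],[1],[1,1]], [[2,0,1,0,0,0,1],[2,2,1,1,1,2,1],[0,2,2,1,2,2,0],[0,0,1,0,2,2,0],[0,1,0,2,1,2,1],[2,0,2,1,2,2,1],[1,0,1,0,0,0,2]], [[1,2,2,1,1,0,1],[1,0,2,0,0,1,2],[2,0,0,0,0,0,2],[2,0,0,2,0,1,0],[0,2,1,0,0,0,2],[2,1,2,2,0,0,0],[0,2,2,1,1,0,2]], [[1,0,0,0,0,0,0],[1,1,0,0,0,0,0],[1,2,1,0,0,0,0],[0,0,0,1,0,0,0],[0,0,1,0,1,0,0],[2,1,0,1,1,1,0],[2,2,1,1,2,1,1]], [[1,0,1,2,0,0,2],[0,1,1,2,1,0,2],[0,0,1,1,2,0,1],[0,0,0,1,2,0,0],[0,0,0,0,1,0,0],[0,0,0,0,0,1,0],[0,0,0,0,0,0,1]],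 [[1,0,0,0,0,0,0],[2,1,0,0,0,0,0],[2,1,1,0,0,0,0],[2,1,1,1,0,0,0],[0,0,2,1,1,0,0],[2,2,1,1,1,1,0],[1,1,1,0,0,2,1]]),
  ([[2,0,0,2],[1],[1,1]], [[1,1,1,2,0,1,1],[0,0,0,1,2,2,1],[0,0,2,1,2,2,1],[1,2,1,2,2,2,2],[0,0,2,1,1,0,0],[0,2,1,0,1,1,1],[2,1,2,2,2,2,1]], [[1,0,1,2,1,1,2],[0,2,2,2,0,2,2],[0,1,2,0,0,0,0],[1,1,1,0,1,2,1],[2,0,1,0,0,1,2],[0,2,1,1,2,0,1],[1,2,1,1,1,2,2]], [[1,0,0,0,0,0,0],[0,1,0,0,0,0,0],[2,2,1,0,0,0,0],[0,0,0,1,0,0,0],[2,1,2,2,1,0,0],[0,0,2,2,0,1,0],[1,2,2,2,2,2,1]], [[1,2,2,1,0,2,2],[0,1,0,2,2,1,0],[0,0,1,1,1,0,1],[0,0,0,1,0,2,0],[0,0,0,0,1,0,1],[0,0,0,0,0,1,0],[0,0,0,0,0,0,1]], [[1,0,0,0,0,0,0],[2,1,0,0,0,0,0],[0,1,1,0,0,0,0],[1,2,2,1,0,0,0],[2,2,1,2,1,0,0],[2,2,1,1,1,1,0],[1,2,2,2,2,2,1]]),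
  ([[2,0,1,0],[1],[1,1]], [[2,2,1,2,1,2,2],[2,2,0,1,1,0,1],[0,2,2,0,2,0,1],[2,0,1,2,2,0,2],[2,2,1,2,0,2,2],[0,2,2,0,0,0,2],[2,1,1,1,2,2,2]], [[2,0,2,2,0,0,1],[0,1,0,2,1,2,2],[1,2,1,1,1,2,1],[2,2,0,1,1,1,0],[1,0,0,0,2,0,0],[1,2,0,2,0,1,1],[2,0,2,0,1,1,0]], [[1,0,0,0,0,0,0],[2,1,0,0,0,0,0],[1,0,1,0,0,0,0],[1,0,0,1,0,0,0],[2,0,2,0,1,0,0],[2,2,1,2,0,1,0],[2,2,0,2,2,0,1]], [[1,0,2,2,2,1,2],[0,1,0,2,0,0,0],[0,0,1,1,1,1,1],[0,0,0,1,2,0,1],[0,0,0,0,1,1,2],[0,0,0,0,0,1,2],[0,0,0,0,0,0,1]], [[1,0,0,0,0,0,0],[0,1,0,0,0,0,0],[0,2,1,0,0,0,0],[1,1,1,1,0,0,0],[1,2,2,1,1,0,0],[1,1,2,1,2,1,0],[1,2,0,2,0,0,1]]),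
  ([[2,0,1,1],[1],[1,1]], [[1,2,2,0,2,0,1],[1,2,2,1,1,1,0],[1,1,0,2,1,2,1],[1,2,0,0,2,0,1],[2,1,0,2,2,1,1],[2,0,2,1,2,2,2],[2,1,2,0,2,2,1]], [[1,0,1,1,0,1,1],[1,1,0,2,0,2,2],[2,0,0,1,0,0,0],[1,1,2,2,2,1,0],[0,2,2,1,1,1,0],[1,2,1,2,0,2,1],[0,0,1,0,1,2,1]], [[1,0,0,0,0,0,0],[2,1,0,0,0,0,0],[0,2,1,0,0,0,0],[0,2,2,1,0,0,0],[1,1,0,2,1,0,0],[1,0,1,1,0,1,0],[1,1,1,0,0,0,1]], [[1,1,1,0,0,1,2],[0,1,0,2,1,1,1],[0,0,1,0,0,1,1],[0,0,0,1,2,2,2],[0,0,0,0,1,0,1],[0,0,0,0,0,1,0],[0,0,0,0,0,0,1]], [[1,0,0,0,0,0,0],[1,1,0,0,0,0,0],[2,0,1,0,0,0,0],[1,2,2,1,0,0,0],[0,1,2,0,1,0,0],[0,2,0,2,1,1,0],[2,0,0,0,0,1,1]]),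
  ([[2,0,1,2],[1],[1,1]], [[0,0,1,0,0,2,2],[1,1,1,2,0,0,0],[0,1,0,0,0,0,2],[0,0,0,0,0,1,2],[1,0,0,1,0,2,1],[1,2,2,1,1,2,1],[2,2,1,1,0,2,1]], [[1,2,1,0,2,0,0],[1,1,1,2,0,0,1],[0,2,0,2,0,0,2],[2,1,2,1,2,0,0],[1,0,1,1,2,1,0],[1,1,0,0,0,0,1],[1,1,0,2,0,0,1]], [[1,0,0,0,0,0,0],[2,1,0,0,0,0,0],[1,0,1,0,0,0,0],[1,1,2,1,0,0,0],[0,2,2,0,1,0,0],[0,2,0,1,2,1,0],[0,2,0,2,2,0,1]], [[1,0,2,0,1,1,0],[0,1,0,0,0,0,2],[0,0,1,1,1,2,2],[0,0,0,1,0,2,1],[0,0,0,0,1,1,0],[0,0,0,0,0,1,1],[0,0,0,0,0,0,1]], [[1,0,0,0,0,0,0],[1,1,0,0,0,0,0],[2,2,1,0,0,0,0],[2,1,2,1,0,0,0],[1,1,0,0,1,0,0],[1,2,0,0,2,1,0],[0,0,2,2,0,1,1]]),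
  ([[2,0,2,0],[1],[1,1]], [[2,1,2,2,0,2,2],[2,1,2,0,0,2,1],[2,0,2,1,2,1,1],[2,1,0,2,1,0,0],[0,0,1,0,2,2,2],[1,2,0,1,0,0,2],[1,1,0,1,2,0,1]], [[0,0,1,0,1,1,1],[2,1,1,0,1,0,1],[1,0,0,2,2,0,0],[1,2,1,1,1,0,2],[2,1,1,2,1,1,2],[0,1,1,2,2,2,2],[2,1,1,1,1,0,2]], [[1,0,0,0,0,0,0],[2,1,0,0,0,0,0],[2,1,1,0,0,0,0],[1,1,2,1,0,0,0],[0,2,0,1,1,0,0],[2,1,0,0,0,1,0],[2,2,1,1,2,1,1]], [[1,1,2,1,1,0,0],[0,1,1,2,2,0,0],[0,0,1,0,1,0,2],[0,0,0,1,2,0,0],[0,0,0,0,1,1,0],[0,0,0,0,0,1,0],[0,0,0,0,0,0,1]], [[1,0,0,0,0,0,0],[0,1,0,0,0,0,0],[0,0,1,0,0,0,0],[0,0,0,1,0,0,0],[0,0,0,0,1,0,0],[0,0,0,0,0,1,0],[0,0,0,0,0,0,1]]),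
  ([[2,0,2,1],[1],[1,1]], [[0,2,0,2,0,2,0],[0,0,1,1,0,0,0],[2,1,2,1,1,1,1],[1,2,0,0,0,2,2],[0,0,0,0,0,2,2],[0,1,1,1,1,0,0],[0,2,0,1,2,2,2]], [[0,2,2,0,0,0,2],[0,2,2,2,1,0,2],[0,2,0,0,1,2,2],[0,2,0,0,2,1,1],[0,0,1,1,2,1,1],[2,2,1,1,0,2,0],[1,1,2,2,2,1,0]], [[1,0,0,0,0,0,0],[0,1,0,0,0,0,0],[1,0,1,0,0,0,0],[2,1,2,1,0,0,0],[2,1,1,1,1,0,0],[0,1,2,2,2,1,0],[1,1,1,2,2,1,1]], [[1,2,0,0,1,0,1],[0,1,0,0,2,2,0],[0,0,1,2,2,0,1],[0,0,0,1,2,2,2],[0,0,0,0,1,2,2],[0,0,0,0,0,1,0],[0,0,0,0,0,0,1]], [[1,0,0,0,0,0,0],[0,1,0,0,0,0,0],[0,0,1,0,0,0,0],[0,0,0,1,0,0,0],[0,0,0,0,1,0,0],[0,0,0,0,0,1,0],[0,0,0,0,0,0,1]]),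
  ([[2,0,2,2],[1],[1,1]], [[2,2,2,1,0,0,2],[0,1,0,2,0,2,2],[2,2,2,2,1,0,0],[2,1,1,1,2,0,1],[1,2,2,1,2,0,0],[0,0,2,0,2,2,0],[0,0,2,0,0,1,1]], [[0,2,2,2,2,1,0],[2,2,0,2,1,0,2],[1,1,1,1,0,0,1],[1,0,2,1,1,0,0],[1,2,0,0,1,1,0],[1,0,2,2,2,1,2],[0,1,2,2,1,2,0]], [[1,0,0,0,0,0,0],[2,1,0,0,0,0,0],[1,1,1,0,0,0,0],[0,1,0,1,0,0,0],[0,1,0,1,1,0,0],[2,0,1,0,1,1,0],[0,0,1,1,2,2,1]], [[1,2,1,2,0,0,1],[0,1,2,2,2,0,2],[0,0,1,0,0,1,0],[0,0,0,1,2,0,2],[0,0,0,0,1,0,2],[0,0,0,0,0,1,2],[0,0,0,0,0,0,1]], [[1,0,0,0,0,0,0],[0,1,0,0,0,0,0],[2,0,1,0,0,0,0],[0,2,2,1,0,0,0],[1,1,2,2,1,0,0],[1,1,0,2,1,1,0],[0,1,2,2,0,1,1]]),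
  ([[2,1,0,0],[1],[1,1]], [[0,0,2,0,2,1,1],[0,1,2,0,2,1,1],[0,1,0,2,0,1,0],[0,0,0,0,1,0,2],[1,2,1,2,2,0,0],[1,0,2,1,1,1,1],[2,1,2,0,1,2,2]], [[1,1,2,1,2,1,2],[2,1,0,0,0,0,0],[0,0,2,1,2,1,0],[0,1,1,2,2,1,0],[2,2,0,0,1,1,2],[1,0,2,2,2,1,0],[2,2,0,2,1,1,2]], [[1,0,0,0,0,0,0],[0,1,0,0,0,0,0],[2,0,1,0,0,0,0],[2,1,2,1,0,0,0],[0,1,0,0,1,0,0],[1,0,1,2,2,1,0],[0,0,1,1,0,1,1]], [[1,2,2,1,2,2,1],[0,1,1,0,2,0,2],[0,0,1,1,2,2,0],[0,0,0,1,1,2,0],[0,0,0,0,1,1,2],[0,0,0,0,0,1,2],[0,0,0,0,0,0,1]], [[1,0,0,0,0,0,0],[1,1,0,0,0,0,0],[1,1,1,0,0,0,0],[1,0,0,1,0,0,0],[1,0,0,0,1,0,0],[1,1,1,2,0,1,0],[0,2,0,1,0,2,1]]),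
  ([[2,1,0,1],[1],[1,1]], [[1,1,1,0,0,0,0],[0,2,2,2,2,1,2],[0,0,2,1,2,1,1],[1,2,0,0,1,0,0],[1,1,2,2,2,2,2],[2,1,2,0,1,0,0],[2,2,2,0,2,2,2]], [[2,0,0,1,0,2,0],[1,0,1,0,1,2,0],[1,0,2,2,2,2,0],[0,0,2,2,1,2,1],[2,0,1,0,1,0,0],[2,2,1,2,2,0,0],[1,1,1,1,0,0,2]], [[1,0,0,0,0,0,0],[2,1,0,0,0,0,0],[1,1,1,0,0,0,0],[2,2,0,1,0,0,0],[1,1,0,1,1,0,0],[2,2,1,1,2,1,0],[0,0,2,1,1,2,1]], [[1,1,2,2,1,2,0],[0,1,2,2,1,2,0],[0,0,1,2,2,2,1],[0,0,0,1,0,0,1],[0,0,0,0,1,1,0],[0,0,0,0,0,1,1],[0,0,0,0,0,0,1]], [[1,0,0,0,0,0,0],[2,1,0,0,0,0,0],[1,1,1,0,0,0,0],[0,0,2,1,0,0,0],[1,2,0,2,1,0,0],[1,0,1,2,2,1,0],[1,0,0,2,2,0,1]]),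
  ([[2,1,0,2],[1],[1,1]], [[1,1,0,2,0,0,0],[2,2,1,0,0,2,1],[0,1,1,1,1,0,2],[0,2,1,1,2,2,2],[1,2,1,0,0,2,2],[0,0,2,2,2,0,2],[0,2,2,1,1,0,1]], [[1,2,0,2,2,2,1],[2,2,1,1,0,2,2],[2,2,1,1,0,0,0],[2,1,1,0,2,1,0],[1,2,1,0,1,2,2],[0,1,0,0,1,1,1],[1,1,0,2,0,2,1]], [[1,0,0,0,0,0,0],[0,1,0,0,0,0,0],[2,0,1,0,0,0,0],[1,2,0,1,0,0,0],[1,0,2,0,1,0,0],[0,0,2,1,0,1,0],[2,0,0,0,1,1,1]], [[1,0,1,1,2,0,2],[0,1,0,2,1,1,0],[0,0,1,1,0,2,1],[0,0,0,1,2,0,2],[0,0,0,0,1,1,0],[0,0,0,0,0,1,2],[0,0,0,0,0,0,1]], [[1,0,0,0,0,0,0],[0,1,0,0,0,0,0],[0,0,1,0,0,0,0],[0,0,0,1,0,0,0],[0,0,0,0,1,0,0],[0,0,0,0,0,1,0],[0,0,0,0,0,0,1]]),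
  ([[2,1,1,0],[1],[1,1]], [[0,0,0,1,1,0,1],[0,0,1,2,2,2,0],[2,1,0,2,2,0,2],[2,2,2,2,2,0,2],[2,0,2,0,2,2,0],[2,1,0,2,0,1,0],[1,1,2,0,2,1,1]], [[1,1,2,1,1,0,2],[2,1,0,1,1,0,2],[2,1,1,0,1,0,2],[2,2,1,1,1,0,0],[2,2,0,1,2,2,2],[1,2,0,1,1,1,0],[0,2,2,1,0,1,1]], [[1,0,0,0,0,0,0],[1,1,0,0,0,0,0],[1,1,1,0,0,0,0],[0,1,0,1,0,0,0],[0,1,1,0,1,0,0],[2,2,2,1,1,1,0],[1,1,0,0,2,1,1]], [[1,2,2,1,2,0,2],[0,1,1,2,0,2,0],[0,0,1,0,1,1,1],[0,0,0,1,2,2,0],[0,0,0,0,1,2,0],[0,0,0,0,0,1,0],[0,0,0,0,0,0,1]], [[1,0,0,0,0,0,0],[2,1,0,0,0,0,0],[2,0,1,0,0,0,0],[0,0,2,1,0,0,0],[1,2,2,2,1,0,0],[1,2,2,0,1,1,0],[2,1,1,0,2,2,1]]),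
  ([[2,1,1,1],[1],[1,1]], [[2,2,1,2,2,0,0],[2,2,0,0,0,1,0],[2,1,2,0,0,1,0],[0,1,1,1,1,0,1],[0,1,0,0,2,2,2],[2,1,1,2,2,0,0],[1,0,0,0,0,1,0]], [[1,1,0,0,0,2,2],[1,0,0,0,0,2,0],[2,1,2,0,0,1,0],[1,1,1,1,1,2,2],[1,2,1,2,2,1,2],[2,2,0,0,0,1,2],[1,2,2,1,0,0,2]], [[1,0,0,0,0,0,0],[0,1,0,0,0,0,0],[0,0,1,0,0,0,0],[1,2,2,1,0,0,0],[2,1,0,2,1,0,0],[1,1,0,0,2,1,0],[2,0,1,2,1,2,1]], [[1,2,2,2,2,0,1],[0,1,1,1,2,2,1],[0,0,1,0,2,2,1],[0,0,0,1,2,1,0],[0,0,0,0,1,1,2],[0,0,0,0,0,1,0],[0,0,0,0,0,0,1]], [[1,0,0,0,0,0,0],[0,1,0,0,0,0,0],[1,2,1,0,0,0,0],[0,1,2,1,0,0,0],[1,0,0,0,1,0,0],[2,2,2,1,0,1,0],[2,1,1,0,0,1,1]]),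
  ([[2,1,1,2],[1],[1,1]], [[0,1,2,2,2,1,1],[0,1,0,0,0,1,1],[2,1,2,1,0,2,0],[1,0,1,2,0,2,0],[0,0,0,1,0,2,2],[1,2,1,0,2,2,0],[1,2,1,2,0,2,2]], [[1,1,2,2,0,2,2],[0,2,1,2,0,0,2],[2,2,0,2,1,1,0],[0,2,2,1,1,0,1],[0,0,1,0,1,2,2],[0,1,0,2,0,0,1],[0,1,2,2,0,0,0]], [[1,0,0,0,0,0,0],[1,1,0,0,0,0,0],[1,1,1,0,0,0,0],[2,2,0,1,0,0,0],[2,0,2,1,1,0,0],[1,0,1,0,0,1,0],[1,2,0,1,0,0,1]], [[1,2,0,2,0,0,1],[0,1,2,1,1,0,0],[0,0,1,0,0,1,0],[0,0,0,1,1,1,0],[0,0,0,0,1,2,1],[0,0,0,0,0,1,1],[0,0,0,0,0,0,1]], [[1,0,0,0,0,0,0],[1,1,0,0,0,0,0],[2,1,1,0,0,0,0],[0,1,2,1,0,0,0],[2,1,0,1,1,0,0],[1,2,2,1,1,1,0],[2,0,0,1,1,1,1]]),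
  ([[2,1,2,0],[1],[1,1]], [[1,2,1,2,2,1,0],[1,2,0,1,2,2,0],[1,2,2,0,2,1,2],[0,0,0,2,0,0,0],[1,2,0,1,1,0,1],[0,2,0,1,0,1,1],[2,1,1,2,1,2,0]], [[0,2,1,2,2,2,1],[1,1,2,1,0,2,1],[2,0,0,2,0,0,2],[0,0,0,2,0,0,0],[1,2,2,2,2,0,1],[1,1,0,1,0,0,2],[0,0,2,1,0,0,2]], [[1,0,0,0,0,0,0],[1,1,0,0,0,0,0],[0,1,1,0,0,0,0],[0,2,2,1,0,0,0],[0,0,1,0,1,0,0],[0,1,2,0,2,1,0],[0,2,0,2,1,2,1]], [[1,1,0,1,1,2,1],[0,1,2,2,1,0,1],[0,0,1,1,1,0,1],[0,0,0,1,1,2,0],[0,0,0,0,1,0,0],[0,0,0,0,0,1,1],[0,0,0,0,0,0,1]], [[1,0,0,0,0,0,0],[0,1,0,0,0,0,0],[0,0,1,0,0,0,0],[0,0,0,1,0,0,0],[0,0,0,0,1,0,0],[0,0,0,0,0,1,0],[0,0,0,0,0,0,1]]),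
  ([[2,1,2,1],[1],[1,1]], [[2,1,0,1,2,0,1],[0,1,0,0,2,2,2],[2,2,1,0,0,0,1],[0,2,0,1,0,0,1],[1,2,0,2,1,1,1],[2,0,0,2,1,2,0],[1,1,0,1,1,1,0]], [[2,0,0,2,2,1,2],[0,0,0,1,2,0,1],[1,2,1,0,0,2,1],[2,2,0,2,1,1,2],[0,0,0,1,2,2,0],[2,1,0,0,2,2,2],[1,1,0,0,1,2,2]], [[1,0,0,0,0,0,0],[1,1,0,0,0,0,0],[1,2,1,0,0,0,0],[1,0,2,1,0,0,0],[0,0,1,1,1,0,0],[2,1,1,1,2,1,0],[2,1,1,1,0,1,1]], [[1,2,0,0,2,1,0],[0,1,2,1,0,1,0],[0,0,1,1,2,2,1],[0,0,0,1,1,2,2],[0,0,0,0,1,1,1],[0,0,0,0,0,1,1],[0,0,0,0,0,0,1]], [[1,0,0,0,0,0,0],[0,1,0,0,0,0,0],[2,1,1,0,0,0,0],[2,1,0,1,0,0,0],[0,0,0,1,1,0,0],[0,2,1,0,0,1,0],[0,2,1,1,2,1,1]]),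
  ([[2,1,2,2],[1],[1,1]], [[1,2,1,0,2,0,0],[1,1,1,1,1,1,0],[1,2,2,0,2,0,1],[0,1,1,0,1,1,2],[2,0,0,0,2,1,0],[2,1,1,0,0,0,1],[0,0,0,2,1,2,1]], [[0,1,1,1,2,2,1],[1,1,0,1,2,0,1],[2,1,1,2,1,0,1],[0,1,2,0,2,1,0],[0,1,2,2,1,2,1],[0,2,0,0,1,1,2],[0,2,0,1,2,0,2]], [[1,0,0,0,0,0,0],[1,1,0,0,0,0,0],[1,0,1,0,0,0,0],[2,2,1,1,0,0,0],[0,2,2,2,1,0,0],[2,0,2,2,1,1,0],[0,0,0,0,1,1,1]], [[1,0,1,1,1,0,0],[0,1,1,1,1,0,0],[0,0,1,0,2,1,2],[0,0,0,1,1,1,2],[0,0,0,0,1,1,0],[0,0,0,0,0,1,0],[0,0,0,0,0,0,1]], [[1,0,0,0,0,0,0],[0,1,0,0,0,0,0],[0,1,1,0,0,0,0],[2,2,2,1,0,0,0],[2,1,0,0,1,0,0],[0,1,2,2,0,1,0],[1,0,2,0,0,1,1]]),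
  ([[2,2,0,0],[1],[1,1]], [[0,1,0,1,2,2,1],[1,2,2,2,2,1,1],[0,0,1,2,1,0,1],[1,1,0,2,2,0,2],[0,0,1,2,0,2,2],[0,0,2,0,0,1,2],[2,2,1,0,0,2,2]], [[1,1,1,2,0,2,2],[0,1,0,2,0,2,0],[1,2,2,2,1,1,1],[1,2,1,1,2,1,0],[2,1,2,1,1,1,2],[2,1,0,0,1,1,1],[1,2,1,1,0,2,0]], [[1,0,0,0,0,0,0],[1,1,0,0,0,0,0],[2,1,1,0,0,0,0],[2,2,0,1,0,0,0],[0,0,2,0,1,0,0],[0,2,0,1,1,1,0],[1,1,1,2,2,2,1]], [[1,1,2,0,0,0,2],[0,1,0,2,0,2,2],[0,0,1,2,0,1,1],[0,0,0,1,1,0,0],[0,0,0,0,1,2,2],[0,0,0,0,0,1,1],[0,0,0,0,0,0,1]], [[1,0,0,0,0,0,0],[2,1,0,0,0,0,0],[1,2,1,0,0,0,0],[1,2,2,1,0,0,0],[2,2,2,1,1,0,0],[0,0,2,0,1,1,0],[2,0,2,1,2,2,1]]),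
  ([[2,2,0,1],[1],[1,1]], [[0,1,0,0,1,0,1],[2,2,1,1,1,0,0],[1,1,2,0,1,0,2],[2,1,1,2,2,2,0],[0,2,0,0,2,0,1],[0,1,2,2,1,1,0],[0,0,2,1,2,0,0]], [[2,1,2,0,0,0,2],[1,0,1,1,0,1,2],[2,1,1,0,2,0,2],[0,1,0,2,0,2,1],[1,0,2,2,1,2,1],[0,2,1,2,1,0,0],[2,0,0,0,2,0,0]], [[1,0,0,0,0,0,0],[2,1,0,0,0,0,0],[2,1,1,0,0,0,0],[0,2,0,1,0,0,0],[1,0,2,1,1,0,0],[1,0,2,2,0,1,0],[2,1,1,1,0,0,1]], [[1,1,0,0,1,1,0],[0,1,2,1,1,2,2],[0,0,1,2,2,2,2],[0,0,0,1,0,2,0],[0,0,0,0,1,2,1],[0,0,0,0,0,1,2],[0,0,0,0,0,0,1]], [[1,0,0,0,0,0,0],[0,1,0,0,0,0,0],[0,0,1,0,0,0,0],[0,0,0,1,0,0,0],[0,0,0,0,1,0,0],[0,0,0,0,0,1,0],[0,0,0,0,0,0,1]]),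
  ([[2,2,0,2],[1],[1,1]], [[0,0,1,0,2,1,1],[2,2,2,1,2,2,2],[0,0,0,1,0,0,0],[1,0,0,2,2,0,2],[2,2,2,2,1,0,0],[0,1,1,0,2,2,1],[1,2,2,2,1,0,1]], [[0,2,2,2,2,1,0],[2,0,1,0,2,2,2],[1,1,1,0,2,0,0],[0,0,1,0,0,0,0],[0,0,2,2,1,0,2],[0,0,2,0,1,2,1],[0,2,2,2,1,1,1]], [[1,0,0,0,0,0,0],[0,1,0,0,0,0,0],[1,1,1,0,0,0,0],[1,2,1,1,0,0,0],[0,0,2,2,1,0,0],[0,1,2,0,1,1,0],[1,2,1,2,1,2,1]], [[1,1,1,2,2,2,0],[0,1,0,2,0,0,2],[0,0,1,1,2,1,2],[0,0,0,1,0,2,0],[0,0,0,0,1,0,1],[0,0,0,0,0,1,0],[0,0,0,0,0,0,1]], [[1,0,0,0,0,0,0],[0,1,0,0,0,0,0],[0,2,1,0,0,0,0],[2,2,0,1,0,0,0],[1,2,1,1,1,0,0],[1,2,1,2,0,1,0],[2,1,2,1,1,1,1]]),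
  ([[2,2,1,0],[1],[1,1]], [[1,1,2,0,0,2,1],[0,2,2,1,2,0,0],[2,2,1,1,1,2,2],[1,2,0,1,1,1,0],[1,2,1,1,1,1,0],[2,0,1,1,0,0,1],[2,1,2,2,0,0,0]], [[2,2,0,0,2,1,2],[0,2,1,2,2,1,2],[0,0,0,2,1,0,0],[1,0,1,0,2,0,2],[1,0,0,2,2,2,0],[2,0,0,1,2,1,1],[1,2,2,1,2,2,0]], [[1,0,0,0,0,0,0],[1,1,0,0,0,0,0],[0,2,1,0,0,0,0],[0,2,0,1,0,0,0],[1,1,0,1,1,0,0],[1,2,0,2,0,1,0],[0,2,1,1,0,0,1]], [[1,2,1,1,1,0,2],[0,1,1,0,1,0,1],[0,0,1,2,1,0,2],[0,0,0,1,0,2,2],[0,0,0,0,1,2,0],[0,0,0,0,0,1,0],[0,0,0,0,0,0,1]], [[1,0,0,0,0,0,0],[0,1,0,0,0,0,0],[0,1,1,0,0,0,0],[1,0,0,1,0,0,0],[1,0,2,2,1,0,0],[0,0,1,1,1,1,0],[2,2,1,2,0,1,1]]),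
  ([[2,2,1,1],[1],[1,1]], [[0,2,2,0,0,2,0],[2,1,1,0,2,2,1],[2,1,2,0,0,0,2],[0,2,0,1,1,0,2],[1,1,2,0,1,0,0],[0,0,0,2,0,2,0],[2,2,2,0,2,1,2]], [[0,2,1,1,1,1,0],[2,0,2,1,2,1,0],[2,1,2,1,1,1,1],[2,1,1,2,0,1,1],[0,2,2,2,2,2,1],[1,2,2,1,0,1,2],[0,0,1,2,0,2,2]], [[1,0,0,0,0,0,0],[1,1,0,0,0,0,0],[2,1,1,0,0,0,0],[2,0,1,1,0,0,0],[0,1,0,0,1,0,0],[1,2,0,0,2,1,0],[2,2,0,1,2,1,1]], [[1,1,1,1,1,2,1],[0,1,2,0,1,2,1],[0,0,1,2,2,0,1],[0,0,0,1,2,2,0],[0,0,0,0,1,1,1],[0,0,0,0,0,1,1],[0,0,0,0,0,0,1]], [[1,0,0,0,0,0,0],[2,1,0,0,0,0,0],[0,2,1,0,0,0,0],[0,0,0,1,0,0,0],[1,1,1,0,1,0,0],[0,0,0,0,2,1,0],[1,1,1,0,2,0,1]]),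
  ([[2,2,1,2],[1],[1,1]], [[0,0,0,0,2,0,1],[2,2,2,0,2,2,1],[1,2,0,1,0,0,2],[1,1,1,0,0,1,2],[2,1,2,2,2,2,1],[0,2,2,0,1,2,2],[2,0,2,0,0,1,2]], [[2,2,0,0,0,1,0],[2,2,1,2,1,2,0],[0,0,1,1,1,1,1],[1,2,2,1,1,1,0],[0,2,0,2,0,0,0],[0,1,1,0,1,2,2],[1,2,0,2,0,0,0]], [[1,0,0,0,0,0,0],[1,1,0,0,0,0,0],[2,1,1,0,0,0,0],[0,0,1,1,0,0,0],[1,2,1,2,1,0,0],[0,2,1,2,0,1,0],[0,1,1,2,0,2,1]], [[1,2,0,2,2,2,1],[0,1,1,1,0,2,2],[0,0,1,0,2,1,1],[0,0,0,1,0,2,2],[0,0,0,0,1,2,2],[0,0,0,0,0,1,2],[0,0,0,0,0,0,1]], [[1,0,0,0,0,0,0],[2,1,0,0,0,0,0],[1,1,1,0,0,0,0],[0,0,1,1,0,0,0],[0,1,1,2,1,0,0],[1,2,2,1,2,1,0],[2,2,0,2,1,1,1]]),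
  ([[2,2,2,0],[1],[1,1]], [[2,1,2,0,1,1,2],[0,0,1,2,2,0,0],[1,1,0,0,2,1,2],[2,2,0,1,0,0,1],[2,1,2,1,1,1,1],[1,1,1,0,1,2,1],[2,0,0,0,0,2,2]], [[0,2,1,1,1,2,0],[0,2,2,2,0,1,1],[0,1,1,0,1,1,1],[1,2,0,2,1,0,2],[2,1,1,1,0,1,2],[1,2,2,0,2,1,0],[2,2,0,2,0,0,2]], [[1,0,0,0,0,0,0],[2,1,0,0,0,0,0],[0,0,1,0,0,0,0],[0,1,0,1,0,0,0],[1,0,2,0,1,0,0],[1,2,0,1,2,1,0],[1,2,2,1,1,2,1]], [[1,2,2,0,1,0,1],[0,1,2,1,0,2,1],[0,0,1,2,1,1,1],[0,0,0,1,0,2,0],[0,0,0,0,1,1,2],[0,0,0,0,0,1,0],[0,0,0,0,0,0,1]], [[1,0,0,0,0,0,0],[1,1,0,0,0,0,0],[0,0,1,0,0,0,0],[2,2,1,1,0,0,0],[1,2,1,2,1,0,0],[0,1,0,1,2,1,0],[1,0,2,1,1,1,1]]),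
  ([[2,2,2,1],[1],[1,1]], [[2,1,2,2,1,2,1],[1,0,1,2,0,1,2],[0,1,2,0,1,1,2],[1,2,0,1,2,2,0],[1,1,1,1,2,2,1],[0,0,2,1,1,0,2],[0,2,2,2,0,2,0]], [[0,2,1,1,1,1,1],[2,2,0,2,1,1,0],[2,0,2,1,1,1,1],[2,0,0,1,1,0,2],[0,2,0,0,1,2,1],[0,1,1,2,0,1,2],[0,2,1,0,1,0,2]], [[1,0,0,0,0,0,0],[0,1,0,0,0,0,0],[2,1,1,0,0,0,0],[1,0,1,1,0,0,0],[1,2,1,0,1,0,0],[0,1,0,0,1,1,0],[1,0,0,0,0,2,1]], [[1,0,0,1,0,2,2],[0,1,0,1,0,2,1],[0,0,1,0,2,0,0],[0,0,0,1,2,0,2],[0,0,0,0,1,0,2],[0,0,0,0,0,1,2],[0,0,0,0,0,0,1]], [[1,0,0,0,0,0,0],[0,1,0,0,0,0,0],[2,0,1,0,0,0,0],[1,1,2,1,0,0,0],[1,2,2,0,1,0,0],[1,1,0,1,0,1,0],[2,1,2,0,0,1,1]]),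
  ([[2,2,2,2],[1],[1,1]], [[1,1,0,2,2,1,2],[2,2,2,1,2,2,0],[0,2,0,0,2,0,1],[1,2,2,2,0,0,1],[2,0,1,0,2,0,0],[2,2,0,2,2,1,1],[1,1,2,2,0,2,0]], [[0,2,0,2,0,1,2],[1,1,0,2,2,2,2],[1,1,2,1,1,1,1],[0,0,1,2,2,0,0],[1,2,2,2,0,0,2],[0,2,0,1,2,2,2],[2,0,0,1,2,2,1]], [[1,0,0,0,0,0,0],[1,1,0,0,0,0,0],[2,0,1,0,0,0,0],[2,1,1,1,0,0,0],[1,1,2,2,1,0,0],[2,1,2,0,0,1,0],[1,0,0,0,2,0,1]], [[1,0,0,1,2,1,0],[0,1,2,0,2,2,2],[0,0,1,0,2,2,1],[0,0,0,1,2,0,1],[0,0,0,0,1,0,0],[0,0,0,0,0,1,0],[0,0,0,0,0,0,1]], [[1,0,0,0,0,0,0],[0,1,0,0,0,0,0],[0,0,1,0,0,0,0],[0,0,0,1,0,0,0],[0,0,0,0,1,0,0],[0,0,0,0,0,1,0],[0,0,0,0,0,0,1]]),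
  ([[1,0,0],[2,0],[1,1]], [[1,1,0,2,2,0,0],[2,1,2,1,2,2,0],[1,0,2,0,2,2,1],[0,1,1,2,1,2,1],[0,1,2,2,2,2,2],[2,1,2,0,0,1,0],[2,1,2,2,0,2,2]], [[0,1,2,1,1,1,2],[0,2,2,0,2,0,0],[1,1,0,0,1,1,2],[2,2,2,0,0,0,2],[0,1,2,1,0,1,0],[1,0,0,1,0,0,1],[2,1,1,1,0,1,1]], [[1,0,0,0,0,0,0],[1,1,0,0,0,0,0],[1,2,1,0,0,0,0],[1,1,0,1,0,0,0],[0,1,0,0,1,0,0],[2,1,2,0,1,1,0],[2,1,2,2,2,2,1]], [[1,0,1,2,1,2,0],[0,1,0,0,1,1,1],[0,0,1,2,1,2,2],[0,0,0,1,1,2,1],[0,0,0,0,1,2,1],[0,0,0,0,0,1,1],[0,0,0,0,0,0,1]], [[1,0,0,0,0,0,0],[0,1,0,0,0,0,0],[0,1,1,0,0,0,0],[2,2,1,1,0,0,0],[0,0,2,2,1,0,0],[1,2,2,2,0,1,0],[0,2,0,0,2,1,1]]),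
  ([[1,0,0],[2,1],[1,1]], [[0,0,1,0,1,0,2],[1,2,1,0,0,0,2],[2,0,0,1,2,2,1],[1,2,2,2,1,0,1],[1,1,2,1,1,1,1],[0,2,2,0,2,2,0],[2,1,0,2,1,0,1]], [[1,0,1,0,1,0,2],[2,0,0,0,1,1,1],[1,0,2,2,0,1,0],[1,1,0,2,0,0,0],[0,2,1,0,0,2,1],[0,1,0,1,2,1,1],[0,2,0,2,0,0,1]], [[1,0,0,0,0,0,0],[1,1,0,0,0,0,0],[0,1,1,0,0,0,0],[2,0,1,1,0,0,0],[1,2,2,2,1,0,0],[2,1,0,0,1,1,0],[2,0,2,1,0,0,1]], [[1,2,0,1,1,0,1],[0,1,2,0,2,2,1],[0,0,1,2,0,1,2],[0,0,0,1,1,0,0],[0,0,0,0,1,0,2],[0,0,0,0,0,1,2],[0,0,0,0,0,0,1]], [[1,0,0,0,0,0,0],[0,1,0,0,0,0,0],[0,0,1,0,0,0,0],[1,0,2,1,0,0,0],[1,2,1,2,1,0,0],[1,1,0,1,0,1,0],[2,2,2,0,2,0,1]]),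
  ([[1,0,0],[2,2],[1,1]], [[2,0,1,1,0,0,2],[1,0,0,2,0,1,2],[0,1,1,1,0,1,1],[2,0,2,2,1,0,0],[0,1,2,0,1,0,1],[0,2,2,1,2,0,1],[2,1,2,2,2,0,2]], [[2,0,0,0,1,1,0],[1,0,0,1,1,1,1],[1,2,1,0,2,1,1],[1,2,1,2,2,2,2],[1,1,2,0,2,1,0],[1,1,0,1,1,0,2],[2,1,2,2,0,2,0]], [[1,0,0,0,0,0,0],[2,1,0,0,0,0,0],[1,1,1,0,0,0,0],[1,2,2,1,0,0,0],[1,1,2,2,1,0,0],[2,1,2,1,2,1,0],[2,0,1,1,0,0,1]], [[1,1,2,0,0,2,1],[0,1,1,1,0,1,2],[0,0,1,0,0,0,0],[0,0,0,1,2,1,1],[0,0,0,0,1,0,2],[0,0,0,0,0,1,2],[0,0,0,0,0,0,1]], [[1,0,0,0,0,0,0],[2,1,0,0,0,0,0],[1,0,1,0,0,0,0],[0,2,0,1,0,0,0],[0,2,0,2,1,0,0],[0,1,0,1,0,1,0],[1,1,0,1,1,1,1]]),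
  ([[1,0,1],[2,0],[1,1]], [[2,0,0,2,2,2,2],[1,1,0,1,1,2,0],[0,1,0,1,1,2,1],[1,2,2,2,0,0,1],[1,0,0,1,0,0,2],[2,1,0,0,2,2,1],[2,1,0,0,1,2,1]], [[0,1,0,0,2,0,2],[2,1,0,0,1,1,2],[1,1,0,2,2,2,2],[0,2,1,0,1,0,0],[0,0,0,0,0,1,2],[2,0,1,0,1,2,0],[0,0,1,0,2,0,2]], [[1,0,0,0,0,0,0],[0,1,0,0,0,0,0],[1,0,1,0,0,0,0],[1,2,0,1,0,0,0],[0,1,2,0,1,0,0],[0,1,2,1,1,1,0],[1,0,0,0,2,2,1]], [[1,1,0,0,2,2,0],[0,1,0,1,0,2,2],[0,0,1,1,1,0,0],[0,0,0,1,1,1,0],[0,0,0,0,1,2,0],[0,0,0,0,0,1,2],[0,0,0,0,0,0,1]], [[1,0,0,0,0,0,0],[1,1,0,0,0,0,0],[0,2,1,0,0,0,0],[0,1,1,1,0,0,0],[0,0,0,1,1,0,0],[2,0,1,2,0,1,0],[1,1,0,1,0,0,1]]),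
  ([[1,0,1],[2,1],[1,1]], [[0,2,0,1,0,0,0],[2,2,2,1,2,0,2],[1,0,0,1,1,1,0],[2,1,1,2,2,1,2],[2,0,2,0,1,1,1],[1,1,2,0,2,2,0],[2,1,0,1,2,1,0]], [[0,0,2,1,1,0,2],[1,2,1,0,2,2,2],[0,1,2,2,0,0,2],[2,2,1,0,2,2,2],[2,1,2,2,0,1,0],[2,0,2,0,0,0,2],[2,0,0,1,2,2,2]], [[1,0,0,0,0,0,0],[1,1,0,0,0,0,0],[2,2,1,0,0,0,0],[2,1,2,1,0,0,0],[0,0,0,1,1,0,0],[1,1,1,0,1,1,0],[0,0,1,2,0,0,1]], [[1,0,1,0,0,2,0],[0,1,1,1,1,0,1],[0,0,1,0,0,2,2],[0,0,0,1,0,2,0],[0,0,0,0,1,0,1],[0,0,0,0,0,1,2],[0,0,0,0,0,0,1]], [[1,0,0,0,0,0,0],[2,1,0,0,0,0,0],[2,1,1,0,0,0,0],[2,2,0,1,0,0,0],[0,0,2,2,1,0,0],[1,0,0,2,2,1,0],[2,1,1,1,0,1,1]]),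
  ([[1,0,1],[2,2],[1,1]], [[2,1,0,2,2,0,2],[1,2,1,0,1,2,0],[2,1,2,0,2,1,2],[0,2,2,1,0,1,0],[2,2,1,2,0,1,0],[0,0,2,0,2,0,1],[0,2,0,2,0,1,1]], [[2,1,0,0,1,2,0],[2,0,1,2,0,0,0],[2,0,2,0,2,2,2],[1,1,2,2,1,1,2],[1,2,0,0,1,0,1],[0,2,1,1,1,1,0],[0,2,2,0,0,0,0]], [[1,0,0,0,0,0,0],[2,1,0,0,0,0,0],[2,1,1,0,0,0,0],[1,0,2,1,0,0,0],[1,1,1,2,1,0,0],[2,0,0,0,0,1,0],[0,1,0,2,2,0,1]], [[1,2,1,0,0,0,1],[0,1,0,0,2,2,0],[0,0,1,0,0,2,1],[0,0,0,1,2,2,2],[0,0,0,0,1,0,2],[0,0,0,0,0,1,0],[0,0,0,0,0,0,1]], [[1,0,0,0,0,0,0],[2,1,0,0,0,0,0],[1,1,1,0,0,0,0],[0,0,2,1,0,0,0],[1,1,2,1,1,0,0],[1,2,0,0,1,1,0],[0,2,0,0,2,0,1]]),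
  ([[1,0,2],[2,0],[1,1]], [[2,2,0,0,0,0,1],[0,0,1,0,0,0,1],[0,2,0,2,1,1,0],[2,1,2,2,1,1,2],[2,0,1,1,2,1,2],[2,1,0,0,0,2,1],[1,2,2,0,1,1,2]], [[0,0,0,2,2,1,0],[0,2,1,0,1,2,0],[2,2,2,1,0,0,0],[0,1,2,1,1,2,1],[2,2,2,1,0,1,1],[1,1,2,0,2,0,0],[1,2,1,2,0,0,0]], [[1,0,0,0,0,0,0],[2,1,0,0,0,0,0],[2,1,1,0,0,0,0],[1,1,2,1,0,0,0],[1,1,2,0,1,0,0],[2,1,1,1,1,1,0],[0,2,0,1,2,0,1]], [[1,0,0,0,1,2,0],[0,1,0,2,0,0,1],[0,0,1,0,1,1,1],[0,0,0,1,0,0,0],[0,0,0,0,1,2,2],[0,0,0,0,0,1,1],[0,0,0,0,0,0,1]], [[1,0,0,0,0,0,0],[0,1,0,0,0,0,0],[0,1,1,0,0,0,0],[0,0,1,1,0,0,0],[2,2,1,0,1,0,0],[0,2,2,2,0,1,0],[0,0,0,0,1,0,1]]),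
  ([[1,0,2],[2,1],[1,1]], [[1,0,1,2,2,1,2],[1,0,0,2,2,0,1],[0,2,2,1,0,0,0],[1,2,0,2,1,0,1],[1,1,1,1,1,2,2],[0,1,2,0,2,0,2],[0,2,2,2,1,0,2]], [[0,1,2,0,0,0,1],[1,0,0,1,1,0,2],[1,2,2,2,1,1,1],[2,2,0,0,2,1,0],[2,1,0,1,2,0,1],[2,0,0,0,1,1,2],[1,0,1,1,1,1,0]], [[1,0,0,0,0,0,0],[1,1,0,0,0,0,0],[1,0,1,0,0,0,0],[2,2,1,1,0,0,0],[1,2,2,2,1,0,0],[1,1,1,0,0,1,0],[0,1,1,1,2,2,1]], [[1,0,1,0,0,1,1],[0,1,0,2,1,1,1],[0,0,1,1,1,1,1],[0,0,0,1,1,2,1],[0,0,0,0,1,0,1],[0,0,0,0,0,1,2],[0,0,0,0,0,0,1]], [[1,0,0,0,0,0,0],[0,1,0,0,0,0,0],[0,1,1,0,0,0,0],[0,2,0,1,0,0,0],[1,0,2,2,1,0,0],[1,0,1,1,2,1,0],[2,0,1,1,2,0,1]]),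
  ([[1,0,2],[2,2],[1,1]], [[2,0,2,2,2,0,2],[2,0,0,0,0,0,2],[0,1,0,0,1,1,1],[0,0,2,1,0,1,1],[2,2,1,2,0,1,1],[2,0,1,2,0,1,0],[2,2,1,1,0,2,2]], [[2,1,2,0,0,0,2],[1,1,1,0,2,1,1],[0,2,0,0,1,1,2],[0,1,0,2,1,2,2],[2,1,0,1,1,0,2],[2,0,2,2,0,2,2],[1,1,1,0,0,0,1]], [[1,0,0,0,0,0,0],[2,1,0,0,0,0,0],[1,0,1,0,0,0,0],[0,2,0,1,0,0,0],[1,1,2,0,1,0,0],[0,2,1,2,0,1,0],[2,1,1,0,1,0,1]], [[1,1,1,0,2,0,2],[0,1,2,1,2,2,1],[0,0,1,0,1,1,0],[0,0,0,1,1,0,1],[0,0,0,0,1,2,0],[0,0,0,0,0,1,2],[0,0,0,0,0,0,1]], [[1,0,0,0,0,0,0],[1,1,0,0,0,0,0],[2,0,1,0,0,0,0],[1,0,2,1,0,0,0],[1,0,0,1,1,0,0],[2,0,0,2,2,1,0],[1,0,0,2,2,0,1]]),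
  ([[1,1,0],[2,0],[1,1]], [[2,2,2,0,0,0,2],[2,1,0,2,1,1,0],[0,2,1,0,2,0,1],[1,0,1,1,2,2,2],[2,1,1,0,0,0,2],[0,2,1,2,0,0,2],[1,1,2,0,2,2,0]], [[0,1,0,1,2,0,0],[2,1,0,2,1,1,2],[2,2,0,1,1,2,1],[2,2,0,0,1,0,2],[1,0,2,1,2,1,2],[2,0,1,1,0,1,1],[1,2,0,2,2,0,0]], [[1,0,0,0,0,0,0],[2,1,0,0,0,0,0],[1,1,1,0,0,0,0],[2,1,0,1,0,0,0],[2,2,2,2,1,0,0],[0,1,2,1,1,1,0],[0,1,1,1,1,0,1]], [[1,2,0,1,0,1,1],[0,1,1,1,1,2,2],[0,0,1,1,0,0,1],[0,0,0,1,0,0,2],[0,0,0,0,1,1,2],[0,0,0,0,0,1,2],[0,0,0,0,0,0,1]], [[1,0,0,0,0,0,0],[0,1,0,0,0,0,0],[0,0,1,0,0,0,0],[0,0,0,1,0,0,0],[0,0,0,0,1,0,0],[0,0,0,0,0,1,0],[0,0,0,0,0,0,1]]),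
  ([[1,1,0],[2,1],[1,1]], [[1,2,0,0,1,0,0],[2,0,1,2,0,1,1],[1,1,2,1,1,1,1],[1,1,2,2,0,2,1],[2,1,1,2,2,1,0],[0,0,1,2,0,2,2],[0,2,0,0,1,1,2]], [[0,0,0,0,2,1,2],[1,0,2,0,0,2,0],[1,1,1,1,2,0,0],[1,2,1,1,1,2,2],[2,0,2,0,1,1,1],[1,1,0,0,0,2,2],[2,1,0,0,1,1,2]], [[1,0,0,0,0,0,0],[1,1,0,0,0,0,0],[0,1,1,0,0,0,0],[1,0,0,1,0,0,0],[1,1,2,1,1,0,0],[2,0,2,1,1,1,0],[0,0,0,0,0,1,1]], [[1,0,2,2,2,2,1],[0,1,0,1,2,1,0],[0,0,1,0,0,0,2],[0,0,0,1,0,0,0],[0,0,0,0,1,1,2],[0,0,0,0,0,1,0],[0,0,0,0,0,0,1]], [[1,0,0,0,0,0,0],[2,1,0,0,0,0,0],[1,2,1,0,0,0,0],[1,1,1,1,0,0,0],[0,0,2,1,1,0,0],[1,0,2,1,0,1,0],[2,1,0,2,1,1,1]]),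
  ([[1,1,0],[2,2],[1,1]], [[0,1,0,1,0,2,2],[2,1,0,2,2,0,0],[0,2,2,2,2,1,1],[0,1,0,1,1,0,1],[0,2,0,2,2,2,1],[2,1,2,2,1,1,0],[0,2,0,0,2,0,0]], [[2,2,0,1,1,0,1],[2,1,1,0,1,2,2],[1,1,0,0,1,2,0],[2,2,2,2,1,1,1],[1,2,2,0,2,1,0],[2,2,2,0,0,1,0],[1,1,1,2,2,2,0]], [[1,0,0,0,0,0,0],[1,1,0,0,0,0,0],[2,0,1,0,0,0,0],[1,2,0,1,0,0,0],[0,1,1,2,1,0,0],[0,2,1,0,1,1,0],[0,1,1,0,2,0,1]], [[1,0,1,2,2,0,2],[0,1,1,1,0,1,1],[0,0,1,0,0,2,0],[0,0,0,1,2,2,2],[0,0,0,0,1,2,1],[0,0,0,0,0,1,0],[0,0,0,0,0,0,1]], [[1,0,0,0,0,0,0],[2,1,0,0,0,0,0],[0,1,1,0,0,0,0],[2,1,1,1,0,0,0],[2,1,0,2,1,0,0],[1,1,2,0,0,1,0],[2,2,0,0,1,0,1]]),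
  ([[1,1,1],[2,0],[1,1]], [[2,2,2,0,2,2,1],[0,2,0,2,1,0,1],[2,1,0,1,1,2,2],[2,0,2,2,0,0,2],[0,0,1,1,2,1,0],[2,2,0,1,0,1,2],[1,2,2,1,0,1,0]], [[2,2,0,0,0,1,1],[1,0,1,0,0,0,2],[1,0,0,1,2,0,2],[0,2,0,0,2,2,2],[1,1,1,2,0,2,0],[0,2,1,1,0,0,2],[0,2,0,1,2,0,1]], [[1,0,0,0,0,0,0],[1,1,0,0,0,0,0],[2,1,1,0,0,0,0],[1,1,2,1,0,0,0],[2,0,1,0,1,0,0],[2,0,0,2,0,1,0],[0,0,1,0,1,0,1]], [[1,1,0,0,1,2,2],[0,1,2,1,2,0,0],[0,0,1,2,0,2,1],[0,0,0,1,2,0,2],[0,0,0,0,1,2,0],[0,0,0,0,0,1,2],[0,0,0,0,0,0,1]], [[1,0,0,0,0,0,0],[0,1,0,0,0,0,0],[0,2,1,0,0,0,0],[0,1,0,1,0,0,0],[1,1,2,2,1,0,0],[2,2,1,1,0,1,0],[1,1,1,0,2,2,1]]),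
  ([[1,1,1],[2,1],[1,1]], [[0,0,1,2,0,2,2],[2,2,1,1,2,0,2],[2,0,1,2,2,2,1],[1,0,1,2,2,0,1],[0,2,0,0,2,2,2],[1,2,0,0,0,0,0],[2,2,2,2,2,1,1]], [[2,0,2,2,2,1,0],[2,0,2,2,2,0,0],[1,0,2,2,1,1,1],[2,1,2,0,1,2,2],[0,1,1,2,0,1,1],[2,0,1,0,2,1,0],[2,2,2,2,1,1,2]], [[1,0,0,0,0,0,0],[0,1,0,0,0,0,0],[2,1,1,0,0,0,0],[2,1,2,1,0,0,0],[2,1,1,0,1,0,0],[0,1,0,0,2,1,0],[1,1,0,0,1,1,1]], [[1,2,1,1,1,2,0],[0,1,0,2,0,2,2],[0,0,1,1,2,2,0],[0,0,0,1,0,2,2],[0,0,0,0,1,0,2],[0,0,0,0,0,1,0],[0,0,0,0,0,0,1]], [[1,0,0,0,0,0,0],[0,1,0,0,0,0,0],[1,1,1,0,0,0,0],[0,1,2,1,0,0,0],[2,0,2,2,1,0,0],[0,0,1,0,0,1,0],[2,1,1,1,0,0,1]]),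
  ([[1,1,1],[2,2],[1,1]], [[1,0,2,2,2,0,1],[0,0,0,0,2,0,1],[0,0,2,2,2,0,0],[1,2,0,2,2,1,0],[2,2,0,2,1,0,1],[1,2,2,2,0,1,0],[2,0,0,0,1,1,0]], [[1,0,2,1,2,0,2],[2,0,2,2,1,2,2],[0,2,0,0,1,2,1],[0,2,2,1,1,1,1],[0,2,0,2,1,0,1],[1,1,2,2,1,0,2],[0,0,0,2,1,0,1]], [[1,0,0,0,0,0,0],[1,1,0,0,0,0,0],[1,2,1,0,0,0,0],[0,1,2,1,0,0,0],[0,2,1,0,1,0,0],[1,0,0,0,1,1,0],[0,0,0,1,2,0,1]], [[1,1,1,0,0,1,0],[0,1,1,1,2,0,2],[0,0,1,0,1,2,0],[0,0,0,1,1,2,1],[0,0,0,0,1,2,2],[0,0,0,0,0,1,1],[0,0,0,0,0,0,1]], [[1,0,0,0,0,0,0],[1,1,0,0,0,0,0],[2,0,1,0,0,0,0],[1,2,1,1,0,0,0],[0,1,0,1,1,0,0],[1,2,1,1,1,1,0],[0,1,0,0,0,2,1]]),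
  ([[1,1,2],[2,0],[1,1]], [[0,0,1,0,1,2,0],[2,0,1,2,1,0,1],[0,1,2,1,2,0,1],[2,0,2,2,2,2,2],[1,1,2,1,0,0,1],[2,1,2,1,0,2,0],[0,0,2,1,1,2,0]], [[1,0,1,2,1,1,2],[0,0,2,0,1,1,2],[1,1,0,0,2,1,1],[1,2,0,0,1,2,0],[2,0,1,1,0,2,1],[2,1,1,1,2,0,2],[2,2,0,1,0,0,0]], [[1,0,0,0,0,0,0],[0,1,0,0,0,0,0],[1,2,1,0,0,0,0],[1,2,2,1,0,0,0],[1,1,1,2,1,0,0],[0,0,2,0,1,1,0],[2,0,1,1,2,0,1]], [[1,0,2,1,0,1,1],[0,1,2,0,0,0,2],[0,0,1,0,2,1,2],[0,0,0,1,1,1,0],[0,0,0,0,1,1,2],[0,0,0,0,0,1,2],[0,0,0,0,0,0,1]], [[1,0,0,0,0,0,0],[2,1,0,0,0,0,0],[2,2,1,0,0,0,0],[1,1,1,1,0,0,0],[2,0,1,0,1,0,0],[2,2,0,0,2,1,0],[1,0,0,2,0,0,1]]),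
  ([[1,1,2],[2,1],[1,1]], [[1,1,1,2,0,1,2],[0,2,0,1,0,0,2],[2,2,0,0,0,2,0],[0,0,0,0,2,1,0],[0,1,1,1,0,0,2],[2,1,0,0,1,0,0],[0,2,1,0,0,2,1]], [[0,0,1,1,0,1,0],[2,2,0,2,0,2,1],[2,1,0,2,1,2,1],[0,2,1,2,2,2,1],[1,1,1,2,0,0,2],[1,1,1,0,0,0,2],[1,2,1,0,2,0,0]], [[1,0,0,0,0,0,0],[0,1,0,0,0,0,0],[0,2,1,0,0,0,0],[2,0,0,1,0,0,0],[2,2,1,2,1,0,0],[0,1,0,2,2,1,0],[2,0,0,2,2,0,1]], [[1,0,0,0,1,1,2],[0,1,1,2,2,2,2],[0,0,1,1,0,1,2],[0,0,0,1,2,0,2],[0,0,0,0,1,1,0],[0,0,0,0,0,1,1],[0,0,0,0,0,0,1]], [[1,0,0,0,0,0,0],[0,1,0,0,0,0,0],[0,0,1,0,0,0,0],[0,0,0,1,0,0,0],[0,0,0,0,1,0,0],[0,0,0,0,0,1,0],[0,0,0,0,0,0,1]]),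
  ([[1,1,2],[2,2],[1,1]], [[0,1,2,0,2,2,0],[2,0,0,1,2,1,0],[1,0,2,1,1,2,0],[2,2,0,1,2,2,1],[0,0,0,2,1,2,2],[0,0,1,1,0,2,2],[0,2,1,1,1,2,2]], [[2,2,2,2,1,1,0],[0,0,2,2,0,2,0],[0,1,2,1,1,1,2],[0,1,0,2,2,2,1],[0,0,2,2,0,1,1],[2,2,1,2,2,0,0],[1,0,1,1,1,2,0]], [[1,0,0,0,0,0,0],[1,1,0,0,0,0,0],[0,2,1,0,0,0,0],[0,0,1,1,0,0,0],[2,2,1,2,1,0,0],[1,1,1,2,2,1,0],[2,2,0,1,0,2,1]], [[1,2,2,0,0,0,2],[0,1,1,2,0,0,0],[0,0,1,0,1,1,0],[0,0,0,1,0,0,0],[0,0,0,0,1,2,2],[0,0,0,0,0,1,0],[0,0,0,0,0,0,1]], [[1,0,0,0,0,0,0],[2,1,0,0,0,0,0],[2,2,1,0,0,0,0],[2,0,0,1,0,0,0],[1,1,2,0,1,0,0],[0,2,0,1,2,1,0],[1,0,0,2,0,0,1]]),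
  ([[1,2,0],[2,0],[1,1]], [[1,2,0,2,0,0,0],[1,0,2,1,1,0,2],[0,2,2,0,2,1,2],[2,1,0,0,2,0,0],[2,2,1,1,2,1,2],[2,1,2,2,0,1,2],[0,2,1,1,0,2,1]], [[0,0,0,0,0,2,2],[2,0,2,1,0,1,0],[0,0,2,2,2,2,0],[0,0,1,2,0,1,2],[2,0,2,0,0,2,1],[0,2,2,0,0,2,0],[2,2,1,0,1,0,2]], [[1,0,0,0,0,0,0],[2,1,0,0,0,0,0],[2,1,1,0,0,0,0],[1,2,1,1,0,0,0],[2,2,2,0,1,0,0],[1,2,1,2,2,1,0],[2,1,1,2,2,1,1]], [[1,1,2,2,0,2,0],[0,1,2,2,2,2,2],[0,0,1,0,2,2,2],[0,0,0,1,2,2,0],[0,0,0,0,1,0,1],[0,0,0,0,0,1,2],[0,0,0,0,0,0,1]], [[1,0,0,0,0,0,0],[0,1,0,0,0,0,0],[0,1,1,0,0,0,0],[0,1,2,1,0,0,0],[0,2,0,2,1,0,0],[1,1,1,2,0,1,0],[0,1,1,2,0,2,1]]),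
  ([[1,2,0],[2,1],[1,1]], [[0,1,1,0,2,1,0],[2,1,0,2,2,2,1],[1,2,1,1,2,0,1],[1,2,1,0,0,0,0],[0,1,2,1,0,2,1],[2,0,1,0,0,1,0],[1,0,0,2,0,1,2]], [[0,0,0,2,2,0,2],[2,0,1,2,2,0,0],[2,0,1,1,0,0,1],[2,1,0,2,2,1,0],[1,0,1,1,1,1,2],[1,0,2,1,2,1,1],[2,2,2,1,2,0,2]], [[1,0,0,0,0,0,0],[1,1,0,0,0,0,0],[0,0,1,0,0,0,0],[0,0,2,1,0,0,0],[2,1,2,2,1,0,0],[0,0,2,1,0,1,0],[0,2,0,2,1,1,1]], [[1,1,1,0,1,1,1],[0,1,0,1,1,2,1],[0,0,1,2,1,0,2],[0,0,0,1,1,2,2],[0,0,0,0,1,1,1],[0,0,0,0,0,1,1],[0,0,0,0,0,0,1]], [[1,0,0,0,0,0,0],[0,1,0,0,0,0,0],[2,0,1,0,0,0,0],[0,1,1,1,0,0,0],[2,1,2,2,1,0,0],[2,2,1,2,2,1,0],[1,2,2,1,1,0,1]]),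
  ([[1,2,0],[2,2],[1,1]], [[0,2,0,0,1,2,0],[0,0,1,0,2,2,2],[2,2,1,1,0,2,1],[1,1,0,0,1,1,1],[2,1,0,2,2,1,0],[2,1,1,2,1,0,0],[1,1,2,2,1,1,1]], [[1,0,1,1,0,0,1],[0,1,1,1,2,0,2],[2,0,1,2,1,0,0],[1,0,2,2,2,0,2],[0,2,1,0,2,1,1],[2,1,0,2,0,1,2],[0,2,0,0,2,1,0]], [[1,0,0,0,0,0,0],[2,1,0,0,0,0,0],[0,0,1,0,0,0,0],[2,0,1,1,0,0,0],[1,1,2,0,1,0,0],[2,1,1,0,2,1,0],[0,0,1,0,0,1,1]], [[1,0,1,2,1,2,1],[0,1,1,2,1,0,0],[0,0,1,0,1,1,1],[0,0,0,1,0,0,2],[0,0,0,0,1,2,2],[0,0,0,0,0,1,1],[0,0,0,0,0,0,1]], [[1,0,0,0,0,0,0],[1,1,0,0,0,0,0],[1,0,1,0,0,0,0],[0,0,2,1,0,0,0],[2,0,2,2,1,0,0],[0,1,2,2,1,1,0],[2,2,2,2,1,1,1]]),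
  ([[1,2,1],[2,0],[1,1]], [[2,0,0,0,0,2,0],[0,0,2,0,0,0,2],[2,0,0,1,0,1,1],[0,2,2,2,1,0,0],[1,2,2,2,2,0,0],[0,0,2,2,1,2,1],[1,0,2,2,1,1,0]], [[0,2,1,1,2,1,0],[1,0,0,2,0,0,1],[2,1,1,1,2,0,1],[0,0,1,0,0,2,1],[0,1,2,1,2,2,0],[2,1,2,2,1,2,0],[1,1,2,2,1,0,2]], [[1,0,0,0,0,0,0],[2,1,0,0,0,0,0],[0,0,1,0,0,0,0],[1,2,0,1,0,0,0],[2,2,2,2,1,0,0],[2,0,2,1,2,1,0],[1,1,1,1,2,1,1]], [[1,0,1,2,0,1,1],[0,1,1,2,2,2,1],[0,0,1,0,2,0,2],[0,0,0,1,2,0,2],[0,0,0,0,1,2,0],[0,0,0,0,0,1,1],[0,0,0,0,0,0,1]], [[1,0,0,0,0,0,0],[2,1,0,0,0,0,0],[1,0,1,0,0,0,0],[2,2,2,1,0,0,0],[1,0,1,0,1,0,0],[1,2,1,1,1,1,0],[2,1,0,0,0,0,1]]),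
  ([[1,2,1],[2,1],[1,1]], [[1,2,2,2,0,2,0],[2,2,1,0,0,0,2],[0,0,2,1,0,1,0],[0,1,1,0,2,1,2],[2,1,0,0,0,1,0],[0,2,1,2,2,1,1],[2,1,1,0,0,1,2]], [[1,2,0,1,2,2,2],[2,0,0,2,0,1,2],[2,1,1,1,1,2,0],[0,2,2,2,1,1,0],[1,2,0,0,2,2,0],[2,2,0,2,0,1,0],[2,1,1,1,2,2,2]], [[1,0,0,0,0,0,0],[1,1,0,0,0,0,0],[1,1,1,0,0,0,0],[1,0,2,1,0,0,0],[1,2,0,2,1,0,0],[0,0,0,1,1,1,0],[0,1,1,1,0,1,1]], [[1,1,0,2,0,2,1],[0,1,0,1,1,1,2],[0,0,1,2,0,0,1],[0,0,0,1,1,2,2],[0,0,0,0,1,1,0],[0,0,0,0,0,1,0],[0,0,0,0,0,0,1]], [[1,0,0,0,0,0,0],[0,1,0,0,0,0,0],[2,2,1,0,0,0,0],[1,2,0,1,0,0,0],[2,2,1,2,1,0,0],[0,1,1,0,0,1,0],[0,2,1,2,2,0,1]]),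
  ([[1,2,1],[2,2],[1,1]], [[1,2,2,2,0,0,0],[1,2,2,0,1,2,0],[2,0,2,0,2,0,2],[0,1,2,0,1,0,2],[0,1,0,2,0,2,0],[0,1,1,1,0,2,0],[0,0,1,1,2,0,2]], [[0,0,2,0,2,1,1],[0,2,2,2,0,1,2],[1,2,0,2,2,2,1],[1,2,0,2,0,1,1],[0,2,2,1,2,2,0],[2,0,2,0,2,0,1],[2,2,1,0,0,1,1]], [[1,0,0,0,0,0,0],[2,1,0,0,0,0,0],[2,1,1,0,0,0,0],[2,1,2,1,0,0,0],[2,0,1,1,1,0,0],[2,1,0,1,0,1,0],[1,1,2,1,0,0,1]], [[1,0,1,2,0,0,1],[0,1,0,0,1,2,2],[0,0,1,0,1,0,2],[0,0,0,1,2,1,0],[0,0,0,0,1,1,2],[0,0,0,0,0,1,1],[0,0,0,0,0,0,1]], [[1,0,0,0,0,0,0],[2,1,0,0,0,0,0],[2,1,1,0,0,0,0],[1,1,0,1,0,0,0],[0,2,1,1,1,0,0],[1,2,1,0,2,1,0],[1,0,1,2,1,2,1]]),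
  ([[1,2,2],[2,0],[1,1]], [[0,1,1,0,1,2,2],[2,2,2,1,1,0,0],[1,0,1,1,2,0,0],[0,0,2,1,0,2,1],[1,2,2,0,1,2,2],[2,1,0,1,0,1,0],[2,2,2,1,2,0,2]], [[2,2,1,0,2,1,2],[0,2,1,1,0,1,1],[0,2,1,2,2,1,0],[0,0,1,2,0,2,2],[2,1,2,1,1,1,1],[2,0,2,0,2,2,2],[2,2,2,1,1,1,0]], [[1,0,0,0,0,0,0],[2,1,0,0,0,0,0],[1,2,1,0,0,0,0],[2,0,2,1,0,0,0],[0,2,1,1,1,0,0],[1,1,1,1,0,1,0],[2,1,1,2,2,0,1]], [[1,2,2,0,1,1,1],[0,1,0,2,1,2,1],[0,0,1,2,0,1,2],[0,0,0,1,1,2,1],[0,0,0,0,1,1,0],[0,0,0,0,0,1,0],[0,0,0,0,0,0,1]], [[1,0,0,0,0,0,0],[0,1,0,0,0,0,0],[2,2,1,0,0,0,0],[1,1,1,1,0,0,0],[1,2,1,0,1,0,0],[0,1,0,2,0,1,0],[0,2,1,1,0,1,1]]),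
  ([[1,2,2],[2,1],[1,1]], [[1,2,2,2,0,2,2],[1,0,2,1,1,1,1],[1,2,0,1,0,1,0],[1,2,2,1,2,1,2],[1,1,2,1,1,2,1],[1,2,2,0,0,0,0],[0,1,0,2,2,0,2]], [[0,1,1,1,0,1,0],[0,2,0,0,2,2,1],[0,2,1,1,1,1,2],[0,1,0,2,0,0,2],[1,2,0,0,1,2,2],[0,0,0,0,2,1,2],[2,2,0,1,1,0,2]], [[1,0,0,0,0,0,0],[1,1,0,0,0,0,0],[2,2,1,0,0,0,0],[0,2,0,1,0,0,0],[1,2,1,0,1,0,0],[1,2,2,2,1,1,0],[2,1,2,2,2,1,1]], [[1,2,1,1,2,2,2],[0,1,2,2,2,0,2],[0,0,1,0,1,0,2],[0,0,0,1,2,0,0],[0,0,0,0,1,1,2],[0,0,0,0,0,1,0],[0,0,0,0,0,0,1]], [[1,0,0,0,0,0,0],[1,1,0,0,0,0,0],[2,0,1,0,0,0,0],[1,1,0,1,0,0,0],[0,2,1,2,1,0,0],[1,0,2,2,2,1,0],[2,1,0,1,0,2,1]]),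
  ([[1,2,2],[2,2],[1,1]], [[2,1,0,1,0,0,1],[2,2,2,0,0,2,2],[2,2,1,2,1,2,0],[2,0,1,2,0,1,2],[0,1,2,2,2,0,0],[0,1,2,0,0,0,0],[0,0,2,1,2,0,1]], [[0,1,0,1,1,0,2],[2,1,1,2,0,1,1],[2,1,1,2,0,0,1],[0,1,2,0,1,2,1],[0,2,1,0,1,2,2],[0,0,1,2,2,2,2],[2,2,0,2,0,0,0]], [[1,0,0,0,0,0,0],[2,1,0,0,0,0,0],[1,1,1,0,0,0,0],[1,1,0,1,0,0,0],[2,1,1,1,1,0,0],[2,0,1,1,2,1,0],[2,2,1,0,2,0,1]], [[1,0,2,1,2,0,1],[0,1,2,0,0,1,2],[0,0,1,2,2,0,1],[0,0,0,1,1,1,1],[0,0,0,0,1,2,1],[0,0,0,0,0,1,0],[0,0,0,0,0,0,1]], [[1,0,0,0,0,0,0],[0,1,0,0,0,0,0],[0,0,1,0,0,0,0],[0,0,0,1,0,0,0],[0,0,0,0,1,0,0],[0,0,0,0,0,1,0],[0,0,0,0,0,0,1]])]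

theorem pjp7_ok : tblOk 3 [g7p] pjp7 = true := by decide +kernel

theorem pjp7_keys : keys pjp7 = (((detV 3 4 2).flatMap fun a => (detV 3 1 2).map fun b => [a, b, [1, 1]]) ++ ((detV 3 3 2).flatMap fun a => (detV 3 2 2).map fun b => [a, b, [1, 1]])) := by decide +kernel

def pmmm6 : Tbl :=
  [([[1,0,0],[1],[1],[1]], [[2,1,0,1,0,0],[1,1,1,2,0,2],[0,0,1,1,0,2],[0,1,2,2,2,1],[0,0,2,2,2,0],[2,2,1,0,2,2]], [[1,2,1,0,0,0],[0,2,0,1,0,2],[1,1,0,1,2,0],[2,0,1,2,0,1],[0,2,2,0,0,2],[0,1,0,0,2,1]], [[1,0,0,0,0,0],[1,1,0,0,0,0],[2,0,1,0,0,0],[2,2,2,1,0,0],[0,2,1,1,1,0],[2,0,1,1,2,1]], [[1,0,0,1,0,0],[0,1,1,0,2,0],[0,0,1,0,1,1],[0,0,0,1,2,2],[0,0,0,0,1,0],[0,0,0,0,0,1]],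 [[1,0,0,0,0,0],[1,1,0,0,0,0],[1,1,1,0,0,0],[0,0,2,1,0,0],[0,0,0,0,1,0],[0,1,0,0,1,1]]),
  ([[1,0,1],[1],[1],[1]], [[0,2,0,0,2,1],[1,2,2,0,1,1],[1,0,2,0,0,2],[0,1,1,2,0,2],[1,0,0,1,2,0],[1,1,0,0,0,1]], [[0,2,0,2,2,0],[1,1,2,0,0,0],[1,2,1,1,1,2],[0,0,2,2,0,1],[0,2,2,1,1,1],[2,0,1,1,1,1]], [[1,0,0,0,0,0],[1,1,0,0,0,0],[2,2,1,0,0,0],[1,1,0,1,0,0],[0,2,1,1,1,0],[2,1,0,0,1,1]], [[1,1,2,0,0,2],[0,1,2,1,1,2],[0,0,1,1,2,2],[0,0,0,1,0,1],[0,0,0,0,1,0],[0,0,0,0,0,1]], [[1,0,0,0,0,0],[1,1,0,0,0,0],[2,1,1,0,0,0],[2,0,2,1,0,0],[0,2,2,2,1,0],[1,2,2,2,0,1]]),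
  ([[1,0,2],[1],[1],[1]], [[1,2,2,0,0,0],[2,1,0,0,2,0],[2,1,0,1,1,2],[1,2,1,1,2,1],[2,2,0,0,1,1],[1,0,0,1,0,0]], [[1,1,0,1,2,2],[1,2,2,1,1,0],[2,2,1,0,1,2],[2,2,0,2,1,2],[0,0,2,0,2,1],[2,0,0,2,2,1]], [[1,0,0,0,0,0],[0,1,0,0,0,0],[2,2,1,0,0,0],[1,0,1,1,0,0],[0,0,0,1,1,0],[1,0,2,0,1,1]], [[1,1,0,2,0,0],[0,1,1,1,2,2],[0,0,1,0,1,1],[0,0,0,1,1,2],[0,0,0,0,1,0],[0,0,0,0,0,1]], [[1,0,0,0,0,0],[0,1,0,0,0,0],[0,0,1,0,0,0],[0,0,0,1,0,0],[0,0,0,0,1,0],[0,0,0,0,0,1]]),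
  ([[1,1,0],[1],[1],[1]], [[0,0,1,1,1,2],[0,1,2,2,1,0],[0,0,2,1,0,1],[1,1,0,0,2,2],[1,1,0,2,0,0],[2,0,2,2,0,1]], [[2,2,0,1,0,0],[0,0,2,0,1,1],[1,2,0,0,1,1],[2,2,2,1,0,1],[0,2,0,1,0,1],[2,0,2,2,1,0]], [[1,0,0,0,0,0],[2,1,0,0,0,0],[1,1,1,0,0,0],[1,2,2,1,0,0],[2,2,2,2,1,0],[0,1,2,0,2,1]], [[1,1,0,1,1,1],[0,1,1,0,1,2],[0,0,1,0,2,1],[0,0,0,1,1,0],[0,0,0,0,1,2],[0,0,0,0,0,1]], [[1,0,0,0,0,0],[0,1,0,0,0,0],[0,0,1,0,0,0],[1,1,1,1,0,0],[2,1,0,0,1,0],[1,2,2,1,0,1]]),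
  ([[1,1,1],[1],[1],[1]], [[1,2,1,0,2,1],[0,2,1,0,0,1],[1,1,1,1,2,2],[2,0,2,2,1,0],[0,1,0,2,2,1],[2,1,1,0,2,2]], [[2,0,1,1,0,1],[0,2,2,0,2,2],[0,1,1,1,0,0],[2,0,2,1,0,0],[1,1,1,1,0,1],[0,2,1,2,2,2]], [[1,0,0,0,0,0],[1,1,0,0,0,0],[0,0,1,0,0,0],[0,0,0,1,0,0],[1,2,2,0,1,0],[0,2,2,1,2,1]], [[1,1,2,0,2,2],[0,1,1,1,2,0],[0,0,1,0,0,2],[0,0,0,1,1,1],[0,0,0,0,1,0],[0,0,0,0,0,1]], [[1,0,0,0,0,0],[2,1,0,0,0,0],[0,2,1,0,0,0],[2,1,2,1,0,0],[0,1,0,0,1,0],[1,0,2,2,2,1]]),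
  ([[1,1,2],[1],[1],[1]], [[2,0,1,0,0,1],[0,2,0,1,2,2],[1,1,0,0,2,0],[0,0,2,1,2,1],[0,0,1,2,1,0],[1,2,2,0,1,0]], [[1,0,1,2,2,1],[2,2,1,0,2,1],[2,0,1,1,1,1],[2,2,2,0,1,0],[0,2,1,2,1,2],[0,0,0,1,1,0]], [[1,0,0,0,0,0],[2,1,0,0,0,0],[1,2,1,0,0,0],[2,2,2,1,0,0],[2,0,0,1,1,0],[0,0,0,1,1,1]], [[1,0,0,2,1,2],[0,1,2,0,2,0],[0,0,1,0,1,2],[0,0,0,1,1,0],[0,0,0,0,1,0],[0,0,0,0,0,1]], [[1,0,0,0,0,0],[0,1,0,0,0,0],[0,0,1,0,0,0],[0,0,0,1,0,0],[0,0,0,0,1,0],[0,0,0,0,0,1]]),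
  ([[1,2,0],[1],[1],[1]], [[0,1,1,2,0,0],[1,0,0,2,2,1],[1,2,1,1,2,1],[0,0,2,2,0,1],[1,2,2,2,0,1],[2,2,1,0,1,0]], [[2,2,1,2,1,0],[2,2,1,0,0,0],[1,0,2,1,0,2],[2,2,0,1,0,2],[0,1,0,1,1,2],[0,2,2,0,0,1]], [[1,0,0,0,0,0],[0,1,0,0,0,0],[2,1,1,0,0,0],[0,2,1,1,0,0],[0,1,1,1,1,0],[2,0,2,0,0,1]], [[1,0,0,2,1,2],[0,1,0,0,0,0],[0,0,1,2,0,2],[0,0,0,1,1,2],[0,0,0,0,1,0],[0,0,0,0,0,1]], [[1,0,0,0,0,0],[0,1,0,0,0,0],[2,0,1,0,0,0],[0,0,0,1,0,0],[2,1,2,0,1,0],[1,1,2,1,1,1]]),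
  ([[1,2,1],[1],[1],[1]], [[0,0,2,0,1,1],[2,0,1,2,2,2],[1,1,0,0,2,0],[2,2,1,1,2,1],[1,0,2,0,0,2],[1,2,2,2,2,0]], [[1,0,2,1,2,1],[0,1,0,0,2,2],[2,2,0,1,1,2],[1,2,1,2,1,2],[1,1,1,1,1,0],[2,1,2,0,0,2]], [[1,0,0,0,0,0],[0,1,0,0,0,0],[1,1,1,0,0,0],[1,2,0,1,0,0],[2,1,2,0,1,0],[2,0,1,2,0,1]], [[1,0,1,1,2,1],[0,1,2,2,1,2],[0,0,1,1,0,1],[0,0,0,1,2,1],[0,0,0,0,1,2],[0,0,0,0,0,1]], [[1,0,0,0,0,0],[0,1,0,0,0,0],[0,2,1,0,0,0],[0,0,0,1,0,0],[0,2,1,1,1,0],[2,0,2,2,0,1]]),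
  ([[1,2,2],[1],[1],[1]], [[1,2,0,0,0,0],[1,2,0,0,1,0],[2,2,2,1,1,1],[0,1,2,1,1,0],[2,2,0,0,0,2],[2,2,1,1,0,1]], [[0,0,1,2,1,0],[2,0,1,2,1,0],[1,2,1,0,0,2],[0,1,0,2,2,2],[2,1,0,0,0,0],[1,0,1,2,0,0]], [[1,0,0,0,0,0],[1,1,0,0,0,0],[0,0,1,0,0,0],[2,2,1,1,0,0],[1,0,0,2,1,0],[2,0,1,1,2,1]], [[1,1,2,2,2,0],[0,1,0,1,1,2],[0,0,1,2,2,1],[0,0,0,1,1,1],[0,0,0,0,1,0],[0,0,0,0,0,1]], [[1,0,0,0,0,0],[1,1,0,0,0,0],[2,0,1,0,0,0],[0,1,1,1,0,0],[0,0,2,1,1,0],[1,2,2,2,0,1]]),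
  ([[2,0],[2,0],[1],[1]], [[0,1,1,0,1,1],[1,1,0,2,2,2],[1,0,0,0,0,0],[0,1,2,0,1,0],[1,1,0,2,0,0],[0,0,1,0,2,2]], [[0,0,1,0,0,0],[1,2,0,0,1,2],[0,2,0,0,1,1],[1,2,1,0,0,2],[2,0,0,1,0,2],[1,2,0,2,1,1]], [[1,0,0,0,0,0],[2,1,0,0,0,0],[1,0,1,0,0,0],[0,2,1,1,0,0],[0,2,0,0,1,0],[1,0,2,2,0,1]], [[1,2,0,2,0,2],[0,1,0,2,0,2],[0,0,1,1,0,1],[0,0,0,1,2,2],[0,0,0,0,1,1],[0,0,0,0,0,1]], [[1,0,0,0,0,0],[0,1,0,0,0,0],[2,2,1,0,0,0],[0,1,2,1,0,0],[2,0,2,0,1,0],[2,1,0,2,1,1]]),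
  ([[2,0],[2,1],[1],[1]], [[1,1,0,2,0,1],[1,2,1,0,2,1],[1,0,1,2,0,1],[1,0,2,1,0,2],[2,2,2,0,1,0],[1,1,0,0,1,1]], [[0,0,2,2,0,0],[2,1,2,1,2,2],[1,1,0,1,2,2],[2,1,2,2,1,0],[0,2,1,1,2,1],[1,0,1,2,2,1]], [[1,0,0,0,0,0],[2,1,0,0,0,0],[0,0,1,0,0,0],[1,2,2,1,0,0],[0,2,0,2,1,0],[1,1,1,0,1,1]], [[1,2,1,0,0,1],[0,1,0,2,1,0],[0,0,1,0,1,0],[0,0,0,1,2,2],[0,0,0,0,1,1],[0,0,0,0,0,1]], [[1,0,0,0,0,0],[0,1,0,0,0,0],[0,0,1,0,0,0],[0,0,0,1,0,0],[0,0,0,0,1,0],[0,0,0,0,0,1]]),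
  ([[2,0],[2,2],[1],[1]], [[0,1,0,1,2,1],[0,2,2,1,1,0],[1,0,0,0,1,0],[0,0,1,0,0,1],[1,1,2,1,1,2],[1,0,2,1,0,0]], [[1,1,0,2,0,1],[1,0,1,2,0,2],[0,1,1,1,1,1],[2,0,1,2,1,1],[2,2,1,1,0,2],[0,2,2,0,2,2]], [[1,0,0,0,0,0],[1,1,0,0,0,0],[0,0,1,0,0,0],[2,1,0,1,0,0],[1,0,2,0,1,0],[1,1,2,1,1,1]], [[1,1,0,0,1,1],[0,1,0,0,2,0],[0,0,1,1,0,1],[0,0,0,1,1,1],[0,0,0,0,1,2],[0,0,0,0,0,1]], [[1,0,0,0,0,0],[0,1,0,0,0,0],[0,0,1,0,0,0],[0,0,0,1,0,0],[0,0,0,0,1,0],[0,0,0,0,0,1]]),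
  ([[2,1],[2,0],[1],[1]], [[0,2,2,2,1,0],[2,1,0,1,0,0],[0,0,1,2,1,2],[0,0,0,2,0,0],[0,1,0,2,2,1],[0,0,0,0,1,1]], [[2,2,2,1,0,2],[2,0,2,2,0,2],[1,0,2,2,1,1],[0,0,0,2,0,0],[1,0,1,0,1,0],[2,0,2,0,2,1]], [[1,0,0,0,0,0],[2,1,0,0,0,0],[2,2,1,0,0,0],[1,2,0,1,0,0],[2,0,1,2,1,0],[1,1,1,0,0,1]], [[1,2,1,1,1,2],[0,1,1,0,0,0],[0,0,1,2,2,1],[0,0,0,1,0,0],[0,0,0,0,1,0],[0,0,0,0,0,1]], [[1,0,0,0,0,0],[2,1,0,0,0,0],[2,1,1,0,0,0],[1,0,1,1,0,0],[2,0,0,1,1,0],[0,1,0,0,2,1]]),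
  ([[2,1],[2,1],[1],[1]], [[1,1,2,1,2,1],[1,0,1,0,0,0],[2,2,2,1,0,2],[2,2,1,0,2,1],[2,0,0,2,2,1],[1,0,2,0,1,2]], [[2,0,0,2,2,0],[0,0,0,2,0,2],[1,1,0,1,1,0],[2,2,0,2,1,2],[1,2,2,2,0,1],[2,1,2,0,1,0]], [[1,0,0,0,0,0],[0,1,0,0,0,0],[1,1,1,0,0,0],[1,1,1,1,0,0],[0,2,0,1,1,0],[2,1,0,0,2,1]], [[1,1,1,0,0,2],[0,1,1,2,1,2],[0,0,1,2,2,1],[0,0,0,1,1,2],[0,0,0,0,1,1],[0,0,0,0,0,1]], [[1,0,0,0,0,0],[0,1,0,0,0,0],[1,1,1,0,0,0],[1,1,2,1,0,0],[2,2,0,0,1,0],[2,0,1,1,2,1]]),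
  ([[2,1],[2,2],[1],[1]], [[0,1,2,1,1,2],[2,1,2,1,2,1],[1,2,0,1,2,1],[0,0,2,1,1,1],[1,1,0,1,1,1],[0,1,1,0,1,1]], [[0,2,1,1,2,0],[2,2,0,0,2,1],[1,2,2,1,0,2],[1,0,1,0,2,1],[1,1,1,0,0,2],[2,1,0,2,1,2]], [[1,0,0,0,0,0],[2,1,0,0,0,0],[1,0,1,0,0,0],[1,2,2,1,0,0],[1,1,2,1,1,0],[0,2,0,1,0,1]], [[1,1,0,2,2,0],[0,1,2,0,1,1],[0,0,1,2,1,2],[0,0,0,1,2,0],[0,0,0,0,1,2],[0,0,0,0,0,1]], [[1,0,0,0,0,0],[0,1,0,0,0,0],[0,0,1,0,0,0],[0,0,0,1,0,0],[0,0,0,0,1,0],[0,0,0,0,0,1]]),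
  ([[2,2],[2,0],[1],[1]], [[2,0,1,1,2,0],[1,0,1,0,2,0],[1,2,0,2,1,1],[1,1,2,0,0,0],[2,2,1,2,2,0],[1,1,1,0,2,0]], [[2,0,0,0,2,2],[0,2,0,0,0,1],[2,2,0,2,2,0],[2,2,0,0,1,1],[1,1,0,2,1,2],[2,0,1,1,1,1]], [[1,0,0,0,0,0],[0,1,0,0,0,0],[0,2,1,0,0,0],[0,2,2,1,0,0],[1,2,0,0,1,0],[2,1,0,1,0,1]], [[1,2,2,1,0,2],[0,1,0,1,1,0],[0,0,1,0,2,1],[0,0,0,1,1,2],[0,0,0,0,1,2],[0,0,0,0,0,1]], [[1,0,0,0,0,0],[0,1,0,0,0,0],[0,0,1,0,0,0],[0,0,0,1,0,0],[0,0,0,0,1,0],[0,0,0,0,0,1]]),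
  ([[2,2],[2,1],[1],[1]], [[2,0,2,1,2,2],[2,2,1,2,2,1],[2,0,2,0,2,2],[1,1,1,2,0,2],[2,1,2,0,2,0],[0,1,2,2,1,2]], [[1,2,2,0,0,2],[2,1,1,2,1,2],[2,2,0,0,2,0],[1,0,2,0,0,0],[2,0,2,2,1,0],[1,2,1,1,0,1]], [[1,0,0,0,0,0],[1,1,0,0,0,0],[1,1,1,0,0,0],[1,2,1,1,0,0],[1,0,1,1,1,0],[1,2,0,1,0,1]], [[1,0,1,0,0,2],[0,1,1,0,1,1],[0,0,1,0,1,1],[0,0,0,1,1,1],[0,0,0,0,1,0],[0,0,0,0,0,1]], [[1,0,0,0,0,0],[0,1,0,0,0,0],[0,0,1,0,0,0],[0,0,0,1,0,0],[0,0,0,0,1,0],[0,0,0,0,0,1]]),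
  ([[2,2],[2,2],[1],[1]], [[1,1,1,0,1,0],[1,0,1,0,1,0],[2,1,2,1,0,0],[1,2,2,0,1,0],[0,1,2,1,1,2],[0,0,0,0,2,1]], [[0,0,2,0,1,1],[1,2,0,0,0,0],[1,1,0,1,0,0],[0,2,0,1,1,1],[2,0,1,2,2,2],[2,0,1,2,2,0]], [[1,0,0,0,0,0],[0,1,0,0,0,0],[1,2,1,0,0,0],[1,0,1,1,0,0],[0,1,2,0,1,0],[0,1,2,2,2,1]], [[1,2,0,0,2,1],[0,1,0,0,0,0],[0,0,1,0,2,1],[0,0,0,1,1,1],[0,0,0,0,1,0],[0,0,0,0,0,1]], [[1,0,0,0,0,0],[1,1,0,0,0,0],[0,1,1,0,0,0],[0,0,2,1,0,0],[2,1,2,1,1,0],[0,2,2,0,1,1]])]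

theorem pmmm6_ok : tblOk 3 [g6m] pmmm6 = true := by decide +kernel

theorem pmmm6_keys : keys pmmm6 = (((detV 3 3 2).flatMap fun a => (detV 3 1 2).map fun b => [a, b, [1], [1]]) ++ ((detV 3 2 2).flatMap fun a => (detV 3 2 2).map fun b => [a, b, [1], [1]])) := by decide +kernel

def pmmm7 : Tbl :=
  [([[2,0,0,0],[1],[1],[1]], [[0,0,0,0,2,2,1],[1,2,2,0,1,2,1],[0,1,1,0,0,2,2],[0,1,1,2,1,0,0],[0,2,0,2,1,0,1],[0,1,1,1,2,0,2],[0,2,2,2,0,0,2]], [[2,1,0,2,0,1,2],[1,0,2,1,2,2,2],[0,0,0,0,1,1,0],[0,0,0,1,0,1,2],[2,0,1,1,0,1,0],[2,0,0,0,0,1,1],[2,0,1,1,0,2,1]], [[1,0,0,0,0,0,0],[1,1,0,0,0,0,0],[2,0,1,0,0,0,0],[0,1,1,1,0,0,0],[2,2,0,1,1,0,0],[1,0,2,2,0,1,0],[0,2,1,0,2,1,1]],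 [[1,1,0,1,1,2,1],[0,1,0,2,1,0,1],[0,0,1,1,0,1,1],[0,0,0,1,2,2,2],[0,0,0,0,1,0,0],[0,0,0,0,0,1,0],[0,0,0,0,0,0,1]], [[1,0,0,0,0,0,0],[0,1,0,0,0,0,0],[0,0,1,0,0,0,0],[0,1,2,1,0,0,0],[1,0,2,2,1,0,0],[1,1,2,0,0,1,0],[0,1,2,2,2,1,1]]),
  ([[2,0,0,1],[1],[1],[1]], [[0,1,1,0,2,1,0],[0,1,1,2,2,1,2],[0,0,0,0,1,0,1],[1,2,2,1,1,2,0],[0,2,0,1,0,1,1],[1,1,0,2,1,1,1],[1,0,1,1,0,2,0]], [[1,2,1,2,1,0,2],[0,2,0,0,0,2,1],[1,0,0,2,1,2,2],[0,1,2,2,2,0,1],[2,2,0,2,2,0,1],[2,0,0,0,1,2,1],[1,1,1,1,1,0,2]], [[1,0,0,0,0,0,0],[2,1,0,0,0,0,0],[0,2,1,0,0,0,0],[1,1,1,1,0,0,0],[2,0,2,0,1,0,0],[1,0,0,0,1,1,0],[1,1,1,0,1,0,1]], [[1,0,1,1,2,1,0],[0,1,1,1,1,0,2],[0,0,1,0,1,2,2],[0,0,0,1,2,2,1],[0,0,0,0,1,0,1],[0,0,0,0,0,1,0],[0,0,0,0,0,0,1]],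 [[1,0,0,0,0,0,0],[0,1,0,0,0,0,0],[0,0,1,0,0,0,0],[0,0,0,1,0,0,0],[0,0,0,0,1,0,0],[0,0,0,0,0,1,0],[0,0,0,0,0,0,1]]),
  ([[2,0,0,2],[1],[1],[1]], [[2,0,2,1,0,2,1],[2,2,0,2,0,0,2],[0,2,2,1,0,1,1],[0,1,2,0,2,0,1],[0,1,0,0,0,0,0],[0,1,2,0,1,2,2],[0,1,2,2,0,0,1]], [[0,2,2,2,0,2,0],[0,0,0,0,1,0,0],[1,2,1,0,0,0,0],[1,2,0,2,0,2,1],[1,2,0,1,0,2,2],[1,2,1,2,2,2,0],[2,1,1,2,2,2,2]], [[1,0,0,0,0,0,0],[2,1,0,0,0,0,0],[1,2,1,0,0,0,0],[1,1,2,1,0,0,0],[0,2,2,1,1,0,0],[2,0,1,1,2,1,0],[1,0,0,1,0,2,1]], [[1,1,0,0,0,2,2],[0,1,0,2,2,2,1],[0,0,1,1,1,1,2],[0,0,0,1,2,1,0],[0,0,0,0,1,1,2],[0,0,0,0,0,1,2],[0,0,0,0,0,0,1]], [[1,0,0,0,0,0,0],[2,1,0,0,0,0,0],[2,2,1,0,0,0,0],[0,1,1,1,0,0,0],[2,0,0,1,1,0,0],[1,1,0,2,0,1,0],[1,0,2,0,0,0,1]]),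
  ([[2,0,1,0],[1],[1],[1]], [[1,1,2,2,2,2,0],[1,1,2,0,0,2,2],[2,2,1,2,0,0,2],[0,0,2,1,0,1,0],[1,1,2,1,0,1,2],[2,2,2,2,0,1,0],[0,1,0,0,2,2,0]], [[1,1,0,2,2,0,2],[2,0,2,1,1,1,1],[0,0,1,0,2,1,0],[0,1,2,2,0,2,0],[2,1,0,2,2,2,0],[0,2,2,2,2,2,0],[0,1,2,1,2,1,0]], [[1,0,0,0,0,0,0],[1,1,0,0,0,0,0],[1,2,1,0,0,0,0],[1,2,2,1,0,0,0],[0,0,2,0,1,0,0],[2,1,1,2,2,1,0],[0,0,0,2,0,2,1]], [[1,1,2,0,2,0,0],[0,1,2,2,2,1,2],[0,0,1,2,1,2,1],[0,0,0,1,0,1,2],[0,0,0,0,1,0,2],[0,0,0,0,0,1,1],[0,0,0,0,0,0,1]], [[1,0,0,0,0,0,0],[2,1,0,0,0,0,0],[2,1,1,0,0,0,0],[0,0,2,1,0,0,0],[2,1,2,2,1,0,0],[2,0,0,2,0,1,0],[0,0,2,2,0,2,1]]),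
  ([[2,0,1,1],[1],[1],[1]], [[2,1,0,0,1,1,2],[2,0,2,0,0,0,2],[0,1,1,0,2,2,0],[0,2,0,1,2,0,0],[0,0,1,2,1,0,2],[0,0,2,0,2,2,0],[2,0,2,0,0,1,1]], [[2,0,2,1,1,0,0],[1,2,0,0,0,1,0],[1,2,2,0,0,2,0],[0,1,2,2,1,0,2],[2,2,2,1,1,2,2],[0,2,2,2,2,1,1],[0,0,2,2,2,1,0]], [[1,0,0,0,0,0,0],[1,1,0,0,0,0,0],[2,0,1,0,0,0,0],[2,0,2,1,0,0,0],[2,0,0,2,1,0,0],[2,1,1,0,0,1,0],[2,1,0,2,0,0,1]], [[1,0,2,1,0,1,1],[0,1,2,0,2,1,0],[0,0,1,2,1,1,0],[0,0,0,1,2,0,1],[0,0,0,0,1,0,2],[0,0,0,0,0,1,1],[0,0,0,0,0,0,1]], [[1,0,0,0,0,0,0],[1,1,0,0,0,0,0],[1,0,1,0,0,0,0],[0,0,0,1,0,0,0],[1,1,1,1,1,0,0],[0,1,2,1,1,1,0],[2,2,0,1,1,0,1]]),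
  ([[2,0,1,2],[1],[1],[1]], [[2,0,2,1,0,1,2],[2,2,0,0,1,0,0],[2,2,1,2,2,2,2],[2,2,0,1,0,2,1],[1,2,2,1,2,1,1],[0,2,2,0,2,1,0],[2,2,1,2,0,2,0]], [[2,1,1,0,0,0,1],[2,2,0,0,2,0,1],[0,2,0,2,1,1,0],[2,0,1,0,0,2,0],[1,1,1,0,2,0,2],[0,2,1,2,2,2,0],[2,2,1,0,1,0,2]], [[1,0,0,0,0,0,0],[0,1,0,0,0,0,0],[1,2,1,0,0,0,0],[1,2,2,1,0,0,0],[2,1,1,2,1,0,0],[2,1,2,2,2,1,0],[0,2,1,1,1,0,1]], [[1,1,1,2,2,2,1],[0,1,0,1,2,1,2],[0,0,1,1,2,1,0],[0,0,0,1,0,1,0],[0,0,0,0,1,2,2],[0,0,0,0,0,1,2],[0,0,0,0,0,0,1]], [[1,0,0,0,0,0,0],[1,1,0,0,0,0,0],[1,2,1,0,0,0,0],[1,1,0,1,0,0,0],[0,2,1,1,1,0,0],[0,0,1,1,2,1,0],[0,2,2,2,1,2,1]]),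
  ([[2,0,2,0],[1],[1],[1]], [[1,0,2,0,1,2,2],[0,0,0,2,1,0,1],[1,0,1,2,1,2,1],[2,2,1,1,2,0,1],[1,2,1,1,0,0,2],[0,1,2,1,1,0,0],[1,1,1,1,1,2,2]], [[2,1,0,2,0,1,1],[1,2,2,0,0,1,0],[1,2,2,1,1,2,0],[2,0,0,1,1,1,1],[1,0,0,0,0,1,2],[0,1,1,0,1,0,1],[1,1,0,1,1,0,2]], [[1,0,0,0,0,0,0],[2,1,0,0,0,0,0],[0,2,1,0,0,0,0],[1,2,2,1,0,0,0],[2,1,2,1,1,0,0],[0,2,0,1,2,1,0],[2,1,0,2,2,1,1]], [[1,1,2,0,2,2,1],[0,1,1,2,0,1,1],[0,0,1,0,2,2,2],[0,0,0,1,2,2,0],[0,0,0,0,1,1,1],[0,0,0,0,0,1,1],[0,0,0,0,0,0,1]], [[1,0,0,0,0,0,0],[0,1,0,0,0,0,0],[1,0,1,0,0,0,0],[2,2,0,1,0,0,0],[2,2,1,0,1,0,0],[2,1,1,0,0,1,0],[0,0,1,1,1,0,1]]),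
  ([[2,0,2,1],[1],[1],[1]], [[1,2,2,0,2,1,2],[0,2,0,2,2,2,0],[2,0,0,2,0,2,2],[1,1,2,1,0,1,2],[0,1,0,2,2,2,0],[0,0,0,0,2,2,0],[1,1,2,1,1,0,0]], [[0,2,2,1,2,1,2],[0,1,0,0,2,0,0],[2,1,2,2,0,1,1],[0,1,0,0,1,1,0],[2,0,0,1,1,2,0],[1,0,0,2,2,0,0],[2,0,0,0,1,1,1]], [[1,0,0,0,0,0,0],[1,1,0,0,0,0,0],[2,1,1,0,0,0,0],[1,0,1,1,0,0,0],[1,2,0,1,1,0,0],[0,0,1,0,1,1,0],[1,0,2,0,1,2,1]], [[1,1,2,2,1,2,0],[0,1,2,0,0,0,0],[0,0,1,1,0,0,1],[0,0,0,1,1,1,2],[0,0,0,0,1,0,1],[0,0,0,0,0,1,2],[0,0,0,0,0,0,1]], [[1,0,0,0,0,0,0],[2,1,0,0,0,0,0],[2,1,1,0,0,0,0],[2,2,2,1,0,0,0],[1,1,1,2,1,0,0],[1,2,1,1,2,1,0],[2,2,0,1,1,2,1]]),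
  ([[2,0,2,2],[1],[1],[1]], [[2,2,2,2,1,0,1],[2,0,2,0,2,2,2],[0,2,1,0,2,1,2],[1,1,0,1,0,2,0],[0,0,1,2,2,2,0],[1,1,1,1,2,2,0],[1,1,2,0,2,0,1]], [[1,1,2,2,0,2,2],[2,0,2,2,0,0,0],[2,0,0,2,2,2,1],[0,1,1,1,1,1,2],[2,0,0,0,2,1,1],[0,2,2,1,1,0,1],[1,2,2,1,1,1,1]], [[1,0,0,0,0,0,0],[1,1,0,0,0,0,0],[0,2,1,0,0,0,0],[0,2,1,1,0,0,0],[2,0,0,2,1,0,0],[0,2,1,0,2,1,0],[2,0,2,0,1,2,1]], [[1,2,0,2,0,2,2],[0,1,1,1,1,0,0],[0,0,1,0,1,2,1],[0,0,0,1,1,2,2],[0,0,0,0,1,0,1],[0,0,0,0,0,1,0],[0,0,0,0,0,0,1]], [[1,0,0,0,0,0,0],[0,1,0,0,0,0,0],[2,0,1,0,0,0,0],[1,2,0,1,0,0,0],[1,0,2,0,1,0,0],[0,1,1,1,2,1,0],[1,1,1,2,1,0,1]]),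
  ([[2,1,0,0],[1],[1],[1]], [[1,1,0,0,1,2,2],[2,0,2,2,0,2,0],[2,2,0,2,2,1,2],[1,0,2,2,0,1,0],[1,0,0,2,1,1,2],[2,0,1,2,0,0,2],[1,0,2,0,0,2,0]], [[2,1,2,1,0,2,0],[1,0,0,1,2,0,2],[1,1,1,0,0,1,2],[2,0,2,1,0,2,1],[2,2,2,0,1,1,2],[1,0,1,1,0,1,0],[0,0,0,1,0,2,1]], [[1,0,0,0,0,0,0],[0,1,0,0,0,0,0],[1,2,1,0,0,0,0],[0,2,1,1,0,0,0],[1,1,1,1,1,0,0],[0,2,2,2,2,1,0],[2,0,0,2,0,1,1]], [[1,0,0,0,2,2,1],[0,1,0,1,2,1,1],[0,0,1,2,0,0,0],[0,0,0,1,1,0,1],[0,0,0,0,1,2,0],[0,0,0,0,0,1,2],[0,0,0,0,0,0,1]], [[1,0,0,0,0,0,0],[0,1,0,0,0,0,0],[0,0,1,0,0,0,0],[0,0,0,1,0,0,0],[0,0,0,0,1,0,0],[0,0,0,0,0,1,0],[0,0,0,0,0,0,1]]),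
  ([[2,1,0,1],[1],[1],[1]], [[0,2,1,1,1,2,1],[1,0,1,1,1,2,1],[1,2,1,1,0,2,1],[0,1,0,1,1,2,1],[2,2,0,1,0,1,2],[2,1,2,0,2,1,0],[1,1,1,2,0,0,0]], [[0,0,2,0,2,0,1],[2,1,1,0,1,0,2],[2,2,2,2,2,0,1],[1,0,2,2,2,0,0],[1,0,1,0,2,0,1],[1,1,1,2,2,1,1],[0,0,0,1,0,1,1]], [[1,0,0,0,0,0,0],[2,1,0,0,0,0,0],[0,1,1,0,0,0,0],[1,1,0,1,0,0,0],[2,2,0,0,1,0,0],[2,0,1,2,0,1,0],[0,0,0,1,0,2,1]], [[1,2,1,2,2,1,1],[0,1,0,1,1,1,2],[0,0,1,2,1,2,1],[0,0,0,1,0,0,1],[0,0,0,0,1,1,1],[0,0,0,0,0,1,0],[0,0,0,0,0,0,1]], [[1,0,0,0,0,0,0],[0,1,0,0,0,0,0],[0,0,1,0,0,0,0],[0,0,0,1,0,0,0],[0,0,0,0,1,0,0],[0,0,0,0,0,1,0],[0,0,0,0,0,0,1]]),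
  ([[2,1,0,2],[1],[1],[1]], [[2,2,2,0,0,0,0],[0,1,2,0,2,1,0],[2,2,1,0,1,1,0],[1,0,0,1,2,0,1],[2,2,0,0,0,1,1],[2,1,2,2,1,2,1],[1,1,2,2,2,2,1]], [[2,1,2,2,2,0,2],[2,0,0,1,1,1,0],[1,2,1,0,0,2,1],[0,0,1,2,0,1,0],[2,1,2,2,2,2,0],[1,1,0,1,1,0,1],[0,0,2,2,0,1,1]], [[1,0,0,0,0,0,0],[0,1,0,0,0,0,0],[0,1,1,0,0,0,0],[0,0,2,1,0,0,0],[0,2,2,0,1,0,0],[0,0,0,2,1,1,0],[1,0,2,0,0,0,1]], [[1,2,1,0,2,1,1],[0,1,0,0,2,2,2],[0,0,1,1,0,0,1],[0,0,0,1,1,1,1],[0,0,0,0,1,2,0],[0,0,0,0,0,1,0],[0,0,0,0,0,0,1]], [[1,0,0,0,0,0,0],[1,1,0,0,0,0,0],[0,1,1,0,0,0,0],[0,0,0,1,0,0,0],[0,1,0,2,1,0,0],[1,2,2,0,2,1,0],[0,0,0,0,1,2,1]]),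
  ([[2,1,1,0],[1],[1],[1]], [[0,0,2,0,1,2,0],[1,0,2,1,1,1,2],[0,1,0,2,1,0,0],[0,2,0,0,0,2,0],[2,1,0,2,0,2,0],[1,2,2,0,0,1,2],[2,0,2,2,2,0,0]], [[2,2,0,0,1,1,1],[1,2,2,1,1,1,2],[2,2,2,1,0,1,0],[0,2,1,0,0,1,0],[2,0,0,2,2,0,1],[2,1,1,1,2,2,1],[1,2,0,2,2,0,0]], [[1,0,0,0,0,0,0],[1,1,0,0,0,0,0],[2,1,1,0,0,0,0],[2,2,2,1,0,0,0],[2,0,1,0,1,0,0],[1,2,1,1,2,1,0],[1,1,1,1,2,1,1]], [[1,0,0,2,2,1,2],[0,1,1,2,1,0,1],[0,0,1,2,2,2,0],[0,0,0,1,0,2,2],[0,0,0,0,1,1,2],[0,0,0,0,0,1,0],[0,0,0,0,0,0,1]], [[1,0,0,0,0,0,0],[0,1,0,0,0,0,0],[0,0,1,0,0,0,0],[0,0,0,1,0,0,0],[0,0,0,0,1,0,0],[0,0,0,0,0,1,0],[0,0,0,0,0,0,1]]),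
  ([[2,1,1,1],[1],[1],[1]], [[2,1,1,1,0,0,2],[0,1,2,2,1,2,0],[0,2,0,1,0,2,1],[0,2,2,0,0,0,1],[1,2,1,2,2,0,0],[2,0,1,1,1,1,1],[0,2,1,1,2,0,2]], [[1,2,0,2,1,2,0],[2,1,2,2,2,0,2],[1,1,1,1,0,2,0],[2,2,0,0,1,2,0],[1,0,2,1,0,2,1],[0,0,0,2,1,1,0],[0,2,0,1,2,2,2]], [[1,0,0,0,0,0,0],[0,1,0,0,0,0,0],[1,1,1,0,0,0,0],[0,1,0,1,0,0,0],[2,0,0,2,1,0,0],[2,0,2,1,2,1,0],[1,1,0,0,0,0,1]], [[1,1,2,2,2,1,1],[0,1,0,2,0,1,0],[0,0,1,2,0,2,2],[0,0,0,1,1,0,0],[0,0,0,0,1,2,1],[0,0,0,0,0,1,0],[0,0,0,0,0,0,1]], [[1,0,0,0,0,0,0],[0,1,0,0,0,0,0],[0,0,1,0,0,0,0],[0,0,0,1,0,0,0],[0,0,0,0,1,0,0],[0,0,0,0,0,1,0],[0,0,0,0,0,0,1]]),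
  ([[2,1,1,2],[1],[1],[1]], [[0,0,1,0,1,0,0],[1,2,0,2,2,0,0],[1,2,1,0,2,0,1],[0,1,1,0,1,2,2],[0,0,1,2,0,1,0],[0,0,0,1,1,2,1],[2,0,1,1,0,1,1]], [[1,0,2,2,0,2,1],[2,1,1,0,1,0,2],[0,2,0,2,0,0,2],[1,0,1,1,2,2,1],[1,1,0,1,0,0,1],[1,1,1,2,0,2,2],[2,0,0,0,1,1,0]], [[1,0,0,0,0,0,0],[1,1,0,0,0,0,0],[1,1,1,0,0,0,0],[1,0,0,1,0,0,0],[1,2,0,2,1,0,0],[0,1,0,1,0,1,0],[1,1,1,2,1,0,1]], [[1,0,0,1,1,2,2],[0,1,2,1,1,0,1],[0,0,1,2,1,2,2],[0,0,0,1,1,0,0],[0,0,0,0,1,2,2],[0,0,0,0,0,1,0],[0,0,0,0,0,0,1]], [[1,0,0,0,0,0,0],[1,1,0,0,0,0,0],[0,0,1,0,0,0,0],[1,2,2,1,0,0,0],[0,2,1,1,1,0,0],[2,2,0,2,0,1,0],[2,1,1,0,0,2,1]]),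
  ([[2,1,2,0],[1],[1],[1]], [[0,0,1,2,2,2,1],[2,1,0,2,1,2,1],[2,0,1,2,1,1,1],[0,0,2,0,0,2,2],[2,2,1,0,0,0,1],[2,2,0,2,1,2,0],[1,1,2,0,2,2,0]], [[0,0,2,1,2,1,0],[1,2,0,2,2,0,1],[0,2,2,1,0,2,0],[2,2,2,1,1,2,1],[2,2,2,0,0,0,1],[2,1,1,2,1,2,2],[1,0,0,2,2,2,1]], [[1,0,0,0,0,0,0],[1,1,0,0,0,0,0],[0,1,1,0,0,0,0],[0,2,0,1,0,0,0],[2,2,1,2,1,0,0],[0,1,2,1,2,1,0],[2,0,0,1,0,2,1]], [[1,1,0,0,0,0,1],[0,1,0,1,2,1,0],[0,0,1,0,0,0,0],[0,0,0,1,0,0,0],[0,0,0,0,1,2,2],[0,0,0,0,0,1,2],[0,0,0,0,0,0,1]], [[1,0,0,0,0,0,0],[0,1,0,0,0,0,0],[0,1,1,0,0,0,0],[2,1,0,1,0,0,0],[2,1,1,2,1,0,0],[0,2,0,2,0,1,0],[2,0,2,0,2,1,1]]),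
  ([[2,1,2,1],[1],[1],[1]], [[1,2,2,1,2,1,2],[2,2,0,0,0,2,0],[1,2,2,2,0,2,1],[1,2,0,1,1,1,1],[2,2,1,1,0,2,2],[0,2,0,0,2,2,2],[1,2,1,1,0,0,0]], [[0,2,2,0,2,0,0],[1,0,1,1,1,0,1],[2,0,2,1,2,2,0],[2,1,0,0,0,1,2],[2,1,0,2,1,2,1],[2,0,0,2,0,0,2],[1,2,2,1,1,0,2]], [[1,0,0,0,0,0,0],[1,1,0,0,0,0,0],[1,0,1,0,0,0,0],[1,2,0,1,0,0,0],[0,0,2,2,1,0,0],[2,2,2,1,0,1,0],[0,1,0,2,0,0,1]], [[1,2,1,1,0,2,1],[0,1,0,2,1,2,2],[0,0,1,2,2,1,2],[0,0,0,1,2,0,1],[0,0,0,0,1,0,2],[0,0,0,0,0,1,2],[0,0,0,0,0,0,1]], [[1,0,0,0,0,0,0],[1,1,0,0,0,0,0],[1,0,1,0,0,0,0],[0,0,1,1,0,0,0],[2,0,1,1,1,0,0],[2,0,0,1,1,1,0],[1,2,2,2,0,0,1]]),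
  ([[2,1,2,2],[1],[1],[1]], [[0,1,2,1,2,1,2],[0,1,1,2,1,2,2],[0,2,2,1,2,1,2],[2,1,2,1,1,0,0],[0,0,1,0,0,1,1],[2,1,1,2,2,1,1],[1,2,1,0,0,0,0]], [[2,0,1,2,1,2,2],[2,0,1,0,0,0,0],[0,0,0,1,2,1,2],[1,1,2,0,0,1,1],[2,2,1,1,0,2,0],[0,2,2,2,2,2,1],[0,1,1,0,0,0,0]], [[1,0,0,0,0,0,0],[0,1,0,0,0,0,0],[2,2,1,0,0,0,0],[2,0,0,1,0,0,0],[2,1,1,1,1,0,0],[2,0,0,1,0,1,0],[0,1,1,1,1,0,1]], [[1,2,2,0,1,0,1],[0,1,0,2,2,1,2],[0,0,1,0,2,2,2],[0,0,0,1,2,1,1],[0,0,0,0,1,2,1],[0,0,0,0,0,1,1],[0,0,0,0,0,0,1]], [[1,0,0,0,0,0,0],[2,1,0,0,0,0,0],[0,2,1,0,0,0,0],[1,1,0,1,0,0,0],[1,0,2,1,1,0,0],[0,2,2,1,1,1,0],[2,2,2,1,1,0,1]]),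
  ([[2,2,0,0],[1],[1],[1]], [[0,0,2,0,0,1,0],[2,0,2,1,1,2,2],[2,1,2,0,1,2,1],[2,2,2,2,0,2,2],[0,1,2,1,1,0,0],[1,2,1,0,2,2,2],[1,0,1,1,1,1,2]], [[1,1,1,0,0,1,2],[0,2,2,1,0,0,2],[2,0,1,0,0,1,0],[1,1,2,2,2,2,0],[1,0,0,0,2,2,1],[0,0,1,0,0,1,0],[2,2,2,2,1,1,2]], [[1,0,0,0,0,0,0],[1,1,0,0,0,0,0],[1,0,1,0,0,0,0],[2,0,0,1,0,0,0],[1,2,1,0,1,0,0],[0,1,1,1,1,1,0],[1,2,2,1,1,0,1]], [[1,1,0,2,2,1,0],[0,1,1,2,0,2,1],[0,0,1,0,2,2,0],[0,0,0,1,1,0,0],[0,0,0,0,1,0,0],[0,0,0,0,0,1,0],[0,0,0,0,0,0,1]], [[1,0,0,0,0,0,0],[0,1,0,0,0,0,0],[0,0,1,0,0,0,0],[0,0,0,1,0,0,0],[0,0,0,0,1,0,0],[0,0,0,0,0,1,0],[0,0,0,0,0,0,1]]),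
  ([[2,2,0,1],[1],[1],[1]], [[2,1,2,2,2,1,0],[0,2,1,2,2,1,2],[1,2,1,2,0,2,2],[1,1,1,1,0,0,1],[2,0,2,0,1,1,1],[1,2,0,1,2,0,2],[2,1,1,0,2,0,2]], [[0,2,1,1,2,2,1],[1,2,2,1,2,1,1],[1,2,1,0,1,1,0],[0,2,0,0,1,0,2],[1,1,0,1,1,1,0],[2,2,0,1,0,0,2],[1,1,2,2,0,2,2]], [[1,0,0,0,0,0,0],[2,1,0,0,0,0,0],[2,2,1,0,0,0,0],[1,0,0,1,0,0,0],[1,1,0,0,1,0,0],[0,0,2,2,0,1,0],[2,2,2,1,0,1,1]], [[1,0,1,2,1,0,1],[0,1,2,1,0,0,0],[0,0,1,2,0,2,2],[0,0,0,1,0,0,2],[0,0,0,0,1,0,2],[0,0,0,0,0,1,1],[0,0,0,0,0,0,1]], [[1,0,0,0,0,0,0],[1,1,0,0,0,0,0],[2,0,1,0,0,0,0],[2,0,2,1,0,0,0],[2,2,0,1,1,0,0],[0,1,1,0,2,1,0],[2,1,1,1,0,1,1]]),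
  ([[2,2,0,2],[1],[1],[1]], [[2,1,2,0,1,0,2],[1,1,1,1,2,1,2],[0,2,2,1,1,0,2],[2,2,1,0,1,0,0],[0,0,0,2,1,2,1],[2,0,2,0,1,2,2],[2,2,0,2,0,1,0]], [[0,0,0,2,2,2,1],[2,0,2,0,0,2,2],[1,1,1,1,2,2,0],[0,0,2,1,1,2,0],[1,2,1,2,0,2,0],[2,0,1,0,0,0,1],[1,1,2,2,2,0,1]], [[1,0,0,0,0,0,0],[1,1,0,0,0,0,0],[2,2,1,0,0,0,0],[2,1,0,1,0,0,0],[2,1,0,0,1,0,0],[2,0,2,2,1,1,0],[1,1,1,1,0,0,1]], [[1,0,0,0,2,2,1],[0,1,2,1,1,1,0],[0,0,1,2,0,1,0],[0,0,0,1,1,0,0],[0,0,0,0,1,2,1],[0,0,0,0,0,1,2],[0,0,0,0,0,0,1]], [[1,0,0,0,0,0,0],[1,1,0,0,0,0,0],[2,1,1,0,0,0,0],[2,0,0,1,0,0,0],[1,0,0,1,1,0,0],[0,0,1,1,2,1,0],[1,2,2,0,0,2,1]]),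
  ([[2,2,1,0],[1],[1],[1]], [[0,2,2,2,2,1,0],[0,1,0,2,1,2,1],[1,1,2,2,2,2,2],[1,1,1,0,1,2,1],[0,0,1,1,2,1,0],[2,1,2,0,0,1,1],[1,2,2,0,1,0,2]], [[1,1,2,0,1,1,0],[1,1,1,1,0,2,0],[1,1,2,1,1,2,2],[1,0,2,0,1,0,1],[2,0,1,0,0,2,1],[0,2,0,2,2,0,1],[1,2,0,1,0,2,1]], [[1,0,0,0,0,0,0],[0,1,0,0,0,0,0],[1,2,1,0,0,0,0],[1,2,1,1,0,0,0],[1,0,1,2,1,0,0],[0,1,2,2,0,1,0],[1,0,1,2,2,2,1]], [[1,0,1,2,1,2,1],[0,1,1,0,0,1,0],[0,0,1,1,1,2,2],[0,0,0,1,0,1,1],[0,0,0,0,1,0,1],[0,0,0,0,0,1,1],[0,0,0,0,0,0,1]], [[1,0,0,0,0,0,0],[0,1,0,0,0,0,0],[2,1,1,0,0,0,0],[1,0,1,1,0,0,0],[0,1,2,2,1,0,0],[2,1,0,1,2,1,0],[1,2,0,2,2,1,1]]),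
  ([[2,2,1,1],[1],[1],[1]], [[0,2,0,2,1,1,2],[2,2,2,2,0,2,2],[0,1,2,2,1,1,0],[1,2,2,2,0,0,2],[0,0,0,1,2,2,0],[1,1,0,0,2,1,2],[0,2,1,0,1,0,1]], [[0,1,2,0,0,2,0],[0,2,0,2,1,0,1],[0,2,2,2,0,0,1],[1,2,0,0,1,2,2],[1,2,1,2,0,0,2],[0,0,2,1,0,2,0],[2,1,0,1,1,0,2]], [[1,0,0,0,0,0,0],[0,1,0,0,0,0,0],[1,2,1,0,0,0,0],[2,0,1,1,0,0,0],[0,1,1,0,1,0,0],[1,1,0,0,2,1,0],[1,0,1,2,1,1,1]], [[1,0,2,1,2,1,2],[0,1,2,0,2,0,0],[0,0,1,0,1,1,0],[0,0,0,1,2,2,2],[0,0,0,0,1,2,0],[0,0,0,0,0,1,1],[0,0,0,0,0,0,1]], [[1,0,0,0,0,0,0],[1,1,0,0,0,0,0],[2,0,1,0,0,0,0],[0,0,0,1,0,0,0],[2,2,0,1,1,0,0],[0,1,0,0,1,1,0],[0,1,1,1,2,1,1]]),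
  ([[2,2,1,2],[1],[1],[1]], [[1,0,1,0,1,2,0],[2,2,0,0,1,2,0],[2,1,1,0,1,0,2],[0,2,0,0,2,1,0],[0,2,0,1,1,1,2],[2,0,2,2,2,0,1],[0,1,1,0,1,1,0]], [[0,1,0,2,1,1,1],[0,2,0,0,1,1,1],[1,1,0,2,0,0,0],[0,0,2,2,2,1,2],[1,2,0,0,2,2,1],[1,1,0,1,0,0,2],[2,1,2,0,2,2,1]], [[1,0,0,0,0,0,0],[1,1,0,0,0,0,0],[0,2,1,0,0,0,0],[2,2,0,1,0,0,0],[0,1,0,0,1,0,0],[1,0,0,2,2,1,0],[1,0,1,0,2,2,1]], [[1,0,2,1,0,2,1],[0,1,1,2,1,2,1],[0,0,1,0,1,2,1],[0,0,0,1,0,0,0],[0,0,0,0,1,1,0],[0,0,0,0,0,1,0],[0,0,0,0,0,0,1]], [[1,0,0,0,0,0,0],[0,1,0,0,0,0,0],[0,2,1,0,0,0,0],[1,0,2,1,0,0,0],[0,0,0,0,1,0,0],[2,0,2,0,2,1,0],[0,2,1,1,2,1,1]]),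
  ([[2,2,2,0],[1],[1],[1]], [[1,2,1,0,0,2,0],[0,2,2,2,1,1,0],[2,2,1,1,0,0,2],[0,2,1,1,1,2,2],[1,2,2,2,0,2,2],[2,1,1,2,0,0,1],[0,2,0,0,1,2,0]], [[2,2,1,2,2,2,2],[1,1,1,2,1,1,0],[2,2,0,2,2,1,2],[2,0,0,2,1,0,1],[0,1,1,1,1,0,2],[2,0,0,2,0,2,1],[1,2,0,0,0,1,1]], [[1,0,0,0,0,0,0],[2,1,0,0,0,0,0],[2,2,1,0,0,0,0],[2,2,0,1,0,0,0],[1,1,1,2,1,0,0],[2,0,0,1,2,1,0],[0,2,2,0,0,1,1]], [[1,2,2,0,0,2,0],[0,1,2,0,2,1,1],[0,0,1,0,2,0,2],[0,0,0,1,2,0,1],[0,0,0,0,1,0,2],[0,0,0,0,0,1,2],[0,0,0,0,0,0,1]], [[1,0,0,0,0,0,0],[2,1,0,0,0,0,0],[1,0,1,0,0,0,0],[1,2,2,1,0,0,0],[2,1,0,1,1,0,0],[2,0,2,2,2,1,0],[2,1,2,2,0,2,1]]),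
  ([[2,2,2,1],[1],[1],[1]], [[1,0,2,2,1,0,2],[2,1,1,2,1,0,2],[2,0,1,0,2,1,1],[1,1,0,1,0,0,0],[0,1,2,1,2,1,1],[2,2,1,0,0,2,1],[2,2,2,2,1,0,2]], [[2,2,1,1,2,0,2],[0,2,1,1,2,0,1],[0,0,2,2,1,0,0],[1,2,1,2,2,0,0],[1,0,1,2,0,1,1],[2,2,2,2,2,0,0],[1,0,2,2,2,1,0]], [[1,0,0,0,0,0,0],[2,1,0,0,0,0,0],[1,0,1,0,0,0,0],[0,0,2,1,0,0,0],[2,2,1,2,1,0,0],[0,1,0,1,0,1,0],[2,1,0,0,0,0,1]], [[1,0,1,2,0,1,2],[0,1,2,2,2,0,1],[0,0,1,1,2,2,0],[0,0,0,1,1,0,2],[0,0,0,0,1,0,2],[0,0,0,0,0,1,0],[0,0,0,0,0,0,1]], [[1,0,0,0,0,0,0],[0,1,0,0,0,0,0],[0,0,1,0,0,0,0],[0,0,0,1,0,0,0],[0,0,0,0,1,0,0],[0,0,0,0,0,1,0],[0,0,0,0,0,0,1]]),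
  ([[2,2,2,2],[1],[1],[1]], [[1,2,1,1,0,2,2],[2,0,0,0,0,2,2],[1,1,0,0,2,2,2],[2,0,0,2,0,1,2],[1,0,0,0,1,0,0],[1,1,1,2,1,0,2],[2,1,0,0,2,2,1]], [[1,2,2,2,0,2,0],[0,2,1,0,1,0,0],[0,0,1,2,1,1,1],[2,0,2,0,0,1,2],[2,1,1,1,1,1,0],[1,1,1,2,0,2,1],[1,2,0,2,0,2,2]], [[1,0,0,0,0,0,0],[1,1,0,0,0,0,0],[1,2,1,0,0,0,0],[0,0,1,1,0,0,0],[1,1,1,1,1,0,0],[0,0,2,2,1,1,0],[0,2,0,2,2,2,1]], [[1,0,2,0,1,0,1],[0,1,1,1,0,1,1],[0,0,1,2,2,2,1],[0,0,0,1,0,2,1],[0,0,0,0,1,0,1],[0,0,0,0,0,1,0],[0,0,0,0,0,0,1]], [[1,0,0,0,0,0,0],[0,1,0,0,0,0,0],[1,0,1,0,0,0,0],[0,0,2,1,0,0,0],[0,0,2,2,1,0,0],[1,0,1,2,0,1,0],[2,1,0,1,0,0,1]]),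
  ([[1,0,0],[2,0],[1],[1]], [[1,1,1,2,2,2,1],[0,0,1,0,1,2,0],[1,1,1,0,0,0,1],[1,2,2,1,0,1,2],[0,2,1,0,1,1,2],[0,0,0,2,1,1,0],[2,0,2,1,2,1,1]], [[1,2,2,1,2,0,0],[0,2,2,0,1,2,2],[2,2,0,1,1,2,0],[1,0,2,0,0,1,0],[1,1,1,1,1,0,0],[0,2,1,2,2,2,0],[0,0,0,1,2,2,1]], [[1,0,0,0,0,0,0],[2,1,0,0,0,0,0],[1,2,1,0,0,0,0],[2,2,2,1,0,0,0],[0,2,2,2,1,0,0],[1,0,0,1,0,1,0],[2,1,2,0,2,0,1]], [[1,1,0,0,1,1,2],[0,1,0,2,1,2,1],[0,0,1,2,0,2,0],[0,0,0,1,2,0,0],[0,0,0,0,1,1,0],[0,0,0,0,0,1,2],[0,0,0,0,0,0,1]], [[1,0,0,0,0,0,0],[1,1,0,0,0,0,0],[2,1,1,0,0,0,0],[1,1,2,1,0,0,0],[1,1,0,0,1,0,0],[1,0,2,0,2,1,0],[0,2,2,0,0,0,1]]),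
  ([[1,0,0],[2,1],[1],[1]], [[2,0,0,0,1,1,0],[0,2,0,1,1,2,1],[0,2,0,0,0,1,2],[0,2,2,1,0,0,2],[1,0,2,0,1,1,1],[1,0,1,2,2,0,2],[1,1,2,1,0,0,1]], [[1,1,2,1,1,0,1],[2,1,1,0,1,1,0],[2,2,2,1,1,2,2],[0,0,1,1,2,2,2],[1,0,2,2,0,0,1],[1,1,0,2,1,0,0],[2,0,1,2,0,2,0]], [[1,0,0,0,0,0,0],[2,1,0,0,0,0,0],[0,2,1,0,0,0,0],[0,2,2,1,0,0,0],[2,2,1,0,1,0,0],[1,1,2,1,0,1,0],[2,1,2,0,1,1,1]], [[1,1,1,0,1,1,0],[0,1,2,1,1,1,0],[0,0,1,0,0,0,0],[0,0,0,1,1,0,0],[0,0,0,0,1,0,1],[0,0,0,0,0,1,1],[0,0,0,0,0,0,1]], [[1,0,0,0,0,0,0],[2,1,0,0,0,0,0],[1,1,1,0,0,0,0],[0,2,1,1,0,0,0],[0,2,0,0,1,0,0],[1,1,2,2,1,1,0],[2,1,1,2,0,0,1]]),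
  ([[1,0,0],[2,2],[1],[1]], [[2,2,2,0,0,1,2],[2,2,1,1,1,0,1],[2,1,2,0,0,0,1],[2,0,0,2,0,0,1],[2,0,2,0,0,0,2],[2,0,1,1,0,0,2],[2,2,2,1,2,1,2]], [[1,2,2,0,2,2,2],[0,0,1,2,1,2,0],[2,1,1,1,1,2,1],[2,1,1,1,0,0,1],[0,1,1,1,0,0,0],[1,0,1,2,0,2,0],[0,0,0,2,2,2,0]], [[1,0,0,0,0,0,0],[0,1,0,0,0,0,0],[2,2,1,0,0,0,0],[0,2,1,1,0,0,0],[2,0,2,1,1,0,0],[1,0,0,1,0,1,0],[1,1,0,0,2,1,1]], [[1,1,1,1,2,2,0],[0,1,2,1,1,0,0],[0,0,1,0,1,1,1],[0,0,0,1,0,0,1],[0,0,0,0,1,1,2],[0,0,0,0,0,1,0],[0,0,0,0,0,0,1]], [[1,0,0,0,0,0,0],[1,1,0,0,0,0,0],[0,0,1,0,0,0,0],[0,1,1,1,0,0,0],[2,1,2,0,1,0,0],[2,1,0,1,0,1,0],[0,2,0,0,2,2,1]]),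
  ([[1,0,1],[2,0],[1],[1]], [[0,0,0,0,2,2,1],[1,0,2,2,2,2,1],[0,0,2,1,2,1,0],[2,2,0,2,2,0,2],[0,2,1,0,1,1,2],[0,0,0,1,2,1,0],[1,2,0,0,1,1,0]], [[0,0,1,2,1,1,0],[2,0,2,0,2,1,0],[0,0,2,0,0,1,0],[1,2,2,2,1,0,0],[0,1,0,0,1,1,2],[2,2,1,1,0,2,2],[0,0,1,1,1,0,1]], [[1,0,0,0,0,0,0],[0,1,0,0,0,0,0],[0,1,1,0,0,0,0],[1,1,1,1,0,0,0],[1,2,0,1,1,0,0],[2,0,1,2,1,1,0],[1,2,2,1,0,0,1]], [[1,2,2,0,1,1,1],[0,1,2,1,1,2,2],[0,0,1,1,2,2,1],[0,0,0,1,2,1,1],[0,0,0,0,1,0,0],[0,0,0,0,0,1,2],[0,0,0,0,0,0,1]], [[1,0,0,0,0,0,0],[0,1,0,0,0,0,0],[0,0,1,0,0,0,0],[0,0,0,1,0,0,0],[0,0,0,0,1,0,0],[0,0,0,0,0,1,0],[0,0,0,0,0,0,1]]),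
  ([[1,0,1],[2,1],[1],[1]], [[2,1,0,2,0,2,2],[0,0,1,1,2,2,1],[2,2,0,1,2,1,2],[2,2,0,0,0,0,1],[0,2,1,1,2,0,2],[0,0,1,0,2,1,1],[2,2,0,0,1,0,2]], [[1,1,0,1,0,2,0],[2,0,2,0,0,0,2],[1,0,2,0,2,2,0],[1,0,0,2,2,1,0],[0,2,1,0,0,1,2],[2,1,0,1,1,1,0],[0,1,2,2,0,2,2]], [[1,0,0,0,0,0,0],[2,1,0,0,0,0,0],[0,2,1,0,0,0,0],[1,0,0,1,0,0,0],[2,0,1,1,1,0,0],[0,0,0,2,1,1,0],[0,2,2,0,2,2,1]], [[1,1,2,0,1,0,2],[0,1,1,1,2,1,0],[0,0,1,1,0,2,1],[0,0,0,1,0,1,0],[0,0,0,0,1,1,0],[0,0,0,0,0,1,1],[0,0,0,0,0,0,1]], [[1,0,0,0,0,0,0],[0,1,0,0,0,0,0],[0,0,1,0,0,0,0],[0,0,0,1,0,0,0],[0,0,0,0,1,0,0],[0,0,0,0,0,1,0],[0,0,0,0,0,0,1]]),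
  ([[1,0,1],[2,2],[1],[1]], [[2,2,0,2,2,2,1],[0,1,0,0,0,1,0],[2,0,2,0,2,2,1],[2,0,1,0,2,1,2],[0,2,1,2,1,1,1],[1,2,2,1,2,1,0],[1,1,1,2,1,0,0]], [[2,1,0,2,0,2,0],[1,0,0,1,0,0,2],[0,2,1,2,1,2,1],[1,2,2,1,1,2,2],[1,2,1,2,0,1,0],[2,1,0,2,0,0,1],[2,0,0,2,1,2,2]], [[1,0,0,0,0,0,0],[1,1,0,0,0,0,0],[1,2,1,0,0,0,0],[0,0,0,1,0,0,0],[2,1,2,0,1,0,0],[2,0,1,1,0,1,0],[2,0,1,1,0,1,1]], [[1,0,2,1,1,1,1],[0,1,2,0,1,1,0],[0,0,1,2,0,0,2],[0,0,0,1,1,2,2],[0,0,0,0,1,2,2],[0,0,0,0,0,1,2],[0,0,0,0,0,0,1]], [[1,0,0,0,0,0,0],[0,1,0,0,0,0,0],[2,0,1,0,0,0,0],[1,0,1,1,0,0,0],[2,2,1,1,1,0,0],[0,0,0,0,0,1,0],[2,1,1,0,1,0,1]]),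
  ([[1,0,2],[2,0],[1],[1]], [[2,1,0,2,0,1,2],[0,0,2,0,2,0,0],[2,0,2,0,1,1,1],[2,1,0,1,0,2,0],[0,0,2,1,1,0,2],[1,2,0,1,1,0,0],[2,1,2,0,2,1,1]], [[1,2,2,2,0,2,2],[1,0,2,0,1,0,0],[1,2,0,0,1,0,2],[1,1,0,1,2,2,0],[2,0,0,0,2,0,1],[1,2,0,1,0,0,1],[2,2,0,1,2,2,2]], [[1,0,0,0,0,0,0],[0,1,0,0,0,0,0],[0,2,1,0,0,0,0],[0,2,2,1,0,0,0],[1,2,0,1,1,0,0],[0,2,0,0,1,1,0],[2,0,1,2,0,2,1]], [[1,0,2,0,2,2,0],[0,1,2,1,2,1,2],[0,0,1,1,2,2,2],[0,0,0,1,0,2,2],[0,0,0,0,1,0,2],[0,0,0,0,0,1,2],[0,0,0,0,0,0,1]], [[1,0,0,0,0,0,0],[0,1,0,0,0,0,0],[0,0,1,0,0,0,0],[0,0,0,1,0,0,0],[0,0,0,0,1,0,0],[0,0,0,0,0,1,0],[0,0,0,0,0,0,1]]),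
  ([[1,0,2],[2,1],[1],[1]], [[1,0,2,0,0,0,2],[0,0,0,1,2,0,1],[2,2,0,0,0,1,1],[1,1,0,2,2,2,0],[1,2,0,2,1,1,2],[2,2,1,0,0,2,1],[2,0,0,0,1,1,0]], [[1,2,2,1,1,1,2],[0,2,1,2,0,0,1],[1,2,0,2,0,2,1],[0,2,1,1,0,0,0],[2,1,0,0,1,2,1],[2,1,2,1,0,2,2],[2,0,2,2,1,2,1]], [[1,0,0,0,0,0,0],[2,1,0,0,0,0,0],[0,0,1,0,0,0,0],[1,0,2,1,0,0,0],[2,2,1,0,1,0,0],[0,2,0,2,0,1,0],[1,1,0,1,0,2,1]], [[1,2,0,1,2,0,2],[0,1,1,1,1,2,0],[0,0,1,2,2,0,2],[0,0,0,1,1,1,1],[0,0,0,0,1,2,1],[0,0,0,0,0,1,1],[0,0,0,0,0,0,1]], [[1,0,0,0,0,0,0],[0,1,0,0,0,0,0],[0,0,1,0,0,0,0],[0,0,0,1,0,0,0],[0,0,0,0,1,0,0],[0,0,0,0,0,1,0],[0,0,0,0,0,0,1]]),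
  ([[1,0,2],[2,2],[1],[1]], [[1,0,2,1,0,2,1],[2,1,0,0,1,2,0],[2,2,2,2,0,2,2],[0,0,1,2,1,1,0],[2,0,0,2,1,0,0],[1,0,2,0,1,0,1],[2,0,1,1,1,0,2]], [[0,0,0,0,2,2,2],[2,0,2,1,0,1,1],[1,0,0,1,0,2,0],[0,1,1,2,2,1,0],[0,1,1,2,2,0,2],[2,0,0,0,0,2,1],[1,2,2,2,2,1,2]], [[1,0,0,0,0,0,0],[1,1,0,0,0,0,0],[0,0,1,0,0,0,0],[1,1,1,1,0,0,0],[1,0,2,2,1,0,0],[2,2,1,1,2,1,0],[2,1,1,1,1,0,1]], [[1,0,1,1,1,0,2],[0,1,1,0,0,1,1],[0,0,1,0,2,2,1],[0,0,0,1,1,2,0],[0,0,0,0,1,0,1],[0,0,0,0,0,1,2],[0,0,0,0,0,0,1]], [[1,0,0,0,0,0,0],[0,1,0,0,0,0,0],[0,0,1,0,0,0,0],[0,0,0,1,0,0,0],[0,0,0,0,1,0,0],[0,0,0,0,0,1,0],[0,0,0,0,0,0,1]]),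
  ([[1,1,0],[2,0],[1],[1]], [[2,1,2,2,2,1,2],[0,0,2,0,0,0,2],[1,1,0,1,1,1,1],[1,1,1,0,1,0,0],[1,1,0,2,2,0,0],[2,2,2,0,1,0,1],[2,0,1,0,2,2,0]], [[2,1,2,0,0,1,1],[1,0,1,2,0,0,2],[2,2,0,1,1,1,2],[2,1,0,1,0,0,2],[1,0,0,1,2,1,1],[2,1,1,0,2,2,2],[1,0,0,2,2,2,1]], [[1,0,0,0,0,0,0],[1,1,0,0,0,0,0],[1,2,1,0,0,0,0],[1,1,2,1,0,0,0],[1,2,0,2,1,0,0],[1,0,0,2,0,1,0],[2,2,1,2,1,0,1]], [[1,0,0,2,2,1,0],[0,1,1,0,0,1,1],[0,0,1,2,1,2,2],[0,0,0,1,0,0,1],[0,0,0,0,1,2,1],[0,0,0,0,0,1,2],[0,0,0,0,0,0,1]], [[1,0,0,0,0,0,0],[1,1,0,0,0,0,0],[1,1,1,0,0,0,0],[2,1,2,1,0,0,0],[0,0,2,1,1,0,0],[1,2,0,0,2,1,0],[0,2,2,0,2,1,1]]),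
  ([[1,1,0],[2,1],[1],[1]], [[1,2,2,0,2,2,1],[1,1,2,2,2,0,1],[0,2,0,2,1,0,1],[1,2,0,0,2,2,2],[0,1,1,0,1,1,1],[2,1,2,1,2,1,0],[1,1,0,1,2,1,0]], [[0,0,0,2,2,2,1],[0,1,0,0,2,1,0],[0,0,0,2,2,1,2],[2,1,1,2,1,1,2],[0,2,2,0,2,0,1],[1,0,1,2,0,2,2],[2,0,0,2,1,2,1]], [[1,0,0,0,0,0,0],[1,1,0,0,0,0,0],[1,1,1,0,0,0,0],[2,0,0,1,0,0,0],[2,1,1,2,1,0,0],[1,0,2,0,1,1,0],[1,2,2,1,0,0,1]], [[1,2,0,0,1,1,2],[0,1,0,0,2,1,2],[0,0,1,1,1,0,0],[0,0,0,1,1,0,2],[0,0,0,0,1,1,2],[0,0,0,0,0,1,2],[0,0,0,0,0,0,1]], [[1,0,0,0,0,0,0],[1,1,0,0,0,0,0],[1,0,1,0,0,0,0],[0,2,1,1,0,0,0],[0,1,0,1,1,0,0],[1,0,1,1,1,1,0],[0,2,0,1,1,0,1]]),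
  ([[1,1,0],[2,2],[1],[1]], [[0,0,1,0,0,2,1],[2,1,2,2,1,0,1],[1,0,0,2,0,0,0],[2,2,1,1,2,1,1],[0,1,1,1,0,2,0],[2,1,1,1,1,2,0],[1,2,1,1,2,1,1]], [[0,0,0,1,0,0,2],[0,1,0,0,1,1,2],[1,1,0,0,0,0,1],[0,0,2,1,0,0,2],[0,0,0,1,2,1,2],[1,2,2,1,0,1,2],[1,1,2,1,0,1,1]], [[1,0,0,0,0,0,0],[1,1,0,0,0,0,0],[1,0,1,0,0,0,0],[2,2,1,1,0,0,0],[2,2,2,0,1,0,0],[2,0,0,0,1,1,0],[2,2,2,0,1,0,1]], [[1,1,2,1,1,1,0],[0,1,2,0,2,0,0],[0,0,1,2,0,2,1],[0,0,0,1,0,2,0],[0,0,0,0,1,0,1],[0,0,0,0,0,1,0],[0,0,0,0,0,0,1]], [[1,0,0,0,0,0,0],[2,1,0,0,0,0,0],[2,1,1,0,0,0,0],[2,0,1,1,0,0,0],[1,1,0,0,1,0,0],[1,0,1,2,2,1,0],[1,2,2,2,1,1,1]]),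
  ([[1,1,1],[2,0],[1],[1]], [[2,1,0,2,0,0,1],[1,0,0,1,1,2,1],[0,2,1,2,1,1,2],[2,1,1,0,2,1,0],[0,0,2,0,1,2,0],[1,2,1,2,1,1,0],[0,0,0,2,0,2,2]], [[1,1,0,0,1,1,2],[1,1,0,1,2,1,2],[2,2,2,2,2,2,2],[1,2,2,1,0,0,1],[2,1,1,1,1,2,2],[0,2,2,2,1,0,0],[2,2,2,0,2,0,1]], [[1,0,0,0,0,0,0],[0,1,0,0,0,0,0],[1,2,1,0,0,0,0],[1,2,1,1,0,0,0],[2,2,1,0,1,0,0],[2,2,0,1,0,1,0],[2,2,0,1,2,1,1]], [[1,2,2,1,0,0,1],[0,1,0,2,0,1,0],[0,0,1,0,2,1,2],[0,0,0,1,0,1,2],[0,0,0,0,1,0,1],[0,0,0,0,0,1,1],[0,0,0,0,0,0,1]], [[1,0,0,0,0,0,0],[1,1,0,0,0,0,0],[2,2,1,0,0,0,0],[1,2,1,1,0,0,0],[1,0,2,0,1,0,0],[2,1,1,0,2,1,0],[0,2,0,1,0,1,1]]),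
  ([[1,1,1],[2,1],[1],[1]], [[1,0,2,0,2,2,0],[1,0,1,0,1,0,0],[1,2,0,1,0,2,2],[2,2,1,0,1,0,2],[1,1,2,0,0,0,1],[0,1,2,0,2,0,0],[0,0,0,2,1,1,2]], [[0,1,1,0,2,2,1],[0,0,2,0,1,2,2],[0,0,2,2,0,1,2],[2,2,0,2,1,1,2],[0,0,0,1,1,0,0],[2,1,2,0,1,1,2],[0,2,2,2,1,0,2]], [[1,0,0,0,0,0,0],[1,1,0,0,0,0,0],[0,1,1,0,0,0,0],[1,1,2,1,0,0,0],[2,0,1,0,1,0,0],[1,0,1,2,2,1,0],[2,2,1,0,2,0,1]], [[1,1,1,0,1,0,2],[0,1,2,0,2,2,0],[0,0,1,2,0,1,1],[0,0,0,1,2,0,1],[0,0,0,0,1,1,0],[0,0,0,0,0,1,1],[0,0,0,0,0,0,1]], [[1,0,0,0,0,0,0],[0,1,0,0,0,0,0],[1,1,1,0,0,0,0],[1,0,0,1,0,0,0],[1,2,0,2,1,0,0],[2,0,2,0,1,1,0],[1,1,2,1,0,2,1]]),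
  ([[1,1,1],[2,2],[1],[1]], [[2,1,2,2,2,1,1],[2,0,2,0,2,0,1],[1,0,2,2,0,1,2],[1,1,2,0,0,2,1],[2,0,0,0,2,2,2],[2,1,0,0,0,2,0],[0,0,1,1,0,1,1]], [[2,0,2,0,1,1,1],[1,0,0,0,2,0,1],[0,1,1,1,2,2,1],[2,1,1,0,0,1,1],[0,2,0,1,0,2,0],[2,0,1,0,1,1,0],[2,1,0,2,0,2,2]], [[1,0,0,0,0,0,0],[1,1,0,0,0,0,0],[1,0,1,0,0,0,0],[2,0,0,1,0,0,0],[0,1,2,2,1,0,0],[1,0,1,2,0,1,0],[0,1,0,1,1,1,1]], [[1,0,0,1,2,1,1],[0,1,0,1,0,2,0],[0,0,1,1,2,0,2],[0,0,0,1,0,2,1],[0,0,0,0,1,0,1],[0,0,0,0,0,1,0],[0,0,0,0,0,0,1]], [[1,0,0,0,0,0,0],[2,1,0,0,0,0,0],[2,0,1,0,0,0,0],[1,1,2,1,0,0,0],[1,2,1,0,1,0,0],[0,2,0,0,1,1,0],[2,0,0,2,2,2,1]]),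
  ([[1,1,2],[2,0],[1],[1]], [[0,2,0,0,2,2,0],[1,2,0,0,0,2,1],[2,0,1,2,1,1,2],[0,0,2,1,2,1,1],[1,2,0,1,2,1,1],[2,2,2,1,2,0,2],[1,1,2,1,0,0,2]], [[0,2,0,2,0,1,0],[1,0,2,2,0,2,1],[1,1,2,2,1,1,1],[1,2,1,1,1,1,2],[1,2,2,1,0,2,2],[0,1,2,0,0,2,0],[1,0,1,0,0,0,1]], [[1,0,0,0,0,0,0],[0,1,0,0,0,0,0],[2,0,1,0,0,0,0],[2,2,2,1,0,0,0],[0,0,2,1,1,0,0],[0,1,0,2,1,1,0],[2,1,0,0,0,2,1]], [[1,0,0,1,1,0,1],[0,1,2,1,2,2,1],[0,0,1,0,2,1,1],[0,0,0,1,2,2,0],[0,0,0,0,1,1,1],[0,0,0,0,0,1,2],[0,0,0,0,0,0,1]], [[1,0,0,0,0,0,0],[0,1,0,0,0,0,0],[0,0,1,0,0,0,0],[0,0,0,1,0,0,0],[0,0,0,0,1,0,0],[0,0,0,0,0,1,0],[0,0,0,0,0,0,1]]),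
  ([[1,1,2],[2,1],[1],[1]], [[2,2,0,2,0,2,1],[0,1,0,2,2,0,0],[2,2,2,1,2,0,1],[0,1,2,1,0,2,0],[1,2,2,2,1,1,2],[1,0,1,1,2,1,0],[0,1,2,1,2,1,1]], [[0,2,0,1,0,1,0],[1,0,2,1,2,1,2],[1,2,1,2,0,2,1],[1,0,0,2,0,1,2],[0,2,2,2,2,0,0],[1,1,1,0,2,0,0],[1,0,0,1,1,0,1]], [[1,0,0,0,0,0,0],[0,1,0,0,0,0,0],[2,1,1,0,0,0,0],[0,1,0,1,0,0,0],[0,2,2,1,1,0,0],[2,0,1,2,1,1,0],[0,2,2,0,0,2,1]], [[1,0,2,2,2,1,0],[0,1,2,1,1,2,2],[0,0,1,0,1,2,1],[0,0,0,1,0,0,0],[0,0,0,0,1,1,1],[0,0,0,0,0,1,1],[0,0,0,0,0,0,1]], [[1,0,0,0,0,0,0],[2,1,0,0,0,0,0],[1,1,1,0,0,0,0],[1,2,2,1,0,0,0],[1,1,0,2,1,0,0],[1,0,2,1,2,1,0],[2,0,2,2,1,1,1]]),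
  ([[1,1,2],[2,2],[1],[1]], [[0,1,1,0,0,1,1],[2,0,2,1,1,1,1],[0,2,0,2,1,1,2],[0,2,1,0,0,1,0],[1,2,0,0,1,1,0],[1,0,2,1,2,2,2],[0,2,0,2,1,0,0]], [[1,0,0,0,0,1,1],[2,1,0,2,1,0,1],[2,0,2,2,0,0,1],[2,2,2,2,0,2,1],[1,0,2,1,1,2,0],[0,1,1,1,1,0,0],[0,1,0,1,1,0,1]], [[1,0,0,0,0,0,0],[2,1,0,0,0,0,0],[0,1,1,0,0,0,0],[1,2,0,1,0,0,0],[0,1,1,0,1,0,0],[1,1,0,1,2,1,0],[0,1,1,2,0,2,1]], [[1,0,1,0,2,1,0],[0,1,1,0,2,0,1],[0,0,1,2,0,1,1],[0,0,0,1,2,1,1],[0,0,0,0,1,2,1],[0,0,0,0,0,1,1],[0,0,0,0,0,0,1]], [[1,0,0,0,0,0,0],[0,1,0,0,0,0,0],[1,2,1,0,0,0,0],[0,0,1,1,0,0,0],[2,1,2,1,1,0,0],[2,1,2,0,1,1,0],[2,1,0,2,0,2,1]]),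
  ([[1,2,0],[2,0],[1],[1]], [[0,0,2,0,2,2,2],[2,1,0,0,2,2,1],[2,2,1,1,0,2,2],[0,2,2,1,0,1,0],[2,2,1,0,2,1,1],[0,2,1,0,2,1,1],[0,2,0,2,1,2,0]], [[0,0,0,0,2,1,0],[2,1,1,1,1,1,2],[2,2,2,1,2,0,0],[0,2,0,1,1,0,0],[0,1,1,1,1,2,2],[1,1,0,2,2,1,2],[2,2,0,2,1,0,2]], [[1,0,0,0,0,0,0],[2,1,0,0,0,0,0],[0,1,1,0,0,0,0],[2,1,0,1,0,0,0],[2,0,0,0,1,0,0],[2,1,1,2,2,1,0],[0,2,1,1,2,0,1]], [[1,0,2,2,0,0,1],[0,1,1,2,0,1,2],[0,0,1,0,1,0,0],[0,0,0,1,1,0,1],[0,0,0,0,1,0,0],[0,0,0,0,0,1,2],[0,0,0,0,0,0,1]], [[1,0,0,0,0,0,0],[0,1,0,0,0,0,0],[0,0,1,0,0,0,0],[0,0,0,1,0,0,0],[0,0,0,0,1,0,0],[0,0,0,0,0,1,0],[0,0,0,0,0,0,1]]),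
  ([[1,2,0],[2,1],[1],[1]], [[0,2,0,0,0,2,1],[2,1,0,2,2,0,1],[0,0,2,2,1,1,2],[2,1,1,2,1,0,2],[0,2,1,1,0,1,0],[2,2,2,0,0,1,2],[1,1,2,0,0,0,1]], [[1,1,1,0,2,1,0],[1,1,0,1,2,2,1],[2,0,2,1,0,0,1],[1,1,0,1,0,1,0],[2,2,0,0,2,0,2],[1,0,1,2,0,1,0],[0,1,1,0,2,0,1]], [[1,0,0,0,0,0,0],[0,1,0,0,0,0,0],[0,2,1,0,0,0,0],[0,2,0,1,0,0,0],[2,2,1,1,1,0,0],[1,1,0,2,1,1,0],[1,1,1,1,0,0,1]], [[1,0,0,0,1,2,0],[0,1,0,2,1,0,0],[0,0,1,0,2,0,1],[0,0,0,1,1,1,0],[0,0,0,0,1,2,1],[0,0,0,0,0,1,1],[0,0,0,0,0,0,1]], [[1,0,0,0,0,0,0],[0,1,0,0,0,0,0],[1,2,1,0,0,0,0],[1,0,1,1,0,0,0],[0,1,1,2,1,0,0],[2,0,1,2,0,1,0],[0,1,2,0,0,1,1]]),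
  ([[1,2,0],[2,2],[1],[1]], [[1,0,0,1,2,2,1],[2,0,0,0,1,0,0],[0,2,2,2,2,0,0],[1,0,2,2,0,1,2],[1,2,2,0,1,1,1],[1,2,0,0,0,1,2],[1,1,2,0,1,2,0]], [[0,0,0,0,1,1,2],[0,1,1,2,1,2,2],[2,2,0,2,1,1,2],[1,2,1,2,0,2,0],[0,1,0,0,1,1,2],[1,0,1,0,2,0,0],[1,2,0,1,2,1,0]], [[1,0,0,0,0,0,0],[1,1,0,0,0,0,0],[1,0,1,0,0,0,0],[2,0,1,1,0,0,0],[1,2,1,1,1,0,0],[1,1,0,1,2,1,0],[2,2,1,2,1,0,1]], [[1,0,1,2,1,0,2],[0,1,0,2,0,0,0],[0,0,1,0,0,1,2],[0,0,0,1,1,0,1],[0,0,0,0,1,2,2],[0,0,0,0,0,1,1],[0,0,0,0,0,0,1]], [[1,0,0,0,0,0,0],[1,1,0,0,0,0,0],[0,1,1,0,0,0,0],[2,2,0,1,0,0,0],[0,1,0,2,1,0,0],[0,2,1,0,1,1,0],[1,2,2,0,0,2,1]]),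
  ([[1,2,1],[2,0],[1],[1]], [[1,1,1,1,1,0,2],[2,1,0,1,0,2,2],[2,0,0,1,0,2,1],[1,0,2,1,1,0,1],[2,0,2,1,2,2,1],[0,2,2,2,0,1,2],[2,2,2,1,1,0,1]], [[2,1,0,2,0,1,2],[2,1,0,0,0,1,1],[2,1,2,1,0,0,0],[1,1,1,1,1,0,2],[1,2,2,2,2,0,0],[0,0,2,2,1,1,2],[1,0,2,0,0,2,2]], [[1,0,0,0,0,0,0],[2,1,0,0,0,0,0],[1,1,1,0,0,0,0],[1,0,0,1,0,0,0],[2,1,2,1,1,0,0],[1,0,2,0,2,1,0],[1,1,0,1,2,1,1]], [[1,2,2,1,0,2,0],[0,1,2,2,0,1,1],[0,0,1,2,2,1,2],[0,0,0,1,1,2,1],[0,0,0,0,1,2,0],[0,0,0,0,0,1,1],[0,0,0,0,0,0,1]], [[1,0,0,0,0,0,0],[1,1,0,0,0,0,0],[2,0,1,0,0,0,0],[0,0,2,1,0,0,0],[2,0,0,0,1,0,0],[2,0,2,1,2,1,0],[1,0,1,1,0,0,1]]),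
  ([[1,2,1],[2,1],[1],[1]], [[0,1,2,1,1,1,0],[0,1,2,2,2,0,1],[0,1,0,0,1,0,2],[1,0,1,2,0,0,1],[2,0,0,0,0,2,2],[0,0,1,0,2,2,0],[0,0,1,0,0,2,0]], [[0,1,2,2,1,1,1],[1,0,0,1,1,1,2],[2,2,2,0,0,2,0],[0,0,0,2,2,0,1],[0,0,0,0,0,2,1],[2,2,2,0,0,2,2],[1,0,2,1,1,0,0]], [[1,0,0,0,0,0,0],[1,1,0,0,0,0,0],[0,0,1,0,0,0,0],[1,1,2,1,0,0,0],[0,1,1,2,1,0,0],[1,2,1,0,2,1,0],[0,1,2,0,0,2,1]], [[1,0,0,1,2,1,1],[0,1,1,1,1,0,0],[0,0,1,1,2,2,2],[0,0,0,1,1,1,2],[0,0,0,0,1,1,1],[0,0,0,0,0,1,2],[0,0,0,0,0,0,1]], [[1,0,0,0,0,0,0],[0,1,0,0,0,0,0],[0,0,1,0,0,0,0],[0,0,0,1,0,0,0],[0,0,0,0,1,0,0],[0,0,0,0,0,1,0],[0,0,0,0,0,0,1]]),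
  ([[1,2,1],[2,2],[1],[1]], [[2,0,1,0,1,1,1],[1,0,1,0,1,1,2],[0,2,0,0,0,2,0],[2,1,0,1,1,0,0],[0,2,1,2,1,1,0],[2,1,1,1,0,1,1],[2,0,2,0,0,1,2]], [[2,1,0,2,1,2,0],[2,0,2,1,0,2,1],[1,0,0,1,1,0,1],[0,2,1,2,2,1,2],[0,2,0,0,2,2,0],[1,0,0,2,0,1,2],[1,2,0,2,1,2,0]], [[1,0,0,0,0,0,0],[2,1,0,0,0,0,0],[2,2,1,0,0,0,0],[1,0,0,1,0,0,0],[1,2,0,1,1,0,0],[1,0,0,1,0,1,0],[2,1,2,2,1,1,1]], [[1,0,1,0,0,2,1],[0,1,1,0,1,2,2],[0,0,1,0,2,1,2],[0,0,0,1,2,0,2],[0,0,0,0,1,2,1],[0,0,0,0,0,1,0],[0,0,0,0,0,0,1]], [[1,0,0,0,0,0,0],[0,1,0,0,0,0,0],[1,2,1,0,0,0,0],[1,0,0,1,0,0,0],[0,2,0,0,1,0,0],[1,1,1,0,0,1,0],[2,1,1,0,1,1,1]]),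
  ([[1,2,2],[2,0],[1],[1]], [[1,0,1,1,2,1,1],[2,2,0,0,1,1,0],[0,0,0,1,1,0,2],[2,2,0,0,1,0,2],[0,0,0,0,0,1,0],[0,1,1,2,1,2,0],[1,2,1,2,2,1,1]], [[2,1,2,2,0,2,2],[1,1,1,0,0,2,0],[2,0,0,1,2,0,2],[0,1,1,0,0,2,1],[0,0,0,2,2,1,2],[0,0,0,0,1,0,0],[0,1,0,2,2,0,0]], [[1,0,0,0,0,0,0],[1,1,0,0,0,0,0],[0,0,1,0,0,0,0],[1,0,0,1,0,0,0],[1,0,1,1,1,0,0],[2,0,1,0,2,1,0],[0,2,2,0,0,2,1]], [[1,0,0,1,2,1,0],[0,1,2,2,0,0,0],[0,0,1,2,2,1,2],[0,0,0,1,1,1,2],[0,0,0,0,1,1,0],[0,0,0,0,0,1,1],[0,0,0,0,0,0,1]], [[1,0,0,0,0,0,0],[1,1,0,0,0,0,0],[0,0,1,0,0,0,0],[0,0,2,1,0,0,0],[1,2,0,1,1,0,0],[2,0,0,2,0,1,0],[1,1,1,2,0,0,1]]),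
  ([[1,2,2],[2,1],[1],[1]], [[0,0,0,1,0,0,1],[2,1,0,0,1,1,0],[2,1,1,0,1,0,2],[0,0,1,1,2,1,1],[0,0,0,1,2,2,0],[0,0,1,0,0,1,2],[2,0,2,1,2,1,1]], [[0,0,0,0,1,2,2],[2,0,1,2,0,2,2],[0,0,0,2,1,2,0],[1,1,2,1,2,0,0],[1,2,1,1,1,1,0],[0,2,1,0,0,2,0],[0,2,1,2,1,0,0]], [[1,0,0,0,0,0,0],[1,1,0,0,0,0,0],[2,1,1,0,0,0,0],[0,2,0,1,0,0,0],[1,0,0,0,1,0,0],[1,1,2,2,2,1,0],[2,2,1,1,0,0,1]], [[1,1,2,2,0,2,0],[0,1,2,2,0,2,1],[0,0,1,0,0,1,1],[0,0,0,1,0,2,2],[0,0,0,0,1,0,1],[0,0,0,0,0,1,1],[0,0,0,0,0,0,1]], [[1,0,0,0,0,0,0],[0,1,0,0,0,0,0],[2,1,1,0,0,0,0],[0,2,0,1,0,0,0],[1,0,1,0,1,0,0],[1,0,0,2,2,1,0],[2,2,2,2,1,2,1]]),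
  ([[1,2,2],[2,2],[1],[1]], [[2,1,2,0,2,2,2],[1,1,1,1,1,0,2],[1,0,2,1,2,2,1],[0,0,1,1,2,0,2],[0,2,0,0,1,2,1],[0,0,1,1,2,2,0],[0,2,1,1,2,2,1]], [[0,1,0,0,1,2,0],[2,0,2,1,2,1,2],[1,2,2,2,0,0,0],[0,1,2,2,2,0,2],[2,0,2,2,0,0,2],[2,0,2,2,2,2,0],[2,0,2,1,2,0,0]], [[1,0,0,0,0,0,0],[1,1,0,0,0,0,0],[1,0,1,0,0,0,0],[0,2,1,1,0,0,0],[0,0,2,2,1,0,0],[1,0,2,1,0,1,0],[0,2,1,2,1,0,1]], [[1,2,0,0,1,1,1],[0,1,1,2,1,1,2],[0,0,1,2,1,2,0],[0,0,0,1,0,1,2],[0,0,0,0,1,2,1],[0,0,0,0,0,1,0],[0,0,0,0,0,0,1]], [[1,0,0,0,0,0,0],[0,1,0,0,0,0,0],[0,0,1,0,0,0,0],[0,0,0,1,0,0,0],[0,0,0,0,1,0,0],[0,0,0,0,0,1,0],[0,0,0,0,0,0,1]])]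

theorem pmmm7_ok : tblOk 3 [g7m] pmmm7 = true := by decide +kernel

theorem pmmm7_keys : keys pmmm7 = (((detV 3 4 2).flatMap fun a => (detV 3 1 2).map fun b => [a, b, [1], [1]]) ++ ((detV 3 3 2).flatMap fun a => (detV 3 2 2).map fun b => [a, b, [1], [1]])) := by decide +kernel

def pmmp5 : Tbl :=
  [([[2,0],[1],[1],[1]], [[0,1,0,1,0],[0,1,2,2,2],[1,0,0,0,1],[0,0,0,0,1],[1,2,1,0,0]], [[0,0,1,2,0],[1,1,2,2,1],[1,1,1,0,2],[0,2,1,1,2],[0,0,0,1,0]], [[1,0,0,0,0],[2,1,0,0,0],[0,0,1,0,0],[0,1,0,1,0],[0,0,1,0,1]], [[1,1,0,1,2],[0,1,1,1,1],[0,0,1,0,0],[0,0,0,1,2],[0,0,0,0,1]], [[1,0,0,0,0],[2,1,0,0,0],[1,0,1,0,0],[0,0,1,1,0],[2,2,1,0,1]]),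
  ([[2,1],[1],[1],[1]], [[1,1,0,2,0],[0,0,0,1,0],[1,2,1,1,0],[2,0,0,1,1],[0,2,0,2,1]], [[2,0,0,1,2],[2,1,0,2,1],[0,0,1,1,2],[0,1,0,0,0],[2,2,0,2,2]], [[1,0,0,0,0],[2,1,0,0,0],[2,0,1,0,0],[1,2,2,1,0],[0,0,2,0,1]], [[1,1,0,2,1],[0,1,0,1,0],[0,0,1,1,2],[0,0,0,1,1],[0,0,0,0,1]], [[1,0,0,0,0],[2,1,0,0,0],[0,1,1,0,0],[1,1,1,1,0],[2,2,2,1,1]]),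
  ([[2,2],[1],[1],[1]], [[1,2,0,0,0],[0,2,2,2,2],[1,2,0,1,2],[1,2,1,2,1],[0,2,0,1,2]], [[0,0,1,0,2],[2,0,1,0,2],[1,0,1,1,0],[1,1,1,1,2],[2,1,0,1,2]], [[1,0,0,0,0],[2,1,0,0,0],[0,2,1,0,0],[2,1,1,1,0],[2,1,0,2,1]], [[1,1,0,0,1],[0,1,0,0,1],[0,0,1,2,2],[0,0,0,1,1],[0,0,0,0,1]], [[1,0,0,0,0],[0,1,0,0,0],[0,0,1,0,0],[0,0,0,1,0],[0,0,0,0,1]])]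

theorem pmmp5_ok : tblOk 3 [g5p] pmmp5 = true := by decide +kernel

theorem pmmp5_keys : keys pmmp5 = (((detV 3 2 2).flatMap fun a => (detV 3 1 2).map fun b => [a, b, [1], [1]])) := by decide +kernel

def pmmp6 : Tbl :=
  [([[1,0,0],[1],[1],[1]], [[0,0,1,1,1,2],[1,2,0,1,2,2],[2,0,0,1,1,1],[0,2,0,1,2,0],[0,0,0,0,2,2],[0,1,0,2,2,2]], [[0,1,0,0,1,1],[0,1,1,0,1,2],[1,2,2,2,1,1],[0,1,1,0,2,1],[0,0,0,2,1,2],[0,0,0,1,1,1]], [[1,0,0,0,0,0],[0,1,0,0,0,0],[1,1,1,0,0,0],[0,0,0,1,0,0],[0,1,2,2,1,0],[2,2,2,2,2,1]], [[1,1,0,2,0,2],[0,1,1,2,1,0],[0,0,1,0,0,2],[0,0,0,1,2,1],[0,0,0,0,1,1],[0,0,0,0,0,1]], [[1,0,0,0,0,0],[0,1,0,0,0,0],[0,2,1,0,0,0],[1,0,1,1,0,0],[1,0,2,1,1,0],[2,0,1,1,2,1]]),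
  ([[1,0,1],[1],[1],[1]], [[0,1,1,0,0,1],[2,1,2,2,0,2],[1,1,2,1,2,2],[2,1,2,2,2,0],[2,2,2,0,2,0],[0,0,1,1,2,0]], [[2,2,0,1,2,0],[2,0,2,1,1,2],[2,2,0,0,1,2],[1,0,1,1,0,1],[0,2,1,1,1,2],[0,1,1,2,1,2]], [[1,0,0,0,0,0],[2,1,0,0,0,0],[2,1,1,0,0,0],[2,1,0,1,0,0],[0,1,0,1,1,0],[0,2,1,1,0,1]], [[1,0,1,1,2,2],[0,1,1,1,2,0],[0,0,1,1,1,2],[0,0,0,1,0,0],[0,0,0,0,1,1],[0,0,0,0,0,1]], [[1,0,0,0,0,0],[0,1,0,0,0,0],[1,2,1,0,0,0],[1,0,0,1,0,0],[1,0,1,0,1,0],[0,1,0,0,1,1]]),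
  ([[1,0,2],[1],[1],[1]], [[0,1,0,2,2,0],[2,1,0,1,2,0],[0,0,0,0,1,0],[0,0,1,0,1,2],[0,1,0,1,2,0],[0,2,0,2,1,2]], [[0,2,0,0,1,0],[2,0,1,0,2,0],[0,0,2,1,2,2],[1,0,0,0,2,0],[0,0,1,0,0,0],[0,0,0,0,2,2]], [[1,0,0,0,0,0],[1,1,0,0,0,0],[1,1,1,0,0,0],[0,1,1,1,0,0],[1,0,2,2,1,0],[1,1,2,2,2,1]], [[1,0,2,0,0,2],[0,1,2,0,2,0],[0,0,1,1,0,0],[0,0,0,1,1,0],[0,0,0,0,1,0],[0,0,0,0,0,1]], [[1,0,0,0,0,0],[0,1,0,0,0,0],[0,2,1,0,0,0],[0,1,0,1,0,0],[0,0,2,1,1,0],[2,2,2,2,1,1]]),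
  ([[1,1,0],[1],[1],[1]], [[1,0,2,1,0,0],[2,2,0,2,0,0],[0,1,1,0,2,2],[1,0,2,0,0,0],[1,0,2,2,1,0],[0,2,1,0,1,1]], [[0,0,2,1,0,2],[2,2,1,0,0,1],[0,0,2,0,0,2],[1,0,0,2,0,0],[1,0,0,1,1,0],[1,2,2,2,2,0]], [[1,0,0,0,0,0],[2,1,0,0,0,0],[0,1,1,0,0,0],[2,2,0,1,0,0],[1,2,0,0,1,0],[2,0,0,2,1,1]], [[1,0,0,2,0,0],[0,1,2,2,0,2],[0,0,1,0,0,1],[0,0,0,1,0,1],[0,0,0,0,1,2],[0,0,0,0,0,1]], [[1,0,0,0,0,0],[0,1,0,0,0,0],[0,0,1,0,0,0],[0,0,0,1,0,0],[0,0,0,0,1,0],[0,0,0,0,0,1]]),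
  ([[1,1,1],[1],[1],[1]], [[0,0,2,2,2,0],[0,1,1,2,1,1],[0,1,2,2,2,1],[0,2,2,1,1,0],[0,1,0,1,1,2],[2,0,0,2,2,1]], [[1,0,1,1,0,2],[1,0,1,1,1,0],[2,0,1,2,1,0],[2,1,2,0,0,0],[1,2,0,1,2,0],[1,0,0,2,2,0]], [[1,0,0,0,0,0],[2,1,0,0,0,0],[2,2,1,0,0,0],[1,0,2,1,0,0],[0,0,0,1,1,0],[1,1,1,0,0,1]], [[1,1,0,0,0,2],[0,1,2,1,0,2],[0,0,1,1,2,1],[0,0,0,1,0,0],[0,0,0,0,1,1],[0,0,0,0,0,1]], [[1,0,0,0,0,0],[2,1,0,0,0,0],[2,0,1,0,0,0],[2,2,2,1,0,0],[2,0,1,1,1,0],[2,1,1,0,0,1]]),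
  ([[1,1,2],[1],[1],[1]], [[0,0,1,1,0,0],[1,2,2,0,0,2],[1,0,1,1,0,0],[1,2,1,2,1,1],[0,2,1,2,0,0],[2,1,0,0,0,0]], [[2,0,1,0,0,0],[2,0,1,0,0,1],[0,0,2,0,2,2],[1,0,1,0,1,1],[1,1,1,1,1,0],[0,2,1,0,1,0]], [[1,0,0,0,0,0],[0,1,0,0,0,0],[0,2,1,0,0,0],[0,0,0,1,0,0],[0,1,2,0,1,0],[1,0,0,1,1,1]], [[1,2,2,2,1,2],[0,1,0,0,0,2],[0,0,1,2,0,2],[0,0,0,1,2,2],[0,0,0,0,1,1],[0,0,0,0,0,1]], [[1,0,0,0,0,0],[1,1,0,0,0,0],[0,2,1,0,0,0],[1,2,1,1,0,0],[1,0,2,0,1,0],[0,1,0,1,2,1]]),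
  ([[1,2,0],[1],[1],[1]], [[1,0,0,0,0,1],[0,0,1,0,2,0],[0,2,2,1,1,2],[1,1,2,0,0,0],[2,2,2,1,0,1],[0,2,1,1,1,1]], [[0,1,0,0,2,1],[2,0,1,1,0,2],[2,1,1,0,2,0],[0,0,2,1,1,1],[2,0,1,0,2,0],[1,2,0,0,1,2]], [[1,0,0,0,0,0],[0,1,0,0,0,0],[0,2,1,0,0,0],[1,1,0,1,0,0],[0,0,0,2,1,0],[2,2,1,0,1,1]], [[1,0,1,2,2,2],[0,1,1,1,2,1],[0,0,1,2,1,2],[0,0,0,1,2,1],[0,0,0,0,1,1],[0,0,0,0,0,1]], [[1,0,0,0,0,0],[0,1,0,0,0,0],[0,0,1,0,0,0],[0,0,0,1,0,0],[0,0,0,0,1,0],[0,0,0,0,0,1]]),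
  ([[1,2,1],[1],[1],[1]], [[0,1,0,0,2,1],[2,1,0,0,1,1],[2,1,0,0,2,2],[2,0,1,2,2,1],[0,2,2,1,2,0],[1,1,2,0,2,2]], [[0,0,1,1,1,0],[0,2,0,1,1,0],[0,0,0,2,2,2],[1,1,2,2,0,2],[1,2,2,2,2,0],[2,0,2,1,1,0]], [[1,0,0,0,0,0],[2,1,0,0,0,0],[0,0,1,0,0,0],[1,0,0,1,0,0],[2,1,0,1,1,0],[0,2,0,2,1,1]], [[1,2,0,1,1,2],[0,1,1,2,2,0],[0,0,1,1,0,1],[0,0,0,1,1,2],[0,0,0,0,1,2],[0,0,0,0,0,1]], [[1,0,0,0,0,0],[2,1,0,0,0,0],[1,0,1,0,0,0],[2,0,2,1,0,0],[1,1,0,1,1,0],[2,0,1,1,2,1]]),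
  ([[1,2,2],[1],[1],[1]], [[0,0,0,1,2,1],[0,0,1,2,0,1],[0,0,2,0,2,0],[0,0,1,2,1,2],[2,1,1,0,1,0],[1,0,1,1,0,1]], [[2,0,1,0,0,1],[2,0,2,0,1,1],[1,0,0,1,0,0],[2,1,1,0,0,0],[2,0,2,2,0,0],[1,2,1,2,0,0]], [[1,0,0,0,0,0],[2,1,0,0,0,0],[1,2,1,0,0,0],[2,2,2,1,0,0],[2,1,0,2,1,0],[2,2,0,1,2,1]], [[1,0,0,1,2,1],[0,1,1,1,2,2],[0,0,1,2,0,2],[0,0,0,1,0,0],[0,0,0,0,1,1],[0,0,0,0,0,1]], [[1,0,0,0,0,0],[0,1,0,0,0,0],[0,0,1,0,0,0],[0,0,0,1,0,0],[0,0,0,0,1,0],[0,0,0,0,0,1]]),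
  ([[2,0],[2,0],[1],[1]], [[2,0,1,2,2,1],[0,1,1,0,1,0],[2,0,1,0,2,1],[2,2,1,2,1,2],[1,0,2,0,1,0],[0,1,0,2,0,0]], [[0,1,2,2,2,1],[2,0,1,0,0,1],[2,1,2,1,2,0],[2,0,1,0,0,0],[2,0,0,2,1,2],[0,0,1,0,1,0]], [[1,0,0,0,0,0],[2,1,0,0,0,0],[1,1,1,0,0,0],[2,1,1,1,0,0],[2,1,1,1,1,0],[0,0,1,0,0,1]], [[1,1,1,1,1,2],[0,1,2,1,2,1],[0,0,1,0,2,1],[0,0,0,1,2,2],[0,0,0,0,1,1],[0,0,0,0,0,1]], [[1,0,0,0,0,0],[2,1,0,0,0,0],[2,0,1,0,0,0],[1,1,1,1,0,0],[1,2,0,0,1,0],[2,0,0,1,2,1]]),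
  ([[2,0],[2,1],[1],[1]], [[0,0,1,0,1,1],[2,0,2,0,0,1],[1,2,2,0,0,1],[1,2,0,0,0,0],[1,0,2,2,1,0],[0,1,1,1,0,0]], [[0,2,1,2,0,0],[0,2,1,1,0,0],[2,2,2,2,1,1],[1,2,0,0,2,0],[0,2,1,0,1,1],[2,2,0,1,1,1]], [[1,0,0,0,0,0],[0,1,0,0,0,0],[0,0,1,0,0,0],[1,1,0,1,0,0],[1,1,1,2,1,0],[2,0,2,0,0,1]], [[1,1,0,0,1,0],[0,1,1,2,1,2],[0,0,1,1,1,0],[0,0,0,1,1,1],[0,0,0,0,1,2],[0,0,0,0,0,1]], [[1,0,0,0,0,0],[0,1,0,0,0,0],[2,1,1,0,0,0],[2,1,2,1,0,0],[1,1,0,1,1,0],[0,2,1,0,2,1]]),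
  ([[2,0],[2,2],[1],[1]], [[2,0,2,1,0,0],[1,0,0,2,1,2],[0,0,2,1,1,1],[0,2,0,2,1,2],[0,0,1,0,2,2],[0,0,0,2,2,2]], [[2,0,2,0,1,1],[1,1,1,2,2,2],[0,0,2,0,0,2],[0,0,1,0,1,0],[2,2,2,0,1,2],[1,1,0,0,1,0]], [[1,0,0,0,0,0],[1,1,0,0,0,0],[2,1,1,0,0,0],[2,2,1,1,0,0],[0,1,1,2,1,0],[1,2,1,2,2,1]], [[1,1,2,0,2,0],[0,1,1,0,0,0],[0,0,1,1,2,0],[0,0,0,1,0,2],[0,0,0,0,1,0],[0,0,0,0,0,1]], [[1,0,0,0,0,0],[0,1,0,0,0,0],[0,0,1,0,0,0],[0,0,0,1,0,0],[0,0,0,0,1,0],[0,0,0,0,0,1]]),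
  ([[2,1],[2,0],[1],[1]], [[1,1,1,0,2,2],[1,1,1,1,0,2],[0,0,1,0,1,1],[1,0,1,2,0,1],[0,0,2,2,1,1],[2,1,0,1,0,2]], [[2,1,2,1,0,0],[1,1,1,0,0,2],[2,2,2,1,0,2],[2,2,0,1,2,2],[0,2,0,2,1,1],[1,2,2,0,2,0]], [[1,0,0,0,0,0],[1,1,0,0,0,0],[0,2,1,0,0,0],[2,2,0,1,0,0],[0,0,1,1,1,0],[1,0,1,1,0,1]], [[1,1,0,0,1,1],[0,1,2,2,1,2],[0,0,1,2,2,0],[0,0,0,1,0,1],[0,0,0,0,1,2],[0,0,0,0,0,1]], [[1,0,0,0,0,0],[0,1,0,0,0,0],[0,0,1,0,0,0],[0,0,0,1,0,0],[0,0,0,0,1,0],[0,0,0,0,0,1]]),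
  ([[2,1],[2,1],[1],[1]], [[0,0,1,1,2,1],[1,2,2,2,0,0],[1,1,1,0,1,2],[1,0,2,1,0,1],[2,1,0,2,1,0],[2,1,2,2,0,2]], [[0,1,2,0,1,1],[2,1,0,1,2,0],[1,2,0,0,1,1],[0,0,2,2,1,0],[1,0,1,1,1,1],[1,1,2,2,2,0]], [[1,0,0,0,0,0],[2,1,0,0,0,0],[0,0,1,0,0,0],[2,1,2,1,0,0],[2,1,0,0,1,0],[0,2,2,0,0,1]], [[1,1,1,0,0,0],[0,1,1,2,1,0],[0,0,1,0,0,2],[0,0,0,1,0,0],[0,0,0,0,1,0],[0,0,0,0,0,1]], [[1,0,0,0,0,0],[0,1,0,0,0,0],[0,0,1,0,0,0],[0,0,0,1,0,0],[0,0,0,0,1,0],[0,0,0,0,0,1]]),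
  ([[2,1],[2,2],[1],[1]], [[1,2,0,0,1,0],[0,1,0,2,1,2],[0,0,2,0,1,2],[2,2,2,0,0,2],[0,0,2,2,0,0],[0,2,1,2,2,0]], [[1,2,1,0,0,1],[1,0,2,1,0,0],[1,2,0,1,1,0],[2,1,0,2,1,0],[1,1,1,1,0,2],[0,2,0,0,2,2]], [[1,0,0,0,0,0],[1,1,0,0,0,0],[1,1,1,0,0,0],[1,1,2,1,0,0],[2,2,1,0,1,0],[2,1,0,0,1,1]], [[1,2,0,1,2,0],[0,1,0,1,0,0],[0,0,1,1,0,0],[0,0,0,1,2,2],[0,0,0,0,1,0],[0,0,0,0,0,1]], [[1,0,0,0,0,0],[2,1,0,0,0,0],[2,1,1,0,0,0],[0,1,1,1,0,0],[2,0,2,2,1,0],[1,2,0,0,2,1]]),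
  ([[2,2],[2,0],[1],[1]], [[1,0,0,0,0,2],[2,0,2,1,1,1],[2,1,0,2,2,1],[0,0,0,2,1,1],[2,0,1,0,2,2],[1,0,0,0,2,1]], [[2,1,0,1,1,1],[2,2,1,1,2,0],[0,1,0,1,2,0],[1,0,0,2,0,2],[0,2,0,2,2,1],[1,1,0,1,1,1]], [[1,0,0,0,0,0],[0,1,0,0,0,0],[0,0,1,0,0,0],[1,1,2,1,0,0],[2,2,0,1,1,0],[1,2,2,0,2,1]], [[1,1,2,1,2,0],[0,1,2,0,2,0],[0,0,1,0,0,0],[0,0,0,1,2,0],[0,0,0,0,1,2],[0,0,0,0,0,1]], [[1,0,0,0,0,0],[0,1,0,0,0,0],[0,1,1,0,0,0],[2,2,1,1,0,0],[2,2,0,1,1,0],[1,1,2,0,1,1]]),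
  ([[2,2],[2,1],[1],[1]], [[0,2,1,2,2,0],[2,2,2,0,2,2],[0,0,1,1,0,2],[0,0,1,2,0,1],[0,2,1,0,1,1],[1,0,1,2,1,1]], [[1,2,1,0,0,0],[1,0,1,0,1,0],[0,0,2,2,0,0],[2,2,2,0,2,2],[2,1,2,2,0,1],[2,2,0,2,2,2]], [[1,0,0,0,0,0],[1,1,0,0,0,0],[0,0,1,0,0,0],[0,1,0,1,0,0],[2,2,0,1,1,0],[1,1,2,0,1,1]], [[1,1,2,2,1,0],[0,1,0,2,1,1],[0,0,1,0,0,1],[0,0,0,1,0,1],[0,0,0,0,1,2],[0,0,0,0,0,1]], [[1,0,0,0,0,0],[1,1,0,0,0,0],[0,0,1,0,0,0],[2,2,1,1,0,0],[0,2,0,2,1,0],[1,2,2,1,2,1]]),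
  ([[2,2],[2,2],[1],[1]], [[0,2,1,2,1,2],[2,2,0,2,0,2],[0,0,1,0,0,1],[0,1,0,0,1,1],[1,0,2,0,0,0],[0,1,1,1,1,1]], [[2,2,0,0,0,1],[2,1,2,1,1,0],[2,2,0,0,2,1],[1,1,0,2,1,0],[0,1,0,0,1,1],[1,1,1,0,1,2]], [[1,0,0,0,0,0],[2,1,0,0,0,0],[1,2,1,0,0,0],[0,1,0,1,0,0],[2,1,1,2,1,0],[2,2,0,2,1,1]], [[1,0,0,1,2,0],[0,1,0,0,2,2],[0,0,1,0,0,0],[0,0,0,1,1,2],[0,0,0,0,1,2],[0,0,0,0,0,1]], [[1,0,0,0,0,0],[0,1,0,0,0,0],[0,0,1,0,0,0],[0,0,0,1,0,0],[0,0,0,0,1,0],[0,0,0,0,0,1]])]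

theorem pmmp6_ok : tblOk 3 [g6p] pmmp6 = true := by decide +kernel

theorem pmmp6_keys : keys pmmp6 = (((detV 3 3 2).flatMap fun a => (detV 3 1 2).map fun b => [a, b, [1], [1]]) ++ ((detV 3 2 2).flatMap fun a => (detV 3 2 2).map fun b => [a, b, [1], [1]])) := by decide +kernel

def pmmp7 : Tbl :=
  [([[2,0,0,0],[1],[1],[1]], [[2,0,1,2,2,1,0],[2,0,1,1,2,1,1],[1,1,2,2,2,2,0],[0,0,1,0,1,2,2],[1,1,1,2,0,2,1],[2,2,0,2,2,1,1],[0,0,2,0,0,0,2]], [[2,0,1,2,1,2,1],[2,2,1,0,1,1,1],[1,2,1,0,1,2,2],[0,0,2,0,2,1,0],[2,1,1,0,0,1,2],[1,2,0,2,2,2,1],[2,1,2,0,2,1,0]], [[1,0,0,0,0,0,0],[2,1,0,0,0,0,0],[0,1,1,0,0,0,0],[1,0,0,1,0,0,0],[0,0,2,2,1,0,0],[0,2,1,1,1,1,0],[1,2,2,1,0,1,1]],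 [[1,1,2,1,1,1,1],[0,1,2,2,2,2,2],[0,0,1,2,1,0,2],[0,0,0,1,1,0,2],[0,0,0,0,1,2,0],[0,0,0,0,0,1,0],[0,0,0,0,0,0,1]], [[1,0,0,0,0,0,0],[0,1,0,0,0,0,0],[1,0,1,0,0,0,0],[0,1,1,1,0,0,0],[0,1,2,1,1,0,0],[0,1,1,1,2,1,0],[0,0,0,1,1,1,1]]),
  ([[2,0,0,1],[1],[1],[1]], [[0,1,1,1,1,2,0],[0,0,1,2,0,0,1],[0,2,0,1,0,1,1],[1,1,0,0,0,0,1],[1,2,0,1,0,0,2],[0,1,0,2,2,0,1],[1,0,2,0,0,0,0]], [[1,2,1,0,1,1,0],[2,0,2,0,1,2,2],[1,2,1,0,1,1,2],[1,2,1,1,2,1,0],[1,2,1,0,0,0,0],[1,0,2,1,1,1,1],[0,1,0,1,1,0,1]], [[1,0,0,0,0,0,0],[0,1,0,0,0,0,0],[1,1,1,0,0,0,0],[0,0,1,1,0,0,0],[2,1,0,1,1,0,0],[0,0,0,2,1,1,0],[1,2,1,0,0,2,1]], [[1,0,2,1,2,0,1],[0,1,0,0,0,2,1],[0,0,1,0,2,0,2],[0,0,0,1,1,0,0],[0,0,0,0,1,1,2],[0,0,0,0,0,1,1],[0,0,0,0,0,0,1]],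 [[1,0,0,0,0,0,0],[1,1,0,0,0,0,0],[1,1,1,0,0,0,0],[1,2,1,1,0,0,0],[1,0,2,0,1,0,0],[0,2,2,1,1,1,0],[2,1,2,1,0,1,1]]),
  ([[2,0,0,2],[1],[1],[1]], [[0,1,2,1,1,0,2],[0,2,0,1,0,0,2],[0,0,2,0,1,1,2],[1,0,2,2,0,2,0],[2,2,1,1,2,1,0],[1,0,0,1,2,1,1],[1,2,1,1,0,1,1]], [[2,0,2,1,1,0,1],[2,1,0,1,1,1,2],[1,2,0,0,0,1,2],[0,0,2,1,0,2,0],[1,2,0,1,1,2,1],[1,1,0,2,1,0,2],[1,1,2,0,2,1,1]], [[1,0,0,0,0,0,0],[2,1,0,0,0,0,0],[1,2,1,0,0,0,0],[1,1,0,1,0,0,0],[2,0,2,2,1,0,0],[1,0,1,2,0,1,0],[2,1,0,0,2,1,1]], [[1,1,1,1,1,2,0],[0,1,2,2,0,0,0],[0,0,1,0,1,1,1],[0,0,0,1,1,2,0],[0,0,0,0,1,0,1],[0,0,0,0,0,1,1],[0,0,0,0,0,0,1]], [[1,0,0,0,0,0,0],[1,1,0,0,0,0,0],[2,1,1,0,0,0,0],[1,1,0,1,0,0,0],[2,2,2,0,1,0,0],[1,1,1,0,1,1,0],[2,2,2,0,0,2,1]]),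
  ([[2,0,1,0],[1],[1],[1]], [[1,2,1,1,1,0,2],[2,0,0,1,2,1,0],[2,0,2,2,2,0,0],[2,0,0,2,0,1,2],[2,2,1,0,0,0,1],[1,2,0,1,0,0,2],[2,1,0,2,2,2,0]], [[0,1,0,1,0,2,2],[0,2,2,0,2,2,2],[1,2,2,1,2,0,0],[2,2,2,2,0,2,1],[0,1,1,2,1,2,0],[1,1,2,1,1,2,1],[2,1,0,0,1,1,1]], [[1,0,0,0,0,0,0],[0,1,0,0,0,0,0],[1,0,1,0,0,0,0],[2,1,2,1,0,0,0],[1,2,2,0,1,0,0],[1,0,2,1,0,1,0],[1,1,1,2,1,2,1]], [[1,0,2,0,1,0,1],[0,1,1,0,0,1,0],[0,0,1,0,1,1,2],[0,0,0,1,0,2,0],[0,0,0,0,1,2,0],[0,0,0,0,0,1,2],[0,0,0,0,0,0,1]], [[1,0,0,0,0,0,0],[2,1,0,0,0,0,0],[0,0,1,0,0,0,0],[1,2,0,1,0,0,0],[0,1,0,0,1,0,0],[0,1,0,2,1,1,0],[2,2,0,0,1,1,1]]),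
  ([[2,0,1,1],[1],[1],[1]], [[2,0,1,2,0,2,0],[2,0,1,0,2,1,2],[2,1,2,2,0,1,1],[0,0,2,1,2,2,1],[2,0,2,2,0,0,1],[1,0,0,0,2,0,2],[0,2,1,1,0,0,2]], [[0,2,2,1,1,0,2],[0,1,1,2,1,0,0],[0,0,1,1,1,2,1],[2,2,2,2,2,2,2],[1,1,0,0,2,1,0],[0,2,0,1,1,0,0],[2,1,2,1,2,1,2]], [[1,0,0,0,0,0,0],[0,1,0,0,0,0,0],[0,0,1,0,0,0,0],[0,1,0,1,0,0,0],[0,0,2,2,1,0,0],[0,0,1,2,0,1,0],[1,0,2,1,2,2,1]], [[1,2,0,1,2,2,0],[0,1,0,1,2,0,1],[0,0,1,2,1,2,1],[0,0,0,1,1,2,1],[0,0,0,0,1,1,2],[0,0,0,0,0,1,0],[0,0,0,0,0,0,1]], [[1,0,0,0,0,0,0],[0,1,0,0,0,0,0],[1,2,1,0,0,0,0],[0,0,0,1,0,0,0],[0,1,0,0,1,0,0],[2,1,2,1,2,1,0],[0,2,2,2,1,2,1]]),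
  ([[2,0,1,2],[1],[1],[1]], [[1,0,2,0,2,2,0],[1,1,0,0,1,0,2],[2,2,2,2,1,0,0],[2,2,1,1,2,2,1],[0,1,2,0,0,2,0],[2,2,2,1,2,1,0],[2,2,1,0,1,2,2]], [[1,0,1,1,0,0,1],[1,0,0,1,2,2,1],[1,1,1,1,1,0,0],[2,2,1,0,2,2,1],[2,0,1,0,2,1,0],[0,2,2,0,0,2,1],[1,2,2,2,1,0,2]], [[1,0,0,0,0,0,0],[2,1,0,0,0,0,0],[1,0,1,0,0,0,0],[1,0,2,1,0,0,0],[1,0,0,2,1,0,0],[2,2,2,1,0,1,0],[2,0,0,2,0,2,1]], [[1,2,0,2,0,1,0],[0,1,0,2,2,0,1],[0,0,1,0,2,2,0],[0,0,0,1,2,0,2],[0,0,0,0,1,2,1],[0,0,0,0,0,1,0],[0,0,0,0,0,0,1]], [[1,0,0,0,0,0,0],[1,1,0,0,0,0,0],[2,0,1,0,0,0,0],[2,2,2,1,0,0,0],[2,0,2,2,1,0,0],[2,0,0,2,1,1,0],[1,1,1,1,2,0,1]]),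
  ([[2,0,2,0],[1],[1],[1]], [[0,2,1,2,0,2,2],[1,2,1,2,0,1,2],[1,1,2,1,2,0,0],[1,1,1,0,1,2,2],[2,1,1,0,1,2,1],[2,0,1,0,2,1,0],[0,2,2,1,2,2,1]], [[2,0,0,2,2,2,2],[0,2,2,1,0,2,0],[1,2,2,0,2,2,1],[1,1,0,0,2,2,0],[2,1,2,0,2,1,1],[0,2,0,2,2,2,2],[2,0,0,0,1,2,2]], [[1,0,0,0,0,0,0],[1,1,0,0,0,0,0],[0,2,1,0,0,0,0],[0,0,0,1,0,0,0],[2,2,0,2,1,0,0],[2,0,2,2,2,1,0],[0,0,0,0,0,0,1]], [[1,0,1,2,0,0,1],[0,1,1,2,0,0,2],[0,0,1,2,2,2,1],[0,0,0,1,0,0,0],[0,0,0,0,1,0,0],[0,0,0,0,0,1,1],[0,0,0,0,0,0,1]], [[1,0,0,0,0,0,0],[1,1,0,0,0,0,0],[0,1,1,0,0,0,0],[2,0,2,1,0,0,0],[0,0,2,0,1,0,0],[0,1,0,2,0,1,0],[0,1,1,1,0,2,1]]),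
  ([[2,0,2,1],[1],[1],[1]], [[0,0,2,2,1,1,1],[1,1,2,2,0,0,0],[2,1,1,2,1,2,0],[1,2,1,0,2,0,1],[0,0,1,2,1,0,2],[1,1,0,0,0,1,1],[1,0,1,2,0,0,2]], [[2,0,0,1,2,1,2],[0,2,0,1,1,0,0],[0,1,1,0,2,1,2],[2,0,2,2,1,0,0],[2,0,0,1,0,1,1],[1,0,1,2,0,1,1],[0,1,2,2,0,2,0]], [[1,0,0,0,0,0,0],[2,1,0,0,0,0,0],[2,1,1,0,0,0,0],[0,0,2,1,0,0,0],[2,1,1,1,1,0,0],[1,0,1,1,0,1,0],[2,0,2,1,0,2,1]], [[1,2,2,2,1,0,0],[0,1,1,1,1,0,2],[0,0,1,0,0,0,2],[0,0,0,1,1,1,0],[0,0,0,0,1,0,0],[0,0,0,0,0,1,1],[0,0,0,0,0,0,1]], [[1,0,0,0,0,0,0],[2,1,0,0,0,0,0],[1,0,1,0,0,0,0],[2,2,2,1,0,0,0],[0,1,2,2,1,0,0],[0,0,2,2,1,1,0],[0,0,0,2,1,1,1]]),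
  ([[2,0,2,2],[1],[1],[1]], [[0,1,1,2,1,0,1],[0,0,1,1,1,2,1],[1,2,1,2,1,1,1],[2,1,2,2,0,1,1],[1,2,0,0,2,2,1],[0,0,2,0,0,0,0],[1,0,2,0,0,0,0]], [[0,0,0,0,0,2,1],[2,1,1,1,1,1,2],[0,0,0,0,0,2,0],[2,2,2,0,0,2,1],[1,2,0,1,2,0,2],[0,2,0,2,2,0,0],[0,2,1,1,0,2,0]], [[1,0,0,0,0,0,0],[1,1,0,0,0,0,0],[2,0,1,0,0,0,0],[0,1,2,1,0,0,0],[0,2,0,0,1,0,0],[1,1,0,0,1,1,0],[1,2,2,2,1,1,1]], [[1,2,2,0,0,2,2],[0,1,0,1,0,1,2],[0,0,1,1,2,2,2],[0,0,0,1,1,2,0],[0,0,0,0,1,1,2],[0,0,0,0,0,1,1],[0,0,0,0,0,0,1]], [[1,0,0,0,0,0,0],[0,1,0,0,0,0,0],[0,0,1,0,0,0,0],[0,0,0,1,0,0,0],[0,0,0,0,1,0,0],[0,0,0,0,0,1,0],[0,0,0,0,0,0,1]]),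
  ([[2,1,0,0],[1],[1],[1]], [[2,1,1,0,1,1,0],[1,2,0,2,0,2,2],[1,1,2,2,1,1,1],[0,2,0,0,1,2,1],[2,1,2,0,1,0,1],[0,2,1,0,1,0,0],[1,2,2,2,2,1,2]], [[2,0,2,2,0,1,1],[0,2,2,2,0,1,2],[1,0,0,1,2,2,0],[1,2,1,2,1,0,2],[2,2,2,1,1,0,2],[0,2,1,1,0,1,0],[1,2,1,0,2,2,0]], [[1,0,0,0,0,0,0],[0,1,0,0,0,0,0],[0,0,1,0,0,0,0],[1,0,2,1,0,0,0],[2,2,2,2,1,0,0],[2,0,2,0,2,1,0],[0,0,2,1,1,1,1]], [[1,0,2,1,0,0,2],[0,1,1,0,0,0,1],[0,0,1,0,1,1,0],[0,0,0,1,0,0,2],[0,0,0,0,1,2,1],[0,0,0,0,0,1,0],[0,0,0,0,0,0,1]], [[1,0,0,0,0,0,0],[0,1,0,0,0,0,0],[2,0,1,0,0,0,0],[2,0,1,1,0,0,0],[1,1,0,2,1,0,0],[2,0,0,1,0,1,0],[0,2,0,2,0,0,1]]),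
  ([[2,1,0,1],[1],[1],[1]], [[1,0,1,2,1,1,0],[1,0,0,0,0,1,2],[1,0,0,1,1,1,2],[2,1,2,1,2,0,1],[2,0,2,0,1,2,1],[2,1,0,1,2,0,2],[2,0,0,2,0,0,1]], [[0,2,2,2,1,1,2],[2,0,0,0,2,1,2],[2,1,2,2,2,1,0],[1,0,2,1,0,2,0],[2,2,2,2,0,1,0],[1,1,2,1,0,2,1],[1,2,1,0,1,0,0]], [[1,0,0,0,0,0,0],[0,1,0,0,0,0,0],[0,2,1,0,0,0,0],[0,2,0,1,0,0,0],[1,1,0,0,1,0,0],[0,1,2,0,1,1,0],[2,1,1,1,1,2,1]], [[1,2,0,2,0,1,1],[0,1,0,2,1,1,0],[0,0,1,1,1,1,1],[0,0,0,1,0,0,1],[0,0,0,0,1,0,1],[0,0,0,0,0,1,1],[0,0,0,0,0,0,1]], [[1,0,0,0,0,0,0],[1,1,0,0,0,0,0],[1,1,1,0,0,0,0],[2,1,1,1,0,0,0],[2,1,1,0,1,0,0],[1,1,0,0,2,1,0],[1,0,2,0,2,0,1]]),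
  ([[2,1,0,2],[1],[1],[1]], [[1,1,2,1,0,2,1],[0,0,2,1,0,2,0],[1,1,0,2,1,0,2],[2,0,1,1,1,1,1],[1,0,0,0,1,0,2],[2,0,0,1,2,2,0],[1,2,0,0,2,2,2]], [[2,0,1,2,0,0,0],[2,1,1,0,2,1,2],[0,0,1,1,2,0,1],[2,1,0,0,0,1,2],[1,1,0,2,2,2,1],[2,0,2,2,1,1,1],[0,1,1,1,1,2,1]], [[1,0,0,0,0,0,0],[0,1,0,0,0,0,0],[0,1,1,0,0,0,0],[0,2,1,1,0,0,0],[1,0,1,1,1,0,0],[1,1,2,2,1,1,0],[2,1,1,1,0,1,1]], [[1,2,2,2,0,1,1],[0,1,1,0,1,0,2],[0,0,1,1,1,2,1],[0,0,0,1,2,0,1],[0,0,0,0,1,0,2],[0,0,0,0,0,1,2],[0,0,0,0,0,0,1]], [[1,0,0,0,0,0,0],[1,1,0,0,0,0,0],[0,0,1,0,0,0,0],[0,2,2,1,0,0,0],[1,2,0,2,1,0,0],[2,2,2,1,1,1,0],[0,0,2,0,1,1,1]]),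
  ([[2,1,1,0],[1],[1],[1]], [[1,2,1,2,0,0,0],[0,2,2,0,2,2,1],[1,0,2,1,0,0,1],[0,2,0,2,2,0,0],[2,0,1,2,1,2,1],[2,2,1,2,0,1,1],[2,1,0,1,1,0,0]], [[0,0,0,2,0,0,2],[1,1,1,0,0,1,1],[2,0,2,2,2,2,0],[0,2,1,1,2,1,1],[2,0,1,1,1,1,1],[0,2,1,2,0,0,1],[2,1,2,2,0,1,0]], [[1,0,0,0,0,0,0],[1,1,0,0,0,0,0],[0,2,1,0,0,0,0],[1,1,0,1,0,0,0],[1,0,0,0,1,0,0],[2,1,2,2,2,1,0],[2,1,2,1,1,2,1]], [[1,2,1,0,1,2,2],[0,1,0,1,0,2,1],[0,0,1,1,1,2,1],[0,0,0,1,2,2,1],[0,0,0,0,1,0,0],[0,0,0,0,0,1,0],[0,0,0,0,0,0,1]], [[1,0,0,0,0,0,0],[0,1,0,0,0,0,0],[0,0,1,0,0,0,0],[0,0,0,1,0,0,0],[0,0,0,0,1,0,0],[0,0,0,0,0,1,0],[0,0,0,0,0,0,1]]),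
  ([[2,1,1,1],[1],[1],[1]], [[1,0,2,2,1,2,2],[1,1,2,1,1,1,0],[1,1,0,1,0,0,0],[0,0,2,1,0,1,2],[1,0,0,1,1,0,0],[2,2,1,1,0,1,0],[0,2,1,0,1,2,2]], [[0,2,2,2,0,0,1],[2,1,0,0,2,2,1],[0,0,0,2,2,2,1],[1,0,2,1,1,1,1],[2,1,2,0,0,2,1],[1,0,0,2,2,0,0],[2,0,2,0,1,2,0]], [[1,0,0,0,0,0,0],[2,1,0,0,0,0,0],[1,1,1,0,0,0,0],[2,0,0,1,0,0,0],[0,0,1,1,1,0,0],[0,0,2,0,1,1,0],[1,0,1,2,0,0,1]], [[1,1,1,2,1,2,1],[0,1,1,0,2,0,0],[0,0,1,1,0,1,0],[0,0,0,1,0,1,1],[0,0,0,0,1,0,2],[0,0,0,0,0,1,2],[0,0,0,0,0,0,1]], [[1,0,0,0,0,0,0],[0,1,0,0,0,0,0],[2,2,1,0,0,0,0],[0,2,2,1,0,0,0],[0,0,0,0,1,0,0],[2,0,2,2,1,1,0],[2,2,0,0,2,0,1]]),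
  ([[2,1,1,2],[1],[1],[1]], [[2,0,2,2,2,0,0],[0,2,2,1,2,0,0],[1,2,1,1,0,0,2],[2,1,1,1,0,1,1],[2,0,2,2,1,2,1],[0,0,0,0,2,0,2],[1,0,2,2,0,1,0]], [[0,0,2,2,0,0,1],[2,0,2,0,0,1,0],[1,1,0,1,1,2,0],[2,2,0,2,0,2,1],[2,0,1,1,2,2,1],[0,0,1,1,1,1,1],[1,0,2,2,1,0,2]], [[1,0,0,0,0,0,0],[1,1,0,0,0,0,0],[1,2,1,0,0,0,0],[1,1,0,1,0,0,0],[0,0,2,2,1,0,0],[0,2,1,2,2,1,0],[1,1,2,0,1,1,1]], [[1,1,2,2,2,2,0],[0,1,1,1,0,1,2],[0,0,1,2,1,0,1],[0,0,0,1,2,1,1],[0,0,0,0,1,2,0],[0,0,0,0,0,1,0],[0,0,0,0,0,0,1]], [[1,0,0,0,0,0,0],[0,1,0,0,0,0,0],[0,0,1,0,0,0,0],[0,0,0,1,0,0,0],[0,0,0,0,1,0,0],[0,0,0,0,0,1,0],[0,0,0,0,0,0,1]]),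
  ([[2,1,2,0],[1],[1],[1]], [[1,0,1,1,2,0,2],[2,2,1,0,1,2,2],[1,2,2,2,2,1,2],[2,0,2,2,0,1,1],[0,2,0,2,2,0,2],[2,2,1,0,0,2,2],[2,1,2,2,1,0,0]], [[2,2,2,1,0,1,2],[2,0,1,0,2,1,2],[0,0,1,2,1,0,2],[0,2,1,0,1,2,0],[0,1,0,0,0,2,0],[1,1,0,1,0,2,0],[1,0,1,0,2,1,1]], [[1,0,0,0,0,0,0],[0,1,0,0,0,0,0],[2,2,1,0,0,0,0],[1,1,2,1,0,0,0],[2,1,1,0,1,0,0],[0,1,2,2,1,1,0],[0,1,2,2,0,2,1]], [[1,2,0,0,2,2,0],[0,1,0,0,2,0,2],[0,0,1,2,0,0,1],[0,0,0,1,1,1,1],[0,0,0,0,1,2,2],[0,0,0,0,0,1,2],[0,0,0,0,0,0,1]], [[1,0,0,0,0,0,0],[0,1,0,0,0,0,0],[0,2,1,0,0,0,0],[1,1,2,1,0,0,0],[0,1,0,1,1,0,0],[0,2,2,0,0,1,0],[0,0,2,0,0,1,1]]),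
  ([[2,1,2,1],[1],[1],[1]], [[2,0,0,0,2,2,1],[2,0,1,0,0,1,2],[0,1,2,2,1,0,0],[0,0,0,1,2,2,0],[2,2,2,1,1,2,2],[2,0,1,1,2,0,0],[2,0,1,0,0,2,2]], [[2,0,1,2,1,1,1],[2,0,2,2,1,2,1],[2,1,1,1,1,2,0],[0,2,2,1,2,0,2],[0,0,2,0,2,0,1],[0,2,0,0,0,0,1],[0,2,0,2,0,1,0]], [[1,0,0,0,0,0,0],[0,1,0,0,0,0,0],[2,1,1,0,0,0,0],[0,0,2,1,0,0,0],[0,1,1,0,1,0,0],[2,1,0,0,0,1,0],[1,1,0,1,0,2,1]], [[1,1,1,0,2,2,1],[0,1,1,1,2,2,1],[0,0,1,0,0,1,1],[0,0,0,1,1,0,2],[0,0,0,0,1,2,0],[0,0,0,0,0,1,1],[0,0,0,0,0,0,1]], [[1,0,0,0,0,0,0],[0,1,0,0,0,0,0],[0,0,1,0,0,0,0],[0,0,0,1,0,0,0],[0,0,0,0,1,0,0],[0,0,0,0,0,1,0],[0,0,0,0,0,0,1]]),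
  ([[2,1,2,2],[1],[1],[1]], [[1,1,1,2,1,1,2],[1,0,1,2,1,0,0],[1,0,2,0,0,0,1],[2,1,2,0,0,2,0],[0,2,1,0,0,1,2],[2,1,2,1,2,2,2],[0,1,2,0,2,0,0]], [[0,2,2,1,0,2,0],[2,1,1,1,2,0,0],[0,0,2,2,2,0,0],[2,2,0,2,2,2,2],[2,1,2,2,0,0,2],[2,2,0,0,0,1,0],[0,1,1,1,2,1,0]], [[1,0,0,0,0,0,0],[0,1,0,0,0,0,0],[1,2,1,0,0,0,0],[2,0,1,1,0,0,0],[2,2,0,2,1,0,0],[2,1,0,2,0,1,0],[1,1,2,0,0,2,1]], [[1,0,2,0,2,1,0],[0,1,0,0,1,0,1],[0,0,1,2,1,0,2],[0,0,0,1,2,1,0],[0,0,0,0,1,0,0],[0,0,0,0,0,1,0],[0,0,0,0,0,0,1]], [[1,0,0,0,0,0,0],[0,1,0,0,0,0,0],[0,0,1,0,0,0,0],[2,1,0,1,0,0,0],[2,2,2,0,1,0,0],[2,0,1,2,1,1,0],[2,0,2,0,2,1,1]]),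
  ([[2,2,0,0],[1],[1],[1]], [[1,1,2,1,1,0,1],[1,2,0,0,0,2,0],[0,2,1,0,0,0,2],[1,1,0,1,2,0,0],[2,2,2,1,0,0,1],[0,1,0,0,0,1,1],[1,0,0,0,2,1,0]], [[1,2,1,2,0,0,2],[0,2,2,1,2,0,2],[2,1,2,2,2,1,0],[1,0,0,1,2,0,0],[2,1,0,0,1,0,1],[1,2,2,1,1,0,0],[2,2,2,1,0,1,1]], [[1,0,0,0,0,0,0],[2,1,0,0,0,0,0],[0,1,1,0,0,0,0],[0,1,1,1,0,0,0],[1,1,2,2,1,0,0],[2,0,1,1,2,1,0],[0,2,1,1,1,2,1]], [[1,0,0,2,0,0,1],[0,1,1,2,1,0,0],[0,0,1,0,2,1,0],[0,0,0,1,2,0,2],[0,0,0,0,1,0,2],[0,0,0,0,0,1,1],[0,0,0,0,0,0,1]], [[1,0,0,0,0,0,0],[1,1,0,0,0,0,0],[1,1,1,0,0,0,0],[0,2,1,1,0,0,0],[2,1,0,1,1,0,0],[2,1,2,2,1,1,0],[0,1,2,0,1,0,1]]),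
  ([[2,2,0,1],[1],[1],[1]], [[2,1,1,0,2,2,0],[1,0,1,2,2,1,1],[0,2,0,2,2,0,0],[1,0,0,1,1,2,0],[2,0,1,2,0,0,1],[1,1,1,2,2,1,1],[1,1,0,1,0,1,1]], [[1,0,2,0,2,0,1],[0,2,0,0,0,1,0],[0,2,2,1,2,0,2],[0,1,0,1,2,0,0],[0,0,2,2,1,2,0],[1,1,1,2,2,2,1],[1,2,0,0,0,0,2]], [[1,0,0,0,0,0,0],[0,1,0,0,0,0,0],[2,1,1,0,0,0,0],[1,1,0,1,0,0,0],[0,1,0,2,1,0,0],[1,1,1,2,0,1,0],[0,1,1,1,0,2,1]], [[1,2,2,1,1,0,2],[0,1,1,2,0,2,0],[0,0,1,2,1,0,1],[0,0,0,1,0,0,0],[0,0,0,0,1,0,1],[0,0,0,0,0,1,2],[0,0,0,0,0,0,1]], [[1,0,0,0,0,0,0],[0,1,0,0,0,0,0],[1,0,1,0,0,0,0],[1,2,2,1,0,0,0],[1,2,0,2,1,0,0],[2,0,0,2,1,1,0],[0,0,0,1,1,0,1]]),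
  ([[2,2,0,2],[1],[1],[1]], [[2,0,0,1,2,2,1],[0,0,1,0,2,0,1],[1,0,0,1,2,1,2],[0,2,0,2,2,1,2],[0,2,1,0,1,0,2],[0,0,0,1,1,0,0],[2,0,0,2,2,1,2]], [[2,0,1,0,0,1,1],[2,0,1,2,0,1,2],[1,2,2,1,2,2,1],[1,0,1,0,0,2,0],[2,0,2,0,0,2,0],[0,2,1,2,1,2,1],[1,2,0,2,1,0,2]], [[1,0,0,0,0,0,0],[2,1,0,0,0,0,0],[2,2,1,0,0,0,0],[0,1,2,1,0,0,0],[2,0,2,0,1,0,0],[0,1,0,0,0,1,0],[1,0,1,0,2,2,1]], [[1,0,1,1,1,0,1],[0,1,2,1,2,1,0],[0,0,1,0,2,2,0],[0,0,0,1,0,1,2],[0,0,0,0,1,1,0],[0,0,0,0,0,1,0],[0,0,0,0,0,0,1]], [[1,0,0,0,0,0,0],[1,1,0,0,0,0,0],[0,1,1,0,0,0,0],[2,2,1,1,0,0,0],[0,2,2,2,1,0,0],[2,2,2,1,1,1,0],[0,1,0,1,1,2,1]]),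
  ([[2,2,1,0],[1],[1],[1]], [[0,1,2,2,1,0,0],[0,1,2,0,2,2,1],[0,0,2,2,1,0,1],[1,1,0,1,2,0,0],[0,0,2,2,1,1,0],[2,0,1,2,0,2,1],[0,0,2,1,0,0,0]], [[0,0,1,0,2,2,2],[2,2,1,0,2,0,2],[0,1,0,2,0,2,0],[0,1,0,2,0,2,1],[2,0,2,1,1,1,2],[1,2,1,0,0,0,2],[1,2,2,0,2,0,2]], [[1,0,0,0,0,0,0],[2,1,0,0,0,0,0],[1,2,1,0,0,0,0],[0,0,1,1,0,0,0],[1,1,2,2,1,0,0],[0,0,2,1,2,1,0],[0,2,2,2,1,1,1]], [[1,2,2,1,2,0,0],[0,1,0,2,2,0,2],[0,0,1,1,2,0,1],[0,0,0,1,1,2,2],[0,0,0,0,1,0,0],[0,0,0,0,0,1,1],[0,0,0,0,0,0,1]], [[1,0,0,0,0,0,0],[1,1,0,0,0,0,0],[0,0,1,0,0,0,0],[2,2,0,1,0,0,0],[1,0,1,0,1,0,0],[2,1,2,1,2,1,0],[0,2,2,0,1,2,1]]),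
  ([[2,2,1,1],[1],[1],[1]], [[1,0,2,2,0,2,1],[2,2,2,0,2,1,1],[1,1,1,2,1,2,2],[1,1,0,2,0,0,2],[0,1,2,0,2,1,1],[1,1,0,2,1,2,2],[0,1,2,1,1,0,2]], [[2,1,1,2,2,0,2],[2,2,1,2,1,0,2],[0,0,1,0,0,2,0],[0,2,2,0,0,0,0],[2,0,1,1,2,2,0],[2,0,1,2,2,1,0],[1,1,0,0,0,0,1]], [[1,0,0,0,0,0,0],[2,1,0,0,0,0,0],[0,0,1,0,0,0,0],[1,1,2,1,0,0,0],[0,0,0,0,1,0,0],[0,0,0,1,1,1,0],[2,0,0,2,0,0,1]], [[1,0,0,2,0,0,0],[0,1,2,1,2,2,0],[0,0,1,2,0,0,2],[0,0,0,1,1,0,1],[0,0,0,0,1,1,1],[0,0,0,0,0,1,0],[0,0,0,0,0,0,1]], [[1,0,0,0,0,0,0],[0,1,0,0,0,0,0],[0,0,1,0,0,0,0],[0,0,0,1,0,0,0],[0,0,0,0,1,0,0],[0,0,0,0,0,1,0],[0,0,0,0,0,0,1]]),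
  ([[2,2,1,2],[1],[1],[1]], [[1,1,1,2,0,1,0],[1,0,2,2,0,2,0],[0,0,1,1,0,2,0],[2,2,1,2,0,1,1],[1,0,0,1,0,1,0],[1,0,1,1,0,0,1],[2,2,0,2,1,1,0]], [[2,1,2,2,2,1,0],[0,0,0,2,1,1,0],[1,1,1,1,0,2,0],[0,2,2,0,1,0,0],[1,0,2,0,0,0,1],[1,0,2,1,1,2,0],[0,2,1,0,0,1,0]], [[1,0,0,0,0,0,0],[0,1,0,0,0,0,0],[0,1,1,0,0,0,0],[0,1,2,1,0,0,0],[1,1,1,0,1,0,0],[0,2,0,1,1,1,0],[1,1,1,0,1,2,1]], [[1,1,2,1,2,0,2],[0,1,2,2,1,1,1],[0,0,1,2,1,0,1],[0,0,0,1,0,2,0],[0,0,0,0,1,2,1],[0,0,0,0,0,1,0],[0,0,0,0,0,0,1]], [[1,0,0,0,0,0,0],[0,1,0,0,0,0,0],[0,1,1,0,0,0,0],[1,1,1,1,0,0,0],[1,0,1,0,1,0,0],[0,1,1,0,2,1,0],[2,2,2,0,1,1,1]]),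
  ([[2,2,2,0],[1],[1],[1]], [[0,1,1,0,2,1,0],[1,2,1,1,2,2,1],[2,0,2,0,0,2,1],[2,0,1,2,1,1,1],[0,1,2,1,0,1,0],[2,2,0,0,1,1,2],[2,1,1,2,1,0,0]], [[0,1,2,0,0,0,1],[1,2,2,2,1,0,1],[2,0,1,0,1,1,1],[0,2,0,1,1,0,1],[0,1,2,2,2,2,1],[1,2,2,0,0,1,2],[0,0,0,0,1,2,1]], [[1,0,0,0,0,0,0],[2,1,0,0,0,0,0],[2,0,1,0,0,0,0],[2,1,1,1,0,0,0],[0,2,0,0,1,0,0],[2,0,0,0,1,1,0],[0,0,0,1,2,1,1]], [[1,0,2,1,1,2,1],[0,1,2,0,0,2,0],[0,0,1,0,2,2,0],[0,0,0,1,0,0,1],[0,0,0,0,1,2,1],[0,0,0,0,0,1,1],[0,0,0,0,0,0,1]], [[1,0,0,0,0,0,0],[2,1,0,0,0,0,0],[1,1,1,0,0,0,0],[2,0,1,1,0,0,0],[2,2,0,0,1,0,0],[2,1,0,2,1,1,0],[2,1,1,0,2,1,1]]),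
  ([[2,2,2,1],[1],[1],[1]], [[2,0,2,0,1,0,1],[1,0,1,0,2,2,1],[1,2,1,1,0,1,0],[1,1,2,0,2,1,0],[0,2,1,2,0,2,1],[1,1,1,0,0,0,2],[1,2,1,2,2,0,1]], [[2,1,2,2,0,2,2],[1,2,0,1,2,0,1],[1,2,0,0,1,0,2],[0,2,1,2,1,2,2],[0,1,0,2,1,1,2],[1,0,1,0,0,2,1],[1,2,2,0,0,1,2]], [[1,0,0,0,0,0,0],[0,1,0,0,0,0,0],[1,1,1,0,0,0,0],[0,0,0,1,0,0,0],[1,1,1,0,1,0,0],[1,1,0,2,0,1,0],[2,2,0,2,1,2,1]], [[1,1,1,2,2,1,1],[0,1,1,2,0,2,0],[0,0,1,1,0,0,2],[0,0,0,1,0,2,0],[0,0,0,0,1,2,0],[0,0,0,0,0,1,0],[0,0,0,0,0,0,1]], [[1,0,0,0,0,0,0],[0,1,0,0,0,0,0],[0,0,1,0,0,0,0],[0,0,0,1,0,0,0],[0,0,0,0,1,0,0],[0,0,0,0,0,1,0],[0,0,0,0,0,0,1]]),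
  ([[2,2,2,2],[1],[1],[1]], [[2,0,2,0,2,1,2],[0,1,0,0,0,1,0],[0,1,2,1,2,2,1],[2,0,0,1,0,1,0],[0,2,0,2,0,2,0],[1,2,0,1,1,2,0],[1,0,2,0,0,2,2]], [[1,0,0,1,2,1,2],[2,0,0,1,0,2,1],[1,2,1,1,1,2,0],[0,2,0,0,2,0,0],[2,2,0,2,2,0,1],[1,1,0,2,0,1,2],[2,0,2,1,1,1,2]], [[1,0,0,0,0,0,0],[1,1,0,0,0,0,0],[2,1,1,0,0,0,0],[0,2,1,1,0,0,0],[1,0,1,2,1,0,0],[2,2,1,0,0,1,0],[2,0,2,1,1,1,1]], [[1,0,1,2,0,2,1],[0,1,0,0,2,2,0],[0,0,1,2,0,1,1],[0,0,0,1,2,2,1],[0,0,0,0,1,1,1],[0,0,0,0,0,1,2],[0,0,0,0,0,0,1]], [[1,0,0,0,0,0,0],[1,1,0,0,0,0,0],[2,2,1,0,0,0,0],[1,2,1,1,0,0,0],[2,0,1,2,1,0,0],[0,0,2,2,2,1,0],[1,1,2,0,2,2,1]]),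
  ([[1,0,0],[2,0],[1],[1]], [[0,0,1,1,0,1,2],[1,2,1,0,1,2,2],[2,1,1,2,1,2,1],[0,0,0,1,0,1,1],[1,1,0,0,2,0,2],[0,1,2,2,0,2,0],[1,2,0,0,2,1,2]], [[2,2,2,0,2,0,2],[1,0,2,1,2,0,0],[1,0,1,1,1,1,0],[1,0,0,1,1,1,2],[0,2,2,0,1,1,2],[2,0,1,2,0,0,1],[0,0,2,1,2,2,0]], [[1,0,0,0,0,0,0],[1,1,0,0,0,0,0],[1,1,1,0,0,0,0],[0,0,2,1,0,0,0],[2,0,0,2,1,0,0],[2,0,0,2,1,1,0],[0,0,1,1,1,1,1]], [[1,1,0,0,2,1,2],[0,1,2,0,1,0,2],[0,0,1,1,2,1,0],[0,0,0,1,0,0,1],[0,0,0,0,1,0,2],[0,0,0,0,0,1,0],[0,0,0,0,0,0,1]], [[1,0,0,0,0,0,0],[0,1,0,0,0,0,0],[1,1,1,0,0,0,0],[2,1,0,1,0,0,0],[0,2,0,1,1,0,0],[2,2,0,2,0,1,0],[2,0,0,1,1,1,1]]),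
  ([[1,0,0],[2,1],[1],[1]], [[2,0,0,0,0,1,2],[1,0,2,0,0,1,0],[0,2,2,1,1,0,0],[2,1,1,0,0,0,2],[2,0,0,1,0,0,1],[0,1,0,2,0,2,1],[2,2,2,0,2,1,1]], [[2,1,2,2,0,2,2],[0,0,1,2,0,1,1],[1,0,1,0,1,2,1],[0,2,2,0,0,1,2],[1,1,1,2,1,2,0],[2,0,2,1,1,0,2],[2,2,0,2,1,1,0]], [[1,0,0,0,0,0,0],[2,1,0,0,0,0,0],[2,2,1,0,0,0,0],[2,1,0,1,0,0,0],[1,0,0,2,1,0,0],[2,2,2,2,1,1,0],[2,2,0,0,1,0,1]], [[1,0,2,2,2,1,0],[0,1,2,0,1,2,2],[0,0,1,0,0,2,0],[0,0,0,1,0,1,0],[0,0,0,0,1,0,0],[0,0,0,0,0,1,2],[0,0,0,0,0,0,1]], [[1,0,0,0,0,0,0],[1,1,0,0,0,0,0],[1,2,1,0,0,0,0],[2,1,1,1,0,0,0],[1,2,0,0,1,0,0],[1,2,2,0,2,1,0],[1,2,2,1,2,0,1]]),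
  ([[1,0,0],[2,2],[1],[1]], [[1,2,2,0,2,2,1],[2,0,2,2,1,0,2],[1,2,0,0,1,2,2],[2,2,0,2,0,1,0],[2,2,2,0,2,0,2],[1,2,1,2,2,1,1],[0,0,0,0,2,1,1]], [[2,0,1,1,0,2,0],[2,0,0,1,0,2,2],[2,2,0,2,0,2,1],[2,2,1,2,0,1,0],[0,0,2,2,1,1,2],[0,2,2,2,0,2,2],[0,1,0,0,1,2,1]], [[1,0,0,0,0,0,0],[0,1,0,0,0,0,0],[2,0,1,0,0,0,0],[2,2,0,1,0,0,0],[1,2,2,1,1,0,0],[1,0,0,2,2,1,0],[0,0,2,1,1,2,1]], [[1,2,0,0,1,1,2],[0,1,0,0,0,1,2],[0,0,1,1,0,2,1],[0,0,0,1,1,2,0],[0,0,0,0,1,2,1],[0,0,0,0,0,1,0],[0,0,0,0,0,0,1]], [[1,0,0,0,0,0,0],[0,1,0,0,0,0,0],[0,1,1,0,0,0,0],[1,1,2,1,0,0,0],[0,0,1,1,1,0,0],[0,0,0,1,2,1,0],[2,0,1,0,1,0,1]]),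
  ([[1,0,1],[2,0],[1],[1]], [[2,0,1,1,2,2,0],[0,1,0,2,1,1,0],[1,1,0,0,1,1,1],[2,0,1,0,0,0,2],[0,1,0,1,2,0,2],[0,1,0,0,2,1,2],[0,0,0,1,0,1,1]], [[1,1,1,2,1,0,2],[0,2,0,0,0,2,2],[2,0,1,2,1,1,0],[1,2,0,2,2,2,0],[0,2,0,0,1,0,1],[1,2,0,2,1,0,0],[1,2,0,2,0,1,1]], [[1,0,0,0,0,0,0],[2,1,0,0,0,0,0],[0,1,1,0,0,0,0],[2,1,0,1,0,0,0],[0,1,0,0,1,0,0],[0,1,0,1,0,1,0],[0,1,0,0,0,2,1]], [[1,1,0,2,2,1,1],[0,1,0,1,0,0,1],[0,0,1,1,0,1,0],[0,0,0,1,1,2,2],[0,0,0,0,1,0,1],[0,0,0,0,0,1,1],[0,0,0,0,0,0,1]], [[1,0,0,0,0,0,0],[0,1,0,0,0,0,0],[1,0,1,0,0,0,0],[2,0,0,1,0,0,0],[2,1,2,0,1,0,0],[2,2,2,1,0,1,0],[2,1,1,0,1,1,1]]),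
  ([[1,0,1],[2,1],[1],[1]], [[2,1,0,2,2,2,1],[2,1,1,2,2,0,0],[1,2,1,2,2,0,0],[1,2,1,1,2,0,2],[0,2,2,1,0,0,1],[0,2,1,0,2,2,1],[2,0,2,2,0,1,2]], [[0,2,1,1,1,2,2],[0,1,2,1,1,2,2],[0,2,2,1,1,1,1],[2,1,1,0,0,2,1],[1,2,2,1,1,2,0],[0,1,1,1,2,0,1],[1,2,0,2,0,1,2]], [[1,0,0,0,0,0,0],[1,1,0,0,0,0,0],[1,1,1,0,0,0,0],[0,1,0,1,0,0,0],[0,1,1,2,1,0,0],[0,1,2,0,0,1,0],[1,0,2,0,2,2,1]], [[1,2,2,0,2,2,1],[0,1,1,2,0,0,1],[0,0,1,1,0,0,2],[0,0,0,1,0,2,2],[0,0,0,0,1,0,0],[0,0,0,0,0,1,1],[0,0,0,0,0,0,1]], [[1,0,0,0,0,0,0],[0,1,0,0,0,0,0],[2,1,1,0,0,0,0],[1,2,0,1,0,0,0],[2,2,2,1,1,0,0],[2,1,2,0,2,1,0],[0,0,0,0,1,1,1]]),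
  ([[1,0,1],[2,2],[1],[1]], [[2,1,2,2,0,1,1],[0,1,2,1,1,2,1],[2,2,1,1,2,0,2],[1,0,2,1,1,2,1],[2,0,0,2,0,0,0],[0,0,2,2,2,2,1],[0,2,2,0,1,2,2]], [[2,2,1,1,0,2,0],[2,0,1,0,0,2,0],[0,2,1,2,1,1,1],[1,1,2,2,2,1,0],[1,1,2,1,1,2,0],[0,2,2,0,1,0,0],[2,0,1,2,2,2,1]], [[1,0,0,0,0,0,0],[1,1,0,0,0,0,0],[0,1,1,0,0,0,0],[0,0,1,1,0,0,0],[0,2,2,0,1,0,0],[2,1,1,1,1,1,0],[1,0,1,1,1,2,1]], [[1,1,2,0,0,1,2],[0,1,0,2,0,2,0],[0,0,1,2,1,0,2],[0,0,0,1,1,2,2],[0,0,0,0,1,0,0],[0,0,0,0,0,1,0],[0,0,0,0,0,0,1]], [[1,0,0,0,0,0,0],[0,1,0,0,0,0,0],[2,1,1,0,0,0,0],[0,2,0,1,0,0,0],[2,2,1,2,1,0,0],[2,1,1,0,0,1,0],[2,0,1,0,0,0,1]]),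
  ([[1,0,2],[2,0],[1],[1]], [[0,0,0,1,0,2,1],[1,1,1,1,2,1,0],[2,1,2,1,1,0,2],[1,1,2,1,1,1,1],[2,2,1,0,2,0,1],[2,1,2,2,1,0,1],[0,2,0,2,1,0,0]], [[1,0,1,1,2,0,0],[2,2,2,0,0,0,0],[2,1,1,1,0,1,1],[2,0,0,2,2,0,0],[1,2,2,2,2,0,1],[0,0,1,1,1,2,0],[2,0,1,2,2,2,0]], [[1,0,0,0,0,0,0],[0,1,0,0,0,0,0],[2,2,1,0,0,0,0],[1,2,0,1,0,0,0],[2,2,1,2,1,0,0],[1,0,0,2,2,1,0],[0,1,2,0,2,1,1]], [[1,2,0,0,0,1,1],[0,1,2,1,2,1,0],[0,0,1,2,0,1,1],[0,0,0,1,0,1,2],[0,0,0,0,1,2,2],[0,0,0,0,0,1,2],[0,0,0,0,0,0,1]], [[1,0,0,0,0,0,0],[1,1,0,0,0,0,0],[0,2,1,0,0,0,0],[0,0,2,1,0,0,0],[1,0,2,2,1,0,0],[0,0,2,1,0,1,0],[1,1,1,2,0,2,1]]),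
  ([[1,0,2],[2,1],[1],[1]], [[2,1,2,2,2,1,0],[0,2,2,1,0,2,0],[1,0,1,2,1,1,2],[2,2,2,1,0,1,2],[0,1,0,1,2,0,2],[1,0,2,1,1,1,0],[0,1,1,0,2,2,1]], [[2,0,0,0,2,0,2],[0,2,2,0,2,1,1],[0,0,2,1,2,2,2],[2,2,2,2,2,2,0],[0,2,2,1,0,2,0],[2,2,1,1,1,2,0],[2,2,2,1,0,1,1]], [[1,0,0,0,0,0,0],[0,1,0,0,0,0,0],[1,2,1,0,0,0,0],[2,2,1,1,0,0,0],[0,1,1,0,1,0,0],[2,0,2,0,0,1,0],[0,0,2,0,1,2,1]], [[1,0,0,2,0,1,2],[0,1,1,1,2,0,1],[0,0,1,2,1,0,2],[0,0,0,1,0,1,1],[0,0,0,0,1,2,2],[0,0,0,0,0,1,2],[0,0,0,0,0,0,1]], [[1,0,0,0,0,0,0],[0,1,0,0,0,0,0],[1,0,1,0,0,0,0],[0,2,2,1,0,0,0],[1,0,1,0,1,0,0],[0,0,2,0,0,1,0],[0,2,2,1,0,2,1]]),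
  ([[1,0,2],[2,2],[1],[1]], [[0,2,0,0,1,2,0],[0,2,2,2,0,0,1],[2,0,2,0,2,1,0],[2,2,1,1,1,1,0],[0,0,2,2,0,0,2],[0,2,2,1,0,0,0],[1,0,1,1,0,2,2]], [[2,1,1,2,0,1,1],[0,0,1,1,1,1,2],[0,2,0,0,2,1,0],[0,2,1,1,0,0,2],[0,0,1,2,0,1,0],[2,0,0,1,2,0,1],[0,2,2,2,0,2,1]], [[1,0,0,0,0,0,0],[1,1,0,0,0,0,0],[0,1,1,0,0,0,0],[0,0,0,1,0,0,0],[2,2,1,1,1,0,0],[2,2,0,1,2,1,0],[0,0,0,0,2,0,1]], [[1,1,0,1,1,2,2],[0,1,2,2,2,2,2],[0,0,1,2,0,2,2],[0,0,0,1,1,0,0],[0,0,0,0,1,1,2],[0,0,0,0,0,1,0],[0,0,0,0,0,0,1]], [[1,0,0,0,0,0,0],[2,1,0,0,0,0,0],[0,1,1,0,0,0,0],[2,1,0,1,0,0,0],[2,1,0,0,1,0,0],[0,1,0,2,1,1,0],[0,1,2,0,2,0,1]]),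
  ([[1,1,0],[2,0],[1],[1]], [[0,0,0,1,2,1,2],[1,0,2,2,0,0,0],[1,1,2,2,2,2,1],[2,1,0,2,0,2,1],[0,2,0,0,2,1,0],[1,2,1,2,1,1,2],[0,0,1,2,1,2,0]], [[2,1,1,1,2,0,2],[1,1,0,2,0,1,0],[0,2,2,0,0,2,0],[2,1,2,1,2,1,2],[1,0,2,0,1,1,1],[2,1,2,2,2,2,1],[2,2,2,0,0,2,2]], [[1,0,0,0,0,0,0],[1,1,0,0,0,0,0],[0,0,1,0,0,0,0],[0,0,1,1,0,0,0],[1,0,1,0,1,0,0],[0,2,1,0,0,1,0],[0,2,0,0,0,2,1]], [[1,2,2,2,2,2,2],[0,1,2,1,1,1,1],[0,0,1,0,0,2,2],[0,0,0,1,1,0,2],[0,0,0,0,1,2,1],[0,0,0,0,0,1,1],[0,0,0,0,0,0,1]], [[1,0,0,0,0,0,0],[0,1,0,0,0,0,0],[0,0,1,0,0,0,0],[0,0,0,1,0,0,0],[0,0,0,0,1,0,0],[0,0,0,0,0,1,0],[0,0,0,0,0,0,1]]),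
  ([[1,1,0],[2,1],[1],[1]], [[1,1,0,0,1,1,1],[0,1,1,2,2,2,2],[1,1,1,2,2,2,0],[1,0,1,1,1,0,0],[1,2,2,2,0,1,0],[2,1,2,2,0,0,2],[1,1,0,2,2,2,2]], [[2,1,1,2,2,2,2],[1,0,2,0,0,2,2],[2,2,1,2,2,2,1],[2,2,0,1,1,2,1],[0,1,1,2,1,0,2],[0,0,2,1,2,1,2],[1,1,0,1,1,1,1]], [[1,0,0,0,0,0,0],[0,1,0,0,0,0,0],[0,2,1,0,0,0,0],[1,0,2,1,0,0,0],[2,0,2,0,1,0,0],[1,2,0,0,1,1,0],[2,2,2,2,2,0,1]], [[1,1,0,2,1,2,0],[0,1,2,0,1,1,2],[0,0,1,1,0,2,2],[0,0,0,1,1,2,0],[0,0,0,0,1,1,1],[0,0,0,0,0,1,0],[0,0,0,0,0,0,1]], [[1,0,0,0,0,0,0],[0,1,0,0,0,0,0],[2,0,1,0,0,0,0],[1,1,0,1,0,0,0],[1,0,2,0,1,0,0],[0,1,2,2,0,1,0],[0,1,0,2,0,0,1]]),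
  ([[1,1,0],[2,2],[1],[1]], [[1,2,0,1,0,0,2],[2,2,0,0,1,0,1],[1,1,1,1,0,1,0],[1,2,0,1,0,2,0],[1,2,1,2,2,0,0],[1,0,2,2,2,0,0],[2,1,1,1,1,2,1]], [[2,1,0,2,2,0,1],[1,0,0,2,0,1,1],[2,0,0,1,2,0,2],[0,2,2,1,0,0,1],[0,2,1,0,0,2,1],[1,0,2,0,2,2,1],[0,0,2,1,2,2,1]], [[1,0,0,0,0,0,0],[0,1,0,0,0,0,0],[0,1,1,0,0,0,0],[1,0,0,1,0,0,0],[0,0,0,2,1,0,0],[2,0,2,2,0,1,0],[1,1,0,0,0,1,1]], [[1,1,1,2,2,0,2],[0,1,0,1,2,1,1],[0,0,1,2,1,1,0],[0,0,0,1,0,0,2],[0,0,0,0,1,2,0],[0,0,0,0,0,1,1],[0,0,0,0,0,0,1]], [[1,0,0,0,0,0,0],[0,1,0,0,0,0,0],[0,1,1,0,0,0,0],[0,1,0,1,0,0,0],[0,0,1,2,1,0,0],[1,0,0,0,2,1,0],[1,0,0,0,1,1,1]]),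
  ([[1,1,1],[2,0],[1],[1]], [[0,0,0,2,1,2,2],[1,1,1,2,0,2,2],[0,0,0,1,1,0,2],[0,1,2,2,0,2,2],[2,2,0,2,1,1,0],[1,2,0,0,0,0,1],[1,1,0,2,2,1,1]], [[0,2,2,2,1,0,0],[2,2,0,2,2,2,1],[0,1,2,0,1,0,0],[2,2,1,2,0,1,0],[0,1,1,1,1,2,1],[1,2,2,2,0,1,0],[2,0,1,0,1,0,1]], [[1,0,0,0,0,0,0],[2,1,0,0,0,0,0],[2,0,1,0,0,0,0],[1,0,1,1,0,0,0],[0,2,0,1,1,0,0],[0,1,1,2,2,1,0],[0,0,2,1,1,1,1]], [[1,2,1,0,2,1,1],[0,1,1,1,2,0,1],[0,0,1,0,1,0,2],[0,0,0,1,0,1,1],[0,0,0,0,1,2,1],[0,0,0,0,0,1,2],[0,0,0,0,0,0,1]], [[1,0,0,0,0,0,0],[2,1,0,0,0,0,0],[0,2,1,0,0,0,0],[1,2,1,1,0,0,0],[2,1,1,0,1,0,0],[1,1,0,2,2,1,0],[1,0,1,0,0,2,1]]),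
  ([[1,1,1],[2,1],[1],[1]], [[2,2,0,1,0,2,1],[2,1,2,2,0,1,0],[0,1,1,2,2,0,0],[2,1,0,1,0,0,2],[2,1,0,0,1,0,1],[2,2,2,1,1,2,1],[0,0,0,1,0,0,0]], [[2,1,0,2,1,2,1],[2,0,1,0,0,1,1],[1,2,1,2,0,1,2],[0,0,0,0,0,0,1],[0,2,1,2,0,2,2],[1,1,0,1,1,2,0],[0,2,1,0,2,2,1]], [[1,0,0,0,0,0,0],[1,1,0,0,0,0,0],[1,2,1,0,0,0,0],[0,2,2,1,0,0,0],[1,0,2,0,1,0,0],[0,1,1,2,2,1,0],[0,0,1,1,0,0,1]], [[1,0,2,2,1,0,0],[0,1,0,2,0,2,1],[0,0,1,1,2,1,2],[0,0,0,1,0,0,1],[0,0,0,0,1,0,0],[0,0,0,0,0,1,0],[0,0,0,0,0,0,1]], [[1,0,0,0,0,0,0],[1,1,0,0,0,0,0],[2,1,1,0,0,0,0],[1,0,2,1,0,0,0],[2,0,2,2,1,0,0],[2,1,2,1,0,1,0],[0,2,1,2,1,2,1]]),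
  ([[1,1,1],[2,2],[1],[1]], [[1,1,0,0,2,0,0],[0,1,2,1,1,2,1],[1,1,0,0,0,2,0],[2,0,2,0,2,0,1],[0,1,0,0,2,2,2],[2,1,1,1,0,2,0],[2,2,0,1,1,0,0]], [[2,2,0,0,2,2,2],[0,0,1,1,1,1,2],[0,1,2,0,1,2,0],[1,0,0,0,0,0,1],[1,2,1,1,0,0,1],[2,2,0,1,0,0,1],[0,2,0,2,0,1,0]], [[1,0,0,0,0,0,0],[0,1,0,0,0,0,0],[1,0,1,0,0,0,0],[2,0,1,1,0,0,0],[0,2,0,2,1,0,0],[0,2,0,1,0,1,0],[1,2,0,1,1,0,1]], [[1,0,2,2,0,1,2],[0,1,1,2,0,1,0],[0,0,1,0,2,0,1],[0,0,0,1,1,1,2],[0,0,0,0,1,2,0],[0,0,0,0,0,1,2],[0,0,0,0,0,0,1]], [[1,0,0,0,0,0,0],[0,1,0,0,0,0,0],[0,0,1,0,0,0,0],[0,1,2,1,0,0,0],[0,2,0,1,1,0,0],[2,1,0,0,1,1,0],[0,1,2,0,2,0,1]]),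
  ([[1,1,2],[2,0],[1],[1]], [[2,0,1,1,1,2,1],[1,1,2,0,1,2,0],[0,0,0,2,0,2,1],[0,0,2,1,1,1,1],[2,2,0,0,1,1,1],[0,1,1,1,2,2,2],[2,2,0,0,2,1,1]], [[1,1,0,1,0,1,2],[1,0,2,1,0,0,2],[0,1,1,1,1,0,0],[1,0,2,0,0,2,2],[0,0,0,0,2,0,1],[2,2,1,1,1,1,2],[0,2,1,1,1,0,1]], [[1,0,0,0,0,0,0],[2,1,0,0,0,0,0],[0,1,1,0,0,0,0],[0,2,0,1,0,0,0],[2,1,2,2,1,0,0],[2,2,0,0,0,1,0],[2,0,0,2,2,2,1]], [[1,2,0,2,2,0,0],[0,1,2,2,1,1,2],[0,0,1,0,1,0,0],[0,0,0,1,0,2,0],[0,0,0,0,1,1,0],[0,0,0,0,0,1,2],[0,0,0,0,0,0,1]], [[1,0,0,0,0,0,0],[2,1,0,0,0,0,0],[0,2,1,0,0,0,0],[0,1,1,1,0,0,0],[1,2,1,0,1,0,0],[2,1,0,0,0,1,0],[2,1,2,1,1,0,1]]),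
  ([[1,1,2],[2,1],[1],[1]], [[1,2,2,1,2,0,1],[0,1,0,2,1,0,0],[0,1,2,1,0,1,1],[1,0,2,0,2,0,2],[2,0,0,0,1,0,0],[0,2,0,1,2,0,1],[2,0,1,2,1,0,0]], [[1,2,0,2,2,1,0],[2,1,0,0,0,1,2],[0,2,0,2,2,2,0],[0,2,0,2,0,2,2],[1,2,0,2,0,1,0],[1,1,1,0,2,1,2],[0,1,0,0,0,1,0]], [[1,0,0,0,0,0,0],[2,1,0,0,0,0,0],[2,2,1,0,0,0,0],[2,2,2,1,0,0,0],[0,0,0,2,1,0,0],[1,0,2,1,0,1,0],[0,0,1,1,0,1,1]], [[1,1,2,0,2,0,0],[0,1,1,1,1,0,0],[0,0,1,0,2,1,2],[0,0,0,1,0,2,0],[0,0,0,0,1,1,2],[0,0,0,0,0,1,1],[0,0,0,0,0,0,1]], [[1,0,0,0,0,0,0],[2,1,0,0,0,0,0],[0,2,1,0,0,0,0],[2,0,1,1,0,0,0],[0,1,2,1,1,0,0],[2,0,2,1,2,1,0],[0,1,1,1,0,1,1]]),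
  ([[1,1,2],[2,2],[1],[1]], [[0,2,0,1,0,1,2],[0,0,2,1,1,2,0],[1,2,2,1,2,1,2],[1,0,2,2,0,0,0],[1,0,0,2,0,0,1],[1,2,1,2,1,1,2],[2,0,1,0,0,0,2]], [[1,0,1,2,2,1,2],[0,2,2,2,2,0,0],[2,0,2,2,0,2,0],[2,0,2,2,2,2,2],[0,0,1,0,2,2,2],[0,2,1,0,1,2,1],[1,0,1,0,1,1,0]], [[1,0,0,0,0,0,0],[2,1,0,0,0,0,0],[1,2,1,0,0,0,0],[0,1,2,1,0,0,0],[0,1,0,1,1,0,0],[0,0,0,1,0,1,0],[2,0,0,0,1,2,1]], [[1,2,1,0,2,0,1],[0,1,1,1,0,2,1],[0,0,1,1,2,2,1],[0,0,0,1,1,1,2],[0,0,0,0,1,1,1],[0,0,0,0,0,1,1],[0,0,0,0,0,0,1]], [[1,0,0,0,0,0,0],[1,1,0,0,0,0,0],[2,1,1,0,0,0,0],[2,2,0,1,0,0,0],[1,0,0,1,1,0,0],[2,0,2,2,1,1,0],[1,0,0,2,1,2,1]]),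
  ([[1,2,0],[2,0],[1],[1]], [[0,0,1,1,0,1,2],[0,2,1,0,0,2,2],[0,0,0,0,1,1,2],[1,2,2,2,0,1,1],[0,0,2,0,0,0,2],[1,0,2,2,2,1,0],[1,2,1,1,0,1,1]], [[1,1,2,2,1,2,0],[2,2,0,1,2,0,2],[0,1,1,2,0,1,0],[0,2,2,2,0,2,2],[2,0,1,1,0,0,2],[1,2,2,0,2,2,1],[0,2,2,1,2,2,0]], [[1,0,0,0,0,0,0],[1,1,0,0,0,0,0],[2,2,1,0,0,0,0],[0,1,2,1,0,0,0],[2,2,2,1,1,0,0],[2,0,0,0,2,1,0],[1,2,1,2,0,1,1]], [[1,2,0,2,0,1,1],[0,1,1,0,1,0,0],[0,0,1,1,1,2,0],[0,0,0,1,0,0,2],[0,0,0,0,1,2,2],[0,0,0,0,0,1,0],[0,0,0,0,0,0,1]], [[1,0,0,0,0,0,0],[1,1,0,0,0,0,0],[0,2,1,0,0,0,0],[1,0,1,1,0,0,0],[0,2,2,1,1,0,0],[0,0,1,0,2,1,0],[2,0,0,2,2,0,1]]),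
  ([[1,2,0],[2,1],[1],[1]], [[0,1,0,1,1,0,0],[2,0,1,2,2,2,1],[2,2,0,0,1,0,0],[2,2,1,1,1,2,0],[0,0,2,0,0,2,2],[2,2,1,2,1,2,0],[2,0,1,1,0,2,0]], [[0,0,2,1,0,0,2],[2,0,0,0,0,1,2],[2,1,1,0,1,1,0],[0,0,0,2,0,1,0],[2,0,0,1,0,1,1],[2,1,2,1,1,2,0],[2,1,0,2,0,0,0]], [[1,0,0,0,0,0,0],[2,1,0,0,0,0,0],[2,1,1,0,0,0,0],[2,2,1,1,0,0,0],[2,2,1,0,1,0,0],[0,2,0,2,1,1,0],[1,2,2,0,1,2,1]], [[1,1,0,2,1,0,2],[0,1,0,2,2,0,0],[0,0,1,2,0,2,2],[0,0,0,1,1,2,2],[0,0,0,0,1,1,2],[0,0,0,0,0,1,0],[0,0,0,0,0,0,1]], [[1,0,0,0,0,0,0],[2,1,0,0,0,0,0],[0,1,1,0,0,0,0],[1,0,1,1,0,0,0],[2,0,1,0,1,0,0],[0,1,1,1,2,1,0],[1,0,0,1,1,1,1]]),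
  ([[1,2,0],[2,2],[1],[1]], [[2,1,1,0,0,2,2],[2,0,2,0,1,0,2],[1,2,0,2,1,0,2],[0,1,1,1,2,1,1],[1,0,0,0,1,1,2],[2,1,0,0,0,0,2],[2,2,0,1,2,0,1]], [[0,2,2,2,1,0,0],[0,0,1,0,0,0,1],[2,2,1,1,1,1,0],[2,1,0,2,0,1,2],[2,0,2,1,1,0,1],[1,2,1,1,1,2,0],[0,1,2,1,2,2,1]], [[1,0,0,0,0,0,0],[1,1,0,0,0,0,0],[1,1,1,0,0,0,0],[1,0,0,1,0,0,0],[1,0,1,1,1,0,0],[0,2,2,2,0,1,0],[2,0,2,0,2,1,1]], [[1,2,0,2,2,1,0],[0,1,1,1,1,2,2],[0,0,1,2,1,1,0],[0,0,0,1,0,0,0],[0,0,0,0,1,0,1],[0,0,0,0,0,1,0],[0,0,0,0,0,0,1]], [[1,0,0,0,0,0,0],[1,1,0,0,0,0,0],[2,1,1,0,0,0,0],[2,1,1,1,0,0,0],[2,1,0,2,1,0,0],[0,0,0,1,2,1,0],[0,1,0,0,2,2,1]]),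
  ([[1,2,1],[2,0],[1],[1]], [[2,1,1,2,1,1,2],[0,2,1,0,0,1,2],[1,0,0,2,0,1,2],[0,2,2,2,2,0,1],[2,0,2,0,2,0,2],[0,2,1,0,2,0,1],[0,1,2,1,2,1,2]], [[1,2,2,1,0,2,1],[0,2,2,0,2,2,2],[2,1,0,1,1,0,0],[2,1,0,0,1,1,0],[1,1,1,1,0,2,0],[0,1,2,2,2,1,1],[2,2,0,0,1,2,2]], [[1,0,0,0,0,0,0],[1,1,0,0,0,0,0],[1,1,1,0,0,0,0],[2,2,0,1,0,0,0],[1,0,2,2,1,0,0],[0,0,0,0,2,1,0],[2,1,2,1,1,2,1]], [[1,0,0,1,2,1,1],[0,1,2,1,2,0,1],[0,0,1,2,2,1,2],[0,0,0,1,1,2,1],[0,0,0,0,1,0,2],[0,0,0,0,0,1,0],[0,0,0,0,0,0,1]], [[1,0,0,0,0,0,0],[0,1,0,0,0,0,0],[0,0,1,0,0,0,0],[2,1,0,1,0,0,0],[2,2,1,2,1,0,0],[2,0,1,0,0,1,0],[0,1,2,2,2,0,1]]),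
  ([[1,2,1],[2,1],[1],[1]], [[1,1,1,0,1,0,2],[2,1,2,1,0,0,2],[2,0,2,0,2,2,0],[1,0,2,1,2,1,0],[0,2,1,1,0,1,1],[1,1,1,2,2,1,1],[1,2,1,0,1,1,0]], [[0,1,2,1,1,0,0],[0,0,2,0,0,0,2],[2,1,1,0,1,2,1],[2,2,0,0,0,1,2],[2,0,0,1,2,0,0],[2,1,2,1,2,1,2],[0,2,2,2,1,2,0]], [[1,0,0,0,0,0,0],[1,1,0,0,0,0,0],[0,0,1,0,0,0,0],[1,2,0,1,0,0,0],[1,2,2,1,1,0,0],[2,2,1,2,0,1,0],[2,0,2,2,0,0,1]], [[1,2,0,2,0,2,2],[0,1,2,1,1,1,1],[0,0,1,0,1,2,1],[0,0,0,1,0,2,2],[0,0,0,0,1,2,0],[0,0,0,0,0,1,0],[0,0,0,0,0,0,1]], [[1,0,0,0,0,0,0],[1,1,0,0,0,0,0],[1,2,1,0,0,0,0],[2,0,1,1,0,0,0],[1,2,0,1,1,0,0],[0,2,1,2,1,1,0],[0,1,0,0,0,1,1]]),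
  ([[1,2,1],[2,2],[1],[1]], [[2,1,0,0,2,1,1],[1,1,0,1,1,2,2],[1,0,0,1,1,2,2],[2,0,1,0,2,0,0],[2,1,0,1,0,2,2],[1,0,1,1,2,1,1],[0,2,2,1,1,1,0]], [[1,1,0,2,1,1,0],[0,1,2,0,0,0,0],[2,0,0,2,1,2,0],[1,2,2,0,0,0,0],[1,2,0,2,0,1,0],[0,0,0,0,1,1,1],[0,2,1,1,0,1,2]], [[1,0,0,0,0,0,0],[0,1,0,0,0,0,0],[2,1,1,0,0,0,0],[0,2,0,1,0,0,0],[1,1,2,1,1,0,0],[2,0,1,2,0,1,0],[1,0,0,2,2,2,1]], [[1,1,0,2,2,0,0],[0,1,1,0,1,1,0],[0,0,1,1,2,2,0],[0,0,0,1,1,1,0],[0,0,0,0,1,1,2],[0,0,0,0,0,1,1],[0,0,0,0,0,0,1]], [[1,0,0,0,0,0,0],[1,1,0,0,0,0,0],[2,1,1,0,0,0,0],[1,1,2,1,0,0,0],[1,0,2,2,1,0,0],[0,1,1,0,0,1,0],[2,0,2,0,0,0,1]]),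
  ([[1,2,2],[2,0],[1],[1]], [[2,0,0,0,1,0,1],[1,1,1,2,1,0,1],[0,1,1,1,1,2,2],[0,2,0,1,1,1,2],[1,0,2,0,1,2,1],[2,0,0,2,0,2,0],[2,2,1,1,2,1,0]], [[0,1,1,2,2,2,0],[1,2,1,2,0,1,0],[2,0,0,2,0,0,1],[1,0,0,2,1,2,1],[1,2,0,2,2,0,0],[2,2,2,2,0,1,2],[0,2,1,0,0,2,0]], [[1,0,0,0,0,0,0],[1,1,0,0,0,0,0],[0,2,1,0,0,0,0],[1,0,0,1,0,0,0],[2,2,0,2,1,0,0],[0,2,2,1,1,1,0],[2,2,2,1,2,0,1]], [[1,1,0,0,0,1,0],[0,1,1,0,1,0,0],[0,0,1,2,1,2,2],[0,0,0,1,0,2,0],[0,0,0,0,1,2,1],[0,0,0,0,0,1,1],[0,0,0,0,0,0,1]], [[1,0,0,0,0,0,0],[2,1,0,0,0,0,0],[2,0,1,0,0,0,0],[1,1,0,1,0,0,0],[0,0,2,1,1,0,0],[2,0,1,0,0,1,0],[1,1,1,2,0,2,1]]),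
  ([[1,2,2],[2,1],[1],[1]], [[2,1,2,0,1,1,0],[0,1,1,1,2,0,1],[1,1,0,2,2,0,1],[1,1,2,1,2,0,2],[1,2,2,1,0,1,2],[2,2,0,1,1,2,0],[1,2,2,2,2,0,1]], [[2,1,2,2,2,1,1],[0,2,0,0,2,2,0],[0,2,1,0,2,2,2],[1,0,0,1,0,1,1],[2,2,1,0,0,2,0],[1,2,2,2,2,2,0],[1,2,0,2,2,0,0]], [[1,0,0,0,0,0,0],[0,1,0,0,0,0,0],[2,1,1,0,0,0,0],[0,2,1,1,0,0,0],[2,1,2,0,1,0,0],[1,1,2,1,2,1,0],[1,0,1,2,1,1,1]], [[1,2,2,0,1,1,0],[0,1,0,2,2,0,0],[0,0,1,2,1,2,1],[0,0,0,1,1,2,2],[0,0,0,0,1,1,2],[0,0,0,0,0,1,2],[0,0,0,0,0,0,1]], [[1,0,0,0,0,0,0],[1,1,0,0,0,0,0],[0,2,1,0,0,0,0],[2,0,0,1,0,0,0],[2,1,1,0,1,0,0],[0,1,2,0,2,1,0],[1,2,2,1,0,2,1]]),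
  ([[1,2,2],[2,2],[1],[1]], [[2,2,0,0,0,2,2],[1,1,1,1,1,2,1],[0,1,2,1,2,1,2],[2,1,2,0,0,2,1],[2,0,0,0,1,1,0],[0,1,2,2,1,2,0],[0,0,1,2,0,0,0]], [[0,1,2,1,2,2,1],[1,0,2,0,2,0,2],[2,0,2,1,0,2,0],[2,0,2,1,0,2,2],[0,2,2,0,2,2,2],[0,2,0,1,1,0,2],[1,0,2,1,1,1,1]], [[1,0,0,0,0,0,0],[1,1,0,0,0,0,0],[2,1,1,0,0,0,0],[0,1,0,1,0,0,0],[0,0,0,1,1,0,0],[0,0,2,1,2,1,0],[2,2,1,2,2,0,1]], [[1,1,0,2,2,0,0],[0,1,0,0,0,2,1],[0,0,1,0,2,1,1],[0,0,0,1,0,1,0],[0,0,0,0,1,2,2],[0,0,0,0,0,1,0],[0,0,0,0,0,0,1]], [[1,0,0,0,0,0,0],[1,1,0,0,0,0,0],[1,1,1,0,0,0,0],[0,1,0,1,0,0,0],[1,2,2,1,1,0,0],[1,2,2,0,2,1,0],[1,0,2,2,1,1,1]])]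

theorem pmmp7_ok : tblOk 3 [g7p] pmmp7 = true := by decide +kernel

theorem pmmp7_keys : keys pmmp7 = (((detV 3 4 2).flatMap fun a => (detV 3 1 2).map fun b => [a, b, [1], [1]]) ++ ((detV 3 3 2).flatMap fun a => (detV 3 2 2).map fun b => [a, b, [1], [1]])) := by decide +kernel

def sjm5 : Tbl :=
  [([[2,0,0],[1,1]], [[0,2,0,0,1],[1,1,0,0,2],[0,1,2,0,2],[0,1,0,2,2],[0,2,1,1,2]], [[1,1,0,0,0],[0,0,1,1,1],[2,0,2,0,0],[2,0,0,2,0],[1,0,1,1,1]], [[1,0,0,0,0],[0,1,0,0,0],[1,0,1,0,0],[0,2,0,1,0],[1,1,2,2,1]], [[1,1,0,0,0],[0,1,1,1,2],[0,0,1,0,1],[0,0,0,1,2],[0,0,0,0,1]], [[1,0,0,0,0],[0,1,0,0,0],[0,0,1,0,0],[0,0,0,1,0],[0,0,0,0,1]]),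
  ([[2,0,1],[1,1]], [[1,2,0,0,2],[0,0,2,0,0],[2,0,1,0,1],[2,1,1,2,1],[1,2,0,2,0]], [[1,1,2,2,1],[2,2,2,0,0],[0,2,0,0,0],[2,2,0,2,0],[1,2,0,2,1]], [[1,0,0,0,0],[2,1,0,0,0],[1,1,1,0,0],[1,0,1,1,0],[1,0,0,1,1]], [[1,1,0,1,0],[0,1,1,0,1],[0,0,1,2,2],[0,0,0,1,0],[0,0,0,0,1]], [[1,0,0,0,0],[0,1,0,0,0],[0,0,1,0,0],[0,0,0,1,0],[0,0,0,0,1]]),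
  ([[2,0,2],[1,1]], [[0,1,0,1,0],[0,1,0,1,2],[1,0,2,0,2],[0,0,2,2,0],[2,2,2,1,2]], [[1,1,0,1,2],[1,2,2,2,2],[0,2,2,1,2],[0,1,1,1,1],[1,2,0,0,0]], [[1,0,0,0,0],[2,1,0,0,0],[1,1,1,0,0],[1,2,1,1,0],[2,0,2,0,1]], [[1,1,0,1,2],[0,1,1,2,0],[0,0,1,1,0],[0,0,0,1,2],[0,0,0,0,1]], [[1,0,0,0,0],[0,1,0,0,0],[0,0,1,0,0],[0,0,0,1,0],[0,0,0,0,1]]),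
  ([[2,1,0],[1,1]], [[2,0,1,1,2],[2,1,2,0,0],[0,1,0,2,1],[2,2,1,0,1],[2,2,2,2,0]], [[0,0,2,1,1],[2,2,1,1,1],[2,1,2,0,0],[2,0,1,1,0],[0,1,1,0,2]], [[1,0,0,0,0],[0,1,0,0,0],[2,1,1,0,0],[0,1,1,1,0],[1,2,1,1,1]], [[1,0,0,0,2],[0,1,1,0,2],[0,0,1,0,2],[0,0,0,1,2],[0,0,0,0,1]], [[1,0,0,0,0],[0,1,0,0,0],[0,0,1,0,0],[0,0,0,1,0],[0,0,0,0,1]]),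
  ([[2,1,1],[1,1]], [[2,0,2,2,0],[0,0,1,2,1],[1,0,1,0,2],[1,2,0,1,1],[0,1,0,2,1]], [[1,2,2,0,0],[0,2,1,2,0],[0,0,1,2,2],[1,1,0,1,1],[1,2,2,2,2]], [[1,0,0,0,0],[1,1,0,0,0],[0,2,1,0,0],[0,2,1,1,0],[1,1,0,1,1]], [[1,1,0,2,2],[0,1,0,0,2],[0,0,1,0,1],[0,0,0,1,1],[0,0,0,0,1]], [[1,0,0,0,0],[0,1,0,0,0],[0,0,1,0,0],[0,0,0,1,0],[0,0,0,0,1]]),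
  ([[2,1,2],[1,1]], [[1,2,0,2,0],[2,0,0,1,0],[2,0,2,0,0],[0,0,2,1,2],[2,0,2,1,2]], [[0,0,0,1,2],[2,2,0,0,0],[0,0,2,2,1],[0,1,0,1,2],[0,1,1,1,1]], [[1,0,0,0,0],[0,1,0,0,0],[0,2,1,0,0],[0,1,2,1,0],[1,0,1,0,1]], [[1,2,0,0,0],[0,1,2,0,0],[0,0,1,1,1],[0,0,0,1,2],[0,0,0,0,1]], [[1,0,0,0,0],[0,1,0,0,0],[0,0,1,0,0],[0,0,0,1,0],[0,0,0,0,1]]),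
  ([[2,2,0],[1,1]], [[1,0,2,1,1],[1,0,1,1,0],[2,0,2,0,0],[2,2,0,1,1],[1,0,1,2,2]], [[2,0,0,0,2],[1,0,2,2,0],[1,0,2,0,1],[0,1,1,0,0],[0,2,1,0,2]], [[1,0,0,0,0],[1,1,0,0,0],[2,0,1,0,0],[1,1,0,1,0],[2,2,2,0,1]], [[1,1,0,0,1],[0,1,1,1,2],[0,0,1,0,1],[0,0,0,1,0],[0,0,0,0,1]], [[1,0,0,0,0],[0,1,0,0,0],[0,0,1,0,0],[0,0,0,1,0],[0,0,0,0,1]]),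
  ([[2,2,1],[1,1]], [[1,1,0,0,1],[2,1,1,0,0],[2,2,2,1,0],[0,1,1,0,1],[2,1,0,2,1]], [[1,2,2,0,2],[1,1,0,2,0],[0,2,2,1,2],[2,2,2,0,1],[2,0,1,1,1]], [[1,0,0,0,0],[0,1,0,0,0],[0,0,1,0,0],[1,1,2,1,0],[1,0,2,1,1]], [[1,2,0,0,1],[0,1,2,1,1],[0,0,1,1,1],[0,0,0,1,1],[0,0,0,0,1]], [[1,0,0,0,0],[0,1,0,0,0],[0,0,1,0,0],[0,0,0,1,0],[0,0,0,0,1]]),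
  ([[2,2,2],[1,1]], [[1,2,2,2,0],[0,0,1,0,2],[2,2,2,1,0],[2,1,0,1,0],[0,1,1,1,0]], [[1,0,0,0,1],[2,0,1,1,0],[2,0,0,2,0],[2,0,2,0,1],[2,2,0,2,0]], [[1,0,0,0,0],[0,1,0,0,0],[2,0,1,0,0],[0,2,0,1,0],[0,2,1,2,1]], [[1,1,2,0,2],[0,1,2,0,2],[0,0,1,0,0],[0,0,0,1,0],[0,0,0,0,1]], [[1,0,0,0,0],[0,1,0,0,0],[0,0,1,0,0],[0,0,0,1,0],[0,0,0,0,1]])]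

theorem sjm5_ok : tblOk 3 [g5m] sjm5 = true := by decide +kernel

theorem sjm5_keys : keys sjm5 = ((detV 3 3 1).map fun a => [a, [1, 1]]) := by decide +kernel

def sjm6 : Tbl :=
  [([[1,0,0,0],[1,1]], [[0,1,2,0,1,0],[1,2,2,2,2,1],[2,2,2,2,0,2],[1,0,2,1,2,0],[2,0,2,0,0,1],[0,2,2,1,2,2]], [[2,2,1,1,1,2],[2,1,0,1,2,0],[0,1,1,1,1,1],[0,2,1,1,2,0],[2,0,1,0,2,1],[2,0,2,2,0,0]], [[1,0,0,0,0,0],[1,1,0,0,0,0],[1,0,1,0,0,0],[1,1,0,1,0,0],[2,2,2,2,1,0],[2,1,2,1,0,1]], [[1,1,0,1,2,2],[0,1,0,2,0,0],[0,0,1,1,2,0],[0,0,0,1,1,1],[0,0,0,0,1,2],[0,0,0,0,0,1]], [[1,0,0,0,0,0],[2,1,0,0,0,0],[0,1,1,0,0,0],[1,0,2,1,0,0],[0,1,2,2,1,0],[0,2,2,2,1,1]]),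
  ([[1,0,0,1],[1,1]], [[1,1,2,1,0,1],[1,0,0,1,1,0],[1,2,2,0,1,2],[1,0,0,0,0,0],[2,0,1,2,1,2],[1,1,1,2,0,1]], [[0,0,0,1,0,0],[1,1,1,0,1,1],[1,2,1,2,0,0],[0,2,1,2,0,1],[0,2,2,0,0,2],[1,2,2,2,2,1]], [[1,0,0,0,0,0],[0,1,0,0,0,0],[1,1,1,0,0,0],[2,1,0,1,0,0],[2,2,0,1,1,0],[2,2,2,1,0,1]], [[1,0,2,2,2,2],[0,1,2,0,1,1],[0,0,1,2,1,0],[0,0,0,1,2,0],[0,0,0,0,1,0],[0,0,0,0,0,1]], [[1,0,0,0,0,0],[0,1,0,0,0,0],[2,0,1,0,0,0],[2,2,1,1,0,0],[1,0,1,2,1,0],[2,0,2,2,1,1]]),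
  ([[1,0,0,2],[1,1]], [[1,1,0,1,1,2],[1,1,2,2,2,1],[0,1,0,1,0,0],[2,1,1,2,1,1],[0,1,1,0,0,1],[1,2,0,0,0,2]], [[1,0,1,2,1,2],[2,2,0,0,2,2],[2,0,2,1,0,2],[1,1,1,0,1,1],[2,1,2,0,1,0],[2,1,1,2,2,2]], [[1,0,0,0,0,0],[1,1,0,0,0,0],[1,1,1,0,0,0],[2,2,1,1,0,0],[2,2,0,1,1,0],[2,1,1,1,0,1]], [[1,0,1,2,2,0],[0,1,2,1,0,2],[0,0,1,0,2,0],[0,0,0,1,2,1],[0,0,0,0,1,1],[0,0,0,0,0,1]], [[1,0,0,0,0,0],[2,1,0,0,0,0],[2,2,1,0,0,0],[0,2,2,1,0,0],[1,1,1,2,1,0],[1,2,2,0,0,1]]),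
  ([[1,0,1,0],[1,1]], [[2,1,0,2,0,2],[1,1,0,0,0,0],[2,2,0,2,0,2],[0,2,0,2,2,2],[1,0,1,1,1,1],[0,2,0,2,2,1]], [[1,1,2,0,0,0],[2,0,1,0,0,0],[1,2,2,1,1,0],[0,2,2,2,0,1],[1,1,0,2,0,0],[0,0,0,1,0,2]], [[1,0,0,0,0,0],[2,1,0,0,0,0],[0,1,1,0,0,0],[0,2,1,1,0,0],[1,0,0,0,1,0],[2,1,0,0,0,1]], [[1,1,0,2,1,0],[0,1,1,1,2,0],[0,0,1,2,2,2],[0,0,0,1,1,0],[0,0,0,0,1,0],[0,0,0,0,0,1]], [[1,0,0,0,0,0],[0,1,0,0,0,0],[2,0,1,0,0,0],[0,0,0,1,0,0],[2,2,0,2,1,0],[0,1,2,2,0,1]]),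
  ([[1,0,1,1],[1,1]], [[2,0,1,1,2,0],[2,0,0,1,0,1],[2,1,0,1,0,0],[1,1,1,1,1,1],[1,1,0,0,2,1],[2,1,1,1,2,1]], [[2,0,0,1,2,0],[1,1,2,0,0,2],[0,1,1,1,1,0],[1,2,2,1,2,1],[1,0,0,1,1,1],[1,2,1,0,0,2]], [[1,0,0,0,0,0],[1,1,0,0,0,0],[0,2,1,0,0,0],[1,1,2,1,0,0],[1,1,1,0,1,0],[2,0,0,2,0,1]], [[1,1,2,1,1,0],[0,1,1,2,2,2],[0,0,1,2,2,2],[0,0,0,1,1,1],[0,0,0,0,1,2],[0,0,0,0,0,1]], [[1,0,0,0,0,0],[0,1,0,0,0,0],[1,2,1,0,0,0],[1,0,2,1,0,0],[0,0,2,0,1,0],[0,2,0,0,0,1]]),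
  ([[1,0,1,2],[1,1]], [[2,0,2,1,0,2],[1,1,1,1,1,1],[2,2,2,0,0,2],[0,2,2,1,1,1],[0,2,1,2,0,1],[2,2,1,1,2,1]], [[0,2,2,0,1,2],[2,1,1,0,1,1],[1,0,1,1,0,1],[2,2,1,0,2,2],[1,2,0,0,1,1],[0,0,1,2,1,2]], [[1,0,0,0,0,0],[2,1,0,0,0,0],[0,1,1,0,0,0],[1,2,2,1,0,0],[2,0,1,0,1,0],[2,2,1,0,0,1]], [[1,2,2,0,1,1],[0,1,0,2,0,2],[0,0,1,0,1,0],[0,0,0,1,1,2],[0,0,0,0,1,1],[0,0,0,0,0,1]], [[1,0,0,0,0,0],[1,1,0,0,0,0],[1,2,1,0,0,0],[0,2,1,1,0,0],[0,2,1,2,1,0],[0,0,2,1,1,1]]),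
  ([[1,0,2,0],[1,1]], [[0,2,2,1,1,2],[2,0,2,2,2,2],[1,0,2,0,0,0],[1,1,0,2,0,0],[1,2,2,2,0,1],[1,1,2,2,2,2]], [[2,1,1,2,1,1],[2,0,1,2,1,2],[2,1,0,2,1,1],[1,1,2,0,2,0],[1,1,1,0,1,2],[0,1,2,2,1,2]], [[1,0,0,0,0,0],[2,1,0,0,0,0],[1,0,1,0,0,0],[2,0,1,1,0,0],[1,1,1,2,1,0],[0,2,0,1,2,1]], [[1,0,1,2,2,0],[0,1,2,1,1,0],[0,0,1,1,1,2],[0,0,0,1,2,1],[0,0,0,0,1,1],[0,0,0,0,0,1]], [[1,0,0,0,0,0],[0,1,0,0,0,0],[0,0,1,0,0,0],[0,0,0,1,0,0],[0,0,0,0,1,0],[0,0,0,0,0,1]]),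
  ([[1,0,2,1],[1,1]], [[1,1,1,0,1,0],[0,2,2,1,2,0],[2,2,1,0,1,0],[0,1,0,2,1,1],[1,1,1,2,1,0],[2,1,0,2,2,0]], [[0,1,0,0,1,0],[2,2,1,0,2,0],[1,2,1,0,1,1],[1,0,0,0,2,0],[1,1,1,0,2,2],[1,0,1,1,1,1]], [[1,0,0,0,0,0],[2,1,0,0,0,0],[0,2,1,0,0,0],[1,0,2,1,0,0],[2,2,2,1,1,0],[0,2,0,2,2,1]], [[1,1,0,2,0,0],[0,1,0,0,2,0],[0,0,1,1,1,1],[0,0,0,1,0,1],[0,0,0,0,1,1],[0,0,0,0,0,1]], [[1,0,0,0,0,0],[2,1,0,0,0,0],[1,0,1,0,0,0],[2,1,1,1,0,0],[0,2,1,2,1,0],[0,0,2,2,0,1]]),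
  ([[1,0,2,2],[1,1]], [[0,2,1,2,0,1],[0,1,2,1,2,1],[1,2,2,2,1,0],[2,0,0,0,0,0],[2,2,1,1,1,1],[0,2,1,0,2,2]], [[0,0,0,2,0,0],[0,2,1,2,2,1],[2,1,1,2,2,2],[2,2,0,2,1,2],[1,2,0,1,2,2],[1,0,0,2,1,1]], [[1,0,0,0,0,0],[2,1,0,0,0,0],[0,0,1,0,0,0],[0,0,0,1,0,0],[1,2,0,2,1,0],[1,0,2,2,0,1]], [[1,2,1,2,1,2],[0,1,2,2,0,1],[0,0,1,0,2,0],[0,0,0,1,1,0],[0,0,0,0,1,1],[0,0,0,0,0,1]], [[1,0,0,0,0,0],[2,1,0,0,0,0],[2,0,1,0,0,0],[1,1,1,1,0,0],[1,2,1,2,1,0],[0,1,0,1,1,1]]),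
  ([[1,1,0,0],[1,1]], [[0,0,1,1,2,2],[2,0,2,1,0,2],[1,1,0,0,2,2],[2,2,2,2,2,1],[0,1,2,1,1,1],[2,0,2,0,2,0]], [[2,1,0,0,0,1],[0,0,1,2,2,2],[1,1,2,0,1,1],[2,0,1,2,1,2],[0,1,1,0,2,0],[2,0,2,2,0,0]], [[1,0,0,0,0,0],[2,1,0,0,0,0],[0,1,1,0,0,0],[0,0,1,1,0,0],[2,0,2,0,1,0],[1,0,2,2,1,1]], [[1,0,1,1,2,0],[0,1,2,2,2,2],[0,0,1,2,2,2],[0,0,0,1,1,0],[0,0,0,0,1,0],[0,0,0,0,0,1]], [[1,0,0,0,0,0],[2,1,0,0,0,0],[2,1,1,0,0,0],[2,0,2,1,0,0],[0,1,1,2,1,0],[0,1,1,1,1,1]]),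
  ([[1,1,0,1],[1,1]], [[0,2,0,1,1,1],[2,2,2,0,2,0],[0,1,2,2,0,2],[1,2,0,1,2,0],[1,2,2,1,1,0],[1,0,0,1,2,2]], [[0,1,2,1,0,1],[0,1,1,1,1,2],[1,0,1,2,1,0],[2,0,1,0,2,1],[2,0,2,2,1,0],[0,1,1,2,1,1]], [[1,0,0,0,0,0],[1,1,0,0,0,0],[1,1,1,0,0,0],[1,1,0,1,0,0],[0,0,1,2,1,0],[2,2,2,1,1,1]], [[1,2,0,0,0,0],[0,1,1,1,0,1],[0,0,1,1,0,2],[0,0,0,1,2,2],[0,0,0,0,1,1],[0,0,0,0,0,1]], [[1,0,0,0,0,0],[2,1,0,0,0,0],[1,1,1,0,0,0],[0,1,1,1,0,0],[2,1,2,0,1,0],[2,1,0,1,0,1]]),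
  ([[1,1,0,2],[1,1]], [[1,0,0,2,1,2],[1,0,2,0,1,1],[2,1,2,1,1,0],[0,1,0,1,2,0],[2,2,0,0,1,1],[0,0,0,1,1,2]], [[2,1,2,1,0,2],[2,1,2,0,1,0],[0,2,0,2,2,1],[2,2,1,2,0,0],[1,0,0,1,1,0],[0,2,1,0,1,2]], [[1,0,0,0,0,0],[2,1,0,0,0,0],[0,2,1,0,0,0],[2,0,2,1,0,0],[0,0,2,1,1,0],[2,0,1,2,2,1]], [[1,0,2,0,2,0],[0,1,1,2,0,1],[0,0,1,2,0,0],[0,0,0,1,1,0],[0,0,0,0,1,0],[0,0,0,0,0,1]], [[1,0,0,0,0,0],[1,1,0,0,0,0],[1,1,1,0,0,0],[2,2,2,1,0,0],[0,1,1,1,1,0],[1,1,0,1,1,1]]),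
  ([[1,1,1,0],[1,1]], [[2,2,2,0,1,0],[2,2,2,0,0,1],[1,1,1,1,1,2],[2,0,2,1,1,0],[0,2,1,2,2,2],[0,1,1,1,2,1]], [[1,2,1,0,0,2],[1,1,2,0,1,2],[2,2,0,2,0,1],[1,2,1,1,2,1],[2,2,0,2,1,2],[1,0,0,2,1,2]], [[1,0,0,0,0,0],[1,1,0,0,0,0],[1,1,1,0,0,0],[1,0,0,1,0,0],[0,2,1,1,1,0],[1,2,2,1,2,1]], [[1,1,0,0,0,1],[0,1,2,1,0,0],[0,0,1,1,2,0],[0,0,0,1,1,2],[0,0,0,0,1,0],[0,0,0,0,0,1]], [[1,0,0,0,0,0],[0,1,0,0,0,0],[0,0,1,0,0,0],[0,0,0,1,0,0],[0,0,0,0,1,0],[0,0,0,0,0,1]]),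
  ([[1,1,1,1],[1,1]], [[1,1,2,2,2,0],[0,2,0,2,0,1],[2,1,1,2,2,1],[0,2,0,2,2,2],[1,1,0,2,2,1],[0,0,2,0,1,2]], [[0,2,1,1,2,1],[1,0,1,1,0,0],[0,1,0,2,0,2],[1,1,2,0,1,1],[2,0,0,0,1,1],[2,2,0,1,1,1]], [[1,0,0,0,0,0],[1,1,0,0,0,0],[2,1,1,0,0,0],[0,1,0,1,0,0],[0,2,0,2,1,0],[0,2,2,2,0,1]], [[1,2,2,0,0,2],[0,1,1,0,1,0],[0,0,1,2,0,0],[0,0,0,1,0,0],[0,0,0,0,1,2],[0,0,0,0,0,1]], [[1,0,0,0,0,0],[0,1,0,0,0,0],[0,2,1,0,0,0],[2,0,0,1,0,0],[2,1,1,1,1,0],[0,0,2,1,0,1]]),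
  ([[1,1,1,2],[1,1]], [[0,2,1,1,2,0],[2,0,0,0,0,1],[0,2,0,1,2,2],[0,0,1,1,1,0],[2,1,0,0,1,2],[0,0,2,1,1,0]], [[1,2,2,1,0,2],[2,1,2,0,2,2],[0,0,0,2,0,1],[0,2,1,0,1,0],[0,1,2,2,2,2],[1,0,2,1,0,2]], [[1,0,0,0,0,0],[0,1,0,0,0,0],[0,0,1,0,0,0],[0,1,0,1,0,0],[2,2,2,1,1,0],[1,0,1,0,0,1]], [[1,0,0,0,0,0],[0,1,2,0,2,1],[0,0,1,1,1,2],[0,0,0,1,2,1],[0,0,0,0,1,0],[0,0,0,0,0,1]], [[1,0,0,0,0,0],[1,1,0,0,0,0],[2,2,1,0,0,0],[0,2,0,1,0,0],[0,1,0,0,1,0],[2,2,2,2,2,1]]),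
  ([[1,1,2,0],[1,1]], [[2,0,1,2,1,0],[0,0,0,1,2,0],[0,2,2,2,2,1],[1,2,1,0,0,0],[2,2,1,1,0,2],[1,2,1,1,2,1]], [[1,0,2,1,1,2],[0,1,1,1,2,1],[2,1,2,1,1,2],[2,2,1,0,0,2],[2,1,1,0,0,2],[0,2,0,2,0,1]], [[1,0,0,0,0,0],[1,1,0,0,0,0],[2,2,1,0,0,0],[0,1,0,1,0,0],[1,0,2,1,1,0],[2,1,0,1,1,1]], [[1,1,2,2,0,1],[0,1,2,2,0,1],[0,0,1,1,0,2],[0,0,0,1,0,0],[0,0,0,0,1,1],[0,0,0,0,0,1]], [[1,0,0,0,0,0],[2,1,0,0,0,0],[2,0,1,0,0,0],[0,2,1,1,0,0],[1,1,0,1,1,0],[2,2,2,0,2,1]]),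
  ([[1,1,2,1],[1,1]], [[2,2,0,2,0,2],[1,1,0,1,2,2],[0,1,1,2,2,0],[1,0,2,1,2,0],[0,1,1,0,0,1],[0,1,0,2,1,1]], [[2,2,2,1,2,2],[2,1,2,1,2,1],[1,1,1,0,0,2],[1,2,2,2,0,0],[2,0,0,2,2,0],[0,1,0,2,2,0]], [[1,0,0,0,0,0],[1,1,0,0,0,0],[1,0,1,0,0,0],[2,1,1,1,0,0],[0,1,2,2,1,0],[2,2,0,0,2,1]], [[1,1,1,0,2,2],[0,1,1,1,0,2],[0,0,1,2,1,0],[0,0,0,1,2,1],[0,0,0,0,1,2],[0,0,0,0,0,1]], [[1,0,0,0,0,0],[0,1,0,0,0,0],[0,0,1,0,0,0],[0,0,0,1,0,0],[0,0,0,0,1,0],[0,0,0,0,0,1]]),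
  ([[1,1,2,2],[1,1]], [[2,2,2,2,2,1],[0,2,0,1,2,0],[2,1,1,1,1,1],[0,2,1,1,1,2],[0,2,1,1,2,0],[0,0,0,0,0,1]], [[1,0,1,0,0,1],[2,0,1,1,0,1],[0,2,0,0,1,0],[2,1,1,0,1,0],[0,0,0,2,1,2],[0,0,0,0,0,1]], [[1,0,0,0,0,0],[2,1,0,0,0,0],[0,1,1,0,0,0],[1,1,0,1,0,0],[0,1,2,0,1,0],[2,2,0,2,1,1]], [[1,0,1,1,0,2],[0,1,1,1,1,2],[0,0,1,1,2,2],[0,0,0,1,0,0],[0,0,0,0,1,2],[0,0,0,0,0,1]], [[1,0,0,0,0,0],[0,1,0,0,0,0],[0,0,1,0,0,0],[0,0,0,1,0,0],[0,0,0,0,1,0],[0,0,0,0,0,1]]),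
  ([[1,2,0,0],[1,1]], [[1,1,2,1,0,1],[2,0,2,2,2,1],[1,0,1,2,1,1],[0,1,0,2,2,2],[2,2,2,2,2,0],[0,2,0,0,2,1]], [[2,0,2,0,0,2],[0,2,2,2,0,1],[1,1,1,1,1,1],[0,0,2,1,2,2],[0,0,2,2,2,0],[0,2,1,1,2,2]], [[1,0,0,0,0,0],[0,1,0,0,0,0],[1,2,1,0,0,0],[0,0,2,1,0,0],[1,2,1,1,1,0],[2,1,1,0,1,1]], [[1,0,1,2,1,0],[0,1,1,1,1,2],[0,0,1,2,0,0],[0,0,0,1,2,0],[0,0,0,0,1,1],[0,0,0,0,0,1]], [[1,0,0,0,0,0],[1,1,0,0,0,0],[2,1,1,0,0,0],[0,2,0,1,0,0],[2,2,2,2,1,0],[1,2,0,0,2,1]]),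
  ([[1,2,0,1],[1,1]], [[1,0,0,2,2,0],[0,1,0,1,0,0],[1,1,0,2,2,0],[2,0,2,2,1,0],[2,0,1,2,1,2],[2,0,0,2,2,1]], [[2,1,2,1,1,1],[2,0,1,0,0,0],[0,1,2,2,0,0],[1,1,2,0,0,0],[0,0,0,1,1,1],[0,2,1,2,2,0]], [[1,0,0,0,0,0],[1,1,0,0,0,0],[1,2,1,0,0,0],[2,0,2,1,0,0],[1,1,0,2,1,0],[1,1,1,2,2,1]], [[1,1,1,2,2,1],[0,1,2,2,2,1],[0,0,1,0,0,0],[0,0,0,1,2,2],[0,0,0,0,1,0],[0,0,0,0,0,1]], [[1,0,0,0,0,0],[0,1,0,0,0,0],[0,1,1,0,0,0],[2,0,0,1,0,0],[2,0,2,0,1,0],[2,2,0,2,0,1]]),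
  ([[1,2,0,2],[1,1]], [[0,1,1,0,0,0],[1,1,2,2,0,2],[0,1,0,1,2,2],[0,2,0,1,1,1],[1,1,1,0,1,0],[2,2,2,2,0,0]], [[2,0,1,1,0,2],[2,1,0,1,2,0],[2,2,0,2,1,0],[0,0,2,2,0,0],[0,0,2,2,1,1],[2,1,2,1,1,2]], [[1,0,0,0,0,0],[0,1,0,0,0,0],[0,1,1,0,0,0],[1,2,0,1,0,0],[0,2,2,2,1,0],[2,2,1,0,1,1]], [[1,0,0,1,0,0],[0,1,1,2,1,1],[0,0,1,2,0,2],[0,0,0,1,1,0],[0,0,0,0,1,2],[0,0,0,0,0,1]], [[1,0,0,0,0,0],[2,1,0,0,0,0],[1,2,1,0,0,0],[2,1,0,1,0,0],[0,0,2,2,1,0],[0,1,0,0,2,1]]),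
  ([[1,2,1,0],[1,1]], [[2,0,2,1,2,2],[2,1,2,0,0,2],[0,2,2,0,0,0],[0,2,0,1,0,1],[2,2,0,0,0,1],[1,1,2,0,2,2]], [[1,1,2,2,2,2],[2,0,0,1,2,1],[1,0,2,2,1,2],[2,2,1,2,0,1],[2,0,1,1,1,0],[0,1,2,0,2,0]], [[1,0,0,0,0,0],[1,1,0,0,0,0],[1,0,1,0,0,0],[1,2,1,1,0,0],[1,2,0,1,1,0],[2,1,2,1,0,1]], [[1,1,0,1,1,0],[0,1,0,0,1,1],[0,0,1,0,0,0],[0,0,0,1,2,2],[0,0,0,0,1,1],[0,0,0,0,0,1]], [[1,0,0,0,0,0],[0,1,0,0,0,0],[0,0,1,0,0,0],[0,0,0,1,0,0],[0,0,0,0,1,0],[0,0,0,0,0,1]]),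
  ([[1,2,1,1],[1,1]], [[2,0,0,1,1,0],[2,1,0,2,0,2],[1,1,1,1,2,2],[2,0,0,2,1,2],[2,2,1,1,0,0],[2,2,2,0,2,2]], [[1,2,0,0,1,1],[2,2,2,1,2,1],[0,0,1,0,2,2],[0,1,1,1,2,0],[2,1,2,2,2,1],[1,1,1,0,2,0]], [[1,0,0,0,0,0],[1,1,0,0,0,0],[1,1,1,0,0,0],[0,0,1,1,0,0],[2,0,1,0,1,0],[0,2,2,1,2,1]], [[1,2,2,1,0,2],[0,1,0,1,2,0],[0,0,1,2,0,2],[0,0,0,1,0,2],[0,0,0,0,1,0],[0,0,0,0,0,1]], [[1,0,0,0,0,0],[0,1,0,0,0,0],[0,0,1,0,0,0],[0,0,0,1,0,0],[0,0,0,0,1,0],[0,0,0,0,0,1]]),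
  ([[1,2,1,2],[1,1]], [[0,2,1,2,2,1],[2,2,1,0,1,0],[2,1,1,2,2,1],[2,0,1,2,1,2],[1,2,2,2,1,0],[1,1,2,0,0,0]], [[1,1,1,2,2,0],[0,2,1,1,1,0],[1,0,2,0,0,2],[0,0,1,1,0,2],[0,1,0,0,0,1],[0,0,0,2,1,1]], [[1,0,0,0,0,0],[0,1,0,0,0,0],[1,1,1,0,0,0],[1,2,1,1,0,0],[1,1,1,2,1,0],[2,1,1,2,0,1]], [[1,1,0,0,1,0],[0,1,2,0,0,2],[0,0,1,0,1,1],[0,0,0,1,1,0],[0,0,0,0,1,2],[0,0,0,0,0,1]], [[1,0,0,0,0,0],[0,1,0,0,0,0],[0,0,1,0,0,0],[0,0,0,1,0,0],[0,0,0,0,1,0],[0,0,0,0,0,1]]),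
  ([[1,2,2,0],[1,1]], [[1,1,1,1,0,1],[0,0,1,1,2,0],[1,0,0,2,0,1],[2,0,2,2,1,0],[2,2,0,1,2,2],[0,2,2,0,2,1]], [[0,2,0,2,0,0],[1,2,0,2,2,1],[1,0,2,1,2,2],[1,2,0,0,1,0],[2,1,2,1,0,2],[1,0,1,1,1,0]], [[1,0,0,0,0,0],[2,1,0,0,0,0],[1,1,1,0,0,0],[1,1,2,1,0,0],[1,1,0,1,1,0],[2,0,0,1,0,1]], [[1,2,0,2,2,0],[0,1,2,2,2,1],[0,0,1,0,1,0],[0,0,0,1,1,0],[0,0,0,0,1,2],[0,0,0,0,0,1]], [[1,0,0,0,0,0],[0,1,0,0,0,0],[0,0,1,0,0,0],[0,0,0,1,0,0],[0,0,0,0,1,0],[0,0,0,0,0,1]]),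
  ([[1,2,2,1],[1,1]], [[0,1,2,0,0,0],[0,1,1,1,2,2],[0,1,1,1,0,2],[2,2,1,1,2,1],[0,2,2,0,1,2],[1,0,0,1,2,2]], [[2,2,2,2,1,0],[0,0,1,1,2,1],[2,0,1,1,2,1],[2,2,1,2,0,2],[0,2,1,0,0,0],[1,2,2,1,1,1]], [[1,0,0,0,0,0],[0,1,0,0,0,0],[2,1,1,0,0,0],[2,0,0,1,0,0],[1,1,2,1,1,0],[2,1,2,1,0,1]], [[1,2,0,0,1,2],[0,1,1,2,2,0],[0,0,1,2,0,0],[0,0,0,1,0,0],[0,0,0,0,1,1],[0,0,0,0,0,1]], [[1,0,0,0,0,0],[0,1,0,0,0,0],[0,0,1,0,0,0],[0,0,0,1,0,0],[0,0,0,0,1,0],[0,0,0,0,0,1]]),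
  ([[1,2,2,2],[1,1]], [[0,1,2,2,1,1],[0,0,0,2,0,2],[2,2,2,2,0,1],[2,2,2,0,1,0],[0,2,2,0,1,1],[1,1,1,0,0,2]], [[0,1,2,2,1,2],[2,0,1,0,1,1],[1,1,1,1,1,2],[0,0,2,0,0,2],[0,2,1,1,0,2],[0,2,1,0,0,1]], [[1,0,0,0,0,0],[0,1,0,0,0,0],[1,0,1,0,0,0],[0,0,1,1,0,0],[2,1,0,1,1,0],[2,0,2,2,2,1]], [[1,2,1,0,2,2],[0,1,0,2,0,0],[0,0,1,0,2,0],[0,0,0,1,2,1],[0,0,0,0,1,0],[0,0,0,0,0,1]], [[1,0,0,0,0,0],[1,1,0,0,0,0],[2,2,1,0,0,0],[0,0,0,1,0,0],[1,0,0,1,1,0],[0,1,2,0,0,1]])]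

theorem sjm6_ok : tblOk 3 [g6m] sjm6 = true := by decide +kernel

theorem sjm6_keys : keys sjm6 = ((detV 3 4 1).map fun a => [a, [1, 1]]) := by decide +kernel

def sjp5 : Tbl :=
  [([[2,0,0],[1,1]], [[2,2,1,0,0],[1,0,0,1,1],[0,1,1,1,1],[1,2,1,2,0],[0,0,1,2,1]], [[0,2,2,2,2],[1,1,2,0,0],[2,0,1,2,2],[1,1,1,0,1],[2,1,0,1,0]], [[1,0,0,0,0],[1,1,0,0,0],[2,1,1,0,0],[0,0,0,1,0],[1,1,1,1,1]], [[1,2,0,0,2],[0,1,2,1,2],[0,0,1,1,2],[0,0,0,1,2],[0,0,0,0,1]], [[1,0,0,0,0],[2,1,0,0,0],[0,1,1,0,0],[2,2,1,1,0],[0,0,2,1,1]]),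
  ([[2,0,1],[1,1]], [[2,2,2,1,1],[2,0,2,2,2],[0,1,1,0,0],[0,2,0,0,0],[2,2,1,1,2]], [[1,1,2,1,0],[0,0,0,2,0],[0,0,1,1,0],[0,1,2,0,2],[2,0,1,1,1]], [[1,0,0,0,0],[2,1,0,0,0],[1,0,1,0,0],[1,0,1,1,0],[1,2,2,1,1]], [[1,1,0,2,0],[0,1,2,2,0],[0,0,1,1,1],[0,0,0,1,0],[0,0,0,0,1]], [[1,0,0,0,0],[0,1,0,0,0],[0,0,1,0,0],[0,0,0,1,0],[0,0,0,0,1]]),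
  ([[2,0,2],[1,1]], [[2,2,2,1,2],[2,0,0,0,2],[0,1,1,1,0],[1,2,2,2,0],[2,2,1,0,1]], [[0,0,1,1,0],[2,2,0,2,1],[2,0,2,1,2],[2,1,2,0,0],[0,2,2,2,0]], [[1,0,0,0,0],[0,1,0,0,0],[1,1,1,0,0],[1,2,2,1,0],[1,2,2,0,1]], [[1,0,1,0,1],[0,1,2,0,1],[0,0,1,2,2],[0,0,0,1,1],[0,0,0,0,1]], [[1,0,0,0,0],[2,1,0,0,0],[2,2,1,0,0],[1,2,1,1,0],[2,1,0,2,1]]),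
  ([[2,1,0],[1,1]], [[2,0,0,1,0],[1,2,2,1,2],[2,2,2,2,0],[0,1,2,0,1],[1,2,2,0,2]], [[2,1,0,0,2],[0,2,2,2,0],[1,2,0,1,2],[0,1,0,0,2],[1,0,1,0,2]], [[1,0,0,0,0],[1,1,0,0,0],[1,2,1,0,0],[0,0,1,1,0],[0,2,0,1,1]], [[1,1,1,2,2],[0,1,2,2,2],[0,0,1,0,0],[0,0,0,1,2],[0,0,0,0,1]], [[1,0,0,0,0],[0,1,0,0,0],[0,0,1,0,0],[0,0,0,1,0],[0,0,0,0,1]]),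
  ([[2,1,1],[1,1]], [[1,2,1,0,1],[2,0,1,0,0],[0,2,1,0,2],[2,1,0,0,0],[1,1,2,2,2]], [[1,1,1,2,0],[1,1,1,0,0],[1,2,1,2,0],[1,2,2,1,2],[0,1,2,2,0]], [[1,0,0,0,0],[0,1,0,0,0],[2,1,1,0,0],[0,0,2,1,0],[0,2,1,0,1]], [[1,0,2,1,1],[0,1,1,0,2],[0,0,1,2,0],[0,0,0,1,1],[0,0,0,0,1]], [[1,0,0,0,0],[0,1,0,0,0],[0,0,1,0,0],[0,0,0,1,0],[0,0,0,0,1]]),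
  ([[2,1,2],[1,1]], [[2,1,0,1,0],[0,1,2,1,1],[0,1,0,2,2],[0,0,0,1,0],[1,0,0,1,1]], [[1,0,2,2,2],[2,0,2,1,2],[1,2,0,2,1],[0,0,0,1,0],[2,0,1,0,2]], [[1,0,0,0,0],[1,1,0,0,0],[0,1,1,0,0],[1,0,1,1,0],[1,0,2,2,1]], [[1,2,0,1,1],[0,1,2,2,2],[0,0,1,0,1],[0,0,0,1,1],[0,0,0,0,1]], [[1,0,0,0,0],[0,1,0,0,0],[0,0,1,0,0],[0,0,0,1,0],[0,0,0,0,1]]),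
  ([[2,2,0],[1,1]], [[0,1,2,1,1],[0,2,2,0,1],[1,2,2,2,1],[2,1,1,0,2],[2,0,1,1,1]], [[0,2,0,2,0],[2,1,2,2,0],[2,0,1,2,2],[0,0,2,2,0],[1,2,0,1,2]], [[1,0,0,0,0],[2,1,0,0,0],[0,2,1,0,0],[2,0,1,1,0],[1,2,2,0,1]], [[1,0,1,1,0],[0,1,2,0,2],[0,0,1,1,2],[0,0,0,1,2],[0,0,0,0,1]], [[1,0,0,0,0],[0,1,0,0,0],[0,0,1,0,0],[0,0,0,1,0],[0,0,0,0,1]]),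
  ([[2,2,1],[1,1]], [[0,2,1,2,0],[1,1,0,2,1],[0,1,0,2,0],[1,1,2,2,1],[1,1,0,1,0]], [[1,2,0,1,1],[1,2,2,1,0],[0,1,0,2,0],[1,2,1,1,0],[2,2,2,2,2]], [[1,0,0,0,0],[1,1,0,0,0],[0,2,1,0,0],[2,2,0,1,0],[0,1,2,2,1]], [[1,0,2,0,1],[0,1,1,0,2],[0,0,1,2,1],[0,0,0,1,1],[0,0,0,0,1]], [[1,0,0,0,0],[2,1,0,0,0],[0,1,1,0,0],[1,0,2,1,0],[2,1,1,2,1]]),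
  ([[2,2,2],[1,1]], [[0,1,0,2,1],[0,1,0,2,2],[2,0,2,0,1],[2,2,2,2,2],[2,2,1,1,0]], [[0,1,1,0,1],[2,0,2,1,0],[2,0,1,0,2],[0,1,2,1,0],[2,1,0,0,0]], [[1,0,0,0,0],[0,1,0,0,0],[1,1,1,0,0],[0,2,0,1,0],[0,0,1,1,1]], [[1,0,0,2,1],[0,1,1,2,0],[0,0,1,1,0],[0,0,0,1,2],[0,0,0,0,1]], [[1,0,0,0,0],[0,1,0,0,0],[0,0,1,0,0],[0,0,0,1,0],[0,0,0,0,1]])]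

theorem sjp5_ok : tblOk 3 [g5p] sjp5 = true := by decide +kernel

theorem sjp5_keys : keys sjp5 = ((detV 3 3 1).map fun a => [a, [1, 1]]) := by decide +kernel

def sjp6 : Tbl :=
  [([[1,0,0,0],[1,1]], [[1,2,2,1,0,0],[0,2,0,1,1,0],[0,1,0,1,0,0],[1,1,0,1,1,1],[2,2,0,0,0,1],[2,0,0,1,2,1]], [[0,1,0,2,1,0],[0,1,1,0,2,1],[2,2,2,2,0,1],[0,2,0,0,1,2],[0,0,1,0,1,2],[0,2,1,2,1,1]], [[1,0,0,0,0,0],[2,1,0,0,0,0],[1,2,1,0,0,0],[0,1,0,1,0,0],[2,2,2,1,1,0],[0,2,2,1,0,1]], [[1,1,0,2,0,2],[0,1,1,1,1,2],[0,0,1,2,0,0],[0,0,0,1,1,0],[0,0,0,0,1,2],[0,0,0,0,0,1]], [[1,0,0,0,0,0],[1,1,0,0,0,0],[1,0,1,0,0,0],[0,0,1,1,0,0],[2,1,2,1,1,0],[0,0,1,2,0,1]]),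
  ([[1,0,0,1],[1,1]], [[2,1,1,0,1,1],[1,0,1,0,2,0],[1,2,1,0,2,1],[0,2,2,0,0,2],[0,2,1,1,0,0],[2,1,0,1,2,0]], [[0,1,1,1,2,1],[1,0,1,2,0,0],[1,1,0,1,0,0],[0,2,1,1,1,0],[1,1,1,2,2,1],[1,2,2,2,0,0]], [[1,0,0,0,0,0],[1,1,0,0,0,0],[1,2,1,0,0,0],[2,1,1,1,0,0],[0,1,2,0,1,0],[1,1,0,0,0,1]], [[1,2,2,0,0,2],[0,1,1,0,0,1],[0,0,1,0,0,2],[0,0,0,1,0,2],[0,0,0,0,1,0],[0,0,0,0,0,1]], [[1,0,0,0,0,0],[0,1,0,0,0,0],[0,0,1,0,0,0],[0,0,0,1,0,0],[0,0,0,0,1,0],[0,0,0,0,0,1]]),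
  ([[1,0,0,2],[1,1]], [[2,1,2,2,1,2],[2,1,2,1,0,1],[0,1,2,0,0,0],[0,2,0,2,0,2],[2,0,2,2,0,2],[0,2,2,1,1,2]], [[0,0,1,1,2,0],[0,2,0,1,1,0],[0,2,2,1,1,0],[1,2,1,2,0,2],[1,1,0,2,1,0],[2,2,2,2,2,1]], [[1,0,0,0,0,0],[0,1,0,0,0,0],[2,1,1,0,0,0],[2,1,0,1,0,0],[0,1,0,2,1,0],[1,0,1,0,0,1]], [[1,0,1,0,1,0],[0,1,2,1,0,2],[0,0,1,2,0,1],[0,0,0,1,2,0],[0,0,0,0,1,0],[0,0,0,0,0,1]], [[1,0,0,0,0,0],[0,1,0,0,0,0],[0,0,1,0,0,0],[0,0,0,1,0,0],[0,0,0,0,1,0],[0,0,0,0,0,1]]),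
  ([[1,0,1,0],[1,1]], [[0,1,0,1,2,2],[0,1,1,2,0,1],[1,2,0,0,2,0],[0,2,0,0,1,1],[0,2,2,0,2,1],[0,0,0,0,0,1]], [[1,1,1,0,1,2],[2,2,0,1,2,0],[2,2,0,0,1,2],[1,0,0,1,0,0],[2,2,0,2,2,2],[0,0,0,0,0,1]], [[1,0,0,0,0,0],[0,1,0,0,0,0],[2,2,1,0,0,0],[1,1,0,1,0,0],[0,0,0,2,1,0],[2,1,2,2,1,1]], [[1,2,2,0,1,1],[0,1,1,2,1,1],[0,0,1,2,0,1],[0,0,0,1,0,1],[0,0,0,0,1,2],[0,0,0,0,0,1]], [[1,0,0,0,0,0],[0,1,0,0,0,0],[0,0,1,0,0,0],[0,0,0,1,0,0],[0,0,0,0,1,0],[0,0,0,0,0,1]]),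
  ([[1,0,1,1],[1,1]], [[1,1,1,1,1,0],[1,2,0,0,0,2],[0,1,0,0,0,0],[1,0,1,1,0,2],[2,0,1,2,2,0],[0,2,2,1,2,1]], [[1,0,1,2,2,2],[0,0,1,0,0,0],[2,0,1,0,2,0],[1,2,1,1,1,0],[0,1,2,0,1,1],[1,2,0,2,2,2]], [[1,0,0,0,0,0],[2,1,0,0,0,0],[0,0,1,0,0,0],[2,0,2,1,0,0],[2,0,1,0,1,0],[1,1,1,2,2,1]], [[1,2,0,1,2,2],[0,1,2,1,1,0],[0,0,1,1,2,0],[0,0,0,1,1,0],[0,0,0,0,1,2],[0,0,0,0,0,1]], [[1,0,0,0,0,0],[0,1,0,0,0,0],[0,2,1,0,0,0],[1,1,0,1,0,0],[0,0,2,1,1,0],[1,2,2,1,1,1]]),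
  ([[1,0,1,2],[1,1]], [[2,1,0,2,0,1],[1,0,1,1,0,2],[2,2,0,2,2,1],[2,0,2,0,2,2],[2,1,1,0,2,2],[2,0,1,1,2,2]], [[0,1,2,1,2,1],[2,2,0,1,2,0],[2,2,0,2,1,0],[2,2,0,1,1,1],[0,2,2,1,2,0],[1,1,2,1,1,2]], [[1,0,0,0,0,0],[2,1,0,0,0,0],[1,2,1,0,0,0],[0,2,2,1,0,0],[1,2,0,2,1,0],[1,2,2,0,1,1]], [[1,2,2,1,2,2],[0,1,1,1,1,1],[0,0,1,1,1,0],[0,0,0,1,0,1],[0,0,0,0,1,2],[0,0,0,0,0,1]], [[1,0,0,0,0,0],[1,1,0,0,0,0],[2,1,1,0,0,0],[2,2,2,1,0,0],[0,0,0,0,1,0],[2,1,1,0,2,1]]),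
  ([[1,0,2,0],[1,1]], [[1,2,1,2,2,1],[1,1,2,2,2,1],[0,2,2,2,1,2],[2,2,0,0,0,1],[1,0,1,1,1,1],[1,1,2,0,0,1]], [[0,1,0,1,1,0],[2,2,0,0,1,1],[1,0,0,0,1,1],[2,0,1,2,1,2],[1,2,2,1,2,2],[2,0,0,2,2,1]], [[1,0,0,0,0,0],[0,1,0,0,0,0],[0,2,1,0,0,0],[1,0,1,1,0,0],[2,1,2,1,1,0],[2,1,0,2,1,1]], [[1,0,2,1,1,0],[0,1,1,0,1,1],[0,0,1,1,1,2],[0,0,0,1,2,2],[0,0,0,0,1,2],[0,0,0,0,0,1]], [[1,0,0,0,0,0],[1,1,0,0,0,0],[0,1,1,0,0,0],[2,2,2,1,0,0],[0,0,2,0,1,0],[2,1,1,1,2,1]]),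
  ([[1,0,2,1],[1,1]], [[1,0,0,2,1,1],[1,2,0,0,2,0],[1,2,0,1,2,2],[1,0,0,2,2,2],[2,2,0,2,0,2],[1,0,2,1,0,2]], [[1,1,1,2,1,0],[1,2,1,1,2,0],[1,0,2,2,1,2],[2,1,1,0,1,0],[0,1,0,1,2,0],[2,2,0,0,1,0]], [[1,0,0,0,0,0],[0,1,0,0,0,0],[2,0,1,0,0,0],[1,1,1,1,0,0],[2,0,1,2,1,0],[1,0,2,2,1,1]], [[1,2,0,1,0,1],[0,1,0,1,0,2],[0,0,1,0,1,0],[0,0,0,1,0,2],[0,0,0,0,1,0],[0,0,0,0,0,1]], [[1,0,0,0,0,0],[2,1,0,0,0,0],[2,2,1,0,0,0],[2,1,1,1,0,0],[1,2,0,1,1,0],[1,1,1,1,1,1]]),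
  ([[1,0,2,2],[1,1]], [[0,0,1,0,2,0],[0,1,2,1,0,1],[0,0,0,2,0,0],[1,0,1,2,2,0],[1,0,0,2,2,0],[0,1,2,0,0,0]], [[2,0,2,1,0,0],[0,0,0,1,2,1],[0,0,0,1,2,0],[0,0,2,0,0,0],[2,0,0,1,2,0],[0,1,1,0,0,2]], [[1,0,0,0,0,0],[1,1,0,0,0,0],[0,2,1,0,0,0],[1,0,2,1,0,0],[1,2,0,2,1,0],[0,2,1,0,1,1]], [[1,0,2,0,0,1],[0,1,2,0,2,1],[0,0,1,0,2,0],[0,0,0,1,0,2],[0,0,0,0,1,1],[0,0,0,0,0,1]], [[1,0,0,0,0,0],[2,1,0,0,0,0],[0,1,1,0,0,0],[2,1,2,1,0,0],[2,1,2,2,1,0],[0,2,2,2,1,1]]),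
  ([[1,1,0,0],[1,1]], [[1,1,0,0,1,0],[0,0,1,0,2,1],[1,1,1,2,0,0],[1,0,1,1,2,1],[1,0,2,0,1,2],[0,1,2,0,1,0]], [[0,1,0,0,1,0],[2,1,1,1,2,1],[1,2,0,0,2,2],[0,1,0,1,2,0],[2,1,2,2,0,2],[1,0,2,2,1,0]], [[1,0,0,0,0,0],[0,1,0,0,0,0],[0,0,1,0,0,0],[0,0,2,1,0,0],[0,0,0,1,1,0],[0,2,1,2,2,1]], [[1,0,2,1,0,1],[0,1,2,1,2,0],[0,0,1,2,1,2],[0,0,0,1,0,1],[0,0,0,0,1,0],[0,0,0,0,0,1]], [[1,0,0,0,0,0],[0,1,0,0,0,0],[0,0,1,0,0,0],[0,0,0,1,0,0],[0,0,0,0,1,0],[0,0,0,0,0,1]]),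
  ([[1,1,0,1],[1,1]], [[0,1,0,2,2,2],[2,2,0,2,1,0],[1,0,1,2,2,2],[2,2,1,1,2,1],[0,1,0,0,0,1],[0,1,1,2,0,2]], [[1,0,0,2,0,1],[1,1,2,1,2,0],[2,1,0,2,2,2],[1,0,1,1,2,1],[0,2,0,1,1,2],[2,2,1,2,2,0]], [[1,0,0,0,0,0],[2,1,0,0,0,0],[2,1,1,0,0,0],[1,2,0,1,0,0],[2,0,1,2,1,0],[0,0,1,2,0,1]], [[1,1,0,2,2,0],[0,1,0,1,1,2],[0,0,1,2,0,0],[0,0,0,1,2,1],[0,0,0,0,1,2],[0,0,0,0,0,1]], [[1,0,0,0,0,0],[2,1,0,0,0,0],[0,0,1,0,0,0],[0,2,0,1,0,0],[2,1,1,0,1,0],[2,0,1,2,2,1]]),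
  ([[1,1,0,2],[1,1]], [[0,1,1,1,0,0],[0,1,1,1,1,2],[1,2,1,1,2,2],[1,1,1,2,2,2],[1,1,0,1,0,1],[2,1,0,0,2,2]], [[1,0,2,0,0,1],[2,2,0,2,1,0],[0,2,1,1,1,0],[2,2,2,0,1,0],[0,0,2,1,2,2],[1,2,2,1,2,2]], [[1,0,0,0,0,0],[2,1,0,0,0,0],[1,0,1,0,0,0],[1,2,0,1,0,0],[1,0,2,1,1,0],[0,1,1,2,0,1]], [[1,2,1,2,2,2],[0,1,0,1,1,2],[0,0,1,2,0,1],[0,0,0,1,2,0],[0,0,0,0,1,0],[0,0,0,0,0,1]], [[1,0,0,0,0,0],[0,1,0,0,0,0],[0,0,1,0,0,0],[0,0,0,1,0,0],[0,0,0,0,1,0],[0,0,0,0,0,1]]),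
  ([[1,1,1,0],[1,1]], [[0,2,1,2,2,0],[1,2,2,1,0,0],[0,0,0,1,0,1],[1,0,2,1,1,0],[0,2,0,0,0,1],[0,0,1,2,1,0]], [[2,1,0,0,0,2],[1,1,0,2,0,2],[0,1,1,2,2,1],[2,2,1,1,2,1],[2,1,0,2,0,1],[1,1,0,2,1,2]], [[1,0,0,0,0,0],[2,1,0,0,0,0],[1,1,1,0,0,0],[2,1,1,1,0,0],[2,1,0,2,1,0],[0,1,0,0,0,1]], [[1,0,0,0,2,1],[0,1,0,1,0,0],[0,0,1,0,0,1],[0,0,0,1,1,1],[0,0,0,0,1,0],[0,0,0,0,0,1]], [[1,0,0,0,0,0],[1,1,0,0,0,0],[0,0,1,0,0,0],[2,2,0,1,0,0],[1,2,1,1,1,0],[2,0,1,1,2,1]]),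
  ([[1,1,1,1],[1,1]], [[1,2,0,0,0,2],[0,1,1,0,1,2],[1,1,0,1,2,1],[1,0,0,2,2,2],[2,2,2,2,1,1],[1,0,2,1,2,0]], [[2,2,1,1,1,1],[0,0,2,0,1,2],[2,1,0,2,2,1],[2,1,2,0,1,0],[2,2,0,2,0,2],[1,2,2,1,0,2]], [[1,0,0,0,0,0],[0,1,0,0,0,0],[2,1,1,0,0,0],[1,1,2,1,0,0],[2,0,0,0,1,0],[2,2,0,0,1,1]], [[1,2,0,0,0,1],[0,1,0,1,2,2],[0,0,1,1,0,2],[0,0,0,1,0,0],[0,0,0,0,1,2],[0,0,0,0,0,1]], [[1,0,0,0,0,0],[2,1,0,0,0,0],[1,2,1,0,0,0],[0,1,1,1,0,0],[1,1,0,2,1,0],[2,0,2,2,2,1]]),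
  ([[1,1,1,2],[1,1]], [[2,0,1,1,0,2],[0,1,2,1,0,1],[2,1,1,2,1,1],[2,1,2,0,2,0],[0,2,0,1,0,1],[0,2,0,1,2,2]], [[2,1,1,2,2,2],[1,1,1,1,2,0],[2,1,2,2,2,0],[1,2,0,2,0,1],[0,2,1,2,1,1],[0,2,1,2,0,2]], [[1,0,0,0,0,0],[2,1,0,0,0,0],[2,0,1,0,0,0],[0,1,0,1,0,0],[2,0,0,1,1,0],[2,2,2,2,0,1]], [[1,2,1,2,1,2],[0,1,1,0,0,2],[0,0,1,0,0,2],[0,0,0,1,2,1],[0,0,0,0,1,1],[0,0,0,0,0,1]], [[1,0,0,0,0,0],[1,1,0,0,0,0],[2,1,1,0,0,0],[0,2,1,1,0,0],[1,0,1,1,1,0],[0,0,0,0,1,1]]),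
  ([[1,1,2,0],[1,1]], [[0,2,2,0,0,0],[0,2,1,1,2,0],[2,1,2,0,2,1],[2,2,0,0,0,2],[0,0,1,0,1,1],[0,1,1,0,0,1]], [[2,0,1,1,1,2],[0,0,2,1,2,0],[2,0,1,2,1,0],[1,1,0,0,1,2],[0,0,2,1,0,2],[1,0,0,0,0,1]], [[1,0,0,0,0,0],[1,1,0,0,0,0],[2,1,1,0,0,0],[0,0,1,1,0,0],[0,1,0,2,1,0],[1,2,2,0,1,1]], [[1,2,2,1,0,2],[0,1,1,2,2,2],[0,0,1,2,2,2],[0,0,0,1,1,2],[0,0,0,0,1,2],[0,0,0,0,0,1]], [[1,0,0,0,0,0],[1,1,0,0,0,0],[1,2,1,0,0,0],[0,0,1,1,0,0],[1,0,1,1,1,0],[1,0,1,2,2,1]]),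
  ([[1,1,2,1],[1,1]], [[0,1,1,2,0,2],[1,2,2,1,2,1],[0,2,1,1,0,1],[2,0,0,2,2,1],[1,2,0,1,2,0],[0,1,1,2,2,2]], [[2,1,0,0,0,2],[0,1,2,2,1,2],[2,0,2,0,0,0],[2,0,2,2,2,2],[1,0,0,0,0,2],[2,1,2,0,2,0]], [[1,0,0,0,0,0],[1,1,0,0,0,0],[1,0,1,0,0,0],[0,1,0,1,0,0],[1,0,1,1,1,0],[0,1,1,2,2,1]], [[1,1,0,1,0,1],[0,1,0,0,0,2],[0,0,1,1,0,0],[0,0,0,1,0,2],[0,0,0,0,1,1],[0,0,0,0,0,1]], [[1,0,0,0,0,0],[0,1,0,0,0,0],[0,0,1,0,0,0],[0,0,0,1,0,0],[0,0,0,0,1,0],[0,0,0,0,0,1]]),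
  ([[1,1,2,2],[1,1]], [[1,2,1,2,0,1],[0,2,1,1,2,2],[2,0,2,1,0,1],[1,1,1,2,2,1],[2,0,2,0,0,0],[0,0,1,0,1,2]], [[2,0,1,2,2,2],[2,2,2,2,2,1],[1,0,2,1,0,1],[0,2,1,2,1,1],[2,1,1,0,1,2],[0,1,0,1,1,2]], [[1,0,0,0,0,0],[1,1,0,0,0,0],[2,0,1,0,0,0],[0,1,1,1,0,0],[1,1,1,0,1,0],[0,0,0,1,2,1]], [[1,1,2,1,0,1],[0,1,2,2,1,0],[0,0,1,2,2,2],[0,0,0,1,0,2],[0,0,0,0,1,0],[0,0,0,0,0,1]], [[1,0,0,0,0,0],[0,1,0,0,0,0],[0,0,1,0,0,0],[0,0,0,1,0,0],[0,0,0,0,1,0],[0,0,0,0,0,1]]),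
  ([[1,2,0,0],[1,1]], [[2,1,2,2,2,2],[0,2,0,0,1,2],[1,1,2,2,2,0],[2,0,2,2,1,1],[1,2,2,0,1,2],[0,0,2,0,2,2]], [[1,0,1,1,2,1],[2,1,1,0,1,2],[1,1,1,1,1,1],[0,1,0,2,2,2],[2,2,0,1,0,0],[0,0,2,1,2,1]], [[1,0,0,0,0,0],[1,1,0,0,0,0],[0,0,1,0,0,0],[1,1,1,1,0,0],[2,1,1,2,1,0],[0,2,1,2,1,1]], [[1,1,1,1,0,0],[0,1,0,1,0,0],[0,0,1,0,1,1],[0,0,0,1,1,1],[0,0,0,0,1,1],[0,0,0,0,0,1]], [[1,0,0,0,0,0],[2,1,0,0,0,0],[0,1,1,0,0,0],[1,2,0,1,0,0],[2,0,2,1,1,0],[2,0,2,1,2,1]]),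
  ([[1,2,0,1],[1,1]], [[2,2,2,2,2,2],[0,0,0,2,1,2],[0,2,1,0,0,1],[0,0,0,0,1,1],[1,0,0,2,2,1],[1,0,0,1,2,1]], [[0,1,0,0,0,1],[1,0,1,2,0,1],[1,2,2,0,2,2],[0,0,0,0,1,2],[0,2,0,2,2,1],[0,1,0,2,1,2]], [[1,0,0,0,0,0],[2,1,0,0,0,0],[1,2,1,0,0,0],[1,0,0,1,0,0],[1,0,1,1,1,0],[1,2,0,0,0,1]], [[1,0,2,2,2,2],[0,1,2,0,1,1],[0,0,1,2,0,0],[0,0,0,1,1,0],[0,0,0,0,1,0],[0,0,0,0,0,1]], [[1,0,0,0,0,0],[2,1,0,0,0,0],[1,0,1,0,0,0],[0,1,0,1,0,0],[2,2,2,0,1,0],[2,0,0,0,1,1]]),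
  ([[1,2,0,2],[1,1]], [[2,1,0,0,1,1],[1,2,2,2,1,1],[2,2,2,1,2,1],[2,1,1,2,0,2],[2,1,0,1,1,1],[0,0,2,1,2,1]], [[1,1,1,2,2,0],[2,2,1,1,1,1],[0,0,0,2,1,1],[2,0,0,0,1,0],[1,1,0,1,2,0],[2,1,0,0,2,2]], [[1,0,0,0,0,0],[0,1,0,0,0,0],[2,1,1,0,0,0],[1,0,1,1,0,0],[1,2,1,2,1,0],[2,1,1,1,0,1]], [[1,0,2,1,0,1],[0,1,1,1,1,1],[0,0,1,0,2,2],[0,0,0,1,0,1],[0,0,0,0,1,2],[0,0,0,0,0,1]], [[1,0,0,0,0,0],[0,1,0,0,0,0],[0,1,1,0,0,0],[1,0,2,1,0,0],[2,1,1,2,1,0],[1,2,2,0,1,1]]),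
  ([[1,2,1,0],[1,1]], [[0,2,0,0,2,2],[1,0,1,2,2,1],[0,2,2,0,0,2],[1,0,0,0,0,1],[1,0,0,1,1,0],[1,0,0,1,2,0]], [[2,1,1,2,2,2],[1,1,1,1,0,1],[1,0,2,0,2,1],[1,2,2,1,0,0],[0,0,0,0,2,1],[1,2,2,2,1,1]], [[1,0,0,0,0,0],[1,1,0,0,0,0],[0,0,1,0,0,0],[2,0,2,1,0,0],[0,0,0,0,1,0],[0,0,0,0,0,1]], [[1,2,2,0,1,0],[0,1,0,2,2,1],[0,0,1,0,1,0],[0,0,0,1,1,2],[0,0,0,0,1,0],[0,0,0,0,0,1]], [[1,0,0,0,0,0],[0,1,0,0,0,0],[0,0,1,0,0,0],[0,0,0,1,0,0],[0,0,0,0,1,0],[0,0,0,0,0,1]]),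
  ([[1,2,1,1],[1,1]], [[1,0,1,0,1,1],[2,2,0,1,2,1],[2,1,2,2,0,0],[1,1,2,2,1,2],[2,2,2,2,2,0],[0,1,0,1,2,0]], [[2,0,1,2,2,2],[2,2,0,1,1,0],[0,2,0,2,0,0],[0,0,1,0,2,1],[2,2,1,1,0,0],[0,2,1,1,1,1]], [[1,0,0,0,0,0],[0,1,0,0,0,0],[0,2,1,0,0,0],[0,1,0,1,0,0],[2,1,0,0,1,0],[1,2,1,0,0,1]], [[1,0,1,0,1,2],[0,1,2,2,0,0],[0,0,1,2,0,0],[0,0,0,1,0,2],[0,0,0,0,1,0],[0,0,0,0,0,1]], [[1,0,0,0,0,0],[1,1,0,0,0,0],[1,0,1,0,0,0],[1,0,2,1,0,0],[1,1,1,2,1,0],[2,0,0,2,0,1]]),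
  ([[1,2,1,2],[1,1]], [[1,0,0,0,2,1],[0,1,2,2,1,0],[1,0,2,2,0,2],[0,0,0,1,0,2],[2,0,2,0,1,0],[0,0,2,0,0,0]], [[2,0,1,1,2,0],[2,1,2,0,1,2],[0,0,0,0,0,2],[1,0,0,1,1,2],[2,0,1,1,0,2],[1,0,0,0,1,2]], [[1,0,0,0,0,0],[2,1,0,0,0,0],[0,1,1,0,0,0],[0,1,1,1,0,0],[2,2,0,0,1,0],[1,0,0,1,2,1]], [[1,1,2,1,0,2],[0,1,1,2,0,0],[0,0,1,1,2,0],[0,0,0,1,0,0],[0,0,0,0,1,1],[0,0,0,0,0,1]], [[1,0,0,0,0,0],[2,1,0,0,0,0],[1,1,1,0,0,0],[2,1,0,1,0,0],[0,0,2,1,1,0],[0,1,2,0,1,1]]),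
  ([[1,2,2,0],[1,1]], [[2,2,2,2,1,1],[1,1,0,1,0,2],[1,2,1,1,2,1],[0,0,2,2,2,0],[1,0,1,0,2,1],[0,0,1,0,2,1]], [[0,0,0,0,1,2],[2,1,1,0,0,1],[0,2,2,1,2,1],[2,1,2,0,2,1],[1,0,2,1,2,1],[1,1,0,0,0,1]], [[1,0,0,0,0,0],[2,1,0,0,0,0],[1,2,1,0,0,0],[0,2,0,1,0,0],[1,2,0,1,1,0],[1,1,1,1,2,1]], [[1,0,1,2,1,1],[0,1,2,0,0,2],[0,0,1,0,2,0],[0,0,0,1,2,2],[0,0,0,0,1,1],[0,0,0,0,0,1]], [[1,0,0,0,0,0],[0,1,0,0,0,0],[0,0,1,0,0,0],[0,0,0,1,0,0],[0,0,0,0,1,0],[0,0,0,0,0,1]]),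
  ([[1,2,2,1],[1,1]], [[0,1,2,2,2,2],[0,0,1,0,0,1],[0,1,0,2,0,0],[1,2,1,1,2,0],[1,1,1,1,0,1],[2,1,2,0,0,0]], [[2,1,0,1,1,1],[2,2,2,1,0,1],[0,1,2,0,2,2],[2,2,1,1,0,1],[2,2,1,0,0,0],[0,0,1,0,1,1]], [[1,0,0,0,0,0],[2,1,0,0,0,0],[1,2,1,0,0,0],[0,0,0,1,0,0],[1,2,2,1,1,0],[1,0,0,1,2,1]], [[1,0,0,1,0,2],[0,1,2,1,0,0],[0,0,1,0,2,0],[0,0,0,1,2,2],[0,0,0,0,1,1],[0,0,0,0,0,1]], [[1,0,0,0,0,0],[1,1,0,0,0,0],[0,2,1,0,0,0],[0,0,0,1,0,0],[0,0,0,1,1,0],[1,1,2,1,2,1]]),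
  ([[1,2,2,2],[1,1]], [[0,0,2,0,1,2],[2,0,2,1,0,1],[0,0,0,1,0,0],[1,2,0,0,0,2],[1,2,0,1,0,1],[0,1,2,0,1,2]], [[2,0,1,2,2,1],[2,0,0,0,0,1],[1,2,1,2,0,2],[0,0,1,0,0,0],[2,2,2,0,2,2],[0,0,1,1,2,0]], [[1,0,0,0,0,0],[2,1,0,0,0,0],[2,2,1,0,0,0],[1,2,2,1,0,0],[0,2,1,0,1,0],[0,2,0,2,0,1]], [[1,0,0,1,2,0],[0,1,1,1,1,2],[0,0,1,1,0,0],[0,0,0,1,1,1],[0,0,0,0,1,1],[0,0,0,0,0,1]], [[1,0,0,0,0,0],[0,1,0,0,0,0],[0,0,1,0,0,0],[0,0,0,1,0,0],[0,0,0,0,1,0],[0,0,0,0,0,1]])]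

theorem sjp6_ok : tblOk 3 [g6p] sjp6 = true := by decide +kernel

theorem sjp6_keys : keys sjp6 = ((detV 3 4 1).map fun a => [a, [1, 1]]) := by decide +kernel

def smmm5 : Tbl :=
  [([[2,0,0],[1],[1]], [[1,1,0,2,2],[2,0,2,0,2],[1,1,0,0,1],[1,0,2,2,1],[2,1,0,0,2]], [[2,2,2,1,2],[0,0,2,0,2],[0,2,1,0,2],[0,1,1,2,2],[1,1,0,2,2]], [[1,0,0,0,0],[1,1,0,0,0],[1,0,1,0,0],[2,1,2,1,0],[1,0,1,2,1]], [[1,2,0,0,1],[0,1,0,2,2],[0,0,1,2,0],[0,0,0,1,0],[0,0,0,0,1]], [[1,0,0,0,0],[0,1,0,0,0],[0,0,1,0,0],[0,0,0,1,0],[0,0,0,0,1]]),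
  ([[2,0,1],[1],[1]], [[0,2,0,2,1],[1,2,0,1,1],[0,0,2,0,0],[1,1,0,1,2],[1,1,1,0,1]], [[1,0,0,1,0],[1,2,2,2,2],[0,0,2,0,0],[2,2,0,1,0],[1,1,2,0,2]], [[1,0,0,0,0],[1,1,0,0,0],[0,2,1,0,0],[1,2,0,1,0],[2,0,2,0,1]], [[1,0,1,1,1],[0,1,0,2,2],[0,0,1,2,2],[0,0,0,1,1],[0,0,0,0,1]], [[1,0,0,0,0],[0,1,0,0,0],[0,0,1,0,0],[0,0,0,1,0],[0,0,0,0,1]]),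
  ([[2,0,2],[1],[1]], [[0,1,0,2,0],[2,2,0,0,2],[1,0,2,1,2],[1,0,2,0,0],[1,2,1,2,2]], [[2,0,1,1,2],[1,1,0,2,2],[2,0,1,0,2],[0,1,0,2,2],[0,1,2,0,2]], [[1,0,0,0,0],[1,1,0,0,0],[2,1,1,0,0],[1,0,1,1,0],[0,0,1,2,1]], [[1,2,0,2,0],[0,1,1,2,1],[0,0,1,2,2],[0,0,0,1,2],[0,0,0,0,1]], [[1,0,0,0,0],[0,1,0,0,0],[0,0,1,0,0],[0,0,0,1,0],[0,0,0,0,1]]),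
  ([[2,1,0],[1],[1]], [[1,2,0,2,2],[0,0,0,2,1],[1,2,0,0,2],[0,2,0,2,2],[0,1,2,2,0]], [[1,0,0,2,0],[2,2,1,2,0],[0,2,0,2,2],[2,0,1,0,0],[2,1,1,0,0]], [[1,0,0,0,0],[1,1,0,0,0],[1,1,1,0,0],[0,2,1,1,0],[2,1,1,0,1]], [[1,0,2,1,2],[0,1,2,0,2],[0,0,1,1,1],[0,0,0,1,1],[0,0,0,0,1]], [[1,0,0,0,0],[0,1,0,0,0],[0,0,1,0,0],[0,0,0,1,0],[0,0,0,0,1]]),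
  ([[2,1,1],[1],[1]], [[0,1,1,0,0],[2,2,0,0,0],[2,0,2,1,2],[0,2,2,2,0],[0,1,0,1,2]], [[2,0,2,0,1],[1,2,1,0,2],[0,1,2,0,1],[2,0,0,2,0],[0,2,1,2,1]], [[1,0,0,0,0],[2,1,0,0,0],[0,0,1,0,0],[2,0,2,1,0],[2,2,0,0,1]], [[1,2,1,2,2],[0,1,1,2,2],[0,0,1,2,0],[0,0,0,1,0],[0,0,0,0,1]], [[1,0,0,0,0],[0,1,0,0,0],[0,0,1,0,0],[0,0,0,1,0],[0,0,0,0,1]]),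
  ([[2,1,2],[1],[1]], [[1,1,0,2,1],[0,0,1,1,0],[1,2,1,2,0],[2,1,2,0,2],[0,0,2,2,1]], [[2,2,2,0,1],[2,2,0,2,0],[0,2,1,1,1],[0,2,2,2,2],[0,1,0,0,1]], [[1,0,0,0,0],[1,1,0,0,0],[2,1,1,0,0],[2,0,2,1,0],[0,2,1,0,1]], [[1,2,1,0,1],[0,1,0,0,2],[0,0,1,1,0],[0,0,0,1,0],[0,0,0,0,1]], [[1,0,0,0,0],[1,1,0,0,0],[2,2,1,0,0],[1,1,0,1,0],[2,0,0,1,1]]),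
  ([[2,2,0],[1],[1]], [[2,0,1,1,1],[0,2,1,2,1],[2,2,1,0,1],[2,1,2,2,0],[2,0,1,0,1]], [[1,1,2,0,2],[0,0,2,0,1],[1,2,0,2,0],[1,0,0,0,2],[0,2,2,1,0]], [[1,0,0,0,0],[1,1,0,0,0],[2,1,1,0,0],[1,2,2,1,0],[0,1,0,0,1]], [[1,0,1,1,1],[0,1,1,2,1],[0,0,1,0,2],[0,0,0,1,1],[0,0,0,0,1]], [[1,0,0,0,0],[0,1,0,0,0],[0,0,1,0,0],[0,0,0,1,0],[0,0,0,0,1]]),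
  ([[2,2,1],[1],[1]], [[1,0,1,2,0],[1,2,1,0,1],[1,1,2,0,2],[0,1,1,2,2],[1,2,1,1,2]], [[0,2,2,0,0],[1,1,0,0,1],[2,1,0,1,0],[1,0,2,1,0],[2,2,1,2,1]], [[1,0,0,0,0],[1,1,0,0,0],[0,1,1,0,0],[1,0,0,1,0],[0,2,1,1,1]], [[1,1,1,1,1],[0,1,2,2,2],[0,0,1,0,0],[0,0,0,1,2],[0,0,0,0,1]], [[1,0,0,0,0],[0,1,0,0,0],[0,0,1,0,0],[0,0,0,1,0],[0,0,0,0,1]]),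
  ([[2,2,2],[1],[1]], [[0,2,0,1,2],[0,2,2,1,0],[2,0,0,0,0],[0,2,0,2,0],[0,1,1,0,0]], [[0,0,2,0,0],[0,2,0,2,2],[0,1,0,1,2],[0,1,0,0,1],[2,2,0,1,2]], [[1,0,0,0,0],[1,1,0,0,0],[1,1,1,0,0],[2,1,2,1,0],[1,0,2,0,1]], [[1,1,0,2,2],[0,1,0,2,2],[0,0,1,2,1],[0,0,0,1,1],[0,0,0,0,1]], [[1,0,0,0,0],[0,1,0,0,0],[0,1,1,0,0],[1,2,2,1,0],[2,0,2,2,1]])]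

theorem smmm5_ok : tblOk 3 [g5m] smmm5 = true := by decide +kernel

theorem smmm5_keys : keys smmm5 = ((detV 3 3 1).map fun a => [a, [1], [1]]) := by decide +kernel

def smmm6 : Tbl :=
  [([[1,0,0,0],[1],[1]], [[1,0,2,0,2,1],[1,2,1,2,0,2],[0,1,2,0,1,2],[0,1,2,1,1,2],[1,2,2,1,0,0],[2,0,2,2,2,0]], [[2,0,1,1,2,0],[2,1,0,1,2,2],[0,2,0,1,2,1],[0,0,2,1,0,0],[1,1,0,0,2,1],[0,0,2,0,2,2]], [[1,0,0,0,0,0],[2,1,0,0,0,0],[0,2,1,0,0,0],[1,2,2,1,0,0],[1,1,0,2,1,0],[0,1,0,1,1,1]], [[1,1,1,1,1,0],[0,1,2,1,2,1],[0,0,1,2,1,2],[0,0,0,1,0,0],[0,0,0,0,1,0],[0,0,0,0,0,1]], [[1,0,0,0,0,0],[0,1,0,0,0,0],[0,0,1,0,0,0],[0,0,0,1,0,0],[0,0,0,0,1,0],[0,0,0,0,0,1]]),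
  ([[1,0,0,1],[1],[1]], [[1,1,2,1,2,2],[2,2,2,0,1,2],[1,2,0,2,0,0],[1,0,2,1,0,1],[1,1,1,1,1,1],[0,1,1,2,2,1]], [[1,0,2,0,1,0],[2,1,0,0,2,1],[1,2,1,1,2,0],[2,2,1,0,2,2],[2,1,1,0,1,2],[1,0,1,2,2,1]], [[1,0,0,0,0,0],[2,1,0,0,0,0],[2,0,1,0,0,0],[1,2,2,1,0,0],[2,0,2,2,1,0],[2,1,1,0,1,1]], [[1,0,1,0,1,2],[0,1,2,0,2,2],[0,0,1,1,1,2],[0,0,0,1,2,0],[0,0,0,0,1,0],[0,0,0,0,0,1]], [[1,0,0,0,0,0],[1,1,0,0,0,0],[2,1,1,0,0,0],[1,0,1,1,0,0],[2,2,0,0,1,0],[1,0,2,0,2,1]]),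
  ([[1,0,0,2],[1],[1]], [[0,2,0,0,0,0],[0,2,1,0,2,0],[1,1,2,2,2,2],[0,2,0,2,1,1],[2,2,2,0,0,2],[2,1,2,0,2,0]], [[1,0,2,1,2,2],[2,0,0,0,0,0],[0,2,2,1,2,0],[2,2,1,1,0,1],[1,1,2,1,2,0],[0,1,2,1,1,1]], [[1,0,0,0,0,0],[0,1,0,0,0,0],[2,0,1,0,0,0],[1,0,1,1,0,0],[0,1,1,0,1,0],[1,2,0,0,1,1]], [[1,2,0,1,0,2],[0,1,1,2,2,1],[0,0,1,0,0,1],[0,0,0,1,2,0],[0,0,0,0,1,1],[0,0,0,0,0,1]], [[1,0,0,0,0,0],[0,1,0,0,0,0],[0,0,1,0,0,0],[0,0,0,1,0,0],[0,0,0,0,1,0],[0,0,0,0,0,1]]),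
  ([[1,0,1,0],[1],[1]], [[2,0,0,0,0,1],[1,1,2,2,2,0],[2,1,0,0,2,2],[1,1,2,2,2,1],[2,0,2,0,2,0],[0,2,1,1,2,0]], [[2,2,0,1,0,0],[0,0,1,1,0,1],[0,2,0,0,2,2],[1,0,1,0,1,1],[1,2,0,2,0,1],[0,2,0,1,0,0]], [[1,0,0,0,0,0],[2,1,0,0,0,0],[0,1,1,0,0,0],[0,0,2,1,0,0],[2,2,1,2,1,0],[0,0,1,1,0,1]], [[1,0,2,0,2,0],[0,1,2,0,0,2],[0,0,1,0,0,2],[0,0,0,1,2,2],[0,0,0,0,1,1],[0,0,0,0,0,1]], [[1,0,0,0,0,0],[0,1,0,0,0,0],[0,2,1,0,0,0],[1,0,1,1,0,0],[2,1,2,0,1,0],[1,0,0,2,2,1]]),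
  ([[1,0,1,1],[1],[1]], [[0,0,1,0,2,0],[1,0,0,1,0,1],[0,0,1,1,1,0],[2,1,0,0,1,0],[2,1,1,1,2,1],[0,1,2,2,2,0]], [[2,2,2,0,1,2],[0,0,1,0,0,1],[0,2,1,1,1,1],[1,2,2,1,1,1],[2,2,1,1,1,1],[0,0,2,2,1,0]], [[1,0,0,0,0,0],[0,1,0,0,0,0],[0,0,1,0,0,0],[0,2,1,1,0,0],[1,2,0,2,1,0],[0,2,1,2,0,1]], [[1,1,0,2,2,2],[0,1,0,2,2,0],[0,0,1,1,0,1],[0,0,0,1,1,0],[0,0,0,0,1,2],[0,0,0,0,0,1]], [[1,0,0,0,0,0],[2,1,0,0,0,0],[1,1,1,0,0,0],[1,1,0,1,0,0],[0,1,2,1,1,0],[0,0,2,2,2,1]]),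
  ([[1,0,1,2],[1],[1]], [[2,0,2,0,1,1],[1,1,0,0,0,0],[2,0,2,2,0,0],[0,1,1,0,2,0],[1,0,1,0,0,1],[2,2,2,2,0,0]], [[0,1,2,0,0,1],[0,0,1,0,0,2],[2,1,0,2,1,0],[1,1,0,1,2,2],[2,1,1,1,1,2],[1,1,1,1,0,2]], [[1,0,0,0,0,0],[2,1,0,0,0,0],[2,0,1,0,0,0],[0,1,2,1,0,0],[2,0,0,0,1,0],[2,0,1,2,2,1]], [[1,2,1,2,0,0],[0,1,1,2,0,2],[0,0,1,2,1,1],[0,0,0,1,1,0],[0,0,0,0,1,0],[0,0,0,0,0,1]], [[1,0,0,0,0,0],[2,1,0,0,0,0],[2,2,1,0,0,0],[1,0,1,1,0,0],[0,0,1,1,1,0],[1,1,0,0,1,1]]),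
  ([[1,0,2,0],[1],[1]], [[0,0,0,2,2,1],[1,0,0,2,0,1],[1,1,1,1,2,1],[2,1,0,0,0,1],[2,2,2,2,2,2],[0,0,0,1,0,0]], [[2,1,2,0,2,0],[1,1,1,1,1,2],[2,1,1,2,0,2],[0,0,0,0,0,1],[0,0,1,0,1,0],[1,0,1,0,1,1]], [[1,0,0,0,0,0],[2,1,0,0,0,0],[1,2,1,0,0,0],[0,0,0,1,0,0],[2,2,2,1,1,0],[2,1,0,1,0,1]], [[1,2,1,2,2,1],[0,1,1,2,2,0],[0,0,1,0,1,1],[0,0,0,1,1,1],[0,0,0,0,1,0],[0,0,0,0,0,1]], [[1,0,0,0,0,0],[0,1,0,0,0,0],[0,0,1,0,0,0],[0,0,0,1,0,0],[0,0,0,0,1,0],[0,0,0,0,0,1]]),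
  ([[1,0,2,1],[1],[1]], [[1,2,2,0,2,2],[1,2,2,0,0,0],[0,1,2,1,1,0],[1,0,2,2,0,0],[2,2,1,1,1,1],[2,1,1,2,0,2]], [[1,0,2,0,2,1],[2,1,0,2,2,0],[2,1,2,1,0,1],[2,2,0,1,2,0],[1,1,0,1,2,1],[1,0,0,2,1,2]], [[1,0,0,0,0,0],[0,1,0,0,0,0],[2,2,1,0,0,0],[2,0,1,1,0,0],[0,1,0,2,1,0],[0,2,1,0,1,1]], [[1,0,2,0,2,2],[0,1,1,0,0,2],[0,0,1,1,2,2],[0,0,0,1,2,1],[0,0,0,0,1,2],[0,0,0,0,0,1]], [[1,0,0,0,0,0],[2,1,0,0,0,0],[2,1,1,0,0,0],[1,2,0,1,0,0],[0,2,0,2,1,0],[1,1,1,2,1,1]]),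
  ([[1,0,2,2],[1],[1]], [[2,0,1,2,2,2],[0,1,2,0,0,0],[2,2,0,0,2,2],[2,0,1,0,0,2],[0,0,0,0,1,2],[1,2,1,2,1,0]], [[0,1,1,1,1,0],[1,2,2,2,1,2],[1,1,2,2,1,2],[1,0,2,1,2,1],[1,0,1,0,1,2],[1,0,1,0,0,2]], [[1,0,0,0,0,0],[0,1,0,0,0,0],[1,1,1,0,0,0],[2,2,0,1,0,0],[1,1,1,0,1,0],[0,2,2,0,1,1]], [[1,2,2,1,2,1],[0,1,1,2,2,0],[0,0,1,0,2,0],[0,0,0,1,1,1],[0,0,0,0,1,2],[0,0,0,0,0,1]], [[1,0,0,0,0,0],[1,1,0,0,0,0],[0,2,1,0,0,0],[2,1,1,1,0,0],[1,0,2,2,1,0],[2,1,1,2,0,1]]),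
  ([[1,1,0,0],[1],[1]], [[0,1,0,1,1,2],[1,0,0,2,2,0],[2,1,1,2,1,0],[0,2,0,0,0,2],[1,1,0,0,2,2],[1,1,2,1,0,0]], [[2,2,2,2,2,2],[1,1,2,0,2,2],[1,0,0,1,1,2],[1,0,2,2,0,2],[1,1,0,0,2,0],[2,2,1,2,1,1]], [[1,0,0,0,0,0],[0,1,0,0,0,0],[1,2,1,0,0,0],[0,0,2,1,0,0],[1,2,0,2,1,0],[1,0,1,2,2,1]], [[1,1,0,1,0,2],[0,1,1,2,0,1],[0,0,1,1,2,0],[0,0,0,1,2,2],[0,0,0,0,1,0],[0,0,0,0,0,1]], [[1,0,0,0,0,0],[1,1,0,0,0,0],[2,1,1,0,0,0],[0,1,2,1,0,0],[1,2,1,0,1,0],[1,2,2,0,0,1]]),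
  ([[1,1,0,1],[1],[1]], [[1,1,1,0,0,0],[0,1,0,2,0,2],[2,0,2,1,2,1],[2,2,0,2,1,0],[0,0,1,2,2,1],[1,1,0,1,2,2]], [[2,0,2,1,0,2],[0,2,2,0,2,2],[2,1,2,2,1,2],[0,1,2,1,2,0],[2,0,0,0,1,1],[0,0,0,2,0,2]], [[1,0,0,0,0,0],[0,1,0,0,0,0],[1,2,1,0,0,0],[0,0,0,1,0,0],[2,1,2,0,1,0],[2,0,1,0,0,1]], [[1,1,2,0,2,0],[0,1,2,2,2,2],[0,0,1,2,2,0],[0,0,0,1,1,1],[0,0,0,0,1,2],[0,0,0,0,0,1]], [[1,0,0,0,0,0],[0,1,0,0,0,0],[0,2,1,0,0,0],[0,1,2,1,0,0],[1,1,1,2,1,0],[0,2,0,1,2,1]]),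
  ([[1,1,0,2],[1],[1]], [[2,0,1,0,0,2],[0,2,2,0,0,1],[2,1,0,1,2,1],[0,0,2,0,2,0],[0,2,0,1,0,1],[0,2,2,2,0,0]], [[2,1,0,0,1,1],[0,1,0,0,2,2],[2,2,1,2,2,0],[1,0,2,1,2,0],[1,1,2,0,1,0],[2,1,1,2,1,2]], [[1,0,0,0,0,0],[1,1,0,0,0,0],[2,1,1,0,0,0],[0,0,1,1,0,0],[1,2,1,1,1,0],[1,1,1,1,2,1]], [[1,2,0,0,2,0],[0,1,0,2,0,0],[0,0,1,0,1,2],[0,0,0,1,2,1],[0,0,0,0,1,0],[0,0,0,0,0,1]], [[1,0,0,0,0,0],[1,1,0,0,0,0],[1,0,1,0,0,0],[0,2,1,1,0,0],[1,0,0,2,1,0],[1,2,0,1,0,1]]),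
  ([[1,1,1,0],[1],[1]], [[2,0,0,0,0,0],[2,2,1,0,2,1],[1,2,1,1,2,0],[0,1,2,0,2,1],[0,0,0,1,0,1],[2,0,2,1,2,1]], [[2,0,0,0,0,0],[2,1,2,1,2,2],[0,0,2,2,2,2],[1,1,2,0,2,0],[1,0,1,1,2,0],[2,2,1,0,2,0]], [[1,0,0,0,0,0],[1,1,0,0,0,0],[2,0,1,0,0,0],[2,0,0,1,0,0],[2,0,0,0,1,0],[1,0,2,1,0,1]], [[1,0,0,1,1,0],[0,1,1,0,1,2],[0,0,1,1,2,2],[0,0,0,1,1,0],[0,0,0,0,1,0],[0,0,0,0,0,1]], [[1,0,0,0,0,0],[0,1,0,0,0,0],[0,0,1,0,0,0],[0,0,0,1,0,0],[0,0,0,0,1,0],[0,0,0,0,0,1]]),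
  ([[1,1,1,1],[1],[1]], [[1,1,1,1,2,0],[2,2,2,2,1,1],[0,1,2,1,2,0],[2,0,0,0,0,2],[0,2,2,0,2,0],[2,1,0,1,0,1]], [[2,2,0,2,0,0],[2,2,1,1,2,2],[1,2,1,2,0,0],[2,2,2,1,1,2],[0,2,1,0,0,1],[1,1,0,0,0,0]], [[1,0,0,0,0,0],[2,1,0,0,0,0],[0,0,1,0,0,0],[2,1,0,1,0,0],[2,0,2,2,1,0],[1,1,2,0,2,1]], [[1,0,0,1,1,2],[0,1,1,2,1,1],[0,0,1,1,2,2],[0,0,0,1,0,0],[0,0,0,0,1,0],[0,0,0,0,0,1]], [[1,0,0,0,0,0],[0,1,0,0,0,0],[0,0,1,0,0,0],[0,0,0,1,0,0],[0,0,0,0,1,0],[0,0,0,0,0,1]]),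
  ([[1,1,1,2],[1],[1]], [[0,2,0,2,1,0],[1,2,0,1,2,1],[1,1,2,1,2,1],[0,0,2,2,1,2],[1,2,2,2,2,1],[0,2,1,2,2,1]], [[0,2,2,1,0,0],[0,0,1,1,2,1],[0,1,1,2,1,2],[0,0,1,2,2,2],[1,0,2,0,1,0],[1,2,0,1,1,2]], [[1,0,0,0,0,0],[0,1,0,0,0,0],[0,1,1,0,0,0],[0,1,2,1,0,0],[2,0,2,2,1,0],[1,0,1,0,2,1]], [[1,2,2,1,2,1],[0,1,2,1,1,0],[0,0,1,2,2,2],[0,0,0,1,2,0],[0,0,0,0,1,2],[0,0,0,0,0,1]], [[1,0,0,0,0,0],[0,1,0,0,0,0],[0,0,1,0,0,0],[0,0,0,1,0,0],[0,0,0,0,1,0],[0,0,0,0,0,1]]),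
  ([[1,1,2,0],[1],[1]], [[1,1,1,1,2,2],[0,1,0,0,1,2],[2,0,2,0,0,0],[2,0,0,2,1,0],[0,0,0,2,2,1],[0,1,2,0,1,0]], [[2,0,1,0,2,1],[1,2,0,1,0,1],[1,0,1,0,1,2],[1,1,0,1,2,1],[0,1,1,2,1,2],[1,2,1,0,1,0]], [[1,0,0,0,0,0],[0,1,0,0,0,0],[2,2,1,0,0,0],[2,1,1,1,0,0],[1,0,1,2,1,0],[0,1,1,2,1,1]], [[1,2,2,0,2,1],[0,1,2,0,1,2],[0,0,1,0,0,0],[0,0,0,1,2,1],[0,0,0,0,1,1],[0,0,0,0,0,1]], [[1,0,0,0,0,0],[1,1,0,0,0,0],[2,1,1,0,0,0],[2,0,0,1,0,0],[2,0,2,2,1,0],[0,0,1,1,1,1]]),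
  ([[1,1,2,1],[1],[1]], [[0,2,0,1,2,0],[1,0,1,1,1,1],[0,1,1,2,2,1],[0,2,2,2,0,0],[2,2,2,1,0,2],[0,2,2,2,1,1]], [[1,2,0,2,1,2],[1,1,0,0,1,0],[1,0,1,1,0,2],[1,2,2,1,2,1],[2,1,2,1,1,1],[1,2,1,1,2,0]], [[1,0,0,0,0,0],[1,1,0,0,0,0],[0,0,1,0,0,0],[1,1,0,1,0,0],[2,1,2,0,1,0],[2,1,1,2,2,1]], [[1,0,1,0,0,1],[0,1,0,1,0,1],[0,0,1,0,0,2],[0,0,0,1,1,1],[0,0,0,0,1,0],[0,0,0,0,0,1]], [[1,0,0,0,0,0],[0,1,0,0,0,0],[0,0,1,0,0,0],[0,0,0,1,0,0],[0,0,0,0,1,0],[0,0,0,0,0,1]]),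
  ([[1,1,2,2],[1],[1]], [[2,0,0,2,1,1],[0,1,1,1,1,0],[2,1,0,0,1,2],[1,1,2,0,0,2],[2,0,1,1,0,1],[0,1,2,1,1,1]], [[0,2,1,0,1,0],[0,0,2,1,2,1],[1,2,2,1,1,1],[0,0,1,0,2,2],[2,2,1,1,1,2],[2,0,1,2,2,0]], [[1,0,0,0,0,0],[0,1,0,0,0,0],[2,2,1,0,0,0],[0,1,1,1,0,0],[2,2,2,0,1,0],[2,0,1,0,0,1]], [[1,0,2,0,2,0],[0,1,2,0,2,1],[0,0,1,2,1,1],[0,0,0,1,1,1],[0,0,0,0,1,0],[0,0,0,0,0,1]], [[1,0,0,0,0,0],[0,1,0,0,0,0],[0,0,1,0,0,0],[0,0,0,1,0,0],[0,0,0,0,1,0],[0,0,0,0,0,1]]),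
  ([[1,2,0,0],[1],[1]], [[0,2,1,2,1,2],[0,2,1,1,2,1],[2,1,1,2,2,0],[0,1,2,2,2,1],[1,1,2,0,0,2],[1,1,0,1,1,1]], [[0,0,1,0,1,1],[0,0,0,1,2,1],[2,2,0,1,2,1],[1,0,0,1,0,0],[1,2,1,1,0,1],[1,1,1,0,0,1]], [[1,0,0,0,0,0],[1,1,0,0,0,0],[1,0,1,0,0,0],[0,1,1,1,0,0],[0,0,2,0,1,0],[0,0,0,2,0,1]], [[1,2,1,0,0,2],[0,1,2,0,2,2],[0,0,1,1,0,2],[0,0,0,1,2,1],[0,0,0,0,1,0],[0,0,0,0,0,1]], [[1,0,0,0,0,0],[0,1,0,0,0,0],[0,0,1,0,0,0],[0,0,0,1,0,0],[0,0,0,0,1,0],[0,0,0,0,0,1]]),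
  ([[1,2,0,1],[1],[1]], [[0,0,0,2,1,1],[1,2,2,2,0,1],[0,1,0,1,2,1],[1,0,0,0,2,0],[2,1,1,1,1,2],[1,0,2,2,2,1]], [[0,1,0,1,1,0],[0,0,0,0,1,1],[1,2,0,1,2,2],[1,1,2,0,2,1],[0,1,0,0,1,0],[2,0,2,0,1,1]], [[1,0,0,0,0,0],[1,1,0,0,0,0],[1,2,1,0,0,0],[2,1,1,1,0,0],[2,2,0,2,1,0],[2,0,2,2,0,1]], [[1,0,2,2,1,1],[0,1,1,2,0,1],[0,0,1,0,0,2],[0,0,0,1,1,0],[0,0,0,0,1,0],[0,0,0,0,0,1]], [[1,0,0,0,0,0],[0,1,0,0,0,0],[0,0,1,0,0,0],[0,0,0,1,0,0],[0,0,0,0,1,0],[0,0,0,0,0,1]]),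
  ([[1,2,0,2],[1],[1]], [[2,0,2,2,1,2],[2,2,2,1,0,0],[2,1,1,1,0,2],[0,1,1,0,1,2],[0,0,1,0,2,1],[1,0,2,0,1,1]], [[2,1,1,0,1,2],[2,0,2,2,2,1],[2,0,2,1,1,1],[0,2,2,0,1,1],[1,1,0,1,0,2],[2,1,1,0,0,1]], [[1,0,0,0,0,0],[0,1,0,0,0,0],[1,1,1,0,0,0],[0,0,2,1,0,0],[1,0,1,2,1,0],[0,1,0,0,2,1]], [[1,0,0,1,1,1],[0,1,1,0,2,0],[0,0,1,1,1,1],[0,0,0,1,2,1],[0,0,0,0,1,0],[0,0,0,0,0,1]], [[1,0,0,0,0,0],[1,1,0,0,0,0],[2,2,1,0,0,0],[1,2,2,1,0,0],[2,1,1,1,1,0],[1,1,2,0,0,1]]),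
  ([[1,2,1,0],[1],[1]], [[0,1,1,1,2,1],[1,1,0,2,0,1],[2,1,1,2,2,1],[1,2,2,0,1,2],[1,0,0,1,1,0],[2,2,2,2,1,1]], [[1,0,1,2,0,0],[1,1,2,2,0,1],[1,2,0,0,1,0],[0,0,2,2,0,0],[2,0,0,2,1,0],[1,0,2,1,0,2]], [[1,0,0,0,0,0],[2,1,0,0,0,0],[0,2,1,0,0,0],[2,1,2,1,0,0],[1,1,2,0,1,0],[0,0,1,1,1,1]], [[1,2,1,0,2,2],[0,1,1,2,0,1],[0,0,1,0,1,0],[0,0,0,1,0,2],[0,0,0,0,1,0],[0,0,0,0,0,1]], [[1,0,0,0,0,0],[2,1,0,0,0,0],[2,2,1,0,0,0],[1,0,2,1,0,0],[0,1,0,2,1,0],[1,0,1,2,0,1]]),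
  ([[1,2,1,1],[1],[1]], [[1,2,2,1,0,1],[1,2,0,0,2,0],[2,0,2,0,2,2],[0,2,1,0,0,0],[0,1,2,0,0,2],[2,0,2,1,0,0]], [[0,2,1,0,2,0],[2,1,2,2,0,1],[2,1,2,0,0,1],[2,0,0,0,2,2],[1,0,2,1,2,2],[0,0,0,2,2,0]], [[1,0,0,0,0,0],[0,1,0,0,0,0],[0,1,1,0,0,0],[1,2,2,1,0,0],[0,2,0,1,1,0],[0,1,0,0,1,1]], [[1,2,0,1,0,1],[0,1,2,1,1,2],[0,0,1,2,0,1],[0,0,0,1,1,1],[0,0,0,0,1,0],[0,0,0,0,0,1]], [[1,0,0,0,0,0],[0,1,0,0,0,0],[0,0,1,0,0,0],[0,0,0,1,0,0],[0,0,0,0,1,0],[0,0,0,0,0,1]]),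
  ([[1,2,1,2],[1],[1]], [[2,2,2,0,1,2],[2,2,1,0,0,1],[0,1,2,2,0,2],[0,1,0,1,0,0],[1,1,2,2,0,0],[2,1,1,1,1,1]], [[1,2,0,1,0,2],[1,0,1,2,0,2],[0,2,2,1,2,0],[2,0,2,2,0,1],[2,2,2,0,0,2],[2,1,2,2,1,1]], [[1,0,0,0,0,0],[0,1,0,0,0,0],[2,1,1,0,0,0],[1,1,2,1,0,0],[1,2,0,0,1,0],[0,0,0,1,0,1]], [[1,1,2,0,1,0],[0,1,2,0,1,2],[0,0,1,2,1,1],[0,0,0,1,1,1],[0,0,0,0,1,1],[0,0,0,0,0,1]], [[1,0,0,0,0,0],[0,1,0,0,0,0],[0,2,1,0,0,0],[0,1,1,1,0,0],[2,0,1,2,1,0],[2,2,2,1,1,1]]),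
  ([[1,2,2,0],[1],[1]], [[2,2,2,0,2,1],[1,0,2,2,2,0],[1,1,1,1,2,0],[2,2,1,2,2,0],[0,2,0,0,1,2],[0,2,1,0,1,0]], [[0,2,1,2,0,2],[2,1,1,0,2,2],[1,2,0,1,1,0],[1,0,0,2,1,2],[1,2,1,2,1,0],[2,1,0,2,1,1]], [[1,0,0,0,0,0],[2,1,0,0,0,0],[1,2,1,0,0,0],[2,0,0,1,0,0],[2,2,2,0,1,0],[2,1,2,1,2,1]], [[1,1,0,0,0,1],[0,1,0,0,2,1],[0,0,1,0,0,1],[0,0,0,1,1,1],[0,0,0,0,1,1],[0,0,0,0,0,1]], [[1,0,0,0,0,0],[1,1,0,0,0,0],[1,2,1,0,0,0],[0,1,1,1,0,0],[2,2,2,1,1,0],[0,2,2,1,0,1]]),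
  ([[1,2,2,1],[1],[1]], [[1,0,0,1,2,1],[2,1,1,0,2,2],[2,2,0,2,2,1],[0,2,1,1,0,0],[1,1,2,2,2,0],[2,0,1,0,2,2]], [[1,2,0,0,1,2],[0,1,0,0,0,2],[2,2,2,1,1,2],[1,2,1,0,2,0],[1,2,0,2,0,2],[0,1,2,2,0,0]], [[1,0,0,0,0,0],[2,1,0,0,0,0],[0,2,1,0,0,0],[2,0,0,1,0,0],[1,0,2,0,1,0],[2,1,0,2,1,1]], [[1,2,0,2,0,0],[0,1,0,0,2,0],[0,0,1,1,0,0],[0,0,0,1,0,2],[0,0,0,0,1,2],[0,0,0,0,0,1]], [[1,0,0,0,0,0],[0,1,0,0,0,0],[1,1,1,0,0,0],[2,1,2,1,0,0],[0,2,1,1,1,0],[1,2,2,0,1,1]]),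
  ([[1,2,2,2],[1],[1]], [[1,0,2,1,1,0],[1,1,1,2,2,0],[1,0,0,1,2,1],[0,0,1,0,1,2],[2,2,1,2,1,0],[0,2,1,2,0,2]], [[1,1,1,2,2,2],[2,2,1,2,2,2],[1,2,0,1,0,2],[1,0,0,1,1,2],[0,1,2,1,0,1],[1,0,2,1,0,0]], [[1,0,0,0,0,0],[2,1,0,0,0,0],[0,2,1,0,0,0],[1,2,1,1,0,0],[2,2,2,0,1,0],[0,2,1,2,2,1]], [[1,2,1,1,1,0],[0,1,2,0,1,2],[0,0,1,2,1,1],[0,0,0,1,2,0],[0,0,0,0,1,2],[0,0,0,0,0,1]], [[1,0,0,0,0,0],[0,1,0,0,0,0],[0,0,1,0,0,0],[0,0,0,1,0,0],[0,0,0,0,1,0],[0,0,0,0,0,1]])]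

theorem smmm6_ok : tblOk 3 [g6m] smmm6 = true := by decide +kernel

theorem smmm6_keys : keys smmm6 = ((detV 3 4 1).map fun a => [a, [1], [1]]) := by decide +kernel

def smmp5 : Tbl :=
  [([[2,0,0],[1],[1]], [[2,1,2,2,2],[2,2,2,2,2],[2,0,2,0,1],[1,2,0,1,2],[2,1,0,0,1]], [[1,0,2,1,0],[2,1,0,0,0],[1,2,2,0,1],[0,0,0,1,1],[2,2,2,1,1]], [[1,0,0,0,0],[2,1,0,0,0],[1,1,1,0,0],[1,0,1,1,0],[1,1,1,2,1]], [[1,0,0,0,0],[0,1,1,0,1],[0,0,1,0,1],[0,0,0,1,1],[0,0,0,0,1]], [[1,0,0,0,0],[0,1,0,0,0],[0,0,1,0,0],[0,0,0,1,0],[0,0,0,0,1]]),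
  ([[2,0,1],[1],[1]], [[2,0,1,1,0],[2,0,0,0,2],[1,2,2,0,0],[1,2,0,1,2],[0,0,2,1,1]], [[1,1,1,2,0],[2,0,0,2,2],[2,1,0,0,1],[0,0,1,2,2],[2,1,2,1,0]], [[1,0,0,0,0],[1,1,0,0,0],[1,2,1,0,0],[1,1,2,1,0],[2,2,1,1,1]], [[1,1,2,2,1],[0,1,2,2,0],[0,0,1,2,2],[0,0,0,1,1],[0,0,0,0,1]], [[1,0,0,0,0],[0,1,0,0,0],[0,0,1,0,0],[0,0,0,1,0],[0,0,0,0,1]]),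
  ([[2,0,2],[1],[1]], [[1,1,2,2,1],[1,1,0,1,2],[1,2,2,1,2],[2,2,0,1,0],[1,1,0,0,0]], [[1,2,2,0,2],[2,1,1,0,2],[2,2,0,0,2],[0,0,0,1,1],[0,2,0,1,2]], [[1,0,0,0,0],[2,1,0,0,0],[2,0,1,0,0],[0,1,1,1,0],[2,2,0,0,1]], [[1,1,0,2,1],[0,1,0,2,2],[0,0,1,2,1],[0,0,0,1,1],[0,0,0,0,1]], [[1,0,0,0,0],[0,1,0,0,0],[0,0,1,0,0],[0,0,0,1,0],[0,0,0,0,1]]),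
  ([[2,1,0],[1],[1]], [[1,2,2,0,1],[1,1,0,0,0],[2,2,0,1,2],[1,1,1,1,0],[1,0,1,0,0]], [[1,0,1,2,2],[2,1,2,1,1],[2,0,2,1,2],[1,2,1,0,1],[1,1,0,0,1]], [[1,0,0,0,0],[0,1,0,0,0],[0,1,1,0,0],[2,2,2,1,0],[2,1,0,2,1]], [[1,0,2,2,0],[0,1,1,0,2],[0,0,1,0,2],[0,0,0,1,0],[0,0,0,0,1]], [[1,0,0,0,0],[0,1,0,0,0],[0,0,1,0,0],[0,0,0,1,0],[0,0,0,0,1]]),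
  ([[2,1,1],[1],[1]], [[1,1,0,1,2],[1,1,1,2,1],[1,2,0,2,1],[2,0,2,2,0],[2,1,1,1,1]], [[2,0,2,0,0],[2,1,0,2,1],[2,2,2,2,1],[2,1,2,0,2],[2,2,1,2,0]], [[1,0,0,0,0],[2,1,0,0,0],[2,2,1,0,0],[0,0,0,1,0],[2,1,1,1,1]], [[1,0,0,0,1],[0,1,1,2,1],[0,0,1,0,0],[0,0,0,1,0],[0,0,0,0,1]], [[1,0,0,0,0],[0,1,0,0,0],[0,0,1,0,0],[0,0,0,1,0],[0,0,0,0,1]]),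
  ([[2,1,2],[1],[1]], [[1,1,0,0,2],[0,0,0,0,1],[0,0,0,1,1],[2,1,0,1,0],[1,2,2,2,2]], [[2,0,2,1,0],[2,1,1,2,0],[0,2,0,2,2],[0,2,1,0,0],[0,1,0,0,0]], [[1,0,0,0,0],[1,1,0,0,0],[2,1,1,0,0],[0,2,2,1,0],[1,0,0,2,1]], [[1,2,0,2,0],[0,1,1,0,2],[0,0,1,1,1],[0,0,0,1,2],[0,0,0,0,1]], [[1,0,0,0,0],[0,1,0,0,0],[0,0,1,0,0],[0,0,0,1,0],[0,0,0,0,1]]),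
  ([[2,2,0],[1],[1]], [[1,2,2,0,2],[1,0,2,1,1],[0,2,0,1,2],[0,2,0,1,1],[2,0,0,0,2]], [[0,0,2,1,2],[1,2,1,0,0],[1,1,0,2,2],[1,2,0,2,0],[0,0,1,2,0]], [[1,0,0,0,0],[0,1,0,0,0],[1,0,1,0,0],[0,2,0,1,0],[2,1,0,0,1]], [[1,0,2,2,0],[0,1,2,2,2],[0,0,1,2,2],[0,0,0,1,0],[0,0,0,0,1]], [[1,0,0,0,0],[0,1,0,0,0],[0,0,1,0,0],[0,0,0,1,0],[0,0,0,0,1]]),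
  ([[2,2,1],[1],[1]], [[0,1,2,2,1],[1,0,0,0,2],[1,0,1,2,2],[1,1,2,0,1],[2,0,1,1,1]], [[2,2,2,1,1],[2,0,1,2,0],[0,0,2,0,2],[0,1,1,0,2],[2,1,2,1,1]], [[1,0,0,0,0],[2,1,0,0,0],[0,1,1,0,0],[2,2,2,1,0],[2,1,1,0,1]], [[1,2,2,2,0],[0,1,0,1,0],[0,0,1,1,1],[0,0,0,1,0],[0,0,0,0,1]], [[1,0,0,0,0],[0,1,0,0,0],[0,0,1,0,0],[0,0,0,1,0],[0,0,0,0,1]]),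
  ([[2,2,2],[1],[1]], [[0,1,2,1,2],[1,2,2,2,0],[2,1,2,2,1],[1,1,1,1,2],[0,1,2,1,1]], [[2,2,0,2,1],[0,0,2,2,0],[0,2,0,1,1],[2,2,1,2,0],[1,0,0,0,2]], [[1,0,0,0,0],[0,1,0,0,0],[2,0,1,0,0],[2,2,2,1,0],[0,2,0,0,1]], [[1,1,0,0,0],[0,1,2,1,0],[0,0,1,0,1],[0,0,0,1,2],[0,0,0,0,1]], [[1,0,0,0,0],[0,1,0,0,0],[0,0,1,0,0],[0,0,0,1,0],[0,0,0,0,1]])]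

theorem smmp5_ok : tblOk 3 [g5p] smmp5 = true := by decide +kernel

theorem smmp5_keys : keys smmp5 = ((detV 3 3 1).map fun a => [a, [1], [1]]) := by decide +kernel

def smmp6 : Tbl :=
  [([[1,0,0,0],[1],[1]], [[2,2,1,1,1,0],[0,2,0,0,0,0],[1,0,0,0,2,2],[2,2,1,1,0,0],[0,1,0,1,0,1],[0,1,2,2,1,0]], [[1,0,0,1,0,2],[0,2,0,0,0,0],[1,1,2,1,2,1],[0,1,1,1,1,1],[1,0,0,2,0,0],[0,0,2,2,0,2]], [[1,0,0,0,0,0],[2,1,0,0,0,0],[1,0,1,0,0,0],[1,2,1,1,0,0],[0,1,1,1,1,0],[0,0,1,0,1,1]], [[1,2,0,2,2,2],[0,1,2,1,2,0],[0,0,1,2,2,0],[0,0,0,1,2,0],[0,0,0,0,1,0],[0,0,0,0,0,1]], [[1,0,0,0,0,0],[0,1,0,0,0,0],[0,0,1,0,0,0],[0,0,0,1,0,0],[0,0,0,0,1,0],[0,0,0,0,0,1]]),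
  ([[1,0,0,1],[1],[1]], [[1,2,0,1,2,1],[1,0,0,0,2,2],[0,1,2,0,0,0],[1,2,1,0,1,1],[1,0,2,0,0,1],[2,0,0,0,1,0]], [[0,2,2,2,0,0],[0,1,0,2,2,2],[0,1,2,2,2,2],[1,2,0,2,2,1],[0,2,2,2,0,1],[0,2,0,0,0,2]], [[1,0,0,0,0,0],[2,1,0,0,0,0],[1,2,1,0,0,0],[2,1,2,1,0,0],[1,0,0,0,1,0],[0,2,0,0,1,1]], [[1,1,2,1,2,1],[0,1,1,2,1,0],[0,0,1,1,2,2],[0,0,0,1,0,2],[0,0,0,0,1,2],[0,0,0,0,0,1]], [[1,0,0,0,0,0],[2,1,0,0,0,0],[0,1,1,0,0,0],[2,2,1,1,0,0],[2,2,0,0,1,0],[1,1,0,0,2,1]]),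
  ([[1,0,0,2],[1],[1]], [[0,1,0,1,0,0],[0,1,2,1,1,2],[2,0,1,2,0,2],[2,2,1,0,0,1],[2,2,1,2,1,1],[0,2,2,1,2,1]], [[2,0,2,1,2,2],[0,1,2,0,1,2],[1,0,1,0,2,2],[1,2,1,0,2,1],[1,2,1,2,0,1],[1,1,0,2,1,2]], [[1,0,0,0,0,0],[1,1,0,0,0,0],[1,1,1,0,0,0],[1,0,2,1,0,0],[0,2,1,2,1,0],[1,1,0,1,0,1]], [[1,1,2,2,2,0],[0,1,1,2,2,2],[0,0,1,0,1,1],[0,0,0,1,0,1],[0,0,0,0,1,1],[0,0,0,0,0,1]], [[1,0,0,0,0,0],[0,1,0,0,0,0],[1,1,1,0,0,0],[0,0,0,1,0,0],[1,0,0,0,1,0],[1,0,0,1,1,1]]),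
  ([[1,0,1,0],[1],[1]], [[1,2,2,1,2,1],[2,1,0,1,1,0],[2,2,2,1,1,2],[2,0,1,0,2,2],[2,1,1,1,1,0],[0,1,1,2,2,1]], [[0,0,2,0,0,2],[1,2,1,1,0,1],[0,2,0,0,1,0],[0,1,0,1,1,1],[2,1,1,1,2,0],[1,1,0,1,2,1]], [[1,0,0,0,0,0],[0,1,0,0,0,0],[0,2,1,0,0,0],[2,2,1,1,0,0],[1,1,0,0,1,0],[1,1,0,1,2,1]], [[1,2,2,0,2,0],[0,1,0,1,1,0],[0,0,1,1,1,1],[0,0,0,1,0,1],[0,0,0,0,1,1],[0,0,0,0,0,1]], [[1,0,0,0,0,0],[0,1,0,0,0,0],[0,0,1,0,0,0],[0,0,0,1,0,0],[0,0,0,0,1,0],[0,0,0,0,0,1]]),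
  ([[1,0,1,1],[1],[1]], [[2,0,2,2,1,1],[0,2,1,2,2,1],[0,0,0,2,1,0],[0,1,0,2,0,1],[2,2,2,0,2,0],[1,2,2,1,1,2]], [[2,2,0,2,0,0],[1,2,0,1,0,1],[1,2,0,2,1,2],[2,0,2,1,1,0],[2,0,0,1,1,0],[1,1,2,1,1,2]], [[1,0,0,0,0,0],[2,1,0,0,0,0],[2,0,1,0,0,0],[0,1,2,1,0,0],[1,1,2,2,1,0],[2,1,1,1,0,1]], [[1,1,2,2,1,2],[0,1,1,1,2,2],[0,0,1,2,2,0],[0,0,0,1,0,0],[0,0,0,0,1,2],[0,0,0,0,0,1]], [[1,0,0,0,0,0],[0,1,0,0,0,0],[0,0,1,0,0,0],[0,0,0,1,0,0],[0,0,0,0,1,0],[0,0,0,0,0,1]]),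
  ([[1,0,1,2],[1],[1]], [[1,0,0,2,1,1],[0,2,1,1,1,1],[0,1,1,0,0,1],[1,1,1,2,2,1],[1,1,1,2,1,1],[0,2,0,1,1,0]], [[0,2,0,1,0,2],[0,2,1,0,0,1],[2,1,2,0,1,2],[0,2,1,2,1,2],[0,0,0,1,2,0],[1,0,1,0,2,0]], [[1,0,0,0,0,0],[2,1,0,0,0,0],[1,0,1,0,0,0],[1,2,2,1,0,0],[0,2,0,0,1,0],[1,2,0,0,0,1]], [[1,1,1,1,2,1],[0,1,2,2,0,0],[0,0,1,0,1,0],[0,0,0,1,2,2],[0,0,0,0,1,2],[0,0,0,0,0,1]], [[1,0,0,0,0,0],[0,1,0,0,0,0],[0,0,1,0,0,0],[0,0,0,1,0,0],[0,0,0,0,1,0],[0,0,0,0,0,1]]),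
  ([[1,0,2,0],[1],[1]], [[0,0,1,1,0,0],[2,1,0,0,1,2],[1,1,0,1,2,2],[1,1,0,0,0,1],[0,2,1,1,0,2],[0,1,2,1,2,0]], [[2,0,0,1,1,0],[0,2,1,1,1,1],[2,1,0,1,0,1],[2,2,0,2,0,2],[0,0,1,2,1,1],[1,1,2,2,1,2]], [[1,0,0,0,0,0],[0,1,0,0,0,0],[2,1,1,0,0,0],[2,2,0,1,0,0],[2,2,1,1,1,0],[0,2,2,2,0,1]], [[1,0,1,0,2,2],[0,1,1,0,1,0],[0,0,1,2,2,1],[0,0,0,1,0,2],[0,0,0,0,1,1],[0,0,0,0,0,1]], [[1,0,0,0,0,0],[0,1,0,0,0,0],[0,0,1,0,0,0],[0,0,0,1,0,0],[0,0,0,0,1,0],[0,0,0,0,0,1]]),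
  ([[1,0,2,1],[1],[1]], [[1,0,0,2,0,1],[1,2,2,2,0,1],[2,0,1,2,2,0],[0,1,0,0,2,1],[2,1,2,0,1,0],[0,2,0,1,1,2]], [[0,2,0,0,1,2],[0,1,1,1,0,2],[1,1,2,2,0,1],[0,0,0,1,0,1],[1,2,1,1,2,1],[1,1,0,1,2,2]], [[1,0,0,0,0,0],[0,1,0,0,0,0],[2,0,1,0,0,0],[0,0,1,1,0,0],[0,2,2,1,1,0],[1,1,0,0,0,1]], [[1,1,0,2,2,0],[0,1,0,1,0,0],[0,0,1,2,0,0],[0,0,0,1,0,2],[0,0,0,0,1,1],[0,0,0,0,0,1]], [[1,0,0,0,0,0],[0,1,0,0,0,0],[0,0,1,0,0,0],[0,0,0,1,0,0],[0,0,0,0,1,0],[0,0,0,0,0,1]]),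
  ([[1,0,2,2],[1],[1]], [[2,1,2,2,0,2],[1,2,2,0,2,1],[1,1,2,0,0,1],[0,0,1,2,0,2],[2,1,2,0,2,2],[1,1,0,1,2,0]], [[2,2,2,1,1,0],[2,1,1,2,1,1],[1,1,1,1,0,2],[1,0,2,2,2,1],[2,0,2,2,1,1],[0,1,2,1,1,1]], [[1,0,0,0,0,0],[2,1,0,0,0,0],[2,1,1,0,0,0],[1,0,2,1,0,0],[0,2,0,1,1,0],[2,0,0,0,2,1]], [[1,2,1,2,0,2],[0,1,0,0,0,1],[0,0,1,1,2,0],[0,0,0,1,1,1],[0,0,0,0,1,2],[0,0,0,0,0,1]], [[1,0,0,0,0,0],[0,1,0,0,0,0],[0,0,1,0,0,0],[0,0,0,1,0,0],[0,0,0,0,1,0],[0,0,0,0,0,1]]),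
  ([[1,1,0,0],[1],[1]], [[0,1,0,1,0,2],[0,0,0,0,0,1],[1,2,2,1,1,2],[1,2,1,0,2,2],[0,0,0,2,1,1],[2,2,2,0,0,1]], [[1,2,2,2,0,0],[2,0,0,2,2,2],[0,2,1,2,1,0],[2,1,0,1,1,1],[2,0,0,1,2,1],[0,1,0,0,0,0]], [[1,0,0,0,0,0],[1,1,0,0,0,0],[0,0,1,0,0,0],[2,0,0,1,0,0],[1,0,1,1,1,0],[0,1,2,0,2,1]], [[1,0,2,1,1,2],[0,1,0,1,0,2],[0,0,1,2,0,2],[0,0,0,1,2,2],[0,0,0,0,1,0],[0,0,0,0,0,1]], [[1,0,0,0,0,0],[0,1,0,0,0,0],[0,0,1,0,0,0],[0,0,0,1,0,0],[0,0,0,0,1,0],[0,0,0,0,0,1]]),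
  ([[1,1,0,1],[1],[1]], [[1,1,1,2,1,0],[0,0,2,1,1,1],[0,1,2,1,1,0],[1,0,0,2,2,1],[1,2,2,1,2,0],[1,2,1,2,0,0]], [[2,0,0,0,2,0],[0,0,1,0,1,2],[2,1,0,2,1,1],[1,1,2,2,2,1],[1,0,1,0,1,1],[0,1,0,0,1,2]], [[1,0,0,0,0,0],[1,1,0,0,0,0],[0,2,1,0,0,0],[1,0,1,1,0,0],[2,2,2,0,1,0],[2,0,1,0,2,1]], [[1,1,2,2,2,1],[0,1,0,0,2,2],[0,0,1,2,1,0],[0,0,0,1,1,0],[0,0,0,0,1,0],[0,0,0,0,0,1]], [[1,0,0,0,0,0],[2,1,0,0,0,0],[1,2,1,0,0,0],[2,0,1,1,0,0],[0,1,1,0,1,0],[0,2,0,2,1,1]]),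
  ([[1,1,0,2],[1],[1]], [[2,2,2,1,1,2],[2,0,1,0,2,2],[2,0,1,0,2,1],[0,2,2,2,0,2],[2,0,0,1,2,0],[0,1,2,1,0,1]], [[1,0,0,2,1,0],[0,1,0,0,2,1],[0,0,0,1,0,1],[0,1,1,1,1,1],[2,1,1,2,2,1],[0,1,2,0,0,0]], [[1,0,0,0,0,0],[2,1,0,0,0,0],[1,2,1,0,0,0],[2,1,2,1,0,0],[2,1,2,0,1,0],[1,1,2,1,0,1]], [[1,1,0,1,0,1],[0,1,1,1,2,2],[0,0,1,2,2,0],[0,0,0,1,2,0],[0,0,0,0,1,0],[0,0,0,0,0,1]], [[1,0,0,0,0,0],[0,1,0,0,0,0],[0,0,1,0,0,0],[0,0,0,1,0,0],[0,0,0,0,1,0],[0,0,0,0,0,1]]),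
  ([[1,1,1,0],[1],[1]], [[0,1,2,0,1,0],[2,0,2,0,2,0],[1,1,1,2,2,2],[1,0,1,0,0,0],[0,2,2,0,0,1],[1,0,1,2,0,0]], [[0,2,1,0,1,2],[1,2,2,2,2,1],[0,1,2,1,2,1],[0,0,0,1,0,2],[0,2,0,2,0,0],[1,0,1,0,2,2]], [[1,0,0,0,0,0],[2,1,0,0,0,0],[2,2,1,0,0,0],[0,0,1,1,0,0],[0,2,2,2,1,0],[1,0,0,0,1,1]], [[1,1,2,1,1,1],[0,1,0,2,0,1],[0,0,1,1,0,1],[0,0,0,1,1,1],[0,0,0,0,1,2],[0,0,0,0,0,1]], [[1,0,0,0,0,0],[1,1,0,0,0,0],[0,2,1,0,0,0],[1,1,2,1,0,0],[1,1,2,2,1,0],[0,2,1,2,1,1]]),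
  ([[1,1,1,1],[1],[1]], [[2,2,0,1,1,2],[2,1,1,0,0,0],[1,2,0,2,0,0],[1,0,0,2,0,2],[0,1,1,1,1,0],[0,2,2,2,0,2]], [[0,1,0,2,0,1],[1,0,1,0,2,2],[2,2,2,2,1,2],[2,1,1,2,1,2],[1,0,2,2,0,0],[1,0,2,2,2,2]], [[1,0,0,0,0,0],[2,1,0,0,0,0],[1,0,1,0,0,0],[0,0,2,1,0,0],[0,0,0,1,1,0],[2,0,1,0,2,1]], [[1,1,2,2,2,2],[0,1,0,0,1,1],[0,0,1,0,0,0],[0,0,0,1,0,0],[0,0,0,0,1,2],[0,0,0,0,0,1]], [[1,0,0,0,0,0],[1,1,0,0,0,0],[2,0,1,0,0,0],[2,0,0,1,0,0],[0,0,2,0,1,0],[0,1,1,0,1,1]]),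
  ([[1,1,1,2],[1],[1]], [[2,2,2,2,1,0],[0,1,2,2,1,2],[0,1,2,1,2,1],[2,0,1,0,1,0],[0,0,2,2,2,0],[0,2,0,1,0,0]], [[1,2,2,1,2,0],[2,1,1,1,0,2],[2,2,2,1,0,2],[2,1,1,1,0,0],[2,0,0,1,2,1],[0,0,1,0,2,1]], [[1,0,0,0,0,0],[1,1,0,0,0,0],[2,2,1,0,0,0],[1,1,2,1,0,0],[1,2,0,0,1,0],[0,1,1,1,2,1]], [[1,2,0,0,0,1],[0,1,2,1,0,2],[0,0,1,1,0,0],[0,0,0,1,0,2],[0,0,0,0,1,0],[0,0,0,0,0,1]], [[1,0,0,0,0,0],[2,1,0,0,0,0],[2,1,1,0,0,0],[2,0,2,1,0,0],[1,1,2,1,1,0],[2,0,0,2,2,1]]),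
  ([[1,1,2,0],[1],[1]], [[2,0,2,2,0,2],[0,0,0,2,0,0],[0,2,2,1,1,1],[1,2,1,2,1,0],[0,1,1,1,0,0],[0,0,0,1,1,0]], [[1,1,1,2,0,0],[2,2,2,2,2,2],[1,2,1,1,2,1],[0,2,0,0,0,0],[0,1,0,0,0,1],[0,1,1,0,1,2]], [[1,0,0,0,0,0],[1,1,0,0,0,0],[0,1,1,0,0,0],[2,2,2,1,0,0],[0,1,2,1,1,0],[2,1,0,0,1,1]], [[1,0,2,1,2,1],[0,1,1,0,1,1],[0,0,1,1,2,2],[0,0,0,1,1,2],[0,0,0,0,1,2],[0,0,0,0,0,1]], [[1,0,0,0,0,0],[1,1,0,0,0,0],[1,0,1,0,0,0],[0,2,1,1,0,0],[1,0,2,1,1,0],[2,1,2,0,0,1]]),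
  ([[1,1,2,1],[1],[1]], [[0,1,1,0,1,2],[0,1,0,2,1,1],[0,0,2,0,2,1],[2,1,0,0,2,2],[0,1,0,0,1,2],[2,2,2,1,2,2]], [[2,2,0,0,1,2],[1,0,1,0,0,0],[1,0,0,0,2,0],[0,0,2,2,2,1],[2,2,0,1,0,2],[0,2,1,1,2,2]], [[1,0,0,0,0,0],[1,1,0,0,0,0],[0,2,1,0,0,0],[2,2,2,1,0,0],[1,0,1,2,1,0],[0,1,1,2,0,1]], [[1,0,0,1,0,0],[0,1,1,1,0,1],[0,0,1,2,0,2],[0,0,0,1,2,2],[0,0,0,0,1,2],[0,0,0,0,0,1]], [[1,0,0,0,0,0],[0,1,0,0,0,0],[0,0,1,0,0,0],[0,0,0,1,0,0],[0,0,0,0,1,0],[0,0,0,0,0,1]]),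
  ([[1,1,2,2],[1],[1]], [[2,0,1,1,1,2],[1,0,2,2,0,2],[2,1,0,0,2,1],[1,0,2,1,2,2],[0,0,1,2,1,0],[2,2,1,1,1,0]], [[0,2,2,0,0,2],[1,2,2,2,2,1],[1,0,1,0,2,1],[2,2,2,1,2,2],[1,2,1,1,1,1],[0,2,2,2,2,2]], [[1,0,0,0,0,0],[2,1,0,0,0,0],[0,2,1,0,0,0],[2,0,2,1,0,0],[2,2,2,2,1,0],[0,0,1,1,1,1]], [[1,0,2,0,1,1],[0,1,1,1,1,1],[0,0,1,1,2,2],[0,0,0,1,2,2],[0,0,0,0,1,2],[0,0,0,0,0,1]], [[1,0,0,0,0,0],[1,1,0,0,0,0],[0,2,1,0,0,0],[2,1,2,1,0,0],[2,1,1,1,1,0],[2,2,1,1,2,1]]),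
  ([[1,2,0,0],[1],[1]], [[2,2,1,1,0,2],[2,2,1,0,2,1],[1,2,1,0,1,1],[0,0,1,0,1,2],[2,2,0,1,2,1],[2,1,0,2,1,2]], [[0,0,0,0,1,1],[1,0,2,0,0,1],[2,2,1,2,2,1],[2,1,1,2,0,1],[0,1,2,0,2,2],[2,0,0,1,1,0]], [[1,0,0,0,0,0],[2,1,0,0,0,0],[2,0,1,0,0,0],[0,2,2,1,0,0],[0,2,2,2,1,0],[1,1,1,0,0,1]], [[1,0,0,0,0,1],[0,1,1,2,1,2],[0,0,1,1,0,0],[0,0,0,1,2,1],[0,0,0,0,1,2],[0,0,0,0,0,1]], [[1,0,0,0,0,0],[2,1,0,0,0,0],[2,2,1,0,0,0],[1,0,1,1,0,0],[0,1,1,2,1,0],[2,2,2,0,2,1]]),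
  ([[1,2,0,1],[1],[1]], [[0,1,2,1,1,0],[1,1,1,1,2,1],[0,1,2,1,1,1],[2,2,0,2,1,1],[1,1,1,0,0,2],[1,1,1,1,0,1]], [[2,0,0,1,0,2],[1,2,0,1,1,1],[2,1,1,1,0,0],[2,0,1,0,2,1],[0,2,0,0,0,1],[2,0,1,0,0,0]], [[1,0,0,0,0,0],[2,1,0,0,0,0],[2,1,1,0,0,0],[2,2,1,1,0,0],[2,2,0,1,1,0],[0,1,2,2,2,1]], [[1,1,2,0,2,1],[0,1,1,0,2,1],[0,0,1,2,0,2],[0,0,0,1,0,1],[0,0,0,0,1,1],[0,0,0,0,0,1]], [[1,0,0,0,0,0],[2,1,0,0,0,0],[0,1,1,0,0,0],[2,0,2,1,0,0],[1,2,2,1,1,0],[2,2,1,1,0,1]]),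
  ([[1,2,0,2],[1],[1]], [[0,1,0,2,2,1],[2,1,0,2,2,2],[2,2,2,0,1,1],[1,2,1,0,0,0],[2,1,0,2,0,2],[1,0,0,0,2,0]], [[0,2,0,0,1,1],[1,1,1,1,1,2],[1,2,1,2,0,1],[2,2,1,1,1,0],[0,2,0,0,1,0],[2,0,0,0,1,1]], [[1,0,0,0,0,0],[2,1,0,0,0,0],[0,0,1,0,0,0],[2,1,2,1,0,0],[0,0,0,1,1,0],[0,0,0,0,2,1]], [[1,0,2,2,2,1],[0,1,1,1,1,1],[0,0,1,2,2,2],[0,0,0,1,0,1],[0,0,0,0,1,2],[0,0,0,0,0,1]], [[1,0,0,0,0,0],[0,1,0,0,0,0],[1,1,1,0,0,0],[2,0,2,1,0,0],[1,2,1,2,1,0],[2,1,0,2,1,1]]),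
  ([[1,2,1,0],[1],[1]], [[2,2,2,2,0,1],[0,2,1,0,2,0],[2,1,1,1,0,0],[2,0,2,2,1,2],[2,0,0,1,0,0],[0,2,2,0,1,1]], [[0,2,0,1,1,1],[2,0,2,1,1,2],[1,0,2,2,1,1],[0,2,0,1,2,1],[2,2,0,1,0,2],[1,1,1,2,2,2]], [[1,0,0,0,0,0],[2,1,0,0,0,0],[0,1,1,0,0,0],[1,1,0,1,0,0],[1,2,2,2,1,0],[2,0,1,0,0,1]], [[1,1,1,0,2,0],[0,1,2,1,1,1],[0,0,1,2,0,0],[0,0,0,1,2,1],[0,0,0,0,1,0],[0,0,0,0,0,1]], [[1,0,0,0,0,0],[0,1,0,0,0,0],[0,0,1,0,0,0],[0,0,0,1,0,0],[0,0,0,0,1,0],[0,0,0,0,0,1]]),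
  ([[1,2,1,1],[1],[1]], [[0,0,1,2,1,1],[2,1,2,2,1,1],[0,1,2,2,1,1],[1,0,1,2,0,1],[0,2,1,2,0,1],[0,2,1,0,1,2]], [[0,2,1,0,0,0],[0,1,2,1,2,0],[2,2,2,2,1,0],[2,1,1,1,0,2],[1,2,1,2,0,0],[0,0,1,0,2,2]], [[1,0,0,0,0,0],[2,1,0,0,0,0],[1,0,1,0,0,0],[1,2,1,1,0,0],[2,2,0,2,1,0],[0,2,0,2,0,1]], [[1,1,2,1,1,0],[0,1,0,0,0,2],[0,0,1,1,0,0],[0,0,0,1,1,2],[0,0,0,0,1,2],[0,0,0,0,0,1]], [[1,0,0,0,0,0],[2,1,0,0,0,0],[2,1,1,0,0,0],[1,0,1,1,0,0],[1,0,2,2,1,0],[2,0,2,0,2,1]]),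
  ([[1,2,1,2],[1],[1]], [[0,1,0,0,2,1],[0,1,0,0,0,0],[2,2,2,2,0,2],[0,2,0,2,1,1],[2,0,0,0,0,1],[2,0,0,1,0,1]], [[2,0,0,2,0,2],[0,1,0,0,0,0],[2,2,2,2,0,1],[0,0,0,0,2,1],[1,1,0,2,1,2],[2,0,0,2,1,2]], [[1,0,0,0,0,0],[0,1,0,0,0,0],[0,2,1,0,0,0],[2,2,2,1,0,0],[0,0,0,0,1,0],[2,0,1,0,0,1]], [[1,1,0,1,0,2],[0,1,1,2,2,2],[0,0,1,1,2,1],[0,0,0,1,1,0],[0,0,0,0,1,0],[0,0,0,0,0,1]], [[1,0,0,0,0,0],[1,1,0,0,0,0],[2,0,1,0,0,0],[2,1,2,1,0,0],[1,2,2,2,1,0],[2,2,0,2,0,1]]),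
  ([[1,2,2,0],[1],[1]], [[0,2,2,2,1,1],[0,0,2,0,2,0],[2,2,0,1,1,1],[2,0,0,1,2,0],[1,0,1,1,2,2],[2,1,1,2,2,0]], [[2,2,0,2,2,2],[1,2,0,2,1,2],[0,0,2,1,2,2],[2,1,1,2,0,0],[0,2,1,2,1,1],[1,1,2,0,2,0]], [[1,0,0,0,0,0],[0,1,0,0,0,0],[0,1,1,0,0,0],[2,1,1,1,0,0],[2,2,2,0,1,0],[1,2,0,1,1,1]], [[1,1,0,0,2,2],[0,1,2,1,1,1],[0,0,1,2,0,1],[0,0,0,1,0,1],[0,0,0,0,1,0],[0,0,0,0,0,1]], [[1,0,0,0,0,0],[0,1,0,0,0,0],[2,0,1,0,0,0],[0,0,0,1,0,0],[1,1,2,1,1,0],[0,1,2,1,0,1]]),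
  ([[1,2,2,1],[1],[1]], [[2,0,0,0,1,2],[1,1,0,0,0,0],[1,0,1,2,0,0],[2,2,1,0,1,1],[0,1,0,1,1,2],[1,0,2,1,0,0]], [[0,0,2,0,0,2],[0,1,1,0,0,1],[2,2,2,0,1,1],[2,2,0,0,1,0],[1,1,0,2,1,2],[0,1,1,2,1,0]], [[1,0,0,0,0,0],[2,1,0,0,0,0],[2,2,1,0,0,0],[0,1,0,1,0,0],[1,1,1,0,1,0],[1,0,2,2,1,1]], [[1,0,2,1,0,1],[0,1,0,1,0,2],[0,0,1,0,0,2],[0,0,0,1,0,2],[0,0,0,0,1,1],[0,0,0,0,0,1]], [[1,0,0,0,0,0],[0,1,0,0,0,0],[0,0,1,0,0,0],[0,0,0,1,0,0],[0,0,0,0,1,0],[0,0,0,0,0,1]]),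
  ([[1,2,2,2],[1],[1]], [[1,1,0,1,2,0],[0,2,1,1,2,2],[0,0,0,2,2,0],[1,2,1,0,2,1],[2,2,0,0,1,0],[0,2,1,2,2,1]], [[2,0,0,1,2,2],[0,0,2,2,2,1],[2,2,1,2,1,0],[1,0,0,0,1,0],[2,0,2,0,2,0],[1,1,0,0,1,2]], [[1,0,0,0,0,0],[0,1,0,0,0,0],[1,1,1,0,0,0],[1,2,1,1,0,0],[2,2,1,2,1,0],[2,1,1,0,1,1]], [[1,1,0,2,1,0],[0,1,0,1,1,2],[0,0,1,1,0,0],[0,0,0,1,0,1],[0,0,0,0,1,1],[0,0,0,0,0,1]], [[1,0,0,0,0,0],[1,1,0,0,0,0],[0,0,1,0,0,0],[1,1,1,1,0,0],[0,1,1,1,1,0],[2,0,0,1,0,1]])]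

theorem smmp6_ok : tblOk 3 [g6p] smmp6 = true := by decide +kernel

theorem smmp6_keys : keys smmp6 = ((detV 3 4 1).map fun a => [a, [1], [1]]) := by decide +kernel

def tjp5 : Tbl :=
  [([[1,1],[2],[2],[2]], [[2,1,1,2,1],[2,1,0,0,1],[0,2,0,2,2],[0,1,1,2,0],[0,2,0,0,2]], [[0,2,0,0,2],[2,1,0,1,0],[1,2,2,0,1],[0,0,2,0,1],[1,2,0,2,2]], [[1,0,0,0,0],[0,1,0,0,0],[0,0,1,0,0],[0,0,0,1,0],[0,2,2,0,1]], [[1,2,1,2,0],[0,1,2,0,0],[0,0,1,2,0],[0,0,0,1,2],[0,0,0,0,1]], [[1,0,0,0,0],[0,1,0,0,0],[0,0,1,0,0],[0,0,0,1,0],[0,0,0,0,1]])]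

theorem tjp5_ok : tblOk 3 [[1],g4m] tjp5 = true := by decide +kernel

theorem tjp5_keys : keys tjp5 = ([[[1,1],[2],[2],[2]]]) := by decide +kernel

def tmmp5 : Tbl :=
  [([[2],[2],[2],[1],[1]], [[1,0,1,0,1],[0,1,2,2,1],[0,0,0,0,1],[2,2,2,2,2],[2,1,0,2,0]], [[2,2,2,0,1],[2,1,1,1,1],[2,1,0,0,2],[0,2,2,1,2],[0,0,1,0,0]], [[1,0,0,0,0],[2,1,0,0,0],[2,2,1,0,0],[0,1,0,1,0],[1,2,0,1,1]], [[1,1,1,1,1],[0,1,2,0,0],[0,0,1,2,0],[0,0,0,1,0],[0,0,0,0,1]], [[1,0,0,0,0],[2,1,0,0,0],[0,0,1,0,0],[2,2,1,1,0],[1,2,0,2,1]])]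

theorem tmmp5_ok : tblOk 3 [g5p] tmmp5 = true := by decide +kernel

theorem tmmp5_keys : keys tmmp5 = ([[[2],[2],[2],[1],[1]]]) := by decide +kernel

end H31.Com.DO
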