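import Cfsg.Agent.H31.Commutator.Three
import Cfsg.Agent.H31.Commutator.TableO
import Cfsg.Agent.H31.Commutator.Plus3
import Cfsg.Agent.H31.Commutator.Odd

/-!
Free commutator factorisations without fixed vectors in `SL_n(3)`.
-/

set_option autoImplicit false
set_option linter.unusedSectionVars false
set_option linter.style.longLine false

namespace H31.Com.T3

open Matrix Polynomial
open H89.CN (Sim Dec)

variable {K : Type*} [Field K] [Fintype K] [CharP K 3]

/-- The polynomial with root one. -/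
noncomputable def p1 : K[X] := ofL ([2] ++ [1])

/-- The polynomial with root minus one. -/
noncomputable def q1 : K[X] := ofL ([1] ++ [1])

/-- The side polynomials. -/
abbrev SO (φ : ℕ → K[X]) : Set K[X] := side (pset DO.cs) 8 φ

/-- The side polynomials and the forbidden root. -/
abbrev S1 (φ : ℕ → K[X]) : Set K[X] := insert p1 (SO φ)

section
variable {φ : ℕ → K[X]}

theorem free_SO (hφ : Chosen 8 φ) : Free (SO φ) :=
  free_side (by norm_num) hφ (free_pset DO.codes_ok DO.free_ok) fun _ ht => code_prop DO.codes_ok ht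

theorem pset_SO {cs : List (List ℕ)} (h : cs.all (fun a => DO.cs.contains a) = true) : (pset cs : Set K[X]) ⊆ SO φ :=
  fun _ ht => Or.inl (pset_mono h ht)

theorem mem_SO {a : List ℕ} (h : DO.cs.contains a = true) : (ofL (a ++ [1]) : K[X]) ∈ SO φ :=
  Or.inl ⟨a, List.contains_iff_mem.1 h, rfl⟩

theorem against_p1 (hφ : Chosen 8 φ) : Against (SO φ) (p1 : K[X]) :=
  against_lin (by norm_num) hφ (by decide) DO.codes_ok DO.lp_ok DO.lp_ok'

theorem against_q1 (hφ : Chosen 8 φ) : Against (S1 φ) (ofL ([1] ++ [1]) : K[X]) := by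
  rintro t (rfl | ht)
  · rw [p1, rev_code (q := 3) (by decide), rev_code (q := 3) (by decide)]
    exact ⟨coprime_of_bez (q := 3) (u := [2]) (v := [2]) (by decide),
      coprime_of_bez (q := 3) (u := [1]) (v := [2]) (by decide)⟩
  · exact against_lin (by norm_num) hφ (by decide) DO.codes_ok DO.lm_ok DO.lm_ok' t ht

theorem p1_eq : (p1 : K[X]) = X - Polynomial.C 1 := by
  simp only [p1, ofL, List.cons_append, List.nil_append, two_cast, C_neg, Nat.cast_one, map_one]
  ring

theorem coprime_one {Φ : K[X]} (h : ∀ t ∈ S1 φ, IsCoprime Φ t.reverse ∧ IsCoprime t Φ.reverse) :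
    IsCoprime Φ (X - Polynomial.C 1) := by
  have h1 := (h p1 (Set.mem_insert _ _)).1
  have e : (p1 : K[X]).reverse = ofL [2] * p1 := by
    rw [p1, rev_code (q := 3) (by decide), ← ofL_mulP]
    exact ofL_eq_of_eqP (q := 3) (by decide)
  rw [e] at h1
  rw [← p1_eq]
  exact h1.of_mul_right_right

/-- Available with both determinants. -/
def Flex (φ : ℕ → K[X]) (l : List K[X]) : Prop := FG (SO φ) (1 : K) l ∧ FG (SO φ) (-1 : K) l

/-- The two tails which have no factorisation of their own. -/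
def IsTail (T : List K[X]) : Prop :=
  T = polysOf [[1], [1]] ∨ T = polysOf [[1, 1]]

/-- Flexible, and absorbing both tails. -/
def Nice (φ : ℕ → K[X]) (l : List K[X]) : Prop :=
  Flex φ l ∧ ∀ T, IsTail T → FR (S1 φ) (1 : K) (T ++ l)

theorem Flex.perm {l l' : List K[X]} (h : Flex φ l) (hp : l.Perm l') : Flex φ l' := ⟨h.1.perm hp, h.2.perm hp⟩

theorem Flex.append {l l' : List K[X]} (h : Flex φ l) (h' : Flex φ l') : Flex φ (l ++ l') :=
  ⟨by simpa using h.1.append h'.1, by simpa using h.1.append h'.2⟩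

theorem Nice.perm {l l' : List K[X]} (h : Nice φ l) (hp : l.Perm l') : Nice φ l' :=
  ⟨h.1.perm hp, fun T hT => (h.2 T hT).perm (hp.append_left T)⟩

theorem Nice.append (hφ : Chosen 8 φ) {l l' : List K[X]} (h : Nice φ l) (h' : Nice φ l') : Nice φ (l ++ l') :=
  ⟨h.1.append h'.1, fun T hT => by
    have := (h.2 T hT).append1 (free_SO hφ) (against_p1 hφ) h'.1.1
    rwa [one_mul, List.append_assoc] at this⟩

theorem fg1 {a : List ℕ} {T : Tbl} (h : tblOk 3 [a] T = true) (ha : detN 3 [a] = 1) (hs : DO.cs.contains a = true)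
    {ms : List (List ℕ)} (hm : ms ∈ keys T) : FG (SO φ) (1 : K) (polysOf ms) := by
  have h1 := (fg_tbl (K := K) (by norm_num) h ha hm).mono (pset_SO (φ := φ) (by simpa using hs))
  rwa [Nat.cast_one] at h1

theorem fg2 {a : List ℕ} {T : Tbl} (h : tblOk 3 [a] T = true) (ha : detN 3 [a] = 2) (hs : DO.cs.contains a = true)
    {ms : List (List ℕ)} (hm : ms ∈ keys T) : FG (SO φ) (-1 : K) (polysOf ms) := by
  have h1 := (fg_tbl (K := K) (by norm_num) h ha hm).mono (pset_SO (φ := φ) (by simpa using hs))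
  rwa [two_cast] at h1

theorem fr1 (hφ : Chosen 8 φ) {a : List ℕ} {T : Tbl} (h : tblOk 3 [[1], a] T = true) (ha : detN 3 [[1], a] = 1)
    (hs : DO.cs.contains a = true) {ms : List (List ℕ)} (hm : ms ∈ keys T) : FR (S1 φ) (1 : K) (polysOf ms) := by
  have hS := free_SO hφ
  have hA := mem_SO (φ := φ) (K := K) hs
  have hc := against_q1 (φ := φ) hφ
  have h1 := FR.of_table (K := K) (q := 3) (by norm_num) h hc (against_insert (against_p1 hφ) hS hA)
    (Or.inr (hS _ hA _ hA)) (hc _ (Set.mem_insert_of_mem _ hA)).1 (hc _ (Set.mem_insert_of_mem _ hA)).2 hm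
  rwa [detOf_eq (q := 3) (by norm_num), ha, Nat.cast_one] at h1

theorem tail_perm {T l : List K[X]} (hφ : Chosen 8 φ) (h : FG (SO φ) (1 : K) (l ++ T)) :
    FR (S1 φ) (1 : K) (T ++ l) :=
  (h.toFR1 (free_SO hφ) (against_p1 hφ)).perm List.perm_append_comm

theorem nice_single (hK : Fintype.card K = 3) (hφ : Chosen 8 φ) {f : K[X]} (hf : OkBlock f) (h1 : cd f = 1)
    (h3 : 3 ≤ f.natDegree) : Nice φ [f] := by
  have hb' : ∀ t ∈ (pset DO.cs : Set K[X]), t.coeff 0 ≠ 0 ∧ t.natDegree < 8 := fun _ ht => code_prop DO.codes_ok ht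
  have hb : ∀ (d e : ℕ) (T : Tbl) (a : List ℕ), tblOk 3 [a] T = true → detN 3 [a] = e →
      keys T = ((detV 3 d 1).map fun a => [a]) → GP (OnePos (K := K)) (pset [a] : Set K[X]) ((e : ℕ) : K) d := by
    rintro d e T a t1 t2 t3 l ⟨g, hg, hcd, hd, rfl⟩
    obtain ⟨c, hc, rfl⟩ := code_pos hK hg hd hcd
    exact fg_tbl (by norm_num) t1 t2 (ms := [c]) (t3 ▸ List.mem_map.2 ⟨c, hc, rfl⟩)
  have hx : ∀ (X : List (List ℕ)) (d e : ℕ) (T : Tbl) (a : List ℕ), tblOk 3 [a] T = true → detN 3 [a] = e →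
      keys T = ((detV 3 d 1).map fun a => a :: X) →
      GP (WithTail (OnePos (K := K)) (polysOf X)) (pset [a] : Set K[X]) ((e : ℕ) : K) d := by
    rintro X d e T a t1 t2 t3 l ⟨_, ⟨g, hg, hcd, hd, rfl⟩, rfl⟩
    obtain ⟨c, hc, rfl⟩ := code_pos hK hg hd hcd
    exact fg_tbl (by norm_num) t1 t2 (ms := c :: X) (t3 ▸ List.mem_map.2 ⟨c, hc, rfl⟩)
  have hch := DO.chainS (K := K) shrinks_onePos (hb 3 1 _ _ D3.singlep3_ok (by decide) D3.singlep3_keys)
    (hb 3 2 _ _ D3.singlem3_ok (by decide) D3.singlem3_keys) (hb 4 1 _ _ D3.singlep4_ok (by decide) D3.singlep4_keys)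
    (hb 4 2 _ _ D3.singlem4_ok (by decide) D3.singlem4_keys)
  refine ⟨⟨GP.tower shrinks_onePos (by norm_num) (by norm_num) hφ hb' one_ne_zero (fun d a b => ?_) _ h3 _
    ⟨f, hf, h1, rfl, rfl⟩, GP.tower shrinks_onePos (by norm_num) (by norm_num) hφ hb' (neg_ne_zero.2 one_ne_zero)
    (fun d a b => ?_) _ h3 _ ⟨f, hf, h1, rfl, rfl⟩⟩, fun T hT => tail_perm hφ ?_⟩
  · have := (hch d a b).1; rwa [Nat.cast_one] at this
  · have := (hch d a b).2; rwa [two_cast] at this
  rcases hT with rfl | rfl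
  · have hc := DO.chainSX (K := K) (shrinks_withTail shrinks_onePos (polysOf [[1], [1]]))
      (hx _ 3 1 _ _ DO.smmp5_ok (by decide) DO.smmp5_keys) (hx _ 3 2 _ _ DO.smmm5_ok (by decide) DO.smmm5_keys)
      (hx _ 4 1 _ _ DO.smmp6_ok (by decide) DO.smmp6_keys) (hx _ 4 2 _ _ DO.smmm6_ok (by decide) DO.smmm6_keys)
    refine GP.tower (shrinks_withTail shrinks_onePos _) (by norm_num) (by norm_num) hφ hb' one_ne_zero
      (fun d a b => ?_) _ h3 _ ⟨[f], ⟨f, hf, h1, rfl, rfl⟩, rfl⟩
    have := (hc d a b).1; rwa [Nat.cast_one] at this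
  · have hc := DO.chainSX (K := K) (shrinks_withTail shrinks_onePos (polysOf [[1, 1]]))
      (hx _ 3 1 _ _ DO.sjp5_ok (by decide) DO.sjp5_keys) (hx _ 3 2 _ _ DO.sjm5_ok (by decide) DO.sjm5_keys)
      (hx _ 4 1 _ _ DO.sjp6_ok (by decide) DO.sjp6_keys) (hx _ 4 2 _ _ DO.sjm6_ok (by decide) DO.sjm6_keys)
    refine GP.tower (shrinks_withTail shrinks_onePos _) (by norm_num) (by norm_num) hφ hb' one_ne_zero
      (fun d a b => ?_) _ h3 _ ⟨[f], ⟨f, hf, h1, rfl, rfl⟩, rfl⟩
    have := (hc d a b).1; rwa [Nat.cast_one] at this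

theorem key_neg (hK : Fintype.card K = 3) {p r : K[X]} (hp : OkBlock p) (hr : OkBlock r) (c : cd p = -1)
    (c' : cd r = -1) :
    ∃ a ∈ detV 3 p.natDegree 2, ∃ b ∈ detV 3 r.natDegree 2, [p, r] = (polysOf [a, b] : List K[X]) := by
  obtain ⟨a, ha, ea⟩ := code_neg hK hp rfl c
  obtain ⟨b, hb, eb⟩ := code_neg hK hr rfl c'
  exact ⟨a, ha, b, hb, by rw [ea, eb]; rfl⟩

/-- The keys of two blocks with a tail. -/
abbrev pairKeys (d : ℕ) (X : List (List ℕ)) : List (List (List ℕ)) :=
  ((detV 3 (d - 1) 2).flatMap fun a => (detV 3 1 2).map fun b => a :: b :: X) ++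
    ((detV 3 (d - 2) 2).flatMap fun a => (detV 3 2 2).map fun b => a :: b :: X)

theorem gp_pair (hK : Fintype.card K = 3) (X : List (List ℕ)) (d e : ℕ) (T : Tbl) (a : List ℕ)
    (t1 : tblOk 3 [a] T = true) (t2 : detN 3 [a] = e) (t3 : keys T = pairKeys d X) (hd : d < 6) :
    GP (WithTail (TwoNeg (K := K)) (polysOf X)) (pset [a] : Set K[X]) ((e : ℕ) : K) d := by
  rintro l ⟨_, ⟨p, r, hp, hr, c, c', hsum, rfl⟩, rfl⟩
  have main : ∀ {p r : K[X]}, OkBlock p → OkBlock r → cd p = -1 → cd r = -1 → p.natDegree + r.natDegree = d →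
      r.natDegree ≤ p.natDegree → FG (pset [a] : Set K[X]) ((e : ℕ) : K) ([p, r] ++ polysOf X) := by
    intro p r hp hr c c' hsum hle
    obtain ⟨u, hu, v, hv, eq⟩ := key_neg hK hp hr c c'
    rw [eq, show polysOf [u, v] ++ polysOf X = (polysOf (u :: v :: X) : List K[X]) from rfl]
    refine fg_tbl (by norm_num) t1 t2 (t3 ▸ List.mem_append.2 ?_)
    have := hr.2.1
    rcases (by omega : r.natDegree = 1 ∨ r.natDegree = 2) with h | h
    · rw [h] at hv; rw [show p.natDegree = d - 1 by omega] at hu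
      exact Or.inl (List.mem_flatMap.2 ⟨u, hu, List.mem_map.2 ⟨v, hv, rfl⟩⟩)
    · rw [h] at hv; rw [show p.natDegree = d - 2 by omega] at hu
      exact Or.inr (List.mem_flatMap.2 ⟨u, hu, List.mem_map.2 ⟨v, hv, rfl⟩⟩)
  rcases Nat.le_total r.natDegree p.natDegree with hle | hle
  · exact main hp hr c c' hsum hle
  · exact (main hr hp c' c (by omega) hle).perm ((List.Perm.swap p r []).append_right _)

theorem gp_pair0 (hK : Fintype.card K = 3) (d e : ℕ) (T : Tbl) (a : List ℕ)
    (t1 : tblOk 3 [a] T = true) (t2 : detN 3 [a] = e) (t3 : keys T = pairKeys d []) (hd : d < 6) :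
    GP (TwoNeg (K := K)) (pset [a] : Set K[X]) ((e : ℕ) : K) d := fun l hl => by
  have := gp_pair hK [] d e T a t1 t2 t3 hd (l ++ polysOf []) ⟨l, hl, rfl⟩
  rwa [show (polysOf [] : List K[X]) = [] from rfl, List.append_nil] at this

set_option maxHeartbeats 1000000 in
theorem nice_pair (hK : Fintype.card K = 3) (hφ : Chosen 8 φ) {f g : K[X]} (hf : OkBlock f) (hg : OkBlock g)
    (h1 : cd f = -1) (h1' : cd g = -1) (h3 : 3 ≤ f.natDegree + g.natDegree) : Nice φ [f, g] := by
  have hb' : ∀ t ∈ (pset DO.cs : Set K[X]), t.coeff 0 ≠ 0 ∧ t.natDegree < 8 := fun _ ht => code_prop DO.codes_ok ht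
  rcases Nat.lt_or_ge (f.natDegree + g.natDegree) 4 with h4 | h4
  · have small : ∀ {p r : K[X]}, OkBlock p → OkBlock r → cd p = -1 → cd r = -1 → p.natDegree = 2 → r.natDegree = 1 →
        Nice φ [p, r] := by
      intro p r hp hr c c' d2 d1
      obtain ⟨a, ha, b, hb, e⟩ := key_neg hK hp hr c c'
      rw [d2] at ha
      rw [d1] at hb
      rw [e]
      have hm : ∀ X : List (List ℕ), (a :: b :: X) ∈
          ((detV 3 2 2).flatMap fun a => (detV 3 1 2).map fun b => a :: b :: X) := fun X =>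
        List.mem_flatMap.2 ⟨a, ha, List.mem_map.2 ⟨b, hb, rfl⟩⟩
      refine ⟨⟨fg1 D3.pairp3_ok (by decide) (by decide) (D3.pairp3_keys ▸ hm []),
        fg2 D3.pairm3_ok (by decide) (by decide) (D3.pairm3_keys ▸ hm [])⟩, fun T hT => tail_perm hφ ?_⟩
      rcases hT with rfl | rfl
      · exact fg1 (ms := [a, b, [1], [1]]) DO.pmmp5_ok (by decide) (by decide) (DO.pmmp5_keys ▸ hm [[1], [1]])
      · exact fg1 (ms := [a, b, [1, 1]]) DO.pjp5_ok (by decide) (by decide) (DO.pjp5_keys ▸ hm [[1, 1]])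
    have := hf.2.1
    have := hg.2.1
    rcases (by omega : f.natDegree = 2 ∧ g.natDegree = 1 ∨ g.natDegree = 2 ∧ f.natDegree = 1) with ⟨a, b⟩ | ⟨a, b⟩
    · exact small hf hg h1 h1' a b
    · exact (small hg hf h1' h1 a b).perm (List.Perm.swap f g [])
  have hch := DO.chainP (K := K) shrinks_twoNeg (gp_pair0 hK 4 1 _ _ D3.pairp4_ok (by decide) D3.pairp4_keys (by norm_num))
    (gp_pair0 hK 4 2 _ _ D3.pairm4_ok (by decide) D3.pairm4_keys (by norm_num))
    (gp_pair0 hK 5 1 _ _ D3.pairp5_ok (by decide) D3.pairp5_keys (by norm_num))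
    (gp_pair0 hK 5 2 _ _ D3.pairm5_ok (by decide) D3.pairm5_keys (by norm_num))
  refine ⟨⟨GP.tower shrinks_twoNeg (by norm_num) (by norm_num) hφ hb' one_ne_zero (fun d a b => ?_) _ h4 _
    ⟨f, g, hf, hg, h1, h1', rfl, rfl⟩, GP.tower shrinks_twoNeg (by norm_num) (by norm_num) hφ hb' (neg_ne_zero.2 one_ne_zero)
    (fun d a b => ?_) _ h4 _ ⟨f, g, hf, hg, h1, h1', rfl, rfl⟩⟩, fun T hT => tail_perm hφ ?_⟩
  · have := (hch d a b).1; rwa [Nat.cast_one] at this
  · have := (hch d a b).2; rwa [two_cast] at this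
  rcases hT with rfl | rfl
  · have hc := DO.chainPX (K := K) (shrinks_withTail shrinks_twoNeg (polysOf [[1], [1]]))
      (gp_pair hK _ 4 1 _ _ DO.pmmp6_ok (by decide) DO.pmmp6_keys (by norm_num))
      (gp_pair hK _ 4 2 _ _ DO.pmmm6_ok (by decide) DO.pmmm6_keys (by norm_num))
      (gp_pair hK _ 5 1 _ _ DO.pmmp7_ok (by decide) DO.pmmp7_keys (by norm_num))
      (gp_pair hK _ 5 2 _ _ DO.pmmm7_ok (by decide) DO.pmmm7_keys (by norm_num))
    refine GP.tower (shrinks_withTail shrinks_twoNeg _) (by norm_num) (by norm_num) hφ hb' one_ne_zero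
      (fun d a b => ?_) _ h4 _ ⟨[f, g], ⟨f, g, hf, hg, h1, h1', rfl, rfl⟩, rfl⟩
    have := (hc d a b).1; rwa [Nat.cast_one] at this
  · have hc := DO.chainPX (K := K) (shrinks_withTail shrinks_twoNeg (polysOf [[1, 1]]))
      (gp_pair hK _ 4 1 _ _ DO.pjp6_ok (by decide) DO.pjp6_keys (by norm_num))
      (gp_pair hK _ 4 2 _ _ DO.pjm6_ok (by decide) DO.pjm6_keys (by norm_num))
      (gp_pair hK _ 5 1 _ _ DO.pjp7_ok (by decide) DO.pjp7_keys (by norm_num))
      (gp_pair hK _ 5 2 _ _ DO.pjm7_ok (by decide) DO.pjm7_keys (by norm_num))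
    refine GP.tower (shrinks_withTail shrinks_twoNeg _) (by norm_num) (by norm_num) hφ hb' one_ne_zero
      (fun d a b => ?_) _ h4 _ ⟨[f, g], ⟨f, g, hf, hg, h1, h1', rfl, rfl⟩, rfl⟩
    have := (hc d a b).1; rwa [Nat.cast_one] at this

theorem nice_cpair (hφ : Chosen 8 φ) {a b : List ℕ} (ha : a ∈ detV 3 2 1) (hb : b ∈ detV 3 2 1) :
    Nice φ (polysOf [a, b] : List K[X]) := by
  have hm : ∀ X : List (List ℕ), (a :: b :: X) ∈
      ((detV 3 2 1).flatMap fun a => (detV 3 2 1).map fun b => a :: b :: X) := fun X =>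
    List.mem_flatMap.2 ⟨a, ha, List.mem_map.2 ⟨b, hb, rfl⟩⟩
  refine ⟨⟨fg1 D3.c22p4_ok (by decide) (by decide) (D3.c22p4_keys ▸ hm []),
    fg2 D3.c22m4_ok (by decide) (by decide) (D3.c22m4_keys ▸ hm [])⟩, fun T hT => tail_perm hφ ?_⟩
  rcases hT with rfl | rfl
  · exact fg1 (ms := [a, b, [1], [1]]) DO.cmmp6_ok (by decide) (by decide) (DO.cmmp6_keys ▸ hm [[1], [1]])
  · exact fg1 (ms := [a, b, [1, 1]]) DO.cjp6_ok (by decide) (by decide) (DO.cjp6_keys ▸ hm [[1, 1]])

theorem nice_three (hφ : Chosen 8 φ) : Nice φ (polysOf [[2], [2], [2]] : List K[X]) := by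
  have h1 := (FG.ident (K := K) (q := 3) (by norm_num) (a := DO.g3p) (e := 1) (ms := [[2], [2], [2]]) (by decide) (by decide)).mono
    (pset_SO (φ := φ) (by decide))
  have h2 := (FG.ident (K := K) (q := 3) (by norm_num) (a := DO.g3m) (e := 2) (ms := [[2], [2], [2]]) (by decide) (by decide)).mono
    (pset_SO (φ := φ) (by decide))
  rw [Nat.cast_one] at h1
  rw [two_cast] at h2
  refine ⟨⟨h1, h2⟩, ?_⟩
  rintro T (rfl | rfl)
  · exact tail_perm hφ (fg1 (ms := [[2], [2], [2], [1], [1]]) DO.tmmp5_ok (by decide) (by decide) (by decide))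
  · exact fr1 hφ (ms := [[1, 1], [2], [2], [2]]) DO.tjp5_ok (by decide) (by decide) (by decide)

theorem four_neg : FG (SO φ) (-1 : K) (polysOf [[1], [1], [1], [1]]) :=
  fg2 D3.i44_ok (by decide) (by decide) (by decide)

theorem nice_six (hφ : Chosen 8 φ) : Nice φ (polysOf [[1], [1], [1], [1], [1], [1]] : List K[X]) := by
  refine ⟨⟨fg1 D3.i6p6_ok (by decide) (by decide) (by decide), fg2 D3.i6m6_ok (by decide) (by decide) (by decide)⟩, ?_⟩
  rintro T (rfl | rfl)
  · have h := (four_neg (φ := φ) (K := K)).append four_neg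
    rw [neg_mul_neg, one_mul] at h
    exact h.toFR1 (free_SO hφ) (against_p1 hφ)
  · have h := (fg2 (φ := φ) (K := K) D3.cmm4_ok (by decide) (by decide) (ms := [[1, 1], [1], [1]]) (by decide)).append four_neg
    rw [neg_mul_neg, one_mul] at h
    exact h.toFR1 (free_SO hφ) (against_p1 hφ)

/-- Empty or nice. -/
def Ni (φ : ℕ → K[X]) (l : List K[X]) : Prop := l = [] ∨ Nice φ l

theorem Ni.append (hφ : Chosen 8 φ) {l l' : List K[X]} (h : Ni φ l) (h' : Ni φ l') : Ni φ (l ++ l') := by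
  rcases h with rfl | h
  · simpa using h'
  rcases h' with rfl | h'
  · exact Or.inr (by simpa using h)
  · exact Or.inr (h.append hφ h')

theorem ni_big (hK : Fintype.card K = 3) (hφ : Chosen 8 φ) :
    ∀ B : List K[X], (∀ f ∈ B, OkBlock f ∧ cd f = 1 ∧ 3 ≤ f.natDegree) → Ni φ B
  | [], _ => Or.inl rfl
  | f :: B, h => by
    obtain ⟨a, b, c⟩ := h f (List.mem_cons_self ..)
    exact Ni.append hφ (l := [f]) (Or.inr (nice_single hK hφ a b c)) (ni_big hK hφ B fun g hg => h g (List.mem_cons_of_mem _ hg))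

theorem ni_neg (hK : Fintype.card K = 3) (hφ : Chosen 8 φ) {m : K[X]} (hm : OkBlock m) (hmc : cd m = -1)
    (hmd : m.natDegree = 1) : ∀ (N : List K[X]) (b : ℕ), (∀ f ∈ N, OkBlock f ∧ cd f = -1 ∧ 2 ≤ f.natDegree) →
    Even (N.length + b) → ∃ G k, Ni φ G ∧ (N ++ List.replicate b m).Perm (G ++ List.replicate (2 * k) m)
  | [], b, _, he => by
    obtain ⟨k, hk⟩ := (by simpa using he : Even b)
    exact ⟨[], k, Or.inl rfl, by rw [hk, two_mul]⟩
  | [x], 0, _, he => by simp at he
  | [x], b + 1, h, he => by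
    obtain ⟨k, hk⟩ : Even b := by
      rw [List.length_singleton, show 1 + (b + 1) = b + 2 by omega] at he
      exact (Nat.even_add.1 he).2 even_two
    obtain ⟨a1, a2, a3⟩ := h x (List.mem_cons_self ..)
    refine ⟨[x, m], k, Or.inr (nice_pair hK hφ a1 hm a2 hmc (by omega)), ?_⟩
    rw [hk, two_mul, List.replicate_succ]
    simp
  | x :: y :: N, b, h, he => by
    obtain ⟨G, k, hG, hp⟩ := ni_neg hK hφ hm hmc hmd N b (fun g hg => h g (by simp [hg])) (by
      simp only [List.length_cons] at he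
      rw [show N.length + 1 + 1 + b = N.length + b + 2 by omega] at he
      exact (Nat.even_add.1 he).2 even_two)
    obtain ⟨a1, a2, a3⟩ := h x (List.mem_cons_self ..)
    obtain ⟨b1, b2, b3⟩ := h y (by simp)
    exact ⟨x :: y :: G, k, Ni.append hφ (l := [x, y]) (Or.inr (nice_pair hK hφ a1 b1 a2 b2 (by omega))) hG,
      (hp.cons y).cons x⟩

theorem ni_pairs (hK : Fintype.card K = 3) (hφ : Chosen 8 φ) :
    ∀ C : List K[X], (∀ f ∈ C, OkBlock f ∧ cd f = 1 ∧ f.natDegree = 2) →
    ∃ G R, Ni φ G ∧ R.length ≤ 1 ∧ (∀ f ∈ R, f ∈ C) ∧ C.Perm (G ++ R)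
  | [], _ => ⟨[], [], Or.inl rfl, by simp, by simp, List.Perm.refl _⟩
  | [x], _ => ⟨[], [x], Or.inl rfl, by simp, by simp, List.Perm.refl _⟩
  | x :: y :: C, h => by
    obtain ⟨G, R, hG, hR, hsub, hp⟩ := ni_pairs hK hφ C fun g hg => h g (by simp [hg])
    obtain ⟨a1, a2, a3⟩ := h x (List.mem_cons_self ..)
    obtain ⟨b1, b2, b3⟩ := h y (by simp)
    obtain ⟨a, ha, rfl⟩ := code_pos hK a1 a3 a2
    obtain ⟨b, hb, rfl⟩ := code_pos hK b1 b3 b2
    exact ⟨polysOf [a, b] ++ G, R, Ni.append hφ (Or.inr (nice_cpair hφ ha hb)) hG, hR, fun f hf => by simp [hsub f hf],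
      (hp.cons _).cons _⟩

theorem ni_threes (hφ : Chosen 8 φ) : ∀ j : ℕ, Ni φ (List.replicate (3 * j) (ofL ([2] ++ [1]) : K[X]))
  | 0 => Or.inl rfl
  | j + 1 => by
    have := Ni.append hφ (Or.inr (nice_three (φ := φ) (K := K) hφ)) (ni_threes hφ j)
    rwa [show polysOf [[2], [2], [2]] = List.replicate 3 (ofL ([2] ++ [1]) : K[X]) from rfl,
      List.replicate_append_replicate, show 3 + 3 * j = 3 * (j + 1) by ring] at this

theorem ni_sixes (hφ : Chosen 8 φ) : ∀ j : ℕ, Ni φ (List.replicate (6 * j) (ofL ([1] ++ [1]) : K[X]))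
  | 0 => Or.inl rfl
  | j + 1 => by
    have := Ni.append hφ (Or.inr (nice_six (φ := φ) (K := K) hφ)) (ni_sixes hφ j)
    rwa [show polysOf [[1], [1], [1], [1], [1], [1]] = List.replicate 6 (ofL ([1] ++ [1]) : K[X]) from rfl,
      List.replicate_append_replicate, show 6 + 6 * j = 6 * (j + 1) by ring] at this

/-- What a remainder provides. -/
def RR (φ : ℕ → K[X]) (R : List K[X]) : Prop :=
  FR (S1 φ) (1 : K) R ∨
    (((R.map natDegree).sum ≤ 2 ∨ R = List.replicate 4 (ofL ([1] ++ [1]) : K[X])) ∧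
      (FR (S1 φ) (-1 : K) R ∨ IsTail R))

theorem rr_cases (hK : Fintype.card K = 3) (hφ : Chosen 8 φ) (R : List K[X]) (hR : R.length ≤ 1)
    (hRC : ∀ f ∈ R, OkBlock f ∧ cd f = 1 ∧ f.natDegree = 2) (r s : ℕ) (hr : r < 3) (hs : s < 3) :
    RR φ (R ++ List.replicate r (ofL ([2] ++ [1])) ++ List.replicate (2 * s) (ofL ([1] ++ [1]))) := by
  classical
  have hS := free_SO hφ
  have hP := against_p1 hφ
  have d1 : ∀ x : ℕ, (ofL [x, 1] : K[X]).natDegree = 1 := fun x => (cd_ofL (K := K) (a := [x]) Nat.one_pos).1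
  have lone : FR (S1 φ) (-1 : K) (polysOf [[2]]) := by
    have h := fr_lone (K := K) (q := 3) (by norm_num) (c := 1) (x := 2) (e := 2) (against_q1 (φ := φ) hφ) (by decide)
    rwa [two_cast] at h
  have two : FG (SO φ) (-1 : K) (polysOf [[2], [2]]) := by
    have h := (FG.ident (K := K) (q := 3) (by norm_num) (a := DO.q2) (e := 2) (ms := [[2], [2]]) (by decide) (by decide)).mono
      (pset_SO (φ := φ) (by decide))
    rwa [two_cast] at h
  have four : FG (SO φ) (-1 : K) (polysOf [[1], [1], [1], [1]]) := four_neg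
  have o1p : FG (SO φ) (1 : K) (polysOf [[2], [1], [1]]) := fg1 D3.o1mp3_ok (by decide) (by decide) (by decide)
  have o2p : FG (SO φ) (1 : K) (polysOf [[2], [2], [1], [1]]) := fg1 D3.o2mp4_ok (by decide) (by decide) (by decide)
  rcases R with _ | ⟨x, _ | ⟨y, R⟩⟩
  · interval_cases r <;> interval_cases s
    · exact Or.inl ((FG.nil _).toFR1 hS hP)
    · exact Or.inr ⟨Or.inl (by simp [List.map_replicate, d1]), Or.inr (Or.inl rfl)⟩
    · exact Or.inr ⟨Or.inr rfl, Or.inl (four.toFR1 hS hP)⟩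
    · exact Or.inr ⟨Or.inl (by simp [List.map_replicate, d1]), Or.inl lone⟩
    · exact Or.inl (o1p.toFR1 hS hP)
    · have h := lone.append1 hS hP four
      rw [neg_mul_neg, one_mul] at h
      exact Or.inl h
    · exact Or.inr ⟨Or.inl (by simp [List.map_replicate, d1]), Or.inl (two.toFR1 hS hP)⟩
    · exact Or.inl (o2p.toFR1 hS hP)
    · have h := two.append four
      rw [neg_mul_neg, one_mul] at h
      exact Or.inl (h.toFR1 hS hP)
  swap
  · simp at hR
  obtain ⟨h1, h2, h3⟩ := hRC x (List.mem_singleton_self x)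
  obtain ⟨c, hc, rfl⟩ := code_pos hK h1 h3 h2
  have cmk : ([c, [1], [1]] : List (List ℕ)) ∈ (detV 3 2 1).map fun a => [a, [1], [1]] :=
    List.mem_map.2 ⟨c, hc, rfl⟩
  have cmp : FG (SO φ) (1 : K) (polysOf [c, [1], [1]]) := fg1 D3.cmp4_ok (by decide) (by decide) (D3.cmp4_keys ▸ cmk)
  have cmm : FG (SO φ) (-1 : K) (polysOf [c, [1], [1]]) := fg2 D3.cmm4_ok (by decide) (by decide) (D3.cmm4_keys ▸ cmk)
  interval_cases r <;> interval_cases s
  · refine Or.inr ⟨Or.inl (by simp [h3]), ?_⟩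
    rcases ((by decide : ∀ c ∈ detV 3 2 1, [c] ∈ keys D3.c2side2 ∨ c = [1, 1]) c hc) with h | h
    · exact Or.inl ((fg2 (φ := φ) (K := K) D3.c2side2_ok (by decide) (by decide) h).toFR1 hS hP)
    · subst h; exact Or.inr (Or.inr rfl)
  · exact Or.inl (cmp.toFR1 hS hP)
  · exact Or.inl ((fg1 (φ := φ) (K := K) DO.jm46_ok (by decide) (by decide) (ms := [c, [1], [1], [1], [1]])
      (DO.jm46_keys ▸ List.mem_map.2 ⟨c, hc, rfl⟩)).toFR1 hS hP)
  · exact Or.inl (fr1 (φ := φ) (K := K) hφ D3.c1p3_ok (by decide) (by decide) (ms := [c, [2]])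
      (D3.c1p3_keys ▸ List.mem_map.2 ⟨c, hc, rfl⟩))
  · have h := lone.append1 hS hP cmm
    rw [neg_mul_neg, one_mul] at h
    exact Or.inl (h.perm (List.perm_iff_count.2 fun x => by simp [polysOf, List.count_cons]; split_ifs <;> omega))
  · have h := cmp.append o1p
    rw [one_mul] at h
    exact Or.inl ((h.perm (List.perm_iff_count.2 fun x => by simp [polysOf, List.count_cons]; split_ifs <;> omega)).toFR1 hS hP)
  · exact Or.inl (fr1 (φ := φ) (K := K) hφ DO.c2o4_ok (by decide) (by decide) (ms := [c, [2], [2]])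
      (DO.c2o4_keys ▸ List.mem_map.2 ⟨c, hc, rfl⟩))
  · have h := two.append cmm
    rw [neg_mul_neg, one_mul] at h
    exact Or.inl ((h.perm (List.perm_iff_count.2 fun x => by simp [polysOf, List.count_cons]; split_ifs <;> omega)).toFR1 hS hP)
  · have h := cmp.append o2p
    rw [one_mul] at h
    exact Or.inl ((h.perm (List.perm_iff_count.2 fun x => by simp [polysOf, List.count_cons]; split_ifs <;> omega)).toFR1 hS hP)

end

set_option maxHeartbeats 1000000 in
/-- **Three elements.** -/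
theorem slFacO_three [NeZero (2 : K)] (hK : Fintype.card K = 3) {m : ℕ} (hm : 3 ≤ m) : Odd.SLFacO m K := by
  classical
  obtain ⟨φ, hφ⟩ := exists_chosen (K := K) (J0 := 8) (by norm_num)
  intro M hMd hns
  obtain ⟨l, hA⟩ := H89.CN.exists_dec M
  obtain ⟨hl, hs, hcd⟩ := dec_ok hA (by rw [hMd]; exact one_ne_zero)
  have hdet : (l.map cd).prod = 1 := hcd.trans hMd
  suffices h : FR (S1 φ) (1 : K) l by
    obtain ⟨Φ, h1, h2⟩ := h m M hA
    exact ⟨Φ, 1, ⟨1, (one_mul 1).symm⟩, one_ne_zero, coprime_one h1, h2⟩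
  set o : K[X] := ofL ([2] ++ [1]) with ho
  set m1 : K[X] := ofL ([1] ++ [1]) with hm1
  have hdo : o.natDegree = 1 := by rw [ho, (cd_ofL (a := [2]) Nat.one_pos).1]; rfl
  have hdm : m1.natDegree = 1 := by rw [hm1, (cd_ofL (a := [1]) Nat.one_pos).1]; rfl
  have hcm : cd m1 = -1 := by
    rw [hm1, cd_code (q := 3) (by norm_num) (a := [1]) Nat.one_pos, ← two_cast (K := K)]; rfl
  have hco : cd o = 1 := by
    rw [ho, cd_code (q := 3) (by norm_num) (a := [2]) Nat.one_pos, ← Nat.cast_one (R := K)]; rfl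
  have hne : (1 : K) ≠ -1 := by
    rw [← two_cast (K := K), ← Nat.cast_one (R := K)]
    exact fun e => absurd ((CharP.natCast_eq_natCast K 3).1 e) (by decide)
  have okm : OkBlock m1 := ⟨monic_ofL _, by omega, by rw [hcm]; exact neg_ne_zero.2 one_ne_zero⟩
  have one_of : ∀ f ∈ l, f.natDegree = 1 → f = if cd f = 1 then o else m1 := fun f hf hd => by
    rcases cd_cases hK (hl f hf) with h | h
    · obtain ⟨a, ha, rfl⟩ := code_pos hK (hl f hf) hd h
      rw [if_pos h]
      rw [show detV 3 1 1 = [[2]] by decide, List.mem_singleton] at ha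
      rw [ha]
    · obtain ⟨a, ha, rfl⟩ := code_neg hK (hl f hf) hd h
      rw [if_neg (by rw [h]; exact hne.symm)]
      rw [show detV 3 1 2 = [[1]] by decide, List.mem_singleton] at ha
      rw [ha]
  set B := l.filter fun f => decide (cd f = 1 ∧ 3 ≤ f.natDegree)
  set C := l.filter fun f => decide (cd f = 1 ∧ f.natDegree = 2)
  set N := l.filter fun f => decide (cd f = -1 ∧ 2 ≤ f.natDegree)
  set a := (l.filter fun f => decide (cd f = 1 ∧ f.natDegree = 1)).length
  set b := (l.filter fun f => decide (cd f = -1 ∧ f.natDegree = 1)).length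
  have ha' : (l.filter fun f => decide (cd f = 1 ∧ f.natDegree = 1)) = List.replicate a o :=
    List.eq_replicate_of_mem fun f hf => by
      simp only [List.mem_filter, decide_eq_true_eq] at hf
      rw [one_of f hf.1 hf.2.2, if_pos hf.2.1]
  have hb' : (l.filter fun f => decide (cd f = -1 ∧ f.natDegree = 1)) = List.replicate b m1 :=
    List.eq_replicate_of_mem fun f hf => by
      simp only [List.mem_filter, decide_eq_true_eq] at hf
      rw [one_of f hf.1 hf.2.2, if_neg (by rw [hf.2.1]; exact hne.symm)]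
  have hB : ∀ f ∈ B, OkBlock f ∧ cd f = 1 ∧ 3 ≤ f.natDegree := fun f hf => by
    simp only [B, List.mem_filter, decide_eq_true_eq] at hf; exact ⟨hl f hf.1, hf.2.1, hf.2.2⟩
  have hC : ∀ f ∈ C, OkBlock f ∧ cd f = 1 ∧ f.natDegree = 2 := fun f hf => by
    simp only [C, List.mem_filter, decide_eq_true_eq] at hf; exact ⟨hl f hf.1, hf.2.1, hf.2.2⟩
  have hN : ∀ f ∈ N, OkBlock f ∧ cd f = -1 ∧ 2 ≤ f.natDegree := fun f hf => by
    simp only [N, List.mem_filter, decide_eq_true_eq] at hf; exact ⟨hl f hf.1, hf.2.1, hf.2.2⟩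
  have hperm : (B ++ C ++ List.replicate a o ++ (N ++ List.replicate b m1)).Perm l := by
    rw [← ha', ← hb']
    refine List.perm_iff_count.2 fun x => ?_
    simp only [B, C, N, List.count_append]
    by_cases hx : x ∈ l
    · have := (hl x hx).2.1
      rcases cd_cases hK (hl x hx) with hc | hc
      all_goals
        by_cases h1 : x.natDegree = 1 <;> by_cases h2 : x.natDegree = 2 <;> by_cases h3 : 3 ≤ x.natDegree <;>
          (try omega)
      all_goals
        simp [hc, h1, h2, h3, hne, hne.symm, List.count_filter, List.count_eq_zero_of_not_mem, List.mem_filter,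
          show (2 ≤ x.natDegree ↔ x.natDegree ≠ 1) by omega]
    · simp [List.count_eq_zero_of_not_mem, List.mem_filter, hx]
  -- parity of the blocks of determinant minus one
  have hev : Even (N.length + b) := by
    have h := (hperm.map cd).prod_eq
    have hp : ∀ X : List K[X], (∀ f ∈ X, cd f = 1) → (X.map cd).prod = 1 := fun X hX =>
      List.prod_eq_one fun y hy => by obtain ⟨f, hf, rfl⟩ := List.mem_map.1 hy; exact hX f hf
    rw [List.map_append, List.map_append, List.map_append, List.map_append, List.prod_append, List.prod_append,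
      List.prod_append, List.prod_append, hp B fun f hf => (hB f hf).2.1, hp C fun f hf => (hC f hf).2.1,
      hp _ fun f hf => by rw [List.eq_of_mem_replicate hf, hco], hdet,
      List.eq_replicate_of_mem (l := N.map cd) (a := (-1 : K)) (fun y hy => by
        obtain ⟨f, hf, rfl⟩ := List.mem_map.1 hy; exact (hN f hf).2.1),
      List.map_replicate, hcm, List.prod_replicate, List.prod_replicate, List.length_map, ← pow_add] at h
    simp only [one_mul] at h
    rcases Nat.even_or_odd (N.length + b) with he | he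
    · exact he
    · rw [he.neg_one_pow] at h; exact absurd h.symm hne
  obtain ⟨G1, k, hG1, hp1⟩ := ni_neg hK hφ okm hcm hdm N b hN hev
  obtain ⟨G2, R, hG2, hR, hRsub, hp2⟩ := ni_pairs hK hφ C hC
  set G := B ++ G1 ++ G2 ++ List.replicate (3 * (a / 3)) o ++ List.replicate (6 * (k / 3)) m1
  set W := R ++ List.replicate (a % 3) o ++ List.replicate (2 * (k % 3)) m1
  have hG : Ni φ G := ((((ni_big hK hφ B hB).append hφ hG1).append hφ hG2).append hφ (ni_threes hφ _)).append hφ
    (ni_sixes hφ _)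
  have hW : RR φ W := rr_cases hK hφ R hR (fun f hf => hC f (hRsub f hf)) _ _ (Nat.mod_lt _ (by norm_num))
    (Nat.mod_lt _ (by norm_num))
  have hGW : (W ++ G).Perm l := by
    refine List.Perm.trans (List.perm_iff_count.2 fun x => ?_) hperm
    have e1 := List.perm_iff_count.1 hp1 x
    have e2 := List.perm_iff_count.1 hp2 x
    simp only [G, W, List.count_append, List.count_replicate] at e1 e2 ⊢
    have d1 := Nat.div_add_mod a 3
    have d2 := Nat.div_add_mod k 3
    split_ifs at e1 e2 ⊢ <;> omega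
  rcases hG with hG | hG
  · rw [hG, List.append_nil] at hGW
    rcases hW with h | ⟨h | h, -⟩
    · exact h.perm hGW
    · rw [(hGW.map natDegree).sum_eq, hs] at h
      omega
    · exfalso
      have hA' : Dec M (polysOf [[1], [1], [1], [1]]) := by
        have := dec_perm hGW.symm hA
        rwa [h] at this
      obtain ⟨e', he'⟩ := simTo_of_dec (q := 3) (by norm_num) [[1], [1], [1], [1]] M hA'
      rw [bEnt_scalar (by decide)] at he'
      obtain ⟨P, hP, hPe⟩ := he'
      refine hns (-1) ?_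
      have h1 : Matrix.reindex e' e' ((-1 : K) • (1 : Matrix _ _ K)) = (-1 : K) • 1 := by
        ext i j; simp [Matrix.one_apply]; split_ifs <;> simp
      rw [h1, smul_mul, Matrix.one_mul] at hPe
      have := congrArg (P⁻¹ * ·) hPe
      simpa [← Matrix.mul_assoc, Matrix.nonsing_inv_mul _ hP] using this
  · rcases hW with h | ⟨-, h | h⟩
    · have := h.append1 (free_SO hφ) (against_p1 hφ) hG.1.1
      rw [one_mul] at this
      exact this.perm hGW
    · have := h.append1 (free_SO hφ) (against_p1 hφ) hG.1.2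
      rw [neg_mul_neg, one_mul] at this
      exact this.perm hGW
    · exact (hG.2 W h).perm hGW

end H31.Com.T3
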