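import Cfsg.Agent.H31.Commutator.Data2

/-!
Witness tables over 2 elements.
-/

set_option autoImplicit false
set_option maxHeartbeats 4000000
set_option maxRecDepth 100000
set_option linter.style.longLine false
set_option linter.unusedVariables false

namespace H31.Com.D2

open Matrix Polynomial

def single3 : Tbl :=
  [([[1,0,0]], [[1,0,1],[0,1,1],[0,0,1]], [[1,0,1],[0,1,1],[0,0,1]], [[1,0,0],[1,1,0],[0,1,1]], [[1,0,0],[0,1,1],[0,0,1]], [[1,0,0],[0,1,0],[0,0,1]]),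
  ([[1,0,1]], [[0,0,1],[0,1,0],[1,0,0]], [[0,0,1],[0,1,0],[1,0,0]], [[1,0,0],[1,1,0],[0,1,1]], [[1,1,0],[0,1,0],[0,0,1]], [[1,0,0],[0,1,0],[0,0,1]]),
  ([[1,1,0]], [[1,1,1],[0,0,1],[1,0,1]], [[0,1,1],[1,0,1],[0,1,0]], [[1,0,0],[0,1,0],[1,1,1]], [[1,0,1],[0,1,0],[0,0,1]], [[1,0,0],[0,1,0],[0,0,1]]),
  ([[1,1,1]], [[1,0,0],[1,0,1],[0,1,0]], [[1,0,0],[0,0,1],[1,1,0]], [[1,0,0],[1,1,0],[1,1,1]], [[1,0,1],[0,1,0],[0,0,1]], [[1,0,0],[0,1,0],[0,0,1]])]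

theorem single3_ok : tblOk 2 [f3] single3 = true := by decide +kernel

theorem single3_keys : keys single3 = ((unitV 2 3).map fun a => [a]) := by decide +kernel

def single4 : Tbl :=
  [([[1,0,0,0]], [[0,1,1,1],[1,1,0,0],[0,0,1,1],[1,0,0,1]], [[1,1,1,0],[1,0,1,0],[1,1,0,1],[1,1,1,1]], [[1,0,0,0],[0,1,0,0],[1,1,1,0],[1,1,1,1]], [[1,1,1,1],[0,1,1,0],[0,0,1,1],[0,0,0,1]], [[1,0,0,0],[0,1,0,0],[0,0,1,0],[0,0,0,1]]),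
  ([[1,0,0,1]], [[0,1,1,0],[0,0,0,1],[0,1,0,0],[1,1,1,0]], [[1,0,0,1],[0,0,1,0],[1,0,1,0],[0,1,0,0]], [[1,0,0,0],[0,1,0,0],[0,1,1,0],[0,1,0,1]], [[1,0,0,0],[0,1,1,1],[0,0,1,0],[0,0,0,1]], [[1,0,0,0],[0,1,0,0],[0,0,1,0],[0,0,0,1]]),
  ([[1,0,1,0]], [[1,0,0,0],[1,0,1,0],[1,1,0,1],[1,0,1,1]], [[1,0,0,0],[1,1,1,1],[1,1,0,0],[0,1,0,1]], [[1,0,0,0],[1,1,0,0],[0,1,1,0],[0,1,1,1]], [[1,1,1,0],[0,1,1,1],[0,0,1,0],[0,0,0,1]], [[1,0,0,0],[0,1,0,0],[0,0,1,0],[0,0,0,1]]),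
  ([[1,0,1,1]], [[0,0,1,1],[0,0,1,0],[1,0,1,1],[0,1,0,0]], [[1,0,1,0],[0,0,0,1],[0,1,0,0],[1,1,0,0]], [[1,0,0,0],[0,1,0,0],[1,1,1,0],[0,0,1,1]], [[1,1,0,0],[0,1,1,1],[0,0,1,0],[0,0,0,1]], [[1,0,0,0],[0,1,0,0],[0,0,1,0],[0,0,0,1]]),
  ([[1,1,0,0]], [[0,1,1,0],[1,1,1,1],[0,0,1,0],[0,0,1,1]], [[1,1,1,1],[1,0,1,0],[0,0,1,0],[0,0,1,1]], [[1,0,0,0],[0,1,0,0],[1,0,1,0],[0,1,1,1]], [[1,0,0,1],[0,1,0,0],[0,0,1,1],[0,0,0,1]], [[1,0,0,0],[0,1,0,0],[0,0,1,0],[0,0,0,1]]),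
  ([[1,1,0,1]], [[0,1,1,1],[1,0,1,1],[1,1,1,1],[0,0,0,1]], [[1,0,1,0],[0,1,1,0],[1,1,1,1],[0,0,0,1]], [[1,0,0,0],[0,1,0,0],[0,1,1,0],[1,0,0,1]], [[1,0,0,1],[0,1,1,0],[0,0,1,1],[0,0,0,1]], [[1,0,0,0],[0,1,0,0],[0,0,1,0],[0,0,0,1]]),
  ([[1,1,1,0]], [[0,0,1,0],[0,1,0,1],[0,1,0,0],[1,1,1,1]], [[1,1,0,1],[0,0,1,0],[1,0,0,0],[0,1,1,0]], [[1,0,0,0],[0,1,0,0],[1,1,1,0],[1,1,0,1]], [[1,1,1,0],[0,1,0,0],[0,0,1,0],[0,0,0,1]], [[1,0,0,0],[0,1,0,0],[0,0,1,0],[0,0,0,1]]),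
  ([[1,1,1,1]], [[1,1,0,0],[0,1,0,0],[1,0,1,1],[1,0,1,0]], [[1,1,0,0],[0,1,0,0],[1,1,0,1],[0,0,1,1]], [[1,0,0,0],[0,1,0,0],[1,0,1,0],[1,0,0,1]], [[1,0,1,0],[0,1,1,1],[0,0,1,0],[0,0,0,1]], [[1,0,0,0],[0,1,0,0],[0,0,1,0],[0,0,0,1]])]

theorem single4_ok : tblOk 2 [f4] single4 = true := by decide +kernel

theorem single4_keys : keys single4 = ((unitV 2 4).map fun a => [a]) := by decide +kernel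

def single5 : Tbl :=
  [([[1,0,0,0,0]], [[0,1,0,0,0],[1,0,0,1,0],[0,1,1,0,1],[1,0,0,0,0],[0,1,1,1,0]], [[0,0,0,1,0],[1,0,0,0,0],[1,1,0,1,1],[0,1,0,1,0],[0,1,1,1,1]], [[1,0,0,0,0],[1,1,0,0,0],[0,0,1,0,0],[1,1,0,1,0],[0,1,0,0,1]], [[1,0,1,1,0],[0,1,0,1,1],[0,0,1,0,0],[0,0,0,1,1],[0,0,0,0,1]], [[1,0,0,0,0],[0,1,0,0,0],[0,0,1,0,0],[0,0,0,1,0],[0,0,0,0,1]]),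
  ([[1,0,0,0,1]], [[0,1,1,0,1],[1,0,0,0,1],[1,1,1,1,0],[0,1,0,0,0],[0,0,0,0,1]], [[0,1,0,0,1],[0,0,0,1,0],[1,0,0,1,1],[1,1,1,0,0],[0,0,0,0,1]], [[1,0,0,0,0],[1,1,0,0,0],[0,0,1,0,0],[1,1,0,1,0],[0,1,1,0,1]], [[1,0,1,1,0],[0,1,1,1,0],[0,0,1,0,1],[0,0,0,1,1],[0,0,0,0,1]], [[1,0,0,0,0],[0,1,0,0,0],[0,0,1,0,0],[0,0,0,1,0],[0,0,0,0,1]]),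
  ([[1,0,0,1,0]], [[0,0,1,0,0],[0,0,1,1,1],[1,0,0,0,0],[0,1,0,1,1],[0,1,1,0,1]], [[0,0,1,0,0],[1,1,0,1,0],[1,0,0,0,0],[1,0,0,1,1],[0,1,0,1,1]], [[1,0,0,0,0],[0,1,0,0,0],[1,0,1,0,0],[0,0,1,1,0],[1,1,1,1,1]], [[1,0,1,1,1],[0,1,0,1,1],[0,0,1,0,0],[0,0,0,1,1],[0,0,0,0,1]], [[1,0,0,0,0],[0,1,0,0,0],[0,0,1,0,0],[0,0,0,1,0],[0,0,0,0,1]]),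
  ([[1,0,0,1,1]], [[1,0,1,0,1],[0,1,0,0,0],[1,1,1,0,0],[0,0,1,1,0],[0,0,1,0,0]], [[0,1,1,0,1],[0,1,0,0,0],[0,0,0,0,1],[0,0,0,1,1],[1,1,1,0,0]], [[1,0,0,0,0],[0,1,0,0,0],[1,0,1,0,0],[0,0,1,1,0],[0,1,1,0,1]], [[1,1,1,0,1],[0,1,1,1,0],[0,0,1,1,1],[0,0,0,1,0],[0,0,0,0,1]], [[1,0,0,0,0],[0,1,0,0,0],[0,0,1,0,0],[0,0,0,1,0],[0,0,0,0,1]]),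
  ([[1,0,1,0,0]], [[0,0,0,1,1],[0,0,1,1,1],[1,0,1,0,1],[0,0,0,0,1],[1,1,1,1,1]], [[1,1,1,1,0],[1,0,1,1,1],[1,1,0,0,0],[1,0,0,1,0],[0,0,0,1,0]], [[1,0,0,0,0],[0,1,0,0,0],[1,0,1,0,0],[1,0,1,1,0],[0,1,0,1,1]], [[1,1,0,1,0],[0,1,0,1,0],[0,0,1,0,0],[0,0,0,1,1],[0,0,0,0,1]], [[1,0,0,0,0],[0,1,0,0,0],[0,0,1,0,0],[0,0,0,1,0],[0,0,0,0,1]]),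
  ([[1,0,1,0,1]], [[0,0,1,1,0],[1,0,0,1,1],[0,0,1,0,0],[0,1,1,1,0],[0,0,0,0,1]], [[1,1,1,0,1],[1,0,0,1,0],[0,0,1,0,0],[1,0,1,0,0],[0,0,0,0,1]], [[1,0,0,0,0],[0,1,0,0,0],[1,0,1,0,0],[0,1,0,1,0],[0,0,1,0,1]], [[1,0,1,0,0],[0,1,0,1,1],[0,0,1,0,0],[0,0,0,1,0],[0,0,0,0,1]], [[1,0,0,0,0],[0,1,0,0,0],[0,0,1,0,0],[0,0,0,1,0],[0,0,0,0,1]]),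
  ([[1,0,1,1,0]], [[0,1,1,1,1],[0,1,0,1,1],[1,1,0,0,0],[0,1,0,0,1],[1,1,1,0,1]], [[1,1,0,1,1],[1,1,1,1,1],[1,1,0,0,0],[0,1,0,1,0],[1,1,1,0,1]], [[1,0,0,0,0],[1,1,0,0,0],[0,0,1,0,0],[0,1,1,1,0],[0,0,0,1,1]], [[1,1,1,1,1],[0,1,1,1,0],[0,0,1,1,0],[0,0,0,1,1],[0,0,0,0,1]], [[1,0,0,0,0],[0,1,0,0,0],[0,0,1,0,0],[0,0,0,1,0],[0,0,0,0,1]]),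
  ([[1,0,1,1,1]], [[0,1,0,0,1],[1,0,0,1,0],[1,1,1,1,1],[0,0,1,1,0],[0,0,1,1,1]], [[1,0,1,1,0],[1,0,0,1,1],[1,1,1,0,0],[1,1,1,1,0],[0,0,0,1,1]], [[1,0,0,0,0],[1,1,0,0,0],[1,1,1,0,0],[0,0,0,1,0],[1,1,1,1,1]], [[1,0,0,1,1],[0,1,0,1,1],[0,0,1,1,1],[0,0,0,1,1],[0,0,0,0,1]], [[1,0,0,0,0],[0,1,0,0,0],[0,0,1,0,0],[0,0,0,1,0],[0,0,0,0,1]]),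
  ([[1,1,0,0,0]], [[1,1,0,0,1],[1,1,1,1,1],[1,0,0,1,0],[1,1,0,0,0],[1,1,1,0,0]], [[1,1,1,1,1],[1,1,1,0,1],[0,0,0,1,1],[1,1,0,1,1],[1,0,0,1,0]], [[1,0,0,0,0],[0,1,0,0,0],[1,1,1,0,0],[1,0,0,1,0],[1,0,0,0,1]], [[1,1,0,1,0],[0,1,1,1,1],[0,0,1,1,1],[0,0,0,1,0],[0,0,0,0,1]], [[1,0,0,0,0],[0,1,0,0,0],[0,0,1,0,0],[0,0,0,1,0],[0,0,0,0,1]]),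
  ([[1,1,0,0,1]], [[1,0,0,0,0],[0,1,1,1,0],[1,1,0,1,1],[0,1,0,0,0],[1,1,1,0,0]], [[1,0,0,0,0],[0,0,0,1,0],[1,0,0,1,1],[1,1,0,0,1],[0,1,1,1,1]], [[1,0,0,0,0],[1,1,0,0,0],[0,0,1,0,0],[0,1,0,1,0],[1,0,1,1,1]], [[1,1,1,1,0],[0,1,1,0,0],[0,0,1,0,0],[0,0,0,1,1],[0,0,0,0,1]], [[1,0,0,0,0],[0,1,0,0,0],[0,0,1,0,0],[0,0,0,1,0],[0,0,0,0,1]]),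
  ([[1,1,0,1,0]], [[1,0,0,1,1],[1,0,1,1,0],[0,1,0,0,0],[1,0,1,0,1],[0,0,0,0,1]], [[1,1,0,1,0],[0,0,1,0,0],[1,1,0,0,1],[0,1,0,1,1],[0,0,0,0,1]], [[1,0,0,0,0],[0,1,0,0,0],[0,1,1,0,0],[0,0,0,1,0],[0,1,1,1,1]], [[1,0,0,1,1],[0,1,1,1,0],[0,0,1,1,0],[0,0,0,1,0],[0,0,0,0,1]], [[1,0,0,0,0],[0,1,0,0,0],[0,0,1,0,0],[0,0,0,1,0],[0,0,0,0,1]]),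
  ([[1,1,0,1,1]], [[0,0,1,1,0],[1,0,1,1,0],[0,1,1,1,0],[1,1,0,1,1],[0,0,0,0,1]], [[1,1,0,0,0],[1,0,1,0,0],[1,1,1,1,1],[0,1,1,1,1],[0,0,0,0,1]], [[1,0,0,0,0],[1,1,0,0,0],[1,1,1,0,0],[1,0,0,1,0],[0,0,0,1,1]], [[1,0,0,0,0],[0,1,0,1,1],[0,0,1,1,1],[0,0,0,1,1],[0,0,0,0,1]], [[1,0,0,0,0],[0,1,0,0,0],[0,0,1,0,0],[0,0,0,1,0],[0,0,0,0,1]]),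
  ([[1,1,1,0,0]], [[1,1,1,0,0],[1,0,1,0,1],[0,0,1,1,0],[1,0,0,1,0],[1,1,0,0,1]], [[1,1,0,0,1],[1,0,1,1,0],[1,1,1,1,1],[1,1,0,1,1],[0,1,1,1,0]], [[1,0,0,0,0],[0,1,0,0,0],[0,1,1,0,0],[0,1,0,1,0],[0,0,1,0,1]], [[1,0,0,1,0],[0,1,0,1,1],[0,0,1,0,0],[0,0,0,1,1],[0,0,0,0,1]], [[1,0,0,0,0],[0,1,0,0,0],[0,0,1,0,0],[0,0,0,1,0],[0,0,0,0,1]]),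
  ([[1,1,1,0,1]], [[0,0,1,0,0],[1,0,1,0,1],[1,0,0,1,0],[0,0,0,0,1],[0,1,1,0,0]], [[1,1,0,1,0],[1,0,0,0,1],[1,0,0,0,0],[1,1,1,1,0],[0,0,0,1,0]], [[1,0,0,0,0],[0,1,0,0,0],[1,1,1,0,0],[0,1,1,1,0],[1,0,1,0,1]], [[1,1,0,0,0],[0,1,1,0,1],[0,0,1,0,0],[0,0,0,1,1],[0,0,0,0,1]], [[1,0,0,0,0],[0,1,0,0,0],[0,0,1,0,0],[0,0,0,1,0],[0,0,0,0,1]]),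
  ([[1,1,1,1,0]], [[0,1,1,0,1],[0,0,0,1,1],[1,1,0,0,1],[1,0,0,0,1],[1,1,0,0,0]], [[0,0,1,1,1],[0,0,1,1,0],[1,0,0,1,1],[0,1,1,0,1],[0,0,1,0,1]], [[1,0,0,0,0],[1,1,0,0,0],[0,0,1,0,0],[0,1,0,1,0],[1,0,1,1,1]], [[1,0,0,1,1],[0,1,1,0,1],[0,0,1,0,1],[0,0,0,1,1],[0,0,0,0,1]], [[1,0,0,0,0],[0,1,0,0,0],[0,0,1,0,0],[0,0,0,1,0],[0,0,0,0,1]]),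
  ([[1,1,1,1,1]], [[0,1,0,1,0],[0,0,1,0,0],[1,1,0,0,0],[0,0,1,1,0],[0,0,0,0,1]], [[1,1,1,1,0],[1,1,0,1,0],[0,1,0,0,0],[0,1,0,1,0],[0,0,0,0,1]], [[1,0,0,0,0],[1,1,0,0,0],[0,1,1,0,0],[1,1,1,1,0],[1,0,0,0,1]], [[1,0,0,0,1],[0,1,1,0,1],[0,0,1,1,0],[0,0,0,1,0],[0,0,0,0,1]], [[1,0,0,0,0],[0,1,0,0,0],[0,0,1,0,0],[0,0,0,1,0],[0,0,0,0,1]])]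

theorem single5_ok : tblOk 2 [g5] single5 = true := by decide +kernel

theorem single5_keys : keys single5 = ((unitV 2 5).map fun a => [a]) := by decide +kernel

def single6 : Tbl :=
  [([[1,0,0,0,0,0]], [[0,0,1,0,0,0],[1,1,1,1,0,0],[1,1,1,1,0,1],[1,0,0,1,1,1],[0,0,0,1,1,0],[0,0,0,0,1,0]], [[0,1,1,1,1,0],[1,0,1,1,0,1],[1,0,0,0,0,0],[0,0,0,0,1,1],[0,0,0,0,0,1],[0,1,1,0,0,0]], [[1,0,0,0,0,0],[0,1,0,0,0,0],[1,1,1,0,0,0],[1,0,1,1,0,0],[1,1,0,0,1,0],[1,0,0,0,0,1]], [[1,0,0,0,1,1],[0,1,1,1,0,0],[0,0,1,1,1,0],[0,0,0,1,0,0],[0,0,0,0,1,1],[0,0,0,0,0,1]], [[1,0,0,0,0,0],[0,1,0,0,0,0],[0,0,1,0,0,0],[0,0,0,1,0,0],[0,0,0,0,1,0],[0,0,0,0,0,1]]),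
  ([[1,0,0,0,0,1]], [[0,1,1,1,0,0],[1,1,0,1,1,0],[0,1,1,0,0,0],[1,1,1,0,0,0],[0,0,1,0,0,0],[1,1,0,1,1,1]], [[0,0,1,1,0,0],[0,0,1,0,1,0],[0,0,0,0,1,0],[1,0,1,0,0,0],[1,1,1,1,1,0],[0,1,0,0,0,1]], [[1,0,0,0,0,0],[0,1,0,0,0,0],[1,0,1,0,0,0],[0,0,1,1,0,0],[0,1,0,0,1,0],[1,1,1,1,1,1]], [[1,1,0,0,1,1],[0,1,0,0,0,1],[0,0,1,1,1,0],[0,0,0,1,1,0],[0,0,0,0,1,0],[0,0,0,0,0,1]], [[1,0,0,0,0,0],[0,1,0,0,0,0],[0,0,1,0,0,0],[0,0,0,1,0,0],[0,0,0,0,1,0],[0,0,0,0,0,1]]),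
  ([[1,0,0,0,1,0]], [[1,1,0,0,0,1],[1,0,0,1,0,0],[0,1,1,1,1,1],[0,0,1,1,0,1],[1,0,1,0,1,0],[1,0,0,0,1,0]], [[1,1,1,0,1,0],[1,1,0,1,1,1],[0,0,0,0,1,1],[1,0,1,0,1,0],[1,1,1,0,1,1],[1,0,1,1,0,1]], [[1,0,0,0,0,0],[1,1,0,0,0,0],[0,1,1,0,0,0],[1,0,0,1,0,0],[0,1,1,1,1,0],[1,1,0,0,1,1]], [[1,0,0,0,1,0],[0,1,0,0,1,0],[0,0,1,1,0,0],[0,0,0,1,1,1],[0,0,0,0,1,0],[0,0,0,0,0,1]], [[1,0,0,0,0,0],[0,1,0,0,0,0],[0,0,1,0,0,0],[0,0,0,1,0,0],[0,0,0,0,1,0],[0,0,0,0,0,1]]),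
  ([[1,0,0,0,1,1]], [[1,0,0,0,0,0],[0,0,0,0,1,1],[0,0,0,1,0,1],[0,0,1,1,0,1],[1,1,1,0,0,1],[1,0,0,0,1,0]], [[1,0,0,0,0,0],[0,1,1,1,1,1],[0,0,1,1,0,0],[1,1,1,0,0,1],[1,0,0,0,0,1],[1,1,0,0,0,1]], [[1,0,0,0,0,0],[1,1,0,0,0,0],[0,1,1,0,0,0],[0,0,1,1,0,0],[1,0,1,0,1,0],[0,0,0,1,1,1]], [[1,1,1,0,0,1],[0,1,1,0,1,1],[0,0,1,1,0,0],[0,0,0,1,0,1],[0,0,0,0,1,0],[0,0,0,0,0,1]], [[1,0,0,0,0,0],[0,1,0,0,0,0],[0,0,1,0,0,0],[0,0,0,1,0,0],[0,0,0,0,1,0],[0,0,0,0,0,1]]),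
  ([[1,0,0,1,0,0]], [[0,1,1,0,0,1],[0,1,0,0,0,1],[1,1,0,0,1,1],[0,1,0,0,1,1],[1,1,1,1,0,0],[1,1,0,0,0,0]], [[0,0,1,1,0,0],[0,0,1,1,0,1],[1,1,0,0,0,0],[1,1,0,0,1,1],[0,1,0,1,0,0],[0,1,1,1,0,1]], [[1,0,0,0,0,0],[0,1,0,0,0,0],[1,0,1,0,0,0],[1,1,1,1,0,0],[1,0,0,0,1,0],[1,1,1,0,1,1]], [[1,0,0,1,1,1],[0,1,0,1,1,0],[0,0,1,1,0,0],[0,0,0,1,1,0],[0,0,0,0,1,1],[0,0,0,0,0,1]], [[1,0,0,0,0,0],[0,1,0,0,0,0],[0,0,1,0,0,0],[0,0,0,1,0,0],[0,0,0,0,1,0],[0,0,0,0,0,1]]),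
  ([[1,0,0,1,0,1]], [[1,1,0,1,1,1],[0,0,0,1,0,0],[1,1,1,1,1,1],[1,0,0,0,1,1],[1,1,1,0,1,0],[1,0,0,1,0,0]], [[0,1,0,0,0,1],[1,1,0,1,0,0],[1,0,1,0,0,0],[0,1,0,0,0,0],[0,0,1,1,1,1],[0,1,1,0,1,0]], [[1,0,0,0,0,0],[1,1,0,0,0,0],[0,1,1,0,0,0],[1,0,1,1,0,0],[0,0,1,1,1,0],[1,1,0,1,0,1]], [[1,0,1,0,0,1],[0,1,0,1,0,1],[0,0,1,0,0,0],[0,0,0,1,1,1],[0,0,0,0,1,1],[0,0,0,0,0,1]], [[1,0,0,0,0,0],[0,1,0,0,0,0],[0,0,1,0,0,0],[0,0,0,1,0,0],[0,0,0,0,1,0],[0,0,0,0,0,1]]),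
  ([[1,0,0,1,1,0]], [[1,0,0,0,0,0],[1,1,1,1,1,1],[1,0,1,0,1,1],[1,1,1,0,0,1],[0,0,1,0,0,0],[0,0,1,1,1,1]], [[1,0,0,0,0,0],[1,1,0,0,0,1],[0,0,0,0,1,0],[1,0,1,0,0,1],[1,1,1,1,0,1],[0,1,0,1,1,1]], [[1,0,0,0,0,0],[1,1,0,0,0,0],[1,1,1,0,0,0],[0,0,0,1,0,0],[1,1,1,1,1,0],[0,0,1,0,0,1]], [[1,0,0,0,0,0],[0,1,0,1,0,1],[0,0,1,0,0,1],[0,0,0,1,0,1],[0,0,0,0,1,0],[0,0,0,0,0,1]], [[1,0,0,0,0,0],[0,1,0,0,0,0],[0,0,1,0,0,0],[0,0,0,1,0,0],[0,0,0,0,1,0],[0,0,0,0,0,1]]),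
  ([[1,0,0,1,1,1]], [[1,0,1,0,0,0],[1,1,1,1,0,1],[1,1,0,1,1,1],[0,0,0,0,1,1],[0,1,0,0,0,0],[1,0,1,1,1,1]], [[1,0,1,0,1,1],[0,0,0,0,1,0],[0,0,1,0,1,1],[1,0,0,1,0,1],[0,1,0,0,1,1],[0,1,0,1,1,1]], [[1,0,0,0,0,0],[0,1,0,0,0,0],[1,1,1,0,0,0],[0,0,0,1,0,0],[0,1,0,1,1,0],[1,1,1,1,0,1]], [[1,1,0,0,1,0],[0,1,0,1,0,1],[0,0,1,1,0,0],[0,0,0,1,1,0],[0,0,0,0,1,1],[0,0,0,0,0,1]], [[1,0,0,0,0,0],[0,1,0,0,0,0],[0,0,1,0,0,0],[0,0,0,1,0,0],[0,0,0,0,1,0],[0,0,0,0,0,1]]),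
  ([[1,0,1,0,0,0]], [[1,0,0,1,0,0],[0,1,0,0,0,0],[1,1,1,1,0,0],[1,0,1,1,1,0],[0,0,0,0,0,1],[0,1,1,1,1,1]], [[0,1,0,1,1,1],[0,1,0,0,0,0],[1,1,1,0,0,0],[1,1,0,1,1,1],[0,1,1,1,0,0],[0,0,0,0,1,0]], [[1,0,0,0,0,0],[0,1,0,0,0,0],[1,1,1,0,0,0],[0,1,0,1,0,0],[1,0,1,1,1,0],[1,1,0,0,1,1]], [[1,0,1,0,0,0],[0,1,0,1,1,1],[0,0,1,0,0,0],[0,0,0,1,0,0],[0,0,0,0,1,0],[0,0,0,0,0,1]], [[1,0,0,0,0,0],[0,1,0,0,0,0],[0,0,1,0,0,0],[0,0,0,1,0,0],[0,0,0,0,1,0],[0,0,0,0,0,1]]),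
  ([[1,0,1,0,0,1]], [[0,1,1,0,1,0],[0,1,0,0,1,1],[0,1,0,1,0,0],[0,1,0,1,1,0],[1,1,0,0,0,1],[1,1,0,1,0,1]], [[0,1,1,1,1,0],[0,0,1,0,1,1],[1,0,0,1,1,1],[0,0,0,0,1,1],[0,0,1,1,0,0],[0,1,0,1,1,1]], [[1,0,0,0,0,0],[1,1,0,0,0,0],[1,1,1,0,0,0],[0,0,1,1,0,0],[0,1,1,1,1,0],[0,1,1,1,0,1]], [[1,0,1,0,1,1],[0,1,1,1,1,1],[0,0,1,0,1,1],[0,0,0,1,1,1],[0,0,0,0,1,0],[0,0,0,0,0,1]], [[1,0,0,0,0,0],[0,1,0,0,0,0],[0,0,1,0,0,0],[0,0,0,1,0,0],[0,0,0,0,1,0],[0,0,0,0,0,1]]),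
  ([[1,0,1,0,1,0]], [[1,0,1,0,0,0],[1,0,1,0,0,1],[0,1,1,0,0,0],[0,0,1,1,0,1],[0,0,1,1,1,1],[1,0,1,1,0,1]], [[0,0,0,1,0,1],[1,0,1,1,0,1],[1,0,0,1,0,1],[0,1,0,0,0,1],[0,0,0,1,1,0],[1,1,0,0,0,0]], [[1,0,0,0,0,0],[0,1,0,0,0,0],[1,1,1,0,0,0],[0,1,0,1,0,0],[0,1,0,0,1,0],[0,1,0,0,0,1]], [[1,0,1,1,0,1],[0,1,1,0,1,1],[0,0,1,1,1,1],[0,0,0,1,1,1],[0,0,0,0,1,0],[0,0,0,0,0,1]], [[1,0,0,0,0,0],[0,1,0,0,0,0],[0,0,1,0,0,0],[0,0,0,1,0,0],[0,0,0,0,1,0],[0,0,0,0,0,1]]),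
  ([[1,0,1,0,1,1]], [[1,0,0,0,0,1],[0,1,0,0,1,0],[1,1,1,1,0,0],[1,0,1,0,0,1],[0,0,0,1,0,0],[1,0,0,1,0,0]], [[0,0,0,0,1,1],[1,0,1,1,0,1],[1,0,0,1,0,0],[0,0,0,0,1,0],[1,1,1,1,0,1],[1,0,0,0,1,1]], [[1,0,0,0,0,0],[0,1,0,0,0,0],[1,1,1,0,0,0],[1,0,0,1,0,0],[1,0,1,0,1,0],[0,0,0,0,1,1]], [[1,1,0,1,1,1],[0,1,1,1,0,0],[0,0,1,1,0,1],[0,0,0,1,1,1],[0,0,0,0,1,1],[0,0,0,0,0,1]], [[1,0,0,0,0,0],[0,1,0,0,0,0],[0,0,1,0,0,0],[0,0,0,1,0,0],[0,0,0,0,1,0],[0,0,0,0,0,1]]),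
  ([[1,0,1,1,0,0]], [[1,0,1,0,0,0],[1,1,1,1,0,1],[0,0,0,1,1,1],[1,1,1,1,0,0],[0,0,1,0,0,0],[0,0,0,0,1,1]], [[1,0,0,0,1,0],[1,0,1,1,0,1],[0,0,0,0,1,0],[0,0,1,0,0,1],[0,1,0,1,0,1],[0,1,0,1,0,0]], [[1,0,0,0,0,0],[1,1,0,0,0,0],[1,1,1,0,0,0],[1,1,0,1,0,0],[0,1,1,0,1,0],[0,1,0,1,1,1]], [[1,0,0,1,0,1],[0,1,1,1,0,1],[0,0,1,1,0,1],[0,0,0,1,1,1],[0,0,0,0,1,0],[0,0,0,0,0,1]], [[1,0,0,0,0,0],[0,1,0,0,0,0],[0,0,1,0,0,0],[0,0,0,1,0,0],[0,0,0,0,1,0],[0,0,0,0,0,1]]),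
  ([[1,0,1,1,0,1]], [[0,1,0,1,1,1],[1,1,1,1,1,0],[1,0,0,0,0,1],[1,1,1,0,1,1],[0,1,1,1,1,0],[1,1,0,1,0,0]], [[0,1,0,0,1,0],[0,1,1,1,0,1],[1,1,1,0,0,0],[0,0,1,1,1,0],[1,0,1,0,0,1],[0,1,1,0,1,0]], [[1,0,0,0,0,0],[0,1,0,0,0,0],[0,0,1,0,0,0],[0,1,0,1,0,0],[1,1,1,0,1,0],[1,1,1,0,0,1]], [[1,1,1,0,0,1],[0,1,0,0,1,0],[0,0,1,0,1,1],[0,0,0,1,0,1],[0,0,0,0,1,1],[0,0,0,0,0,1]], [[1,0,0,0,0,0],[0,1,0,0,0,0],[0,0,1,0,0,0],[0,0,0,1,0,0],[0,0,0,0,1,0],[0,0,0,0,0,1]]),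
  ([[1,0,1,1,1,0]], [[0,1,1,1,1,0],[1,1,0,0,1,0],[1,1,1,1,1,0],[1,1,0,0,0,0],[1,0,0,1,0,0],[0,0,0,0,1,1]], [[1,0,1,0,0,0],[1,0,1,1,0,0],[1,1,0,0,1,0],[1,0,1,0,1,0],[0,1,0,1,0,0],[0,1,0,1,0,1]], [[1,0,0,0,0,0],[0,1,0,0,0,0],[0,1,1,0,0,0],[1,1,0,1,0,0],[1,1,1,1,1,0],[1,1,1,0,0,1]], [[1,1,0,1,1,0],[0,1,0,1,1,1],[0,0,1,0,0,1],[0,0,0,1,0,1],[0,0,0,0,1,1],[0,0,0,0,0,1]], [[1,0,0,0,0,0],[0,1,0,0,0,0],[0,0,1,0,0,0],[0,0,0,1,0,0],[0,0,0,0,1,0],[0,0,0,0,0,1]]),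
  ([[1,0,1,1,1,1]], [[0,0,1,0,1,1],[1,0,0,1,1,0],[1,1,0,0,1,1],[1,0,1,0,1,0],[0,0,0,0,1,1],[0,0,1,1,1,0]], [[1,1,0,0,1,1],[1,1,1,0,0,1],[1,0,0,0,1,0],[1,1,0,1,1,0],[0,1,0,1,0,1],[0,1,0,1,1,1]], [[1,0,0,0,0,0],[1,1,0,0,0,0],[0,1,1,0,0,0],[0,1,0,1,0,0],[0,1,1,1,1,0],[0,1,1,1,0,1]], [[1,0,1,1,0,0],[0,1,1,0,0,0],[0,0,1,1,1,0],[0,0,0,1,0,1],[0,0,0,0,1,0],[0,0,0,0,0,1]], [[1,0,0,0,0,0],[0,1,0,0,0,0],[0,0,1,0,0,0],[0,0,0,1,0,0],[0,0,0,0,1,0],[0,0,0,0,0,1]]),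
  ([[1,1,0,0,0,0]], [[0,0,1,1,1,1],[1,0,1,1,1,1],[0,0,0,1,1,0],[0,1,0,1,1,0],[1,1,0,0,0,1],[0,0,0,0,1,0]], [[1,1,0,0,0,0],[0,0,1,1,0,0],[0,1,0,1,1,0],[0,0,1,0,0,1],[0,0,0,0,0,1],[1,1,1,1,1,0]], [[1,0,0,0,0,0],[0,1,0,0,0,0],[1,0,1,0,0,0],[1,1,0,1,0,0],[1,1,0,0,1,0],[1,1,1,1,1,1]], [[1,1,1,0,0,1],[0,1,0,1,0,0],[0,0,1,1,1,0],[0,0,0,1,1,1],[0,0,0,0,1,1],[0,0,0,0,0,1]], [[1,0,0,0,0,0],[0,1,0,0,0,0],[0,0,1,0,0,0],[0,0,0,1,0,0],[0,0,0,0,1,0],[0,0,0,0,0,1]]),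
  ([[1,1,0,0,0,1]], [[0,0,0,0,1,1],[0,0,1,0,1,1],[0,1,0,1,1,1],[1,0,0,0,1,0],[1,1,0,0,0,0],[1,1,1,0,1,0]], [[1,1,0,1,1,1],[1,1,0,1,0,1],[1,1,0,0,0,0],[0,1,1,1,0,1],[1,1,0,0,1,1],[0,1,0,0,1,1]], [[1,0,0,0,0,0],[1,1,0,0,0,0],[1,1,1,0,0,0],[0,0,0,1,0,0],[1,1,1,0,1,0],[0,1,1,1,1,1]], [[1,1,1,1,0,1],[0,1,1,0,1,1],[0,0,1,1,0,0],[0,0,0,1,0,0],[0,0,0,0,1,1],[0,0,0,0,0,1]], [[1,0,0,0,0,0],[0,1,0,0,0,0],[0,0,1,0,0,0],[0,0,0,1,0,0],[0,0,0,0,1,0],[0,0,0,0,0,1]]),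
  ([[1,1,0,0,1,0]], [[1,1,0,1,1,0],[0,0,1,1,0,1],[0,1,0,0,1,0],[1,1,1,0,0,0],[0,0,0,1,1,0],[0,1,1,1,1,0]], [[0,0,0,1,1,1],[1,0,0,1,0,1],[1,0,0,1,1,0],[1,0,1,1,1,1],[1,0,1,1,0,1],[0,1,1,0,0,1]], [[1,0,0,0,0,0],[0,1,0,0,0,0],[0,1,1,0,0,0],[1,1,1,1,0,0],[1,1,1,1,1,0],[1,1,1,0,1,1]], [[1,0,1,0,0,0],[0,1,0,1,1,1],[0,0,1,0,0,1],[0,0,0,1,0,0],[0,0,0,0,1,1],[0,0,0,0,0,1]], [[1,0,0,0,0,0],[0,1,0,0,0,0],[0,0,1,0,0,0],[0,0,0,1,0,0],[0,0,0,0,1,0],[0,0,0,0,0,1]]),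
  ([[1,1,0,0,1,1]], [[0,1,1,1,0,0],[1,0,0,1,1,0],[1,1,0,0,1,1],[0,0,0,1,0,0],[0,0,0,1,1,1],[0,0,1,0,1,1]], [[1,0,1,1,0,1],[1,0,0,0,1,1],[0,0,0,1,1,1],[0,0,0,1,0,0],[1,1,1,0,0,1],[1,1,1,1,1,1]], [[1,0,0,0,0,0],[1,1,0,0,0,0],[1,0,1,0,0,0],[0,0,1,1,0,0],[1,0,0,0,1,0],[0,0,0,1,0,1]], [[1,0,1,0,1,1],[0,1,1,1,0,1],[0,0,1,1,1,1],[0,0,0,1,1,1],[0,0,0,0,1,0],[0,0,0,0,0,1]], [[1,0,0,0,0,0],[0,1,0,0,0,0],[0,0,1,0,0,0],[0,0,0,1,0,0],[0,0,0,0,1,0],[0,0,0,0,0,1]]),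
  ([[1,1,0,1,0,0]], [[1,0,1,0,1,1],[0,1,1,1,0,1],[0,0,1,0,1,0],[1,1,0,0,1,1],[1,1,1,0,0,0],[1,1,1,0,1,1]], [[1,0,0,1,1,0],[1,0,0,0,0,1],[0,0,0,1,0,1],[1,1,1,0,1,0],[0,0,1,1,0,1],[0,0,1,1,1,0]], [[1,0,0,0,0,0],[0,1,0,0,0,0],[1,0,1,0,0,0],[0,1,0,1,0,0],[0,0,0,0,1,0],[1,0,1,0,1,1]], [[1,0,1,1,0,1],[0,1,0,0,1,1],[0,0,1,1,1,1],[0,0,0,1,1,1],[0,0,0,0,1,1],[0,0,0,0,0,1]], [[1,0,0,0,0,0],[0,1,0,0,0,0],[0,0,1,0,0,0],[0,0,0,1,0,0],[0,0,0,0,1,0],[0,0,0,0,0,1]]),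
  ([[1,1,0,1,0,1]], [[1,0,1,1,0,0],[0,1,0,1,0,1],[0,1,0,0,0,1],[1,0,1,1,0,1],[1,1,0,1,1,1],[0,0,0,1,1,0]], [[0,0,1,0,1,1],[1,0,1,1,0,0],[1,1,0,0,1,1],[0,1,1,0,0,0],[0,1,1,0,0,1],[1,0,0,1,0,0]], [[1,0,0,0,0,0],[1,1,0,0,0,0],[1,0,1,0,0,0],[0,1,1,1,0,0],[1,1,0,1,1,0],[0,1,0,0,0,1]], [[1,1,1,1,1,1],[0,1,1,1,1,1],[0,0,1,0,1,1],[0,0,0,1,0,0],[0,0,0,0,1,1],[0,0,0,0,0,1]], [[1,0,0,0,0,0],[0,1,0,0,0,0],[0,0,1,0,0,0],[0,0,0,1,0,0],[0,0,0,0,1,0],[0,0,0,0,0,1]]),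
  ([[1,1,0,1,1,0]], [[1,0,0,1,1,1],[1,0,1,0,0,0],[0,0,1,1,0,1],[1,1,1,0,0,1],[0,0,1,0,0,1],[1,1,1,0,0,0]], [[0,1,0,1,1,1],[0,1,0,0,0,1],[0,0,0,1,1,1],[0,0,1,0,1,0],[1,1,1,0,0,0],[0,0,0,1,0,1]], [[1,0,0,0,0,0],[0,1,0,0,0,0],[0,0,1,0,0,0],[1,0,0,1,0,0],[1,0,1,0,1,0],[0,1,0,0,1,1]], [[1,1,1,1,1,1],[0,1,0,0,0,0],[0,0,1,1,1,0],[0,0,0,1,1,1],[0,0,0,0,1,0],[0,0,0,0,0,1]], [[1,0,0,0,0,0],[0,1,0,0,0,0],[0,0,1,0,0,0],[0,0,0,1,0,0],[0,0,0,0,1,0],[0,0,0,0,0,1]]),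
  ([[1,1,0,1,1,1]], [[0,0,0,1,1,0],[1,1,0,1,1,0],[1,1,1,1,1,0],[1,0,0,1,1,0],[1,1,1,1,0,1],[0,0,0,1,1,1]], [[1,0,0,1,0,0],[0,1,0,1,0,0],[0,1,1,0,0,0],[0,0,1,0,1,1],[1,0,1,0,1,1],[1,0,0,0,0,1]], [[1,0,0,0,0,0],[1,1,0,0,0,0],[0,1,1,0,0,0],[0,1,0,1,0,0],[1,0,1,1,1,0],[0,1,1,1,1,1]], [[1,1,1,1,1,0],[0,1,1,1,0,1],[0,0,1,1,0,0],[0,0,0,1,0,0],[0,0,0,0,1,1],[0,0,0,0,0,1]], [[1,0,0,0,0,0],[0,1,0,0,0,0],[0,0,1,0,0,0],[0,0,0,1,0,0],[0,0,0,0,1,0],[0,0,0,0,0,1]]),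
  ([[1,1,1,0,0,0]], [[1,0,0,0,0,1],[0,1,0,1,0,0],[0,0,1,0,1,1],[0,0,1,0,0,1],[1,0,0,1,1,1],[0,0,1,1,0,0]], [[0,0,1,0,1,1],[1,1,1,1,1,0],[1,0,1,1,1,1],[1,0,1,1,1,0],[0,0,1,1,0,0],[1,0,1,0,1,1]], [[1,0,0,0,0,0],[0,1,0,0,0,0],[0,0,1,0,0,0],[0,0,0,1,0,0],[1,0,0,0,1,0],[1,0,1,1,1,1]], [[1,1,0,0,1,1],[0,1,0,0,1,0],[0,0,1,0,0,0],[0,0,0,1,0,0],[0,0,0,0,1,1],[0,0,0,0,0,1]], [[1,0,0,0,0,0],[0,1,0,0,0,0],[0,0,1,0,0,0],[0,0,0,1,0,0],[0,0,0,0,1,0],[0,0,0,0,0,1]]),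
  ([[1,1,1,0,0,1]], [[1,0,1,0,0,1],[0,0,1,1,0,1],[1,0,0,0,0,0],[0,0,0,1,0,1],[0,1,0,1,0,1],[1,1,0,0,1,1]], [[0,0,1,0,0,0],[0,0,0,1,1,0],[0,1,0,1,0,0],[1,1,1,0,0,0],[1,1,0,0,1,1],[1,1,1,1,0,0]], [[1,0,0,0,0,0],[0,1,0,0,0,0],[1,0,1,0,0,0],[0,0,0,1,0,0],[1,0,1,0,1,0],[1,1,1,0,0,1]], [[1,1,0,1,1,0],[0,1,0,1,1,0],[0,0,1,0,1,1],[0,0,0,1,1,0],[0,0,0,0,1,0],[0,0,0,0,0,1]], [[1,0,0,0,0,0],[0,1,0,0,0,0],[0,0,1,0,0,0],[0,0,0,1,0,0],[0,0,0,0,1,0],[0,0,0,0,0,1]]),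
  ([[1,1,1,0,1,0]], [[0,0,0,0,1,1],[0,1,1,1,1,1],[1,0,0,0,0,0],[1,0,1,0,0,1],[1,0,1,1,0,0],[0,1,0,1,1,1]], [[0,0,1,0,0,0],[1,1,1,0,1,0],[0,1,0,0,0,1],[0,1,1,0,1,1],[1,1,1,1,0,1],[0,1,1,1,0,1]], [[1,0,0,0,0,0],[1,1,0,0,0,0],[0,1,1,0,0,0],[0,0,1,1,0,0],[1,0,1,0,1,0],[1,1,1,1,1,1]], [[1,0,1,1,1,1],[0,1,0,1,1,0],[0,0,1,1,1,0],[0,0,0,1,0,1],[0,0,0,0,1,1],[0,0,0,0,0,1]], [[1,0,0,0,0,0],[0,1,0,0,0,0],[0,0,1,0,0,0],[0,0,0,1,0,0],[0,0,0,0,1,0],[0,0,0,0,0,1]]),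
  ([[1,1,1,0,1,1]], [[1,1,0,1,0,0],[1,1,1,1,0,1],[0,1,0,0,0,1],[0,1,1,1,0,1],[1,0,0,0,0,1],[1,1,1,1,1,0]], [[0,1,0,1,0,0],[0,1,1,1,1,0],[1,0,0,1,1,0],[1,0,1,0,1,0],[0,0,0,1,1,1],[0,1,0,1,1,0]], [[1,0,0,0,0,0],[0,1,0,0,0,0],[1,1,1,0,0,0],[1,1,0,1,0,0],[1,0,0,0,1,0],[1,0,1,0,0,1]], [[1,0,0,0,1,0],[0,1,1,1,1,0],[0,0,1,1,1,1],[0,0,0,1,1,1],[0,0,0,0,1,1],[0,0,0,0,0,1]], [[1,0,0,0,0,0],[0,1,0,0,0,0],[0,0,1,0,0,0],[0,0,0,1,0,0],[0,0,0,0,1,0],[0,0,0,0,0,1]]),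
  ([[1,1,1,1,0,0]], [[1,1,1,0,0,0],[1,0,1,1,1,1],[1,1,0,1,0,0],[1,1,1,0,1,0],[0,1,0,1,1,0],[0,0,0,1,0,0]], [[1,0,1,1,1,0],[1,0,0,1,1,1],[1,0,1,0,0,1],[0,0,0,0,0,1],[1,0,0,1,0,0],[1,1,0,0,1,0]], [[1,0,0,0,0,0],[0,1,0,0,0,0],[1,1,1,0,0,0],[0,1,0,1,0,0],[0,0,1,1,1,0],[1,1,1,0,1,1]], [[1,1,1,1,0,1],[0,1,1,1,1,0],[0,0,1,0,1,1],[0,0,0,1,1,0],[0,0,0,0,1,1],[0,0,0,0,0,1]], [[1,0,0,0,0,0],[0,1,0,0,0,0],[0,0,1,0,0,0],[0,0,0,1,0,0],[0,0,0,0,1,0],[0,0,0,0,0,1]]),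
  ([[1,1,1,1,0,1]], [[1,0,1,1,1,1],[1,0,0,1,1,1],[1,0,0,1,0,0],[0,0,1,0,1,0],[1,0,0,0,0,0],[0,1,0,1,0,0]], [[0,0,0,0,1,0],[0,0,1,0,1,1],[1,1,0,0,0,0],[0,0,1,0,1,0],[1,1,0,1,0,0],[1,0,1,1,0,0]], [[1,0,0,0,0,0],[0,1,0,0,0,0],[0,0,1,0,0,0],[1,1,0,1,0,0],[1,1,0,0,1,0],[1,0,0,1,1,1]], [[1,0,0,1,0,0],[0,1,0,0,0,0],[0,0,1,1,0,0],[0,0,0,1,0,0],[0,0,0,0,1,1],[0,0,0,0,0,1]], [[1,0,0,0,0,0],[0,1,0,0,0,0],[0,0,1,0,0,0],[0,0,0,1,0,0],[0,0,0,0,1,0],[0,0,0,0,0,1]]),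
  ([[1,1,1,1,1,0]], [[1,0,0,0,1,0],[1,1,1,0,0,0],[1,0,1,1,0,0],[1,0,1,0,1,0],[0,0,0,0,1,0],[0,1,0,0,1,1]], [[1,0,0,0,1,0],[0,1,0,1,1,0],[1,0,0,1,0,0],[0,0,1,1,1,0],[0,0,0,0,1,0],[0,1,0,1,0,1]], [[1,0,0,0,0,0],[1,1,0,0,0,0],[1,1,1,0,0,0],[0,0,0,1,0,0],[1,0,0,0,1,0],[0,0,1,1,0,1]], [[1,1,1,0,1,0],[0,1,0,1,0,0],[0,0,1,0,0,1],[0,0,0,1,0,1],[0,0,0,0,1,1],[0,0,0,0,0,1]], [[1,0,0,0,0,0],[0,1,0,0,0,0],[0,0,1,0,0,0],[0,0,0,1,0,0],[0,0,0,0,1,0],[0,0,0,0,0,1]]),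
  ([[1,1,1,1,1,1]], [[1,0,1,0,0,1],[1,0,0,0,1,0],[0,1,1,0,0,0],[0,0,1,0,1,0],[1,0,1,0,1,1],[0,1,1,1,0,1]], [[1,1,0,0,1,0],[1,0,1,1,1,0],[1,0,0,1,1,0],[1,1,1,1,0,1],[1,0,0,0,1,0],[1,1,0,1,0,0]], [[1,0,0,0,0,0],[1,1,0,0,0,0],[0,1,1,0,0,0],[0,1,0,1,0,0],[0,0,0,0,1,0],[1,0,0,0,0,1]], [[1,0,0,1,0,0],[0,1,0,1,1,1],[0,0,1,0,0,0],[0,0,0,1,1,0],[0,0,0,0,1,1],[0,0,0,0,0,1]], [[1,0,0,0,0,0],[0,1,0,0,0,0],[0,0,1,0,0,0],[0,0,0,1,0,0],[0,0,0,0,1,0],[0,0,0,0,0,1]])]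

theorem single6_ok : tblOk 2 [g6] single6 = true := by decide +kernel

theorem single6_keys : keys single6 = ((unitV 2 6).map fun a => [a]) := by decide +kernel

def tail14 : Tbl :=
  [([[1,0,0],[1]], [[0,1,1,0],[0,1,1,1],[0,0,1,1],[1,1,1,0]], [[1,0,0,1],[0,1,1,0],[1,1,1,0],[1,1,0,0]], [[1,0,0,0],[1,1,0,0],[1,1,1,0],[1,0,0,1]], [[1,0,1,0],[0,1,1,0],[0,0,1,1],[0,0,0,1]], [[1,0,0,0],[0,1,0,0],[0,0,1,0],[0,0,0,1]]),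
  ([[1,0,1],[1]], [[1,0,1,0],[0,1,1,0],[1,1,1,1],[1,1,0,1]], [[1,0,1,1],[0,1,1,1],[0,0,1,1],[1,1,0,1]], [[1,0,0,0],[1,1,0,0],[1,1,1,0],[1,1,0,1]], [[1,1,1,1],[0,1,0,1],[0,0,1,0],[0,0,0,1]], [[1,0,0,0],[0,1,0,0],[0,0,1,0],[0,0,0,1]]),
  ([[1,1,0],[1]], [[1,1,1,0],[1,0,0,0],[0,0,1,0],[0,1,0,1]], [[0,1,0,0],[1,1,1,0],[0,0,1,0],[1,1,1,1]], [[1,0,0,0],[1,1,0,0],[1,0,1,0],[0,0,1,1]], [[1,1,0,0],[0,1,1,1],[0,0,1,1],[0,0,0,1]], [[1,0,0,0],[0,1,0,0],[0,0,1,0],[0,0,0,1]]),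
  ([[1,1,1],[1]], [[1,1,0,1],[1,1,1,1],[0,1,1,0],[1,1,1,0]], [[0,0,1,1],[1,1,1,0],[1,1,0,0],[0,1,0,1]], [[1,0,0,0],[1,1,0,0],[1,1,1,0],[0,1,1,1]], [[1,0,1,0],[0,1,0,1],[0,0,1,0],[0,0,0,1]], [[1,0,0,0],[0,1,0,0],[0,0,1,0],[0,0,0,1]])]

theorem tail14_ok : tblOk 2 [f4] tail14 = true := by decide +kernel

theorem tail14_keys : keys tail14 = ((unitV 2 3).flatMap fun a => (unitV 2 1).map fun b => [a, b]) := by decide +kernel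

def tail15 : Tbl :=
  [([[1,0,0,0],[1]], [[0,1,0,0,1],[1,1,0,1,1],[1,1,1,1,1],[0,0,0,1,1],[0,0,1,0,1]], [[1,0,1,1,1],[1,1,1,0,1],[0,1,1,0,0],[0,1,1,1,1],[0,1,1,0,1]], [[1,0,0,0,0],[0,1,0,0,0],[0,0,1,0,0],[0,1,1,1,0],[1,1,0,0,1]], [[1,1,1,0,1],[0,1,1,0,0],[0,0,1,0,1],[0,0,0,1,1],[0,0,0,0,1]], [[1,0,0,0,0],[0,1,0,0,0],[0,0,1,0,0],[0,0,0,1,0],[0,0,0,0,1]]),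
  ([[1,0,0,1],[1]], [[1,1,0,0,1],[1,1,0,1,1],[0,0,1,0,0],[1,1,0,1,0],[0,1,0,0,1]], [[1,0,0,0,1],[0,1,0,1,1],[0,0,1,0,0],[1,1,0,0,0],[0,1,0,1,0]], [[1,0,0,0,0],[1,1,0,0,0],[1,0,1,0,0],[1,0,1,1,0],[1,0,1,1,1]], [[1,0,1,1,1],[0,1,0,1,1],[0,0,1,1,0],[0,0,0,1,1],[0,0,0,0,1]], [[1,0,0,0,0],[0,1,0,0,0],[0,0,1,0,0],[0,0,0,1,0],[0,0,0,0,1]]),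
  ([[1,0,1,0],[1]], [[0,1,0,0,1],[0,0,0,1,1],[0,1,1,0,0],[1,1,1,0,1],[0,1,0,1,1]], [[1,1,1,1,1],[0,1,0,0,1],[0,1,1,0,1],[1,0,0,0,1],[1,1,0,0,1]], [[1,0,0,0,0],[1,1,0,0,0],[1,1,1,0,0],[1,1,0,1,0],[1,1,1,0,1]], [[1,1,1,1,0],[0,1,1,0,1],[0,0,1,0,1],[0,0,0,1,1],[0,0,0,0,1]], [[1,0,0,0,0],[0,1,0,0,0],[0,0,1,0,0],[0,0,0,1,0],[0,0,0,0,1]]),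
  ([[1,0,1,1],[1]], [[1,0,0,0,1],[1,1,0,0,0],[0,0,0,1,1],[0,1,1,0,1],[0,0,0,0,1]], [[1,0,0,0,1],[1,1,0,0,1],[1,1,0,1,0],[0,0,1,0,1],[0,0,0,0,1]], [[1,0,0,0,0],[0,1,0,0,0],[1,0,1,0,0],[1,1,1,1,0],[0,1,1,1,1]], [[1,1,0,0,0],[0,1,1,1,1],[0,0,1,0,1],[0,0,0,1,0],[0,0,0,0,1]], [[1,0,0,0,0],[0,1,0,0,0],[0,0,1,0,0],[0,0,0,1,0],[0,0,0,0,1]]),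
  ([[1,1,0,0],[1]], [[0,1,0,0,0],[0,1,0,0,1],[0,1,0,1,1],[1,1,1,1,0],[1,0,0,1,0]], [[0,1,1,0,1],[1,0,0,0,0],[1,0,0,1,1],[0,1,1,0,0],[1,1,0,0,0]], [[1,0,0,0,0],[1,1,0,0,0],[0,1,1,0,0],[0,0,1,1,0],[0,1,1,1,1]], [[1,0,0,0,1],[0,1,1,0,0],[0,0,1,1,0],[0,0,0,1,0],[0,0,0,0,1]], [[1,0,0,0,0],[0,1,0,0,0],[0,0,1,0,0],[0,0,0,1,0],[0,0,0,0,1]]),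
  ([[1,1,0,1],[1]], [[0,1,0,1,1],[0,1,1,1,1],[1,1,1,1,1],[0,1,0,0,0],[0,1,0,0,1]], [[0,1,1,0,0],[0,0,0,1,0],[1,1,0,0,0],[1,0,0,0,1],[0,0,0,1,1]], [[1,0,0,0,0],[0,1,0,0,0],[0,0,1,0,0],[1,0,1,1,0],[1,0,1,1,1]], [[1,0,0,1,1],[0,1,0,1,0],[0,0,1,1,0],[0,0,0,1,0],[0,0,0,0,1]], [[1,0,0,0,0],[0,1,0,0,0],[0,0,1,0,0],[0,0,0,1,0],[0,0,0,0,1]]),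
  ([[1,1,1,0],[1]], [[1,0,0,1,1],[0,1,0,1,0],[1,0,1,0,0],[0,0,1,0,0],[0,1,1,0,0]], [[0,0,1,1,0],[0,0,0,1,1],[0,0,0,1,0],[0,1,0,1,1],[1,1,1,0,1]], [[1,0,0,0,0],[0,1,0,0,0],[0,1,1,0,0],[0,1,1,1,0],[1,0,0,0,1]], [[1,1,0,0,1],[0,1,0,0,0],[0,0,1,0,0],[0,0,0,1,0],[0,0,0,0,1]], [[1,0,0,0,0],[0,1,0,0,0],[0,0,1,0,0],[0,0,0,1,0],[0,0,0,0,1]]),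
  ([[1,1,1,1],[1]], [[1,0,1,1,1],[1,1,0,1,0],[0,1,0,0,0],[0,0,1,1,1],[1,0,0,0,1]], [[1,0,0,1,0],[0,0,1,0,0],[0,1,1,1,1],[1,1,1,1,0],[1,0,0,1,1]], [[1,0,0,0,0],[0,1,0,0,0],[1,1,1,0,0],[0,0,0,1,0],[0,0,1,0,1]], [[1,1,0,1,1],[0,1,0,0,1],[0,0,1,0,0],[0,0,0,1,0],[0,0,0,0,1]], [[1,0,0,0,0],[0,1,0,0,0],[0,0,1,0,0],[0,0,0,1,0],[0,0,0,0,1]])]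

theorem tail15_ok : tblOk 2 [g5] tail15 = true := by decide +kernel

theorem tail15_keys : keys tail15 = ((unitV 2 4).flatMap fun a => (unitV 2 1).map fun b => [a, b]) := by decide +kernel

def tail16 : Tbl :=
  [([[1,0,0,0,0],[1]], [[1,1,0,1,0,1],[0,0,1,0,1,1],[0,1,1,0,0,1],[0,1,0,1,1,1],[1,0,1,1,0,1],[1,0,0,1,0,0]], [[1,1,0,1,1,1],[0,0,1,0,1,1],[1,0,1,0,0,1],[1,1,0,1,1,0],[0,1,0,0,1,1],[1,0,1,0,1,0]], [[1,0,0,0,0,0],[1,1,0,0,0,0],[0,0,1,0,0,0],[1,0,0,1,0,0],[1,1,0,0,1,0],[1,0,1,1,1,1]], [[1,1,0,1,1,0],[0,1,1,1,0,0],[0,0,1,1,0,1],[0,0,0,1,0,0],[0,0,0,0,1,0],[0,0,0,0,0,1]], [[1,0,0,0,0,0],[0,1,0,0,0,0],[0,0,1,0,0,0],[0,0,0,1,0,0],[0,0,0,0,1,0],[0,0,0,0,0,1]]),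
  ([[1,0,0,0,1],[1]], [[1,1,0,0,1,1],[0,1,1,1,0,1],[0,0,0,0,1,0],[0,1,1,0,0,0],[0,1,1,1,0,0],[0,0,1,0,0,0]], [[1,1,1,1,1,1],[0,0,0,1,0,1],[0,0,0,0,0,1],[0,0,0,1,1,0],[0,0,1,0,0,0],[0,1,0,0,1,0]], [[1,0,0,0,0,0],[1,1,0,0,0,0],[0,1,1,0,0,0],[0,0,1,1,0,0],[1,1,0,0,1,0],[1,0,0,0,1,1]], [[1,0,1,0,0,1],[0,1,0,0,0,0],[0,0,1,0,1,0],[0,0,0,1,1,1],[0,0,0,0,1,1],[0,0,0,0,0,1]], [[1,0,0,0,0,0],[0,1,0,0,0,0],[0,0,1,0,0,0],[0,0,0,1,0,0],[0,0,0,0,1,0],[0,0,0,0,0,1]]),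
  ([[1,0,0,1,0],[1]], [[1,1,1,1,1,0],[1,0,0,0,1,0],[1,1,0,1,0,0],[0,1,0,1,0,0],[1,1,1,0,1,1],[1,0,0,0,1,1]], [[0,0,1,1,0,0],[1,1,0,1,1,1],[1,1,0,1,0,0],[1,1,0,0,1,1],[0,1,1,1,0,0],[0,1,0,0,0,1]], [[1,0,0,0,0,0],[0,1,0,0,0,0],[1,0,1,0,0,0],[0,0,0,1,0,0],[1,1,0,0,1,0],[0,0,0,1,1,1]], [[1,0,0,1,1,0],[0,1,1,0,0,1],[0,0,1,1,0,0],[0,0,0,1,1,1],[0,0,0,0,1,1],[0,0,0,0,0,1]], [[1,0,0,0,0,0],[0,1,0,0,0,0],[0,0,1,0,0,0],[0,0,0,1,0,0],[0,0,0,0,1,0],[0,0,0,0,0,1]]),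
  ([[1,0,0,1,1],[1]], [[0,1,0,0,1,1],[1,1,1,1,0,1],[1,0,0,0,1,0],[0,0,1,0,0,1],[1,0,1,1,0,0],[1,0,1,1,0,1]], [[1,1,1,0,1,0],[0,1,0,0,0,1],[0,0,0,1,1,1],[1,1,1,1,1,1],[1,1,0,0,1,0],[0,0,0,0,1,1]], [[1,0,0,0,0,0],[1,1,0,0,0,0],[0,1,1,0,0,0],[1,1,0,1,0,0],[0,1,0,0,1,0],[0,1,1,0,1,1]], [[1,1,0,1,0,1],[0,1,0,1,0,1],[0,0,1,1,0,1],[0,0,0,1,0,0],[0,0,0,0,1,0],[0,0,0,0,0,1]], [[1,0,0,0,0,0],[0,1,0,0,0,0],[0,0,1,0,0,0],[0,0,0,1,0,0],[0,0,0,0,1,0],[0,0,0,0,0,1]]),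
  ([[1,0,1,0,0],[1]], [[1,1,0,1,0,1],[0,1,1,0,1,1],[1,0,1,0,1,0],[1,0,0,1,1,0],[1,1,1,0,1,1],[1,0,1,1,1,1]], [[0,1,0,0,1,0],[1,1,1,0,1,1],[1,1,0,1,0,0],[1,1,1,0,0,0],[1,0,1,1,1,0],[1,1,0,0,0,1]], [[1,0,0,0,0,0],[0,1,0,0,0,0],[0,0,1,0,0,0],[0,1,0,1,0,0],[1,0,1,1,1,0],[0,0,1,0,0,1]], [[1,0,0,1,0,0],[0,1,0,1,0,1],[0,0,1,0,1,1],[0,0,0,1,0,0],[0,0,0,0,1,0],[0,0,0,0,0,1]], [[1,0,0,0,0,0],[0,1,0,0,0,0],[0,0,1,0,0,0],[0,0,0,1,0,0],[0,0,0,0,1,0],[0,0,0,0,0,1]]),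
  ([[1,0,1,0,1],[1]], [[1,0,1,0,1,0],[0,1,0,0,0,1],[1,1,0,0,0,1],[1,0,0,0,1,1],[1,1,1,1,0,0],[1,1,1,0,1,0]], [[0,1,1,0,0,0],[1,0,0,0,0,1],[0,1,0,1,0,1],[1,0,1,1,1,0],[1,0,1,1,0,1],[1,1,0,0,0,1]], [[1,0,0,0,0,0],[0,1,0,0,0,0],[1,0,1,0,0,0],[0,1,0,1,0,0],[1,1,0,1,1,0],[1,1,1,0,1,1]], [[1,1,0,0,0,1],[0,1,1,0,1,0],[0,0,1,0,0,0],[0,0,0,1,1,0],[0,0,0,0,1,1],[0,0,0,0,0,1]], [[1,0,0,0,0,0],[0,1,0,0,0,0],[0,0,1,0,0,0],[0,0,0,1,0,0],[0,0,0,0,1,0],[0,0,0,0,0,1]]),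
  ([[1,0,1,1,0],[1]], [[1,1,0,0,0,1],[1,1,1,1,1,0],[1,0,1,1,0,1],[0,1,1,1,1,1],[1,1,1,1,1,1],[1,0,0,1,1,1]], [[0,0,0,1,1,0],[1,1,0,1,0,0],[1,1,0,1,1,1],[1,0,1,0,1,1],[1,1,1,1,1,0],[0,1,0,0,1,0]], [[1,0,0,0,0,0],[0,1,0,0,0,0],[0,1,1,0,0,0],[0,0,1,1,0,0],[0,1,1,0,1,0],[1,1,1,1,0,1]], [[1,1,1,1,1,1],[0,1,1,1,0,0],[0,0,1,1,1,0],[0,0,0,1,1,1],[0,0,0,0,1,1],[0,0,0,0,0,1]], [[1,0,0,0,0,0],[0,1,0,0,0,0],[0,0,1,0,0,0],[0,0,0,1,0,0],[0,0,0,0,1,0],[0,0,0,0,0,1]]),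
  ([[1,0,1,1,1],[1]], [[1,1,0,1,1,1],[0,1,1,0,0,0],[0,1,0,1,1,0],[0,0,1,1,0,0],[1,1,1,1,0,1],[1,1,0,0,0,0]], [[1,0,1,1,1,1],[1,0,1,1,1,0],[1,1,1,1,1,0],[1,1,1,0,1,0],[0,1,1,1,0,0],[0,0,0,1,1,1]], [[1,0,0,0,0,0],[1,1,0,0,0,0],[1,1,1,0,0,0],[1,1,0,1,0,0],[0,1,1,0,1,0],[0,0,0,1,1,1]], [[1,1,1,0,1,0],[0,1,0,0,1,0],[0,0,1,0,0,1],[0,0,0,1,1,0],[0,0,0,0,1,1],[0,0,0,0,0,1]], [[1,0,0,0,0,0],[0,1,0,0,0,0],[0,0,1,0,0,0],[0,0,0,1,0,0],[0,0,0,0,1,0],[0,0,0,0,0,1]]),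
  ([[1,1,0,0,0],[1]], [[0,1,1,1,1,0],[1,0,0,0,0,0],[0,0,0,1,0,0],[1,1,0,1,0,1],[1,0,1,0,1,0],[0,0,0,1,1,0]], [[0,1,0,0,0,0],[1,1,1,0,1,0],[0,1,1,0,1,1],[0,0,1,0,0,0],[0,0,1,0,0,1],[1,0,0,1,1,0]], [[1,0,0,0,0,0],[0,1,0,0,0,0],[0,0,1,0,0,0],[1,1,1,1,0,0],[1,1,1,1,1,0],[1,1,1,1,1,1]], [[1,1,0,0,1,1],[0,1,0,1,0,1],[0,0,1,0,0,0],[0,0,0,1,0,0],[0,0,0,0,1,0],[0,0,0,0,0,1]], [[1,0,0,0,0,0],[0,1,0,0,0,0],[0,0,1,0,0,0],[0,0,0,1,0,0],[0,0,0,0,1,0],[0,0,0,0,0,1]]),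
  ([[1,1,0,0,1],[1]], [[0,1,0,1,0,0],[0,1,1,1,0,1],[1,0,0,1,0,0],[0,0,1,1,0,1],[0,1,1,0,1,1],[1,1,1,0,0,0]], [[1,1,1,1,0,0],[0,1,0,1,0,0],[1,0,1,0,0,1],[1,1,0,1,0,0],[1,0,0,1,1,0],[0,1,1,0,0,1]], [[1,0,0,0,0,0],[1,1,0,0,0,0],[1,0,1,0,0,0],[0,0,0,1,0,0],[0,1,1,1,1,0],[0,1,1,0,1,1]], [[1,0,1,1,1,0],[0,1,0,0,1,0],[0,0,1,1,0,0],[0,0,0,1,1,0],[0,0,0,0,1,0],[0,0,0,0,0,1]], [[1,0,0,0,0,0],[0,1,0,0,0,0],[0,0,1,0,0,0],[0,0,0,1,0,0],[0,0,0,0,1,0],[0,0,0,0,0,1]]),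
  ([[1,1,0,1,0],[1]], [[1,0,0,0,1,1],[1,0,1,1,1,1],[0,0,1,0,1,0],[1,1,0,1,0,0],[0,0,0,1,0,0],[1,0,1,0,1,0]], [[0,0,1,0,0,1],[0,0,1,1,1,1],[1,1,0,0,1,0],[0,0,0,0,1,0],[1,1,1,0,1,0],[0,1,0,0,1,1]], [[1,0,0,0,0,0],[1,1,0,0,0,0],[1,1,1,0,0,0],[1,1,0,1,0,0],[1,0,1,1,1,0],[1,0,0,0,1,1]], [[1,0,0,1,1,1],[0,1,0,1,1,1],[0,0,1,1,1,0],[0,0,0,1,0,1],[0,0,0,0,1,0],[0,0,0,0,0,1]], [[1,0,0,0,0,0],[0,1,0,0,0,0],[0,0,1,0,0,0],[0,0,0,1,0,0],[0,0,0,0,1,0],[0,0,0,0,0,1]]),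
  ([[1,1,0,1,1],[1]], [[1,0,0,0,0,1],[0,0,1,1,0,0],[0,0,0,0,1,0],[1,1,1,1,0,0],[1,0,0,1,0,1],[1,0,0,1,1,0]], [[1,0,1,0,1,1],[1,1,1,1,1,1],[1,1,0,0,1,0],[1,0,0,0,1,0],[0,0,1,0,0,0],[0,0,1,0,1,1]], [[1,0,0,0,0,0],[0,1,0,0,0,0],[1,1,1,0,0,0],[0,0,0,1,0,0],[0,0,0,1,1,0],[1,0,1,0,1,1]], [[1,1,0,0,0,0],[0,1,1,0,1,1],[0,0,1,1,0,0],[0,0,0,1,0,1],[0,0,0,0,1,1],[0,0,0,0,0,1]], [[1,0,0,0,0,0],[0,1,0,0,0,0],[0,0,1,0,0,0],[0,0,0,1,0,0],[0,0,0,0,1,0],[0,0,0,0,0,1]]),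
  ([[1,1,1,0,0],[1]], [[1,0,1,0,0,1],[1,0,1,0,1,0],[0,1,0,0,1,1],[1,0,0,0,1,0],[0,0,1,1,0,0],[0,1,0,1,0,1]], [[0,1,1,0,1,1],[1,1,1,0,0,0],[0,1,0,1,0,0],[0,1,0,1,1,0],[0,1,1,1,1,1],[1,0,1,1,1,1]], [[1,0,0,0,0,0],[1,1,0,0,0,0],[0,0,1,0,0,0],[0,0,1,1,0,0],[1,0,0,0,1,0],[0,0,1,1,0,1]], [[1,0,1,0,1,0],[0,1,1,0,0,1],[0,0,1,1,1,1],[0,0,0,1,0,1],[0,0,0,0,1,1],[0,0,0,0,0,1]], [[1,0,0,0,0,0],[0,1,0,0,0,0],[0,0,1,0,0,0],[0,0,0,1,0,0],[0,0,0,0,1,0],[0,0,0,0,0,1]]),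
  ([[1,1,1,0,1],[1]], [[1,1,0,1,0,1],[0,0,0,0,1,0],[1,0,0,0,0,0],[0,1,1,0,1,0],[1,1,1,1,1,0],[0,1,1,1,0,1]], [[0,0,1,0,0,0],[1,1,1,1,0,1],[1,0,1,0,0,1],[0,0,1,1,1,0],[0,1,0,0,0,0],[0,1,1,0,1,1]], [[1,0,0,0,0,0],[0,1,0,0,0,0],[1,1,1,0,0,0],[1,1,0,1,0,0],[0,0,1,0,1,0],[0,1,0,0,0,1]], [[1,1,1,1,1,0],[0,1,1,1,1,0],[0,0,1,0,1,1],[0,0,0,1,1,0],[0,0,0,0,1,0],[0,0,0,0,0,1]], [[1,0,0,0,0,0],[0,1,0,0,0,0],[0,0,1,0,0,0],[0,0,0,1,0,0],[0,0,0,0,1,0],[0,0,0,0,0,1]]),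
  ([[1,1,1,1,0],[1]], [[1,1,1,1,1,0],[0,0,0,1,0,1],[1,0,0,1,1,0],[1,0,0,0,0,1],[0,1,0,1,0,1],[1,1,0,0,1,0]], [[0,0,1,1,1,1],[0,1,0,0,1,0],[1,1,1,0,1,0],[0,1,1,0,1,1],[0,1,1,1,0,0],[0,0,1,0,1,1]], [[1,0,0,0,0,0],[0,1,0,0,0,0],[1,1,1,0,0,0],[0,1,1,1,0,0],[1,0,1,0,1,0],[0,1,1,1,1,1]], [[1,0,0,0,0,1],[0,1,0,0,0,1],[0,0,1,0,1,1],[0,0,0,1,0,0],[0,0,0,0,1,1],[0,0,0,0,0,1]], [[1,0,0,0,0,0],[0,1,0,0,0,0],[0,0,1,0,0,0],[0,0,0,1,0,0],[0,0,0,0,1,0],[0,0,0,0,0,1]]),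
  ([[1,1,1,1,1],[1]], [[1,1,0,1,1,1],[1,0,0,0,0,0],[1,1,0,0,0,1],[1,0,0,1,1,1],[0,0,1,0,1,1],[0,1,0,0,1,0]], [[0,1,0,0,0,0],[1,0,0,1,0,0],[0,1,1,0,1,1],[0,0,1,1,0,1],[1,0,0,1,0,1],[1,1,1,1,0,0]], [[1,0,0,0,0,0],[1,1,0,0,0,0],[0,0,1,0,0,0],[1,1,1,1,0,0],[1,1,0,1,1,0],[0,0,1,0,1,1]], [[1,0,0,0,0,1],[0,1,0,1,0,0],[0,0,1,0,0,1],[0,0,0,1,1,1],[0,0,0,0,1,1],[0,0,0,0,0,1]], [[1,0,0,0,0,0],[0,1,0,0,0,0],[0,0,1,0,0,0],[0,0,0,1,0,0],[0,0,0,0,1,0],[0,0,0,0,0,1]])]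

theorem tail16_ok : tblOk 2 [g6] tail16 = true := by decide +kernel

theorem tail16_keys : keys tail16 = ((unitV 2 5).flatMap fun a => (unitV 2 1).map fun b => [a, b]) := by decide +kernel

def tail17 : Tbl :=
  [([[1,0,0,0,0,0],[1]], [[1,0,1,1,0,0,1],[1,1,1,0,0,0,1],[0,0,0,0,0,1,1],[1,1,0,1,1,0,1],[0,0,0,1,0,1,0],[0,1,0,1,0,0,1],[0,1,1,0,0,0,0]], [[1,0,0,0,0,1,1],[0,0,1,0,1,1,0],[0,0,1,0,1,1,1],[1,1,1,0,1,1,0],[1,0,0,1,0,0,1],[1,1,1,0,0,1,0],[1,1,0,0,0,1,0]], [[1,0,0,0,0,0,0],[1,1,0,0,0,0,0],[0,0,1,0,0,0,0],[1,1,1,1,0,0,0],[1,1,0,0,1,0,0],[1,1,0,0,1,1,0],[0,1,1,1,0,1,1]], [[1,0,0,1,0,0,1],[0,1,1,1,1,0,1],[0,0,1,0,1,1,1],[0,0,0,1,1,0,1],[0,0,0,0,1,1,0],[0,0,0,0,0,1,1],[0,0,0,0,0,0,1]],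 [[1,0,0,0,0,0,0],[0,1,0,0,0,0,0],[0,0,1,0,0,0,0],[0,0,0,1,0,0,0],[0,0,0,0,1,0,0],[0,0,0,0,0,1,0],[0,0,0,0,0,0,1]]),
  ([[1,0,0,0,0,1],[1]], [[0,0,0,0,1,1,1],[0,0,1,0,0,1,1],[0,1,0,0,0,0,1],[1,0,1,0,0,1,1],[1,1,1,0,0,0,0],[0,0,1,1,1,0,0],[1,0,0,1,0,0,1]], [[0,1,0,1,0,0,0],[1,0,1,1,0,1,1],[1,1,1,0,1,1,1],[1,1,0,0,0,1,0],[0,0,1,0,1,1,1],[0,0,1,1,1,0,0],[1,0,0,1,0,1,1]], [[1,0,0,0,0,0,0],[1,1,0,0,0,0,0],[1,0,1,0,0,0,0],[1,1,0,1,0,0,0],[0,1,1,0,1,0,0],[0,1,1,0,1,1,0],[1,0,1,1,1,1,1]], [[1,0,1,1,1,1,0],[0,1,1,1,1,1,1],[0,0,1,1,0,0,0],[0,0,0,1,0,0,1],[0,0,0,0,1,1,0],[0,0,0,0,0,1,1],[0,0,0,0,0,0,1]], [[1,0,0,0,0,0,0],[0,1,0,0,0,0,0],[0,0,1,0,0,0,0],[0,0,0,1,0,0,0],[0,0,0,0,1,0,0],[0,0,0,0,0,1,0],[0,0,0,0,0,0,1]]),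
  ([[1,0,0,0,1,0],[1]], [[1,0,1,0,1,1,1],[0,1,1,0,1,0,1],[1,0,0,1,1,0,1],[1,1,1,0,0,0,0],[1,1,1,1,0,1,0],[0,0,0,0,1,0,1],[0,0,0,0,1,1,0]], [[0,1,0,1,0,1,0],[1,1,1,1,1,1,0],[1,0,1,1,1,0,0],[0,1,1,1,0,0,0],[0,1,1,0,1,0,1],[0,1,1,0,1,0,0],[0,1,1,0,1,1,1]], [[1,0,0,0,0,0,0],[1,1,0,0,0,0,0],[1,0,1,0,0,0,0],[0,0,1,1,0,0,0],[0,0,0,1,1,0,0],[0,0,1,1,1,1,0],[1,0,0,1,1,0,1]], [[1,0,1,1,1,0,0],[0,1,1,0,1,0,1],[0,0,1,1,0,1,1],[0,0,0,1,1,1,0],[0,0,0,0,1,1,0],[0,0,0,0,0,1,0],[0,0,0,0,0,0,1]], [[1,0,0,0,0,0,0],[0,1,0,0,0,0,0],[0,0,1,0,0,0,0],[0,0,0,1,0,0,0],[0,0,0,0,1,0,0],[0,0,0,0,0,1,0],[0,0,0,0,0,0,1]]),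
  ([[1,0,0,0,1,1],[1]], [[0,1,0,0,0,1,0],[1,0,0,0,1,1,0],[1,1,1,1,0,0,0],[0,0,0,1,1,1,0],[0,0,0,0,0,1,1],[1,0,1,1,1,1,1],[0,1,0,0,0,0,0]], [[1,1,1,0,1,1,0],[0,0,0,0,0,0,1],[0,1,1,1,0,0,1],[1,0,1,1,1,1,0],[0,0,1,0,1,1,1],[1,0,0,0,0,0,1],[1,0,0,0,1,0,1]], [[1,0,0,0,0,0,0],[1,1,0,0,0,0,0],[0,1,1,0,0,0,0],[0,0,1,1,0,0,0],[1,1,0,0,1,0,0],[0,1,1,1,0,1,0],[0,1,1,1,0,1,1]], [[1,1,1,1,0,0,0],[0,1,1,0,1,1,0],[0,0,1,0,0,0,1],[0,0,0,1,1,1,1],[0,0,0,0,1,1,1],[0,0,0,0,0,1,1],[0,0,0,0,0,0,1]], [[1,0,0,0,0,0,0],[0,1,0,0,0,0,0],[0,0,1,0,0,0,0],[0,0,0,1,0,0,0],[0,0,0,0,1,0,0],[0,0,0,0,0,1,0],[0,0,0,0,0,0,1]]),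
  ([[1,0,0,1,0,0],[1]], [[1,1,0,1,0,1,1],[1,1,1,1,1,1,0],[1,1,0,0,0,1,1],[0,1,1,0,0,1,1],[1,1,1,0,0,0,1],[0,0,1,0,0,1,1],[0,0,1,0,0,0,0]], [[0,0,1,1,0,0,1],[0,0,0,1,0,1,0],[0,0,0,0,0,0,1],[1,0,1,0,0,0,0],[1,1,1,0,1,1,1],[0,0,1,0,1,0,1],[0,0,1,0,1,1,0]], [[1,0,0,0,0,0,0],[1,1,0,0,0,0,0],[0,1,1,0,0,0,0],[1,1,0,1,0,0,0],[0,1,1,1,1,0,0],[1,0,1,0,0,1,0],[1,0,0,1,1,1,1]], [[1,1,1,0,1,1,1],[0,1,0,1,0,1,1],[0,0,1,0,0,1,0],[0,0,0,1,0,0,0],[0,0,0,0,1,1,0],[0,0,0,0,0,1,0],[0,0,0,0,0,0,1]], [[1,0,0,0,0,0,0],[0,1,0,0,0,0,0],[0,0,1,0,0,0,0],[0,0,0,1,0,0,0],[0,0,0,0,1,0,0],[0,0,0,0,0,1,0],[0,0,0,0,0,0,1]]),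
  ([[1,0,0,1,0,1],[1]], [[0,0,0,0,1,1,1],[1,0,0,0,0,1,1],[0,1,0,1,1,1,1],[1,0,1,1,1,1,0],[0,0,0,1,0,1,1],[0,0,0,1,0,0,1],[1,1,0,1,0,0,0]], [[1,0,1,0,0,0,1],[0,1,0,0,1,0,1],[0,0,1,1,0,1,1],[1,1,1,0,1,0,1],[0,1,1,0,0,0,1],[0,0,0,0,1,1,0],[1,1,1,0,1,1,1]], [[1,0,0,0,0,0,0],[1,1,0,0,0,0,0],[1,1,1,0,0,0,0],[1,1,0,1,0,0,0],[1,0,0,0,1,0,0],[1,1,0,0,1,1,0],[0,1,1,0,1,1,1]], [[1,1,0,0,1,0,1],[0,1,1,0,1,1,1],[0,0,1,1,1,1,0],[0,0,0,1,0,1,0],[0,0,0,0,1,0,0],[0,0,0,0,0,1,1],[0,0,0,0,0,0,1]], [[1,0,0,0,0,0,0],[0,1,0,0,0,0,0],[0,0,1,0,0,0,0],[0,0,0,1,0,0,0],[0,0,0,0,1,0,0],[0,0,0,0,0,1,0],[0,0,0,0,0,0,1]]),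
  ([[1,0,0,1,1,0],[1]], [[0,0,0,0,1,0,1],[1,1,1,0,1,0,1],[0,0,1,1,1,1,0],[0,0,1,0,1,1,1],[0,0,1,1,0,0,1],[1,0,0,0,0,1,0],[1,0,1,1,1,1,1]], [[1,0,1,0,1,1,0],[0,1,0,1,0,1,0],[0,0,1,1,1,0,0],[1,0,1,1,1,1,1],[0,0,0,0,1,1,1],[1,0,1,0,1,0,0],[1,0,0,0,1,1,1]], [[1,0,0,0,0,0,0],[1,1,0,0,0,0,0],[1,1,1,0,0,0,0],[0,0,1,1,0,0,0],[1,1,1,0,1,0,0],[0,0,0,0,0,1,0],[0,1,0,1,0,1,1]], [[1,0,1,0,1,0,1],[0,1,1,1,1,1,1],[0,0,1,0,0,0,1],[0,0,0,1,0,0,0],[0,0,0,0,1,0,1],[0,0,0,0,0,1,1],[0,0,0,0,0,0,1]], [[1,0,0,0,0,0,0],[0,1,0,0,0,0,0],[0,0,1,0,0,0,0],[0,0,0,1,0,0,0],[0,0,0,0,1,0,0],[0,0,0,0,0,1,0],[0,0,0,0,0,0,1]]),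
  ([[1,0,0,1,1,1],[1]], [[0,1,1,1,0,0,0],[1,1,1,0,1,1,0],[1,1,0,1,1,0,0],[1,0,1,1,0,1,0],[1,1,0,0,1,1,0],[0,1,1,0,1,0,0],[0,0,1,1,0,1,1]], [[0,1,1,1,0,0,0],[1,1,0,1,0,1,0],[0,1,0,0,1,0,0],[0,0,0,1,1,1,0],[1,0,0,1,1,0,0],[0,0,1,1,0,1,0],[0,1,1,0,0,0,1]], [[1,0,0,0,0,0,0],[0,1,0,0,0,0,0],[0,1,1,0,0,0,0],[1,0,1,1,0,0,0],[1,0,0,1,1,0,0],[1,1,0,0,1,1,0],[0,0,0,1,1,0,1]], [[1,0,0,0,1,0,0],[0,1,1,0,1,0,0],[0,0,1,1,0,0,0],[0,0,0,1,0,1,1],[0,0,0,0,1,0,0],[0,0,0,0,0,1,1],[0,0,0,0,0,0,1]], [[1,0,0,0,0,0,0],[0,1,0,0,0,0,0],[0,0,1,0,0,0,0],[0,0,0,1,0,0,0],[0,0,0,0,1,0,0],[0,0,0,0,0,1,0],[0,0,0,0,0,0,1]]),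
  ([[1,0,1,0,0,0],[1]], [[0,1,0,1,1,1,1],[1,1,1,0,1,1,1],[1,0,0,1,1,1,0],[0,0,0,1,1,1,0],[1,1,1,0,0,1,0],[1,0,0,1,0,0,0],[1,0,0,1,1,0,0]], [[0,0,1,1,0,0,0],[1,1,0,1,1,1,1],[1,1,0,0,0,1,0],[0,0,1,1,0,1,0],[0,0,0,0,0,1,1],[0,0,1,0,0,0,1],[0,1,0,0,1,1,1]], [[1,0,0,0,0,0,0],[1,1,0,0,0,0,0],[1,1,1,0,0,0,0],[1,0,0,1,0,0,0],[0,0,0,0,1,0,0],[0,0,0,1,1,1,0],[0,1,1,0,0,0,1]], [[1,1,0,1,1,0,0],[0,1,0,1,1,1,0],[0,0,1,1,1,0,0],[0,0,0,1,1,0,1],[0,0,0,0,1,0,0],[0,0,0,0,0,1,1],[0,0,0,0,0,0,1]], [[1,0,0,0,0,0,0],[0,1,0,0,0,0,0],[0,0,1,0,0,0,0],[0,0,0,1,0,0,0],[0,0,0,0,1,0,0],[0,0,0,0,0,1,0],[0,0,0,0,0,0,1]]),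
  ([[1,0,1,0,0,1],[1]], [[1,1,1,1,0,1,1],[0,0,0,1,1,0,0],[0,0,1,0,1,1,0],[0,0,1,1,1,1,0],[1,1,0,1,1,1,1],[1,1,1,1,1,0,0],[1,0,1,1,0,1,1]], [[0,0,1,1,1,1,1],[1,0,0,0,0,0,1],[1,1,1,1,1,0,0],[0,0,1,1,0,0,0],[0,1,1,1,0,0,0],[1,0,1,0,1,0,0],[0,1,0,1,1,1,0]], [[1,0,0,0,0,0,0],[0,1,0,0,0,0,0],[0,1,1,0,0,0,0],[1,0,0,1,0,0,0],[0,1,0,0,1,0,0],[0,1,1,1,0,1,0],[0,0,1,0,0,1,1]], [[1,0,1,1,0,1,1],[0,1,0,1,0,0,0],[0,0,1,1,0,0,0],[0,0,0,1,1,1,0],[0,0,0,0,1,0,0],[0,0,0,0,0,1,0],[0,0,0,0,0,0,1]], [[1,0,0,0,0,0,0],[0,1,0,0,0,0,0],[0,0,1,0,0,0,0],[0,0,0,1,0,0,0],[0,0,0,0,1,0,0],[0,0,0,0,0,1,0],[0,0,0,0,0,0,1]]),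
  ([[1,0,1,0,1,0],[1]], [[1,0,1,0,1,0,0],[1,1,1,1,0,1,1],[0,0,0,1,1,1,0],[1,1,0,0,1,0,0],[0,1,0,1,0,1,1],[1,0,1,0,0,0,1],[0,1,0,0,1,1,1]], [[0,1,1,1,0,1,0],[1,0,1,0,1,1,0],[0,0,1,1,1,1,0],[1,1,0,0,0,0,1],[1,1,0,0,1,0,0],[0,0,1,0,1,0,1],[0,1,0,0,1,1,0]], [[1,0,0,0,0,0,0],[0,1,0,0,0,0,0],[1,1,1,0,0,0,0],[1,1,0,1,0,0,0],[0,0,1,0,1,0,0],[0,0,1,1,0,1,0],[1,1,0,1,0,1,1]], [[1,0,1,1,1,1,1],[0,1,0,0,1,1,1],[0,0,1,0,0,0,1],[0,0,0,1,0,1,0],[0,0,0,0,1,1,0],[0,0,0,0,0,1,1],[0,0,0,0,0,0,1]], [[1,0,0,0,0,0,0],[0,1,0,0,0,0,0],[0,0,1,0,0,0,0],[0,0,0,1,0,0,0],[0,0,0,0,1,0,0],[0,0,0,0,0,1,0],[0,0,0,0,0,0,1]]),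
  ([[1,0,1,0,1,1],[1]], [[1,1,1,1,0,1,0],[0,1,1,1,1,0,0],[1,0,0,1,1,1,0],[0,1,1,0,0,1,0],[0,1,1,0,1,1,1],[0,0,0,1,0,0,1],[0,1,0,0,0,0,1]], [[0,1,1,1,0,0,0],[1,1,1,0,0,1,1],[1,0,1,1,1,0,1],[1,1,1,0,0,0,0],[1,1,1,1,1,1,0],[0,1,0,0,1,1,0],[1,1,1,0,0,1,0]], [[1,0,0,0,0,0,0],[1,1,0,0,0,0,0],[1,0,1,0,0,0,0],[0,0,0,1,0,0,0],[1,0,0,0,1,0,0],[0,0,1,0,0,1,0],[1,0,0,0,0,1,1]], [[1,1,1,0,1,1,1],[0,1,1,0,0,1,1],[0,0,1,0,0,0,1],[0,0,0,1,0,0,1],[0,0,0,0,1,0,0],[0,0,0,0,0,1,0],[0,0,0,0,0,0,1]], [[1,0,0,0,0,0,0],[0,1,0,0,0,0,0],[0,0,1,0,0,0,0],[0,0,0,1,0,0,0],[0,0,0,0,1,0,0],[0,0,0,0,0,1,0],[0,0,0,0,0,0,1]]),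
  ([[1,0,1,1,0,0],[1]], [[0,0,1,0,0,1,0],[0,0,1,1,1,0,0],[0,1,0,1,0,0,0],[0,1,0,0,0,1,1],[1,0,0,0,1,1,1],[0,0,0,1,1,1,1],[1,0,0,1,1,1,0]], [[1,1,0,0,0,0,1],[1,1,1,0,1,1,1],[1,0,1,1,1,0,1],[1,1,0,0,1,1,1],[0,0,1,1,0,1,0],[0,0,1,1,1,0,1],[1,1,0,0,0,1,0]], [[1,0,0,0,0,0,0],[1,1,0,0,0,0,0],[0,1,1,0,0,0,0],[0,0,0,1,0,0,0],[0,0,1,1,1,0,0],[1,1,1,0,1,1,0],[1,0,0,1,1,1,1]], [[1,0,1,1,0,0,0],[0,1,0,1,1,0,1],[0,0,1,0,0,0,1],[0,0,0,1,0,1,0],[0,0,0,0,1,1,0],[0,0,0,0,0,1,0],[0,0,0,0,0,0,1]], [[1,0,0,0,0,0,0],[0,1,0,0,0,0,0],[0,0,1,0,0,0,0],[0,0,0,1,0,0,0],[0,0,0,0,1,0,0],[0,0,0,0,0,1,0],[0,0,0,0,0,0,1]]),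
  ([[1,0,1,1,0,1],[1]], [[0,1,1,1,1,0,0],[1,1,0,1,0,0,1],[0,0,1,1,0,1,1],[0,1,0,1,1,0,1],[1,0,0,0,1,1,1],[1,0,0,0,0,0,0],[0,1,0,1,0,1,1]], [[0,0,0,0,0,1,0],[1,0,1,0,1,1,0],[1,0,0,0,1,1,1],[1,1,1,1,0,1,1],[0,1,0,1,0,1,0],[0,1,0,0,0,1,1],[0,0,0,1,1,1,1]], [[1,0,0,0,0,0,0],[0,1,0,0,0,0,0],[0,1,1,0,0,0,0],[1,0,1,1,0,0,0],[0,1,0,1,1,0,0],[1,1,1,0,1,1,0],[1,1,1,1,1,1,1]], [[1,0,1,0,0,1,0],[0,1,1,0,1,1,1],[0,0,1,1,1,1,1],[0,0,0,1,1,0,0],[0,0,0,0,1,0,1],[0,0,0,0,0,1,0],[0,0,0,0,0,0,1]], [[1,0,0,0,0,0,0],[0,1,0,0,0,0,0],[0,0,1,0,0,0,0],[0,0,0,1,0,0,0],[0,0,0,0,1,0,0],[0,0,0,0,0,1,0],[0,0,0,0,0,0,1]]),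
  ([[1,0,1,1,1,0],[1]], [[1,1,1,1,0,1,0],[0,0,1,1,0,1,0],[0,0,0,1,0,1,1],[0,0,1,0,1,0,0],[1,1,1,1,1,0,0],[0,1,1,0,0,0,1],[1,1,1,1,1,0,1]], [[1,0,1,0,0,1,0],[0,1,1,0,0,1,0],[0,1,1,0,1,0,1],[1,1,0,1,1,0,0],[0,1,1,1,1,0,1],[1,1,1,1,0,0,1],[0,0,0,0,1,0,1]], [[1,0,0,0,0,0,0],[1,1,0,0,0,0,0],[0,1,1,0,0,0,0],[1,1,1,1,0,0,0],[1,1,1,1,1,0,0],[0,1,0,1,0,1,0],[0,1,0,0,0,1,1]], [[1,0,1,1,1,0,0],[0,1,1,1,0,0,0],[0,0,1,1,0,0,1],[0,0,0,1,1,0,1],[0,0,0,0,1,0,0],[0,0,0,0,0,1,1],[0,0,0,0,0,0,1]], [[1,0,0,0,0,0,0],[0,1,0,0,0,0,0],[0,0,1,0,0,0,0],[0,0,0,1,0,0,0],[0,0,0,0,1,0,0],[0,0,0,0,0,1,0],[0,0,0,0,0,0,1]]),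
  ([[1,0,1,1,1,1],[1]], [[1,1,1,0,0,0,0],[0,1,1,0,0,0,1],[0,1,0,0,0,1,0],[1,1,0,0,1,0,0],[1,0,1,1,1,0,1],[0,0,0,0,0,0,1],[1,1,0,0,0,0,1]], [[1,1,0,0,0,1,0],[1,1,0,0,0,0,1],[1,0,0,0,0,1,1],[0,1,0,1,1,0,0],[0,0,0,1,0,1,1],[1,1,1,0,0,0,1],[0,0,0,0,0,1,0]], [[1,0,0,0,0,0,0],[1,1,0,0,0,0,0],[1,0,1,0,0,0,0],[1,0,1,1,0,0,0],[1,0,1,0,1,0,0],[1,0,0,1,0,1,0],[1,1,0,0,0,1,1]], [[1,0,0,0,0,0,0],[0,1,0,1,1,1,0],[0,0,1,0,0,0,1],[0,0,0,1,1,1,1],[0,0,0,0,1,0,1],[0,0,0,0,0,1,1],[0,0,0,0,0,0,1]], [[1,0,0,0,0,0,0],[0,1,0,0,0,0,0],[0,0,1,0,0,0,0],[0,0,0,1,0,0,0],[0,0,0,0,1,0,0],[0,0,0,0,0,1,0],[0,0,0,0,0,0,1]]),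
  ([[1,1,0,0,0,0],[1]], [[0,1,1,1,1,0,1],[0,1,0,1,1,0,0],[0,1,1,1,0,0,1],[1,0,0,0,1,1,0],[0,1,0,0,1,1,1],[0,1,1,1,0,1,1],[1,0,0,1,1,1,0]], [[1,0,0,1,0,1,0],[1,1,1,1,0,0,1],[1,0,1,1,1,1,1],[0,0,0,1,0,0,1],[1,0,1,0,0,0,0],[0,0,1,0,0,1,0],[0,1,1,1,1,1,1]], [[1,0,0,0,0,0,0],[0,1,0,0,0,0,0],[0,1,1,0,0,0,0],[1,1,1,1,0,0,0],[0,0,1,1,1,0,0],[0,0,0,1,0,1,0],[0,1,0,0,0,1,1]], [[1,0,0,1,1,1,1],[0,1,0,0,1,1,0],[0,0,1,0,0,1,1],[0,0,0,1,0,1,1],[0,0,0,0,1,1,0],[0,0,0,0,0,1,1],[0,0,0,0,0,0,1]], [[1,0,0,0,0,0,0],[0,1,0,0,0,0,0],[0,0,1,0,0,0,0],[0,0,0,1,0,0,0],[0,0,0,0,1,0,0],[0,0,0,0,0,1,0],[0,0,0,0,0,0,1]]),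
  ([[1,1,0,0,0,1],[1]], [[1,0,1,0,1,1,1],[0,1,1,1,0,1,0],[0,0,1,0,0,0,1],[1,0,1,0,1,0,1],[0,0,1,1,0,0,1],[0,0,0,0,1,1,0],[1,1,0,1,0,0,0]], [[1,0,1,0,0,1,0],[1,0,0,0,1,1,1],[0,1,1,1,0,1,1],[0,0,1,0,1,0,0],[1,0,0,1,0,1,0],[1,0,0,1,0,0,0],[0,1,0,1,0,1,1]], [[1,0,0,0,0,0,0],[1,1,0,0,0,0,0],[1,0,1,0,0,0,0],[0,1,1,1,0,0,0],[1,1,0,1,1,0,0],[0,1,1,1,0,1,0],[1,0,1,0,0,1,1]], [[1,0,1,1,0,1,1],[0,1,0,1,1,0,0],[0,0,1,0,1,1,1],[0,0,0,1,1,1,0],[0,0,0,0,1,1,0],[0,0,0,0,0,1,0],[0,0,0,0,0,0,1]], [[1,0,0,0,0,0,0],[0,1,0,0,0,0,0],[0,0,1,0,0,0,0],[0,0,0,1,0,0,0],[0,0,0,0,1,0,0],[0,0,0,0,0,1,0],[0,0,0,0,0,0,1]]),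
  ([[1,1,0,0,1,0],[1]], [[1,1,0,0,0,1,0],[1,0,0,1,1,0,1],[0,0,1,1,1,0,0],[1,0,1,0,1,1,0],[1,0,1,0,0,1,0],[1,0,1,0,0,1,1],[0,0,1,0,0,1,0]], [[0,0,0,0,1,0,1],[1,1,1,0,1,1,1],[0,1,1,0,0,1,1],[0,1,0,1,1,1,1],[0,0,0,1,1,0,0],[0,1,1,0,0,1,0],[0,0,0,0,1,1,0]], [[1,0,0,0,0,0,0],[0,1,0,0,0,0,0],[1,1,1,0,0,0,0],[1,1,1,1,0,0,0],[0,0,0,0,1,0,0],[0,0,1,1,0,1,0],[0,1,0,0,1,1,1]], [[1,1,1,0,0,1,0],[0,1,0,1,1,0,1],[0,0,1,1,0,0,0],[0,0,0,1,1,1,0],[0,0,0,0,1,1,0],[0,0,0,0,0,1,0],[0,0,0,0,0,0,1]], [[1,0,0,0,0,0,0],[0,1,0,0,0,0,0],[0,0,1,0,0,0,0],[0,0,0,1,0,0,0],[0,0,0,0,1,0,0],[0,0,0,0,0,1,0],[0,0,0,0,0,0,1]]),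
  ([[1,1,0,0,1,1],[1]], [[0,0,0,0,1,0,0],[1,0,0,0,1,1,1],[1,0,1,1,1,0,1],[0,0,1,1,1,0,1],[1,1,0,1,1,0,1],[1,0,0,1,0,0,1],[0,0,0,1,1,1,1]], [[0,0,1,1,0,0,0],[1,0,0,0,1,1,0],[1,0,1,0,0,1,0],[0,1,1,1,0,0,1],[1,0,0,0,0,0,0],[1,0,1,1,0,1,1],[0,1,0,0,0,1,1]], [[1,0,0,0,0,0,0],[0,1,0,0,0,0,0],[0,0,1,0,0,0,0],[0,1,1,1,0,0,0],[0,1,1,1,1,0,0],[1,1,1,1,1,1,0],[1,1,0,0,0,0,1]], [[1,0,1,1,0,1,1],[0,1,1,1,0,0,0],[0,0,1,0,0,1,1],[0,0,0,1,1,0,0],[0,0,0,0,1,1,1],[0,0,0,0,0,1,1],[0,0,0,0,0,0,1]], [[1,0,0,0,0,0,0],[0,1,0,0,0,0,0],[0,0,1,0,0,0,0],[0,0,0,1,0,0,0],[0,0,0,0,1,0,0],[0,0,0,0,0,1,0],[0,0,0,0,0,0,1]]),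
  ([[1,1,0,1,0,0],[1]], [[1,1,0,0,0,0,0],[1,0,1,0,1,0,0],[1,1,1,1,1,0,0],[1,0,1,1,0,0,0],[0,0,0,0,1,1,1],[1,1,1,1,0,1,0],[1,1,0,1,0,0,0]], [[0,1,1,0,0,0,1],[1,1,1,0,0,0,1],[1,1,1,1,0,0,0],[1,0,0,0,0,0,1],[1,1,0,1,0,0,1],[1,1,1,1,0,1,1],[0,0,1,0,1,1,0]], [[1,0,0,0,0,0,0],[0,1,0,0,0,0,0],[1,0,1,0,0,0,0],[1,1,0,1,0,0,0],[1,1,1,0,1,0,0],[0,0,1,0,0,1,0],[0,0,1,0,0,0,1]], [[1,0,0,1,1,1,0],[0,1,0,1,1,1,1],[0,0,1,1,0,1,0],[0,0,0,1,1,0,0],[0,0,0,0,1,1,0],[0,0,0,0,0,1,0],[0,0,0,0,0,0,1]], [[1,0,0,0,0,0,0],[0,1,0,0,0,0,0],[0,0,1,0,0,0,0],[0,0,0,1,0,0,0],[0,0,0,0,1,0,0],[0,0,0,0,0,1,0],[0,0,0,0,0,0,1]]),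
  ([[1,1,0,1,0,1],[1]], [[0,0,0,1,1,1,0],[1,1,1,0,1,1,0],[1,1,0,0,1,1,1],[0,1,0,0,0,1,1],[1,0,0,1,0,1,1],[0,0,0,0,1,0,0],[1,0,0,0,0,1,1]], [[0,0,1,1,0,1,0],[0,0,1,0,0,1,1],[1,1,0,1,1,0,0],[0,0,0,0,1,0,1],[0,0,0,0,0,1,0],[1,0,0,0,1,1,1],[1,0,1,1,1,0,0]], [[1,0,0,0,0,0,0],[1,1,0,0,0,0,0],[0,1,1,0,0,0,0],[1,1,0,1,0,0,0],[0,0,1,1,1,0,0],[0,1,0,1,0,1,0],[1,0,1,1,0,1,1]], [[1,1,1,1,1,1,1],[0,1,0,1,0,1,0],[0,0,1,1,0,1,1],[0,0,0,1,1,0,0],[0,0,0,0,1,1,1],[0,0,0,0,0,1,0],[0,0,0,0,0,0,1]], [[1,0,0,0,0,0,0],[0,1,0,0,0,0,0],[0,0,1,0,0,0,0],[0,0,0,1,0,0,0],[0,0,0,0,1,0,0],[0,0,0,0,0,1,0],[0,0,0,0,0,0,1]]),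
  ([[1,1,0,1,1,0],[1]], [[0,0,1,0,0,0,0],[1,1,0,1,0,0,1],[1,0,1,0,0,0,0],[1,0,1,0,1,1,0],[0,1,1,1,0,0,0],[1,1,1,1,1,0,0],[0,1,1,0,0,1,1]], [[1,0,1,0,0,0,0],[0,1,1,1,0,1,1],[1,0,0,0,0,0,0],[1,1,1,1,1,1,1],[1,0,1,0,1,1,0],[1,0,0,1,1,1,0],[0,1,1,0,1,0,0]], [[1,0,0,0,0,0,0],[0,1,0,0,0,0,0],[0,1,1,0,0,0,0],[0,1,0,1,0,0,0],[0,1,0,1,1,0,0],[1,0,0,0,1,1,0],[0,1,0,0,1,0,1]], [[1,1,1,1,1,0,1],[0,1,0,0,1,0,0],[0,0,1,0,1,0,0],[0,0,0,1,1,0,1],[0,0,0,0,1,1,1],[0,0,0,0,0,1,1],[0,0,0,0,0,0,1]], [[1,0,0,0,0,0,0],[0,1,0,0,0,0,0],[0,0,1,0,0,0,0],[0,0,0,1,0,0,0],[0,0,0,0,1,0,0],[0,0,0,0,0,1,0],[0,0,0,0,0,0,1]]),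
  ([[1,1,0,1,1,1],[1]], [[1,0,0,0,1,1,1],[0,1,1,1,0,0,0],[0,0,0,1,0,0,1],[0,0,0,1,0,0,0],[1,0,1,0,1,0,0],[0,0,1,0,1,0,1],[0,0,1,0,1,1,1]], [[0,0,1,1,1,1,0],[1,1,1,0,1,1,1],[1,0,1,1,1,1,1],[0,0,0,1,0,0,0],[1,0,0,0,1,0,1],[0,0,0,0,0,1,1],[0,0,1,1,0,0,0]], [[1,0,0,0,0,0,0],[1,1,0,0,0,0,0],[0,0,1,0,0,0,0],[0,1,1,1,0,0,0],[1,1,0,0,1,0,0],[0,1,0,0,1,1,0],[1,1,1,0,0,1,1]], [[1,1,1,1,0,0,1],[0,1,0,1,0,1,1],[0,0,1,0,0,0,1],[0,0,0,1,1,1,0],[0,0,0,0,1,0,1],[0,0,0,0,0,1,1],[0,0,0,0,0,0,1]], [[1,0,0,0,0,0,0],[0,1,0,0,0,0,0],[0,0,1,0,0,0,0],[0,0,0,1,0,0,0],[0,0,0,0,1,0,0],[0,0,0,0,0,1,0],[0,0,0,0,0,0,1]]),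
  ([[1,1,1,0,0,0],[1]], [[1,1,0,0,1,1,0],[0,0,1,0,0,0,1],[0,1,1,0,1,0,1],[0,1,1,0,0,0,0],[0,1,1,1,0,0,1],[1,1,1,1,0,1,0],[1,0,0,0,0,0,0]], [[0,0,0,0,0,0,1],[1,0,1,1,1,1,0],[1,0,1,0,1,1,0],[1,1,1,1,0,1,0],[1,1,0,1,1,1,0],[1,1,1,0,0,0,1],[1,1,1,0,1,1,0]], [[1,0,0,0,0,0,0],[1,1,0,0,0,0,0],[1,1,1,0,0,0,0],[0,1,0,1,0,0,0],[0,0,1,1,1,0,0],[0,1,1,1,0,1,0],[0,0,1,0,1,0,1]], [[1,0,0,0,1,1,1],[0,1,0,1,1,0,0],[0,0,1,0,1,1,0],[0,0,0,1,0,0,0],[0,0,0,0,1,1,0],[0,0,0,0,0,1,1],[0,0,0,0,0,0,1]], [[1,0,0,0,0,0,0],[0,1,0,0,0,0,0],[0,0,1,0,0,0,0],[0,0,0,1,0,0,0],[0,0,0,0,1,0,0],[0,0,0,0,0,1,0],[0,0,0,0,0,0,1]]),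
  ([[1,1,1,0,0,1],[1]], [[1,0,0,1,0,0,1],[1,0,1,1,0,1,0],[1,1,1,0,1,1,1],[0,0,0,1,1,0,1],[1,0,1,0,0,0,0],[0,1,1,1,0,1,1],[1,0,1,0,1,1,0]], [[0,1,1,0,0,1,1],[0,1,1,1,0,0,0],[0,1,1,0,1,1,1],[1,0,1,1,0,1,0],[1,1,1,1,0,1,1],[1,1,1,1,1,1,0],[0,1,0,1,0,0,1]], [[1,0,0,0,0,0,0],[0,1,0,0,0,0,0],[1,0,1,0,0,0,0],[0,1,1,1,0,0,0],[1,1,1,1,1,0,0],[1,1,0,0,0,1,0],[0,0,1,0,1,1,1]], [[1,1,1,1,1,1,0],[0,1,1,1,1,0,0],[0,0,1,1,1,0,1],[0,0,0,1,0,1,1],[0,0,0,0,1,1,1],[0,0,0,0,0,1,1],[0,0,0,0,0,0,1]], [[1,0,0,0,0,0,0],[0,1,0,0,0,0,0],[0,0,1,0,0,0,0],[0,0,0,1,0,0,0],[0,0,0,0,1,0,0],[0,0,0,0,0,1,0],[0,0,0,0,0,0,1]]),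
  ([[1,1,1,0,1,0],[1]], [[0,1,0,0,1,0,1],[0,1,1,0,1,0,0],[0,0,0,0,1,1,0],[0,1,0,1,1,1,0],[0,0,0,0,0,0,1],[0,1,1,0,1,1,0],[1,0,0,0,1,0,1]], [[0,1,1,0,1,1,1],[1,1,1,0,1,1,0],[1,1,0,0,1,0,0],[1,1,0,1,1,1,0],[0,1,1,0,0,1,0],[0,1,0,0,0,1,0],[0,0,0,0,1,0,0]], [[1,0,0,0,0,0,0],[0,1,0,0,0,0,0],[1,0,1,0,0,0,0],[0,1,0,1,0,0,0],[1,1,1,1,1,0,0],[1,1,1,1,0,1,0],[1,1,1,1,1,1,1]], [[1,0,0,1,1,1,0],[0,1,1,1,1,1,0],[0,0,1,1,0,1,1],[0,0,0,1,1,1,0],[0,0,0,0,1,0,1],[0,0,0,0,0,1,1],[0,0,0,0,0,0,1]], [[1,0,0,0,0,0,0],[0,1,0,0,0,0,0],[0,0,1,0,0,0,0],[0,0,0,1,0,0,0],[0,0,0,0,1,0,0],[0,0,0,0,0,1,0],[0,0,0,0,0,0,1]]),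
  ([[1,1,1,0,1,1],[1]], [[0,1,1,1,0,0,1],[0,0,0,1,1,1,1],[1,0,1,0,0,0,1],[1,1,1,0,0,0,1],[0,0,1,0,0,0,0],[0,1,0,0,1,1,1],[0,1,1,1,1,0,0]], [[1,1,1,0,0,1,0],[0,0,1,1,0,0,0],[0,0,0,0,1,0,0],[0,1,1,1,0,1,0],[0,1,0,0,1,1,1],[1,0,1,1,0,1,1],[1,1,0,0,1,1,0]], [[1,0,0,0,0,0,0],[1,1,0,0,0,0,0],[0,1,1,0,0,0,0],[0,0,1,1,0,0,0],[0,0,1,1,1,0,0],[0,0,1,0,1,1,0],[1,0,0,0,0,1,1]], [[1,0,0,0,1,0,0],[0,1,0,1,1,1,0],[0,0,1,1,0,1,0],[0,0,0,1,0,0,1],[0,0,0,0,1,0,0],[0,0,0,0,0,1,1],[0,0,0,0,0,0,1]], [[1,0,0,0,0,0,0],[0,1,0,0,0,0,0],[0,0,1,0,0,0,0],[0,0,0,1,0,0,0],[0,0,0,0,1,0,0],[0,0,0,0,0,1,0],[0,0,0,0,0,0,1]]),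
  ([[1,1,1,1,0,0],[1]], [[1,1,0,1,1,1,1],[1,1,1,0,0,1,0],[0,0,1,0,1,1,0],[0,1,0,0,1,1,1],[0,0,1,0,0,1,1],[1,1,0,0,0,1,0],[0,1,1,0,0,0,0]], [[0,0,1,1,1,1,0],[0,1,0,0,0,1,1],[0,1,0,0,0,1,0],[1,0,1,0,1,1,0],[0,0,0,1,1,0,1],[0,1,1,1,1,1,1],[0,0,1,1,0,0,1]], [[1,0,0,0,0,0,0],[1,1,0,0,0,0,0],[1,0,1,0,0,0,0],[1,0,0,1,0,0,0],[0,0,1,0,1,0,0],[1,0,0,1,1,1,0],[1,1,1,1,1,1,1]], [[1,0,1,1,0,1,0],[0,1,0,0,1,1,0],[0,0,1,0,0,0,0],[0,0,0,1,0,1,1],[0,0,0,0,1,1,0],[0,0,0,0,0,1,1],[0,0,0,0,0,0,1]], [[1,0,0,0,0,0,0],[0,1,0,0,0,0,0],[0,0,1,0,0,0,0],[0,0,0,1,0,0,0],[0,0,0,0,1,0,0],[0,0,0,0,0,1,0],[0,0,0,0,0,0,1]]),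
  ([[1,1,1,1,0,1],[1]], [[1,1,1,1,0,0,0],[0,0,0,0,0,0,1],[0,1,0,0,1,0,1],[1,0,1,0,1,1,0],[1,0,1,1,0,1,0],[1,1,0,1,1,1,1],[1,0,1,0,0,1,1]], [[1,1,0,1,0,1,0],[0,0,1,1,0,0,1],[0,0,1,0,1,1,0],[0,1,0,0,1,0,1],[0,1,0,1,0,0,1],[1,0,1,1,1,0,1],[0,1,0,0,0,0,0]], [[1,0,0,0,0,0,0],[0,1,0,0,0,0,0],[0,1,1,0,0,0,0],[0,0,0,1,0,0,0],[1,1,0,1,1,0,0],[1,0,0,1,0,1,0],[0,0,0,1,1,0,1]], [[1,1,1,1,1,1,0],[0,1,0,0,0,1,0],[0,0,1,0,1,1,1],[0,0,0,1,0,0,1],[0,0,0,0,1,0,1],[0,0,0,0,0,1,0],[0,0,0,0,0,0,1]], [[1,0,0,0,0,0,0],[0,1,0,0,0,0,0],[0,0,1,0,0,0,0],[0,0,0,1,0,0,0],[0,0,0,0,1,0,0],[0,0,0,0,0,1,0],[0,0,0,0,0,0,1]]),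
  ([[1,1,1,1,1,0],[1]], [[0,1,1,1,0,0,0],[0,1,1,1,1,0,0],[1,1,1,0,1,0,0],[0,0,1,1,1,1,0],[1,1,0,1,0,0,0],[1,1,0,1,1,0,1],[1,1,0,0,0,0,1]], [[1,0,1,0,0,1,1],[0,1,1,0,1,0,0],[0,0,1,0,1,1,1],[1,1,0,0,0,1,1],[1,1,0,0,0,0,0],[0,0,1,1,1,0,0],[1,1,0,0,1,1,0]], [[1,0,0,0,0,0,0],[1,1,0,0,0,0,0],[1,0,1,0,0,0,0],[1,0,1,1,0,0,0],[0,1,1,0,1,0,0],[0,0,0,1,0,1,0],[1,0,0,0,1,1,1]], [[1,1,1,0,1,1,1],[0,1,0,0,0,0,1],[0,0,1,1,1,1,1],[0,0,0,1,0,0,1],[0,0,0,0,1,0,1],[0,0,0,0,0,1,0],[0,0,0,0,0,0,1]], [[1,0,0,0,0,0,0],[0,1,0,0,0,0,0],[0,0,1,0,0,0,0],[0,0,0,1,0,0,0],[0,0,0,0,1,0,0],[0,0,0,0,0,1,0],[0,0,0,0,0,0,1]]),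
  ([[1,1,1,1,1,1],[1]], [[1,0,1,1,1,1,1],[1,0,0,1,1,1,0],[1,0,1,1,1,0,0],[0,1,1,1,1,1,1],[0,1,0,0,0,1,0],[0,0,0,0,1,1,0],[0,0,0,1,0,0,0]], [[0,1,0,0,0,1,1],[1,1,0,1,0,1,1],[1,0,1,1,1,1,1],[0,0,0,0,0,0,1],[1,1,0,1,1,0,1],[1,1,0,1,1,1,1],[0,1,1,1,1,1,1]], [[1,0,0,0,0,0,0],[1,1,0,0,0,0,0],[1,1,1,0,0,0,0],[0,0,1,1,0,0,0],[0,0,0,1,1,0,0],[1,1,0,0,0,1,0],[1,0,1,1,1,1,1]], [[1,0,0,0,0,0,0],[0,1,1,0,0,0,1],[0,0,1,0,0,1,1],[0,0,0,1,0,0,1],[0,0,0,0,1,0,0],[0,0,0,0,0,1,0],[0,0,0,0,0,0,1]], [[1,0,0,0,0,0,0],[0,1,0,0,0,0,0],[0,0,1,0,0,0,0],[0,0,0,1,0,0,0],[0,0,0,0,1,0,0],[0,0,0,0,0,1,0],[0,0,0,0,0,0,1]])]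

theorem tail17_ok : tblOk 2 [g7] tail17 = true := by decide +kernel

theorem tail17_keys : keys tail17 = ((unitV 2 6).flatMap fun a => (unitV 2 1).map fun b => [a, b]) := by decide +kernel

def tail25 : Tbl :=
  [([[1,0,0],[1,0]], [[0,1,1,1,0],[1,0,1,0,1],[0,0,0,1,1],[1,1,0,0,1],[0,1,0,1,1]], [[1,1,0,0,1],[0,0,1,0,1],[0,1,1,1,1],[1,1,0,1,0],[1,1,1,1,0]], [[1,0,0,0,0],[1,1,0,0,0],[0,0,1,0,0],[0,1,0,1,0],[1,0,1,1,1]], [[1,0,1,1,1],[0,1,0,0,1],[0,0,1,0,0],[0,0,0,1,0],[0,0,0,0,1]], [[1,0,0,0,0],[0,1,0,0,0],[0,0,1,0,0],[0,0,0,1,0],[0,0,0,0,1]]),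
  ([[1,0,0],[1,1]], [[1,1,0,1,0],[0,0,0,0,1],[0,1,0,1,1],[1,0,1,1,0],[1,1,0,0,0]], [[1,1,1,0,0],[1,1,1,0,1],[0,1,1,1,1],[1,0,0,0,1],[0,1,0,0,0]], [[1,0,0,0,0],[0,1,0,0,0],[1,0,1,0,0],[1,1,0,1,0],[0,0,0,1,1]], [[1,0,0,1,0],[0,1,0,0,1],[0,0,1,1,1],[0,0,0,1,0],[0,0,0,0,1]], [[1,0,0,0,0],[0,1,0,0,0],[0,0,1,0,0],[0,0,0,1,0],[0,0,0,0,1]]),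
  ([[1,0,1],[1,0]], [[1,0,1,1,0],[1,1,0,0,0],[0,0,0,1,1],[1,1,1,1,0],[0,0,1,1,1]], [[1,1,0,1,0],[1,0,0,1,0],[0,0,1,0,1],[0,1,1,1,1],[0,1,0,1,1]], [[1,0,0,0,0],[1,1,0,0,0],[0,0,1,0,0],[0,1,1,1,0],[0,1,1,0,1]], [[1,0,0,0,0],[0,1,0,0,1],[0,0,1,1,0],[0,0,0,1,0],[0,0,0,0,1]], [[1,0,0,0,0],[0,1,0,0,0],[0,0,1,0,0],[0,0,0,1,0],[0,0,0,0,1]]),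
  ([[1,0,1],[1,1]], [[0,1,1,0,0],[0,0,1,0,0],[1,1,0,1,0],[0,1,1,1,1],[1,0,0,0,0]], [[0,0,0,0,1],[1,1,0,0,0],[0,1,0,0,0],[1,1,1,0,1],[0,1,1,1,1]], [[1,0,0,0,0],[1,1,0,0,0],[0,0,1,0,0],[0,0,1,1,0],[1,0,1,1,1]], [[1,1,0,0,1],[0,1,1,1,1],[0,0,1,1,0],[0,0,0,1,1],[0,0,0,0,1]], [[1,0,0,0,0],[0,1,0,0,0],[0,0,1,0,0],[0,0,0,1,0],[0,0,0,0,1]]),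
  ([[1,1,0],[1,0]], [[1,1,0,1,1],[0,0,1,1,1],[0,0,0,1,1],[0,0,1,0,1],[1,0,1,0,0]], [[0,1,1,0,1],[1,1,0,0,1],[0,1,1,0,0],[0,1,0,1,0],[0,1,1,1,0]], [[1,0,0,0,0],[1,1,0,0,0],[0,0,1,0,0],[0,0,0,1,0],[0,1,0,0,1]], [[1,0,1,1,1],[0,1,1,1,1],[0,0,1,1,1],[0,0,0,1,0],[0,0,0,0,1]], [[1,0,0,0,0],[0,1,0,0,0],[0,0,1,0,0],[0,0,0,1,0],[0,0,0,0,1]]),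
  ([[1,1,0],[1,1]], [[1,0,0,1,0],[1,0,1,0,1],[0,0,1,1,0],[1,0,0,0,0],[0,1,0,0,1]], [[0,0,0,1,0],[1,1,1,0,1],[1,0,1,1,0],[1,0,0,1,0],[1,1,1,0,0]], [[1,0,0,0,0],[1,1,0,0,0],[1,0,1,0,0],[1,1,1,1,0],[1,0,1,1,1]], [[1,0,1,0,0],[0,1,1,1,1],[0,0,1,1,0],[0,0,0,1,1],[0,0,0,0,1]], [[1,0,0,0,0],[0,1,0,0,0],[0,0,1,0,0],[0,0,0,1,0],[0,0,0,0,1]]),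
  ([[1,1,1],[1,0]], [[1,0,0,1,1],[0,0,0,1,1],[0,1,1,1,0],[1,0,1,1,1],[0,1,0,1,1]], [[1,1,0,0,0],[0,1,0,0,1],[1,0,0,1,0],[1,1,1,1,1],[1,0,1,1,1]], [[1,0,0,0,0],[1,1,0,0,0],[1,1,1,0,0],[1,1,1,1,0],[1,0,1,0,1]], [[1,1,1,1,0],[0,1,1,1,1],[0,0,1,0,1],[0,0,0,1,0],[0,0,0,0,1]], [[1,0,0,0,0],[0,1,0,0,0],[0,0,1,0,0],[0,0,0,1,0],[0,0,0,0,1]]),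
  ([[1,1,1],[1,1]], [[0,0,0,0,1],[1,0,1,0,0],[0,0,1,1,1],[1,1,1,0,0],[0,0,0,1,0]], [[1,1,1,0,1],[0,1,0,1,0],[1,0,1,0,1],[0,0,0,0,1],[1,0,0,0,0]], [[1,0,0,0,0],[0,1,0,0,0],[1,0,1,0,0],[0,1,1,1,0],[1,0,1,0,1]], [[1,1,0,0,0],[0,1,1,1,0],[0,0,1,1,0],[0,0,0,1,1],[0,0,0,0,1]], [[1,0,0,0,0],[0,1,0,0,0],[0,0,1,0,0],[0,0,0,1,0],[0,0,0,0,1]])]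

theorem tail25_ok : tblOk 2 [g5] tail25 = true := by decide +kernel

theorem tail25_keys : keys tail25 = ((unitV 2 3).flatMap fun a => (unitV 2 2).map fun b => [a, b]) := by decide +kernel

def tail26 : Tbl :=
  [([[1,0,0,0],[1,0]], [[1,1,1,0,0,1],[0,0,1,0,1,0],[1,0,1,1,0,1],[1,1,1,1,0,1],[1,1,0,1,0,1],[1,1,0,1,1,0]], [[1,1,1,1,1,1],[0,0,1,1,0,0],[0,0,0,1,1,0],[1,0,0,1,0,0],[0,1,0,1,1,0],[0,1,0,1,0,1]], [[1,0,0,0,0,0],[0,1,0,0,0,0],[1,0,1,0,0,0],[0,0,0,1,0,0],[1,0,0,0,1,0],[0,0,0,0,0,1]], [[1,1,0,1,0,0],[0,1,1,0,1,0],[0,0,1,1,0,0],[0,0,0,1,0,1],[0,0,0,0,1,0],[0,0,0,0,0,1]], [[1,0,0,0,0,0],[0,1,0,0,0,0],[0,0,1,0,0,0],[0,0,0,1,0,0],[0,0,0,0,1,0],[0,0,0,0,0,1]]),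
  ([[1,0,0,0],[1,1]], [[0,1,0,1,1,1],[1,1,0,0,1,0],[1,1,1,1,0,1],[0,1,1,1,0,0],[0,0,1,1,0,0],[0,1,0,1,1,0]], [[1,0,1,1,0,1],[0,0,0,1,1,0],[1,1,1,1,1,0],[1,1,1,1,0,0],[1,1,1,0,1,1],[1,0,0,0,0,1]], [[1,0,0,0,0,0],[1,1,0,0,0,0],[1,0,1,0,0,0],[0,1,0,1,0,0],[0,0,1,1,1,0],[1,0,1,0,0,1]], [[1,0,0,1,1,1],[0,1,1,1,1,0],[0,0,1,0,1,1],[0,0,0,1,0,0],[0,0,0,0,1,0],[0,0,0,0,0,1]], [[1,0,0,0,0,0],[0,1,0,0,0,0],[0,0,1,0,0,0],[0,0,0,1,0,0],[0,0,0,0,1,0],[0,0,0,0,0,1]]),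
  ([[1,0,0,1],[1,0]], [[0,1,0,0,0,0],[0,1,0,1,0,1],[1,0,1,1,1,0],[0,1,1,0,1,1],[1,1,0,0,1,1],[0,0,0,1,0,0]], [[0,1,1,1,0,0],[1,0,0,0,0,0],[0,1,1,0,1,0],[0,0,0,0,0,1],[0,0,1,1,1,1],[1,1,0,0,0,1]], [[1,0,0,0,0,0],[1,1,0,0,0,0],[1,1,1,0,0,0],[1,1,0,1,0,0],[0,0,1,1,1,0],[0,0,1,1,0,1]], [[1,0,0,0,1,1],[0,1,0,0,0,0],[0,0,1,1,1,0],[0,0,0,1,0,0],[0,0,0,0,1,1],[0,0,0,0,0,1]], [[1,0,0,0,0,0],[0,1,0,0,0,0],[0,0,1,0,0,0],[0,0,0,1,0,0],[0,0,0,0,1,0],[0,0,0,0,0,1]]),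
  ([[1,0,0,1],[1,1]], [[0,1,0,0,0,1],[0,1,0,0,1,1],[0,0,1,1,1,0],[0,1,1,0,0,0],[1,1,0,1,0,1],[1,0,1,1,1,0]], [[0,0,1,0,0,1],[0,1,0,1,1,1],[0,1,0,0,1,1],[1,0,1,0,1,1],[1,1,0,0,0,0],[1,1,0,1,1,1]], [[1,0,0,0,0,0],[0,1,0,0,0,0],[0,1,1,0,0,0],[1,0,1,1,0,0],[0,0,0,0,1,0],[1,0,1,0,0,1]], [[1,1,0,1,1,1],[0,1,1,1,1,1],[0,0,1,0,1,0],[0,0,0,1,1,0],[0,0,0,0,1,0],[0,0,0,0,0,1]], [[1,0,0,0,0,0],[0,1,0,0,0,0],[0,0,1,0,0,0],[0,0,0,1,0,0],[0,0,0,0,1,0],[0,0,0,0,0,1]]),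
  ([[1,0,1,0],[1,0]], [[0,0,1,1,1,0],[1,0,1,0,1,1],[1,1,0,1,0,0],[0,0,1,1,0,0],[1,0,1,1,0,0],[0,0,1,1,1,1]], [[0,0,0,1,1,0],[0,1,1,0,0,1],[0,1,0,0,1,1],[0,1,0,1,1,1],[1,0,0,1,0,0],[1,0,0,0,0,1]], [[1,0,0,0,0,0],[1,1,0,0,0,0],[0,1,1,0,0,0],[0,1,1,1,0,0],[1,0,1,0,1,0],[1,0,0,0,0,1]], [[1,1,0,0,0,1],[0,1,0,1,0,0],[0,0,1,0,1,1],[0,0,0,1,0,0],[0,0,0,0,1,0],[0,0,0,0,0,1]], [[1,0,0,0,0,0],[0,1,0,0,0,0],[0,0,1,0,0,0],[0,0,0,1,0,0],[0,0,0,0,1,0],[0,0,0,0,0,1]]),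
  ([[1,0,1,0],[1,1]], [[1,0,0,1,0,1],[1,1,0,1,1,0],[0,1,0,1,1,1],[0,1,0,0,1,0],[0,1,1,1,1,0],[0,0,1,1,1,0]], [[1,0,1,1,0,0],[0,0,0,0,1,1],[1,1,1,1,1,0],[1,1,1,0,0,0],[0,0,0,1,1,1],[1,1,0,1,0,0]], [[1,0,0,0,0,0],[0,1,0,0,0,0],[0,1,1,0,0,0],[1,1,0,1,0,0],[0,0,0,1,1,0],[1,1,1,1,0,1]], [[1,0,0,1,1,1],[0,1,0,0,1,0],[0,0,1,1,1,0],[0,0,0,1,0,1],[0,0,0,0,1,1],[0,0,0,0,0,1]], [[1,0,0,0,0,0],[0,1,0,0,0,0],[0,0,1,0,0,0],[0,0,0,1,0,0],[0,0,0,0,1,0],[0,0,0,0,0,1]]),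
  ([[1,0,1,1],[1,0]], [[0,0,0,1,1,1],[0,0,0,1,0,0],[1,0,0,1,0,1],[0,1,0,1,1,0],[0,1,1,1,1,0],[1,0,1,1,1,1]], [[1,0,0,1,1,1],[0,1,1,0,1,1],[0,0,0,1,1,0],[0,1,0,0,0,0],[0,0,1,1,1,1],[1,1,1,1,1,1]], [[1,0,0,0,0,0],[0,1,0,0,0,0],[1,0,1,0,0,0],[1,0,1,1,0,0],[1,0,0,0,1,0],[1,1,0,1,0,1]], [[1,0,0,0,1,0],[0,1,1,1,0,0],[0,0,1,0,0,0],[0,0,0,1,1,1],[0,0,0,0,1,1],[0,0,0,0,0,1]], [[1,0,0,0,0,0],[0,1,0,0,0,0],[0,0,1,0,0,0],[0,0,0,1,0,0],[0,0,0,0,1,0],[0,0,0,0,0,1]]),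
  ([[1,0,1,1],[1,1]], [[0,0,0,1,1,0],[1,0,1,0,1,1],[0,1,0,1,0,1],[0,1,1,0,1,0],[0,0,0,1,0,0],[1,1,1,0,0,1]], [[0,1,1,1,1,0],[1,1,0,0,1,1],[0,1,0,1,0,1],[0,0,0,0,1,0],[1,0,0,0,1,0],[1,1,1,0,0,1]], [[1,0,0,0,0,0],[1,1,0,0,0,0],[1,0,1,0,0,0],[0,0,0,1,0,0],[1,0,1,0,1,0],[1,0,1,1,1,1]], [[1,1,1,1,0,1],[0,1,0,1,0,1],[0,0,1,1,0,0],[0,0,0,1,0,1],[0,0,0,0,1,0],[0,0,0,0,0,1]], [[1,0,0,0,0,0],[0,1,0,0,0,0],[0,0,1,0,0,0],[0,0,0,1,0,0],[0,0,0,0,1,0],[0,0,0,0,0,1]]),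
  ([[1,1,0,0],[1,0]], [[1,0,1,1,1,0],[0,1,0,0,0,0],[1,0,0,1,1,0],[1,1,0,1,0,1],[1,1,1,0,0,1],[1,1,1,1,0,0]], [[0,1,0,1,1,1],[0,1,0,0,0,0],[1,0,1,0,0,0],[1,0,1,1,1,0],[1,1,0,0,0,1],[1,0,1,1,0,1]], [[1,0,0,0,0,0],[1,1,0,0,0,0],[1,0,1,0,0,0],[0,1,0,1,0,0],[0,1,1,1,1,0],[0,1,1,0,1,1]], [[1,0,0,0,1,1],[0,1,0,0,1,0],[0,0,1,1,1,0],[0,0,0,1,1,0],[0,0,0,0,1,0],[0,0,0,0,0,1]], [[1,0,0,0,0,0],[0,1,0,0,0,0],[0,0,1,0,0,0],[0,0,0,1,0,0],[0,0,0,0,1,0],[0,0,0,0,0,1]]),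
  ([[1,1,0,0],[1,1]], [[0,1,0,0,1,0],[1,1,0,0,1,0],[1,0,1,1,1,1],[1,1,1,0,0,0],[1,1,0,1,0,1],[0,0,1,1,0,0]], [[1,1,0,0,0,0],[0,1,1,1,1,0],[1,0,1,0,1,0],[1,0,1,0,1,1],[1,1,1,1,1,0],[0,0,0,1,1,1]], [[1,0,0,0,0,0],[0,1,0,0,0,0],[0,0,1,0,0,0],[1,1,0,1,0,0],[1,0,1,1,1,0],[0,0,0,1,0,1]], [[1,0,0,1,0,1],[0,1,0,1,1,1],[0,0,1,0,1,0],[0,0,0,1,1,1],[0,0,0,0,1,0],[0,0,0,0,0,1]], [[1,0,0,0,0,0],[0,1,0,0,0,0],[0,0,1,0,0,0],[0,0,0,1,0,0],[0,0,0,0,1,0],[0,0,0,0,0,1]]),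
  ([[1,1,0,1],[1,0]], [[0,0,0,0,1,0],[0,1,1,0,1,1],[0,0,1,1,0,0],[1,0,0,0,0,0],[1,1,1,0,0,0],[0,0,1,0,1,0]], [[0,0,0,1,0,0],[1,0,0,1,1,1],[1,0,0,0,0,1],[1,0,1,0,0,1],[1,0,0,0,0,0],[1,1,0,1,1,0]], [[1,0,0,0,0,0],[1,1,0,0,0,0],[1,1,1,0,0,0],[1,1,0,1,0,0],[0,0,0,0,1,0],[0,0,0,1,1,1]], [[1,1,1,1,0,1],[0,1,1,1,1,0],[0,0,1,0,0,0],[0,0,0,1,0,1],[0,0,0,0,1,0],[0,0,0,0,0,1]], [[1,0,0,0,0,0],[0,1,0,0,0,0],[0,0,1,0,0,0],[0,0,0,1,0,0],[0,0,0,0,1,0],[0,0,0,0,0,1]]),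
  ([[1,1,0,1],[1,1]], [[1,1,0,0,1,0],[1,0,1,0,0,1],[0,1,1,0,0,0],[0,0,0,1,1,0],[1,1,0,1,0,1],[0,1,0,0,1,1]], [[0,0,0,1,1,1],[1,1,1,0,0,1],[1,1,0,0,0,1],[0,1,1,0,1,0],[0,1,1,1,1,0],[1,0,0,1,1,0]], [[1,0,0,0,0,0],[0,1,0,0,0,0],[0,1,1,0,0,0],[0,1,1,1,0,0],[0,1,0,0,1,0],[1,1,1,0,0,1]], [[1,0,0,0,0,0],[0,1,1,0,1,1],[0,0,1,1,0,1],[0,0,0,1,0,1],[0,0,0,0,1,0],[0,0,0,0,0,1]], [[1,0,0,0,0,0],[0,1,0,0,0,0],[0,0,1,0,0,0],[0,0,0,1,0,0],[0,0,0,0,1,0],[0,0,0,0,0,1]]),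
  ([[1,1,1,0],[1,0]], [[0,0,1,0,0,1],[1,0,0,1,1,0],[1,1,1,0,0,1],[1,1,0,0,1,1],[0,0,0,0,0,1],[0,0,0,1,0,0]], [[1,1,1,1,1,1],[0,1,0,1,1,1],[1,0,0,0,1,0],[0,0,0,0,0,1],[1,0,1,1,1,0],[0,0,0,0,1,0]], [[1,0,0,0,0,0],[1,1,0,0,0,0],[1,0,1,0,0,0],[1,1,0,1,0,0],[1,0,1,0,1,0],[1,0,0,1,0,1]], [[1,0,0,1,1,1],[0,1,1,1,0,0],[0,0,1,1,1,1],[0,0,0,1,1,1],[0,0,0,0,1,0],[0,0,0,0,0,1]], [[1,0,0,0,0,0],[0,1,0,0,0,0],[0,0,1,0,0,0],[0,0,0,1,0,0],[0,0,0,0,1,0],[0,0,0,0,0,1]]),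
  ([[1,1,1,0],[1,1]], [[0,1,0,0,0,0],[1,0,1,0,1,1],[1,0,0,0,1,0],[1,1,0,0,0,0],[0,0,1,0,1,0],[1,1,1,1,1,1]], [[1,0,0,1,0,0],[1,0,0,0,0,0],[1,0,1,1,1,0],[1,1,0,0,0,1],[1,0,1,1,0,0],[1,1,0,1,1,0]], [[1,0,0,0,0,0],[1,1,0,0,0,0],[1,1,1,0,0,0],[0,1,0,1,0,0],[1,1,1,0,1,0],[0,1,1,0,0,1]], [[1,1,1,0,1,1],[0,1,1,0,1,1],[0,0,1,1,0,1],[0,0,0,1,0,0],[0,0,0,0,1,1],[0,0,0,0,0,1]], [[1,0,0,0,0,0],[0,1,0,0,0,0],[0,0,1,0,0,0],[0,0,0,1,0,0],[0,0,0,0,1,0],[0,0,0,0,0,1]]),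
  ([[1,1,1,1],[1,0]], [[0,1,0,0,1,0],[0,0,1,1,1,0],[0,1,0,0,0,0],[1,0,0,1,0,1],[0,1,0,1,1,1],[0,1,1,1,1,1]], [[1,0,0,1,1,0],[0,0,1,0,0,0],[0,0,0,0,1,1],[1,1,1,0,1,1],[1,0,1,0,0,0],[0,1,1,0,0,1]], [[1,0,0,0,0,0],[1,1,0,0,0,0],[1,0,1,0,0,0],[1,1,1,1,0,0],[1,1,0,1,1,0],[0,1,0,0,0,1]], [[1,1,0,1,1,0],[0,1,1,1,0,0],[0,0,1,0,1,1],[0,0,0,1,0,1],[0,0,0,0,1,1],[0,0,0,0,0,1]], [[1,0,0,0,0,0],[0,1,0,0,0,0],[0,0,1,0,0,0],[0,0,0,1,0,0],[0,0,0,0,1,0],[0,0,0,0,0,1]]),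
  ([[1,1,1,1],[1,1]], [[1,0,1,0,0,1],[0,1,0,1,1,0],[0,0,0,0,1,0],[1,1,0,1,1,1],[0,1,0,0,1,1],[1,0,1,1,1,1]], [[1,0,1,1,1,1],[1,1,0,0,0,1],[1,1,0,1,0,0],[1,0,1,0,0,1],[0,0,1,0,0,0],[1,1,1,0,1,1]], [[1,0,0,0,0,0],[0,1,0,0,0,0],[0,1,1,0,0,0],[1,0,0,1,0,0],[1,1,0,1,1,0],[0,1,1,0,0,1]], [[1,1,0,1,1,0],[0,1,1,1,0,0],[0,0,1,1,1,0],[0,0,0,1,0,0],[0,0,0,0,1,1],[0,0,0,0,0,1]], [[1,0,0,0,0,0],[0,1,0,0,0,0],[0,0,1,0,0,0],[0,0,0,1,0,0],[0,0,0,0,1,0],[0,0,0,0,0,1]])]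

theorem tail26_ok : tblOk 2 [g6] tail26 = true := by decide +kernel

theorem tail26_keys : keys tail26 = ((unitV 2 4).flatMap fun a => (unitV 2 2).map fun b => [a, b]) := by decide +kernel

def tail27 : Tbl :=
  [([[1,0,0,0,0],[1,0]], [[0,1,1,0,0,0,1],[1,0,1,1,0,1,1],[1,1,1,1,0,0,0],[0,1,0,0,1,1,1],[0,1,1,0,1,0,0],[1,1,1,0,1,0,0],[0,0,1,1,0,0,0]], [[0,0,0,0,1,1,0],[0,0,1,0,1,1,1],[0,1,0,1,0,1,1],[0,1,0,1,0,1,0],[0,1,1,1,0,0,0],[1,0,1,1,0,1,1],[1,1,1,1,1,0,0]], [[1,0,0,0,0,0,0],[1,1,0,0,0,0,0],[1,0,1,0,0,0,0],[1,0,0,1,0,0,0],[1,0,1,0,1,0,0],[1,1,1,0,1,1,0],[0,0,1,0,1,1,1]], [[1,1,0,1,1,1,0],[0,1,1,0,0,1,1],[0,0,1,0,1,1,0],[0,0,0,1,0,0,0],[0,0,0,0,1,0,1],[0,0,0,0,0,1,0],[0,0,0,0,0,0,1]],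 [[1,0,0,0,0,0,0],[0,1,0,0,0,0,0],[0,0,1,0,0,0,0],[0,0,0,1,0,0,0],[0,0,0,0,1,0,0],[0,0,0,0,0,1,0],[0,0,0,0,0,0,1]]),
  ([[1,0,0,0,0],[1,1]], [[1,1,1,1,1,1,1],[1,0,0,1,1,1,0],[0,0,0,1,1,0,1],[1,0,0,0,1,0,0],[0,1,0,1,0,1,0],[0,1,1,0,1,1,1],[0,1,0,0,1,0,0]], [[0,1,0,0,1,0,1],[0,1,0,1,1,0,0],[0,0,1,0,1,1,0],[1,1,0,0,1,1,1],[0,1,0,1,1,0,1],[1,0,0,1,1,1,1],[1,0,1,1,0,1,0]], [[1,0,0,0,0,0,0],[0,1,0,0,0,0,0],[1,0,1,0,0,0,0],[1,0,0,1,0,0,0],[0,0,1,0,1,0,0],[1,0,0,1,0,1,0],[0,1,1,1,0,0,1]], [[1,1,0,0,0,1,1],[0,1,1,1,1,1,1],[0,0,1,0,1,0,0],[0,0,0,1,0,0,0],[0,0,0,0,1,0,0],[0,0,0,0,0,1,0],[0,0,0,0,0,0,1]], [[1,0,0,0,0,0,0],[0,1,0,0,0,0,0],[0,0,1,0,0,0,0],[0,0,0,1,0,0,0],[0,0,0,0,1,0,0],[0,0,0,0,0,1,0],[0,0,0,0,0,0,1]]),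
  ([[1,0,0,0,1],[1,0]], [[1,0,0,0,0,1,0],[1,0,1,0,0,1,1],[0,1,1,0,0,1,1],[1,0,0,0,1,0,0],[0,0,1,1,0,0,0],[0,1,1,1,1,0,1],[0,0,1,0,0,1,0]], [[0,0,1,1,1,1,1],[0,1,0,1,1,1,1],[1,0,1,1,1,1,0],[1,0,1,1,0,1,0],[0,0,1,0,1,1,1],[1,0,1,1,1,1,1],[0,1,1,1,1,1,0]], [[1,0,0,0,0,0,0],[1,1,0,0,0,0,0],[1,1,1,0,0,0,0],[0,0,1,1,0,0,0],[1,0,1,0,1,0,0],[0,0,1,0,0,1,0],[0,1,1,1,0,1,1]], [[1,0,1,0,0,0,0],[0,1,1,0,0,0,1],[0,0,1,1,1,0,0],[0,0,0,1,1,1,0],[0,0,0,0,1,1,0],[0,0,0,0,0,1,0],[0,0,0,0,0,0,1]], [[1,0,0,0,0,0,0],[0,1,0,0,0,0,0],[0,0,1,0,0,0,0],[0,0,0,1,0,0,0],[0,0,0,0,1,0,0],[0,0,0,0,0,1,0],[0,0,0,0,0,0,1]]),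
  ([[1,0,0,0,1],[1,1]], [[1,1,0,1,1,1,1],[0,1,1,1,1,0,1],[0,1,0,0,1,1,1],[1,0,1,1,0,0,1],[0,0,1,1,1,1,1],[0,0,1,1,0,0,0],[0,0,1,0,0,1,0]], [[1,1,0,0,0,0,1],[0,0,1,0,1,1,0],[0,1,1,0,0,1,1],[0,1,1,0,0,0,1],[1,0,1,1,1,1,1],[0,1,1,0,0,1,0],[1,1,0,1,0,1,1]], [[1,0,0,0,0,0,0],[0,1,0,0,0,0,0],[1,1,1,0,0,0,0],[1,1,0,1,0,0,0],[0,0,0,1,1,0,0],[1,0,0,0,1,1,0],[1,1,1,0,1,0,1]], [[1,1,1,0,1,0,0],[0,1,0,0,1,1,1],[0,0,1,1,1,0,1],[0,0,0,1,1,1,0],[0,0,0,0,1,0,1],[0,0,0,0,0,1,0],[0,0,0,0,0,0,1]], [[1,0,0,0,0,0,0],[0,1,0,0,0,0,0],[0,0,1,0,0,0,0],[0,0,0,1,0,0,0],[0,0,0,0,1,0,0],[0,0,0,0,0,1,0],[0,0,0,0,0,0,1]]),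
  ([[1,0,0,1,0],[1,0]], [[0,0,1,1,0,0,0],[1,1,1,1,0,0,1],[0,1,1,0,0,0,0],[0,0,0,0,0,1,1],[1,1,0,1,1,0,0],[0,0,0,0,0,1,0],[1,0,0,0,0,1,1]], [[0,0,0,1,0,0,1],[1,1,0,0,0,1,1],[1,1,1,0,0,1,1],[0,1,1,0,0,1,1],[1,0,1,1,1,0,1],[0,0,0,0,0,1,0],[0,0,0,1,0,1,0]], [[1,0,0,0,0,0,0],[0,1,0,0,0,0,0],[0,1,1,0,0,0,0],[1,0,1,1,0,0,0],[0,0,0,0,1,0,0],[1,0,1,1,0,1,0],[0,0,0,1,0,0,1]], [[1,0,1,0,0,1,1],[0,1,1,0,0,1,1],[0,0,1,0,1,0,1],[0,0,0,1,0,1,0],[0,0,0,0,1,0,0],[0,0,0,0,0,1,0],[0,0,0,0,0,0,1]], [[1,0,0,0,0,0,0],[0,1,0,0,0,0,0],[0,0,1,0,0,0,0],[0,0,0,1,0,0,0],[0,0,0,0,1,0,0],[0,0,0,0,0,1,0],[0,0,0,0,0,0,1]]),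
  ([[1,0,0,1,0],[1,1]], [[0,1,0,1,0,1,0],[1,1,0,0,0,0,1],[0,0,1,1,0,1,1],[1,0,1,1,1,0,0],[0,1,0,0,0,1,1],[0,1,1,1,0,0,1],[1,0,0,0,0,0,1]], [[0,0,1,0,1,1,1],[0,1,0,0,0,0,1],[1,1,0,0,1,1,1],[1,0,1,0,0,1,0],[0,1,0,1,0,1,0],[0,1,1,0,0,1,1],[0,0,1,0,1,1,0]], [[1,0,0,0,0,0,0],[1,1,0,0,0,0,0],[0,0,1,0,0,0,0],[0,1,0,1,0,0,0],[0,0,0,1,1,0,0],[0,0,0,1,1,1,0],[0,0,0,1,0,0,1]], [[1,1,0,0,1,1,1],[0,1,0,0,1,0,0],[0,0,1,0,0,0,1],[0,0,0,1,1,1,1],[0,0,0,0,1,0,1],[0,0,0,0,0,1,0],[0,0,0,0,0,0,1]], [[1,0,0,0,0,0,0],[0,1,0,0,0,0,0],[0,0,1,0,0,0,0],[0,0,0,1,0,0,0],[0,0,0,0,1,0,0],[0,0,0,0,0,1,0],[0,0,0,0,0,0,1]]),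
  ([[1,0,0,1,1],[1,0]], [[0,0,1,1,0,1,1],[0,0,0,1,0,1,1],[1,1,1,0,0,1,1],[1,1,0,1,1,1,1],[1,1,0,1,1,0,0],[0,1,0,0,0,1,1],[0,1,1,0,0,1,0]], [[1,1,1,0,0,1,0],[0,0,0,1,1,1,0],[1,1,0,0,0,0,0],[0,1,0,1,1,0,0],[1,0,1,0,1,0,0],[1,1,0,1,1,1,1],[1,1,0,0,0,1,1]], [[1,0,0,0,0,0,0],[0,1,0,0,0,0,0],[0,0,1,0,0,0,0],[0,1,1,1,0,0,0],[1,1,0,0,1,0,0],[0,0,1,1,0,1,0],[0,1,0,0,1,1,1]], [[1,0,1,1,0,1,0],[0,1,1,0,1,1,1],[0,0,1,0,1,1,0],[0,0,0,1,0,0,0],[0,0,0,0,1,1,1],[0,0,0,0,0,1,0],[0,0,0,0,0,0,1]], [[1,0,0,0,0,0,0],[0,1,0,0,0,0,0],[0,0,1,0,0,0,0],[0,0,0,1,0,0,0],[0,0,0,0,1,0,0],[0,0,0,0,0,1,0],[0,0,0,0,0,0,1]]),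
  ([[1,0,0,1,1],[1,1]], [[1,0,0,1,1,1,1],[0,0,1,0,0,1,1],[0,1,0,1,0,1,0],[0,1,0,0,0,1,1],[0,1,1,1,0,1,1],[1,0,0,0,0,1,1],[1,0,0,1,0,1,1]], [[0,1,0,1,1,0,1],[0,1,0,0,1,1,1],[0,0,0,1,1,1,1],[0,0,0,0,0,1,1],[1,0,0,0,0,0,1],[0,1,1,0,1,0,0],[0,0,1,1,0,1,1]], [[1,0,0,0,0,0,0],[0,1,0,0,0,0,0],[0,0,1,0,0,0,0],[1,1,1,1,0,0,0],[0,0,0,0,1,0,0],[1,1,0,0,1,1,0],[0,1,0,1,0,1,1]], [[1,1,0,1,1,1,1],[0,1,1,1,1,0,1],[0,0,1,1,0,0,0],[0,0,0,1,1,1,0],[0,0,0,0,1,0,1],[0,0,0,0,0,1,1],[0,0,0,0,0,0,1]], [[1,0,0,0,0,0,0],[0,1,0,0,0,0,0],[0,0,1,0,0,0,0],[0,0,0,1,0,0,0],[0,0,0,0,1,0,0],[0,0,0,0,0,1,0],[0,0,0,0,0,0,1]]),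
  ([[1,0,1,0,0],[1,0]], [[0,1,1,1,1,1,0],[0,1,0,1,0,1,1],[0,0,0,1,1,1,0],[1,0,1,1,0,0,1],[0,0,1,1,0,0,1],[0,0,0,1,1,0,1],[0,1,0,0,0,0,1]], [[0,0,0,1,1,0,0],[1,1,0,0,1,1,1],[0,1,1,0,1,1,1],[1,0,1,0,1,0,1],[0,1,1,0,0,0,1],[1,1,1,0,1,0,0],[1,1,0,0,1,1,0]], [[1,0,0,0,0,0,0],[1,1,0,0,0,0,0],[0,1,1,0,0,0,0],[0,1,0,1,0,0,0],[0,1,1,0,1,0,0],[0,1,0,1,1,1,0],[0,1,1,1,1,0,1]], [[1,0,0,0,0,0,0],[0,1,1,1,0,1,0],[0,0,1,1,0,0,1],[0,0,0,1,1,0,0],[0,0,0,0,1,1,1],[0,0,0,0,0,1,0],[0,0,0,0,0,0,1]], [[1,0,0,0,0,0,0],[0,1,0,0,0,0,0],[0,0,1,0,0,0,0],[0,0,0,1,0,0,0],[0,0,0,0,1,0,0],[0,0,0,0,0,1,0],[0,0,0,0,0,0,1]]),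
  ([[1,0,1,0,0],[1,1]], [[1,1,1,1,1,1,1],[1,0,1,0,0,1,0],[0,0,1,0,0,0,1],[0,1,1,0,0,1,0],[0,0,1,0,1,1,0],[0,1,0,0,1,0,1],[0,1,0,1,1,1,0]], [[1,0,1,0,0,0,1],[1,1,1,1,0,0,1],[0,0,1,1,1,1,0],[1,1,0,0,0,1,0],[1,1,1,0,1,0,1],[1,1,0,1,1,1,1],[0,0,0,1,1,1,0]], [[1,0,0,0,0,0,0],[0,1,0,0,0,0,0],[0,1,1,0,0,0,0],[1,1,0,1,0,0,0],[1,0,1,1,1,0,0],[1,0,1,1,0,1,0],[0,1,1,0,1,0,1]], [[1,1,1,0,1,0,1],[0,1,0,1,1,1,1],[0,0,1,1,0,1,1],[0,0,0,1,1,0,1],[0,0,0,0,1,1,0],[0,0,0,0,0,1,1],[0,0,0,0,0,0,1]], [[1,0,0,0,0,0,0],[0,1,0,0,0,0,0],[0,0,1,0,0,0,0],[0,0,0,1,0,0,0],[0,0,0,0,1,0,0],[0,0,0,0,0,1,0],[0,0,0,0,0,0,1]]),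
  ([[1,0,1,0,1],[1,0]], [[0,1,0,0,1,1,1],[0,1,0,1,0,0,0],[0,0,1,1,1,0,1],[0,0,0,1,0,1,1],[1,0,1,1,0,1,1],[1,1,0,0,1,0,0],[0,1,1,1,0,0,1]], [[0,0,1,0,0,1,1],[1,1,1,1,0,0,1],[0,0,1,1,1,1,1],[1,0,1,1,0,0,1],[1,1,0,1,0,0,0],[1,1,0,1,1,1,1],[0,1,1,1,1,1,0]], [[1,0,0,0,0,0,0],[1,1,0,0,0,0,0],[1,0,1,0,0,0,0],[1,0,1,1,0,0,0],[0,0,0,0,1,0,0],[0,1,1,0,1,1,0],[1,1,0,0,0,1,1]], [[1,1,1,0,1,0,1],[0,1,0,1,0,0,0],[0,0,1,0,0,1,0],[0,0,0,1,1,0,0],[0,0,0,0,1,0,0],[0,0,0,0,0,1,1],[0,0,0,0,0,0,1]], [[1,0,0,0,0,0,0],[0,1,0,0,0,0,0],[0,0,1,0,0,0,0],[0,0,0,1,0,0,0],[0,0,0,0,1,0,0],[0,0,0,0,0,1,0],[0,0,0,0,0,0,1]]),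
  ([[1,0,1,0,1],[1,1]], [[1,1,0,0,0,0,0],[0,1,0,0,0,1,1],[0,0,1,0,0,1,0],[0,1,0,0,0,0,0],[0,0,0,1,1,1,1],[1,1,1,0,1,0,1],[0,0,1,0,0,1,1]], [[1,0,0,1,0,0,0],[0,0,0,1,0,0,0],[0,1,0,1,0,0,1],[1,0,1,0,1,1,0],[1,1,1,1,0,1,0],[0,1,1,1,0,0,1],[0,0,1,0,0,0,1]], [[1,0,0,0,0,0,0],[0,1,0,0,0,0,0],[0,0,1,0,0,0,0],[0,0,1,1,0,0,0],[1,1,0,0,1,0,0],[0,0,1,1,1,1,0],[1,0,0,1,1,0,1]], [[1,0,0,1,0,0,0],[0,1,0,1,0,1,1],[0,0,1,0,0,1,0],[0,0,0,1,0,1,0],[0,0,0,0,1,1,0],[0,0,0,0,0,1,0],[0,0,0,0,0,0,1]], [[1,0,0,0,0,0,0],[0,1,0,0,0,0,0],[0,0,1,0,0,0,0],[0,0,0,1,0,0,0],[0,0,0,0,1,0,0],[0,0,0,0,0,1,0],[0,0,0,0,0,0,1]]),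
  ([[1,0,1,1,0],[1,0]], [[0,1,1,1,0,0,1],[1,0,0,0,1,0,1],[1,0,0,1,1,1,0],[0,1,0,1,1,0,0],[0,1,0,1,0,1,0],[1,1,0,1,0,0,0],[0,0,1,0,0,0,1]], [[1,0,0,0,0,1,1],[0,0,1,1,1,1,0],[0,1,0,1,0,1,1],[1,0,1,1,1,1,1],[1,0,0,1,0,0,1],[1,0,0,0,1,0,1],[0,1,0,1,0,1,0]], [[1,0,0,0,0,0,0],[1,1,0,0,0,0,0],[1,0,1,0,0,0,0],[0,0,1,1,0,0,0],[1,0,1,1,1,0,0],[1,0,0,1,0,1,0],[0,1,1,1,0,1,1]], [[1,0,1,0,1,1,0],[0,1,0,1,1,1,0],[0,0,1,1,1,0,0],[0,0,0,1,1,1,1],[0,0,0,0,1,0,1],[0,0,0,0,0,1,1],[0,0,0,0,0,0,1]], [[1,0,0,0,0,0,0],[0,1,0,0,0,0,0],[0,0,1,0,0,0,0],[0,0,0,1,0,0,0],[0,0,0,0,1,0,0],[0,0,0,0,0,1,0],[0,0,0,0,0,0,1]]),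
  ([[1,0,1,1,0],[1,1]], [[0,1,0,0,0,1,0],[1,1,0,1,1,0,0],[0,1,1,0,0,0,0],[1,0,1,1,0,1,0],[1,0,1,1,1,1,0],[1,0,1,0,1,1,1],[1,0,0,1,0,1,1]], [[0,1,1,0,0,1,1],[1,1,1,0,1,0,0],[1,1,0,0,1,0,0],[1,1,0,1,0,1,1],[0,0,0,1,1,0,0],[0,1,1,0,1,0,0],[1,1,0,1,1,0,1]], [[1,0,0,0,0,0,0],[0,1,0,0,0,0,0],[1,0,1,0,0,0,0],[1,1,0,1,0,0,0],[1,0,0,0,1,0,0],[0,0,0,1,1,1,0],[0,0,1,0,0,0,1]], [[1,1,1,0,1,1,0],[0,1,1,1,1,1,1],[0,0,1,1,0,1,1],[0,0,0,1,1,1,1],[0,0,0,0,1,1,0],[0,0,0,0,0,1,0],[0,0,0,0,0,0,1]], [[1,0,0,0,0,0,0],[0,1,0,0,0,0,0],[0,0,1,0,0,0,0],[0,0,0,1,0,0,0],[0,0,0,0,1,0,0],[0,0,0,0,0,1,0],[0,0,0,0,0,0,1]]),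
  ([[1,0,1,1,1],[1,0]], [[0,1,0,1,0,0,0],[1,1,0,1,0,1,1],[0,1,1,0,0,0,1],[1,1,1,0,0,0,1],[1,1,1,1,0,0,0],[1,1,1,1,1,1,0],[1,1,1,0,1,0,1]], [[0,0,1,1,0,0,0],[0,1,1,1,0,1,1],[1,0,1,1,1,0,0],[1,1,1,1,0,1,1],[0,0,0,1,0,0,1],[0,0,0,1,1,1,1],[1,1,1,0,1,1,1]], [[1,0,0,0,0,0,0],[1,1,0,0,0,0,0],[0,1,1,0,0,0,0],[0,1,1,1,0,0,0],[0,1,0,1,1,0,0],[1,1,1,1,0,1,0],[1,0,1,1,1,0,1]], [[1,0,1,0,1,1,0],[0,1,0,0,1,0,0],[0,0,1,0,1,0,1],[0,0,0,1,1,1,0],[0,0,0,0,1,1,0],[0,0,0,0,0,1,0],[0,0,0,0,0,0,1]], [[1,0,0,0,0,0,0],[0,1,0,0,0,0,0],[0,0,1,0,0,0,0],[0,0,0,1,0,0,0],[0,0,0,0,1,0,0],[0,0,0,0,0,1,0],[0,0,0,0,0,0,1]]),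
  ([[1,0,1,1,1],[1,1]], [[1,0,1,1,0,0,0],[1,1,0,1,1,0,1],[1,0,1,1,0,1,0],[0,0,1,0,0,0,1],[0,0,0,1,0,0,1],[0,1,0,0,1,0,1],[0,1,1,0,0,1,0]], [[1,0,0,1,1,0,0],[0,1,1,0,0,1,1],[1,1,0,0,0,1,0],[1,1,0,1,1,1,0],[1,0,1,1,0,1,1],[1,0,1,0,0,0,0],[1,1,0,1,0,1,0]], [[1,0,0,0,0,0,0],[1,1,0,0,0,0,0],[0,1,1,0,0,0,0],[0,0,1,1,0,0,0],[0,1,1,0,1,0,0],[1,1,1,0,0,1,0],[0,0,1,0,0,1,1]], [[1,0,0,1,1,0,0],[0,1,0,0,1,0,0],[0,0,1,1,0,1,1],[0,0,0,1,0,1,0],[0,0,0,0,1,0,1],[0,0,0,0,0,1,0],[0,0,0,0,0,0,1]], [[1,0,0,0,0,0,0],[0,1,0,0,0,0,0],[0,0,1,0,0,0,0],[0,0,0,1,0,0,0],[0,0,0,0,1,0,0],[0,0,0,0,0,1,0],[0,0,0,0,0,0,1]]),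
  ([[1,1,0,0,0],[1,0]], [[1,1,1,1,1,1,0],[0,0,1,1,1,0,1],[1,1,1,1,1,1,1],[1,0,0,1,0,1,0],[1,1,1,1,0,0,1],[1,0,0,1,1,1,1],[1,1,1,0,0,0,1]], [[1,0,0,0,0,1,1],[0,1,1,1,1,0,1],[0,1,0,1,1,1,1],[0,0,0,0,1,0,1],[1,0,1,1,0,1,0],[1,0,0,1,1,1,0],[1,0,1,0,0,0,0]], [[1,0,0,0,0,0,0],[1,1,0,0,0,0,0],[0,0,1,0,0,0,0],[0,1,0,1,0,0,0],[0,1,0,1,1,0,0],[1,1,1,1,1,1,0],[1,1,0,1,1,0,1]], [[1,0,0,1,0,1,1],[0,1,1,0,0,1,0],[0,0,1,1,0,0,1],[0,0,0,1,0,1,0],[0,0,0,0,1,1,1],[0,0,0,0,0,1,0],[0,0,0,0,0,0,1]], [[1,0,0,0,0,0,0],[0,1,0,0,0,0,0],[0,0,1,0,0,0,0],[0,0,0,1,0,0,0],[0,0,0,0,1,0,0],[0,0,0,0,0,1,0],[0,0,0,0,0,0,1]]),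
  ([[1,1,0,0,0],[1,1]], [[1,1,0,0,0,1,0],[1,0,1,1,0,0,1],[0,0,0,1,1,1,1],[0,0,0,1,0,1,0],[0,1,1,0,0,0,0],[0,1,0,0,1,1,1],[0,0,1,1,0,1,0]], [[1,0,1,1,0,1,0],[0,0,0,1,1,0,1],[0,0,0,1,0,0,1],[0,0,1,1,1,1,1],[1,1,1,0,1,0,0],[0,0,1,0,1,1,1],[1,1,0,1,1,0,0]], [[1,0,0,0,0,0,0],[1,1,0,0,0,0,0],[0,1,1,0,0,0,0],[1,1,1,1,0,0,0],[0,1,0,1,1,0,0],[0,1,1,0,1,1,0],[1,1,1,1,0,1,1]], [[1,1,0,0,0,1,1],[0,1,0,0,0,0,0],[0,0,1,0,1,0,0],[0,0,0,1,0,0,1],[0,0,0,0,1,1,1],[0,0,0,0,0,1,0],[0,0,0,0,0,0,1]], [[1,0,0,0,0,0,0],[0,1,0,0,0,0,0],[0,0,1,0,0,0,0],[0,0,0,1,0,0,0],[0,0,0,0,1,0,0],[0,0,0,0,0,1,0],[0,0,0,0,0,0,1]]),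
  ([[1,1,0,0,1],[1,0]], [[0,0,1,1,1,0,0],[0,1,1,1,0,1,1],[1,1,0,0,0,1,0],[0,0,1,0,1,1,1],[0,1,0,0,1,1,0],[1,1,0,0,0,0,0],[1,1,1,1,0,0,0]], [[1,0,1,0,1,1,1],[1,0,1,0,1,0,1],[0,1,1,1,1,0,1],[0,1,1,1,1,1,0],[1,0,0,0,0,1,1],[0,0,1,0,0,1,0],[1,1,0,0,1,0,0]], [[1,0,0,0,0,0,0],[0,1,0,0,0,0,0],[0,0,1,0,0,0,0],[0,0,1,1,0,0,0],[1,1,0,1,1,0,0],[0,0,1,0,0,1,0],[0,0,0,0,0,1,1]], [[1,1,0,0,0,1,0],[0,1,1,1,1,0,1],[0,0,1,0,1,1,0],[0,0,0,1,0,0,1],[0,0,0,0,1,0,1],[0,0,0,0,0,1,1],[0,0,0,0,0,0,1]], [[1,0,0,0,0,0,0],[0,1,0,0,0,0,0],[0,0,1,0,0,0,0],[0,0,0,1,0,0,0],[0,0,0,0,1,0,0],[0,0,0,0,0,1,0],[0,0,0,0,0,0,1]]),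
  ([[1,1,0,0,1],[1,1]], [[0,1,1,0,0,1,0],[1,0,0,0,0,1,1],[0,0,0,1,0,0,1],[0,0,0,1,1,1,0],[1,1,0,1,0,0,1],[1,0,0,0,1,1,0],[1,1,0,1,1,0,1]], [[0,1,1,1,1,0,1],[0,1,0,1,0,0,1],[1,0,1,0,0,1,1],[0,1,1,0,1,1,1],[0,0,0,0,1,0,1],[0,1,1,1,0,1,0],[0,1,0,0,1,1,1]], [[1,0,0,0,0,0,0],[0,1,0,0,0,0,0],[1,1,1,0,0,0,0],[0,0,1,1,0,0,0],[0,1,1,1,1,0,0],[1,1,1,0,1,1,0],[1,0,1,1,1,0,1]], [[1,0,0,0,0,0,1],[0,1,0,0,1,1,1],[0,0,1,0,1,1,1],[0,0,0,1,1,1,0],[0,0,0,0,1,0,0],[0,0,0,0,0,1,1],[0,0,0,0,0,0,1]], [[1,0,0,0,0,0,0],[0,1,0,0,0,0,0],[0,0,1,0,0,0,0],[0,0,0,1,0,0,0],[0,0,0,0,1,0,0],[0,0,0,0,0,1,0],[0,0,0,0,0,0,1]]),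
  ([[1,1,0,1,0],[1,0]], [[0,1,0,0,0,1,0],[0,1,0,1,1,0,1],[0,0,0,1,1,0,0],[0,0,0,1,1,1,0],[0,1,1,0,1,1,0],[1,0,0,0,1,0,1],[1,0,1,1,0,1,0]], [[1,0,0,1,1,0,1],[1,0,1,1,0,0,0],[1,1,0,0,0,1,1],[0,1,1,0,1,1,1],[0,1,0,0,1,1,1],[0,0,1,1,0,0,0],[1,1,0,1,0,0,0]], [[1,0,0,0,0,0,0],[0,1,0,0,0,0,0],[1,0,1,0,0,0,0],[0,1,1,1,0,0,0],[1,1,1,0,1,0,0],[1,1,0,1,0,1,0],[1,0,0,1,1,0,1]], [[1,1,1,1,0,1,0],[0,1,0,0,1,0,1],[0,0,1,1,0,1,1],[0,0,0,1,1,0,1],[0,0,0,0,1,0,1],[0,0,0,0,0,1,0],[0,0,0,0,0,0,1]], [[1,0,0,0,0,0,0],[0,1,0,0,0,0,0],[0,0,1,0,0,0,0],[0,0,0,1,0,0,0],[0,0,0,0,1,0,0],[0,0,0,0,0,1,0],[0,0,0,0,0,0,1]]),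
  ([[1,1,0,1,0],[1,1]], [[0,0,0,0,1,0,1],[1,0,1,1,1,1,1],[1,0,0,0,0,1,0],[1,1,1,0,0,1,0],[0,0,0,0,1,1,0],[0,1,0,0,0,1,0],[1,0,0,1,0,1,0]], [[1,1,0,1,0,1,1],[1,1,1,1,0,0,1],[1,1,0,0,0,0,1],[0,0,1,0,0,0,1],[1,1,1,1,1,1,1],[1,1,1,1,0,1,1],[0,1,1,1,1,1,1]], [[1,0,0,0,0,0,0],[1,1,0,0,0,0,0],[1,0,1,0,0,0,0],[1,1,0,1,0,0,0],[0,1,1,0,1,0,0],[1,1,0,1,1,1,0],[0,1,0,1,0,0,1]], [[1,0,0,1,0,0,0],[0,1,1,0,0,1,1],[0,0,1,1,1,0,1],[0,0,0,1,0,0,1],[0,0,0,0,1,1,0],[0,0,0,0,0,1,1],[0,0,0,0,0,0,1]], [[1,0,0,0,0,0,0],[0,1,0,0,0,0,0],[0,0,1,0,0,0,0],[0,0,0,1,0,0,0],[0,0,0,0,1,0,0],[0,0,0,0,0,1,0],[0,0,0,0,0,0,1]]),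
  ([[1,1,0,1,1],[1,0]], [[1,0,1,0,1,0,1],[1,0,1,1,0,1,0],[1,1,0,0,1,1,1],[1,0,1,0,0,0,1],[1,0,0,0,0,0,1],[1,1,1,0,1,1,0],[0,1,1,0,0,0,1]], [[0,0,1,1,0,1,0],[0,0,1,0,0,1,1],[0,0,0,1,1,0,0],[1,1,1,1,0,0,1],[1,0,0,1,0,0,0],[1,0,0,1,1,1,1],[0,0,1,1,1,1,0]], [[1,0,0,0,0,0,0],[1,1,0,0,0,0,0],[0,1,1,0,0,0,0],[0,0,0,1,0,0,0],[1,1,0,1,1,0,0],[0,0,0,1,1,1,0],[0,1,0,0,1,0,1]], [[1,0,1,0,0,0,1],[0,1,1,0,0,1,1],[0,0,1,0,0,1,1],[0,0,0,1,1,1,1],[0,0,0,0,1,0,1],[0,0,0,0,0,1,0],[0,0,0,0,0,0,1]], [[1,0,0,0,0,0,0],[0,1,0,0,0,0,0],[0,0,1,0,0,0,0],[0,0,0,1,0,0,0],[0,0,0,0,1,0,0],[0,0,0,0,0,1,0],[0,0,0,0,0,0,1]]),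
  ([[1,1,0,1,1],[1,1]], [[0,0,0,1,1,0,1],[1,0,0,0,1,0,0],[1,0,1,0,0,0,0],[0,1,1,0,1,0,1],[0,0,1,0,0,1,0],[0,1,1,0,0,1,0],[1,0,0,0,0,0,0]], [[0,0,0,0,0,0,1],[0,0,0,0,1,1,0],[0,0,1,0,0,0,1],[1,0,1,1,1,1,1],[0,1,0,0,0,0,1],[0,0,1,0,1,0,1],[0,1,1,1,1,1,0]], [[1,0,0,0,0,0,0],[1,1,0,0,0,0,0],[1,0,1,0,0,0,0],[1,0,1,1,0,0,0],[0,0,1,1,1,0,0],[0,1,1,0,0,1,0],[1,1,0,1,0,0,1]], [[1,0,1,0,0,1,1],[0,1,1,0,0,1,1],[0,0,1,0,0,0,1],[0,0,0,1,0,0,0],[0,0,0,0,1,1,0],[0,0,0,0,0,1,0],[0,0,0,0,0,0,1]], [[1,0,0,0,0,0,0],[0,1,0,0,0,0,0],[0,0,1,0,0,0,0],[0,0,0,1,0,0,0],[0,0,0,0,1,0,0],[0,0,0,0,0,1,0],[0,0,0,0,0,0,1]]),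
  ([[1,1,1,0,0],[1,0]], [[1,1,1,1,1,1,0],[0,0,0,0,1,1,0],[0,0,1,1,0,0,0],[0,1,1,1,0,1,0],[1,0,0,0,1,1,0],[1,1,1,0,1,1,1],[0,0,0,1,0,0,0]], [[0,1,0,0,1,0,0],[1,0,1,0,1,0,0],[0,0,1,0,0,0,1],[0,0,0,0,0,0,1],[1,1,0,1,1,0,0],[1,0,0,1,1,0,0],[1,0,0,0,0,1,1]], [[1,0,0,0,0,0,0],[0,1,0,0,0,0,0],[1,0,1,0,0,0,0],[1,0,1,1,0,0,0],[1,0,0,1,1,0,0],[0,0,1,1,1,1,0],[1,0,0,1,0,1,1]], [[1,0,1,1,1,1,0],[0,1,1,0,0,0,1],[0,0,1,0,1,0,0],[0,0,0,1,1,0,1],[0,0,0,0,1,0,1],[0,0,0,0,0,1,0],[0,0,0,0,0,0,1]], [[1,0,0,0,0,0,0],[0,1,0,0,0,0,0],[0,0,1,0,0,0,0],[0,0,0,1,0,0,0],[0,0,0,0,1,0,0],[0,0,0,0,0,1,0],[0,0,0,0,0,0,1]]),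
  ([[1,1,1,0,0],[1,1]], [[0,1,1,1,0,0,1],[1,1,0,1,0,0,0],[1,0,0,1,1,0,0],[0,0,0,1,0,1,0],[0,0,0,1,0,0,0],[0,0,0,0,0,1,1],[1,0,1,1,1,1,1]], [[1,1,1,1,1,0,1],[1,0,1,1,0,0,1],[0,0,1,0,0,1,1],[0,0,0,0,1,0,0],[1,1,0,1,0,0,1],[0,0,0,1,1,0,0],[0,0,0,1,1,1,0]], [[1,0,0,0,0,0,0],[0,1,0,0,0,0,0],[0,0,1,0,0,0,0],[0,0,1,1,0,0,0],[1,1,0,0,1,0,0],[1,1,1,1,1,1,0],[0,1,0,0,1,0,1]], [[1,0,0,0,1,0,1],[0,1,0,1,1,0,0],[0,0,1,0,0,1,0],[0,0,0,1,0,1,1],[0,0,0,0,1,1,0],[0,0,0,0,0,1,1],[0,0,0,0,0,0,1]], [[1,0,0,0,0,0,0],[0,1,0,0,0,0,0],[0,0,1,0,0,0,0],[0,0,0,1,0,0,0],[0,0,0,0,1,0,0],[0,0,0,0,0,1,0],[0,0,0,0,0,0,1]]),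
  ([[1,1,1,0,1],[1,0]], [[0,1,0,0,0,0,1],[1,0,1,0,1,1,0],[1,1,1,0,0,1,0],[1,0,0,1,1,0,0],[0,0,1,0,0,0,0],[1,1,0,0,1,0,0],[1,0,0,1,0,0,0]], [[0,1,1,0,0,1,0],[0,1,1,1,0,0,1],[0,0,0,0,1,0,0],[0,1,1,0,0,1,1],[0,0,0,1,0,0,1],[0,0,1,1,1,1,1],[1,1,1,1,0,0,1]], [[1,0,0,0,0,0,0],[0,1,0,0,0,0,0],[1,1,1,0,0,0,0],[0,0,0,1,0,0,0],[1,1,0,0,1,0,0],[0,1,1,0,0,1,0],[0,0,0,0,0,1,1]], [[1,0,0,1,1,1,1],[0,1,0,0,1,0,0],[0,0,1,1,1,1,0],[0,0,0,1,1,0,0],[0,0,0,0,1,0,1],[0,0,0,0,0,1,0],[0,0,0,0,0,0,1]], [[1,0,0,0,0,0,0],[0,1,0,0,0,0,0],[0,0,1,0,0,0,0],[0,0,0,1,0,0,0],[0,0,0,0,1,0,0],[0,0,0,0,0,1,0],[0,0,0,0,0,0,1]]),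
  ([[1,1,1,0,1],[1,1]], [[1,0,0,0,0,0,1],[1,1,0,1,0,0,1],[0,0,0,1,1,1,0],[0,1,0,0,0,1,0],[0,1,1,0,1,1,0],[0,1,0,0,0,1,1],[0,1,0,1,1,1,0]], [[1,0,0,1,0,1,0],[0,0,1,0,0,0,1],[1,1,1,0,1,0,0],[1,1,1,0,0,0,1],[1,1,1,1,0,0,0],[0,0,1,1,0,0,1],[0,0,0,1,0,1,0]], [[1,0,0,0,0,0,0],[1,1,0,0,0,0,0],[1,0,1,0,0,0,0],[0,0,1,1,0,0,0],[1,0,1,0,1,0,0],[0,0,0,0,1,1,0],[1,1,1,1,0,1,1]], [[1,1,0,0,1,1,0],[0,1,0,1,0,0,1],[0,0,1,0,1,1,0],[0,0,0,1,1,0,1],[0,0,0,0,1,1,0],[0,0,0,0,0,1,1],[0,0,0,0,0,0,1]], [[1,0,0,0,0,0,0],[0,1,0,0,0,0,0],[0,0,1,0,0,0,0],[0,0,0,1,0,0,0],[0,0,0,0,1,0,0],[0,0,0,0,0,1,0],[0,0,0,0,0,0,1]]),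
  ([[1,1,1,1,0],[1,0]], [[0,1,1,0,1,1,1],[1,1,1,1,0,1,0],[1,1,0,0,1,1,0],[1,0,0,1,0,0,1],[1,1,0,0,0,1,1],[1,1,1,0,0,1,0],[0,0,1,1,0,1,1]], [[1,0,1,0,1,1,0],[0,0,0,1,0,1,1],[1,1,1,1,0,1,0],[0,1,0,0,0,1,0],[1,1,0,1,0,0,0],[0,1,0,0,1,0,1],[1,1,1,1,1,0,0]], [[1,0,0,0,0,0,0],[0,1,0,0,0,0,0],[1,0,1,0,0,0,0],[0,1,0,1,0,0,0],[1,1,1,1,1,0,0],[0,1,1,0,1,1,0],[0,1,1,1,1,1,1]], [[1,0,1,1,0,0,1],[0,1,0,0,1,0,0],[0,0,1,1,0,0,1],[0,0,0,1,1,1,0],[0,0,0,0,1,0,0],[0,0,0,0,0,1,0],[0,0,0,0,0,0,1]], [[1,0,0,0,0,0,0],[0,1,0,0,0,0,0],[0,0,1,0,0,0,0],[0,0,0,1,0,0,0],[0,0,0,0,1,0,0],[0,0,0,0,0,1,0],[0,0,0,0,0,0,1]]),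
  ([[1,1,1,1,0],[1,1]], [[0,0,1,1,1,0,1],[0,1,0,0,1,0,0],[0,1,1,1,0,1,0],[0,0,0,1,0,1,0],[1,0,1,1,1,1,0],[1,1,0,1,0,0,0],[0,1,0,1,0,1,0]], [[0,1,1,0,1,0,0],[0,0,0,1,0,0,1],[0,0,1,0,0,0,1],[0,1,1,1,1,1,1],[0,1,0,1,0,0,1],[0,1,1,0,1,1,1],[1,0,0,0,1,1,1]], [[1,0,0,0,0,0,0],[0,1,0,0,0,0,0],[0,0,1,0,0,0,0],[1,0,0,1,0,0,0],[1,1,0,0,1,0,0],[1,0,0,1,0,1,0],[0,1,1,1,1,0,1]], [[1,0,0,0,1,0,1],[0,1,0,0,0,0,1],[0,0,1,1,0,1,0],[0,0,0,1,0,0,1],[0,0,0,0,1,1,0],[0,0,0,0,0,1,0],[0,0,0,0,0,0,1]], [[1,0,0,0,0,0,0],[0,1,0,0,0,0,0],[0,0,1,0,0,0,0],[0,0,0,1,0,0,0],[0,0,0,0,1,0,0],[0,0,0,0,0,1,0],[0,0,0,0,0,0,1]]),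
  ([[1,1,1,1,1],[1,0]], [[1,0,1,1,1,0,0],[0,1,1,1,1,1,1],[0,0,0,0,1,1,0],[0,1,0,0,1,1,0],[0,0,0,1,1,1,0],[0,0,0,1,1,0,0],[1,1,1,1,1,0,1]], [[0,1,0,0,1,1,1],[0,0,1,1,0,0,0],[1,1,0,0,1,0,1],[0,0,1,0,1,0,0],[0,0,1,0,1,1,0],[0,0,0,0,1,1,0],[1,0,1,1,0,0,1]], [[1,0,0,0,0,0,0],[0,1,0,0,0,0,0],[1,1,1,0,0,0,0],[0,0,0,1,0,0,0],[1,0,0,0,1,0,0],[0,0,1,1,1,1,0],[0,1,0,1,1,1,1]], [[1,1,1,1,1,1,0],[0,1,1,1,1,0,1],[0,0,1,0,0,1,0],[0,0,0,1,1,1,0],[0,0,0,0,1,1,1],[0,0,0,0,0,1,1],[0,0,0,0,0,0,1]], [[1,0,0,0,0,0,0],[0,1,0,0,0,0,0],[0,0,1,0,0,0,0],[0,0,0,1,0,0,0],[0,0,0,0,1,0,0],[0,0,0,0,0,1,0],[0,0,0,0,0,0,1]]),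
  ([[1,1,1,1,1],[1,1]], [[0,1,1,1,1,1,1],[0,0,0,0,1,0,1],[0,1,0,0,1,0,1],[0,1,1,1,0,0,0],[1,0,0,0,0,0,0],[0,0,1,0,0,0,1],[1,0,1,0,0,1,0]], [[0,0,0,0,1,0,0],[0,1,1,0,0,0,0],[1,1,0,1,1,0,1],[1,0,1,0,1,0,1],[1,0,0,1,1,1,1],[1,1,0,1,0,0,0],[1,1,0,1,1,1,1]], [[1,0,0,0,0,0,0],[0,1,0,0,0,0,0],[1,0,1,0,0,0,0],[1,1,0,1,0,0,0],[0,0,0,1,1,0,0],[0,1,0,1,1,1,0],[0,1,0,0,0,0,1]], [[1,0,1,1,0,0,0],[0,1,1,0,1,1,0],[0,0,1,1,1,0,1],[0,0,0,1,1,1,0],[0,0,0,0,1,1,1],[0,0,0,0,0,1,1],[0,0,0,0,0,0,1]], [[1,0,0,0,0,0,0],[0,1,0,0,0,0,0],[0,0,1,0,0,0,0],[0,0,0,1,0,0,0],[0,0,0,0,1,0,0],[0,0,0,0,0,1,0],[0,0,0,0,0,0,1]])]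

theorem tail27_ok : tblOk 2 [g7] tail27 = true := by decide +kernel

theorem tail27_keys : keys tail27 = ((unitV 2 5).flatMap fun a => (unitV 2 2).map fun b => [a, b]) := by decide +kernel

def tail28 : Tbl :=
  [([[1,0,0,0,0,0],[1,0]], [[0,1,0,0,1,1,1,0],[0,0,0,1,1,0,1,1],[1,0,0,1,1,0,1,1],[1,0,0,0,1,1,0,1],[1,1,0,0,1,0,1,0],[0,0,1,0,0,1,0,0],[0,1,0,0,0,1,0,0],[1,0,1,0,1,0,1,1]], [[0,1,1,0,0,0,0,0],[1,1,1,0,1,0,1,0],[1,1,1,0,1,1,0,0],[1,1,0,0,1,1,0,1],[1,0,0,1,0,1,1,1],[1,1,1,0,1,0,0,0],[0,0,0,1,0,1,0,1],[0,0,0,0,1,1,1,1]], [[1,0,0,0,0,0,0,0],[1,1,0,0,0,0,0,0],[1,1,1,0,0,0,0,0],[1,0,0,1,0,0,0,0],[0,1,1,0,1,0,0,0],[0,1,0,0,0,1,0,0],[1,0,1,1,0,1,1,0],[0,0,1,0,1,0,0,1]],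 [[1,1,1,1,1,0,0,1],[0,1,1,0,1,0,0,0],[0,0,1,1,1,0,0,1],[0,0,0,1,1,1,0,0],[0,0,0,0,1,1,0,0],[0,0,0,0,0,1,1,0],[0,0,0,0,0,0,1,0],[0,0,0,0,0,0,0,1]], [[1,0,0,0,0,0,0,0],[0,1,0,0,0,0,0,0],[0,0,1,0,0,0,0,0],[0,0,0,1,0,0,0,0],[0,0,0,0,1,0,0,0],[0,0,0,0,0,1,0,0],[0,0,0,0,0,0,1,0],[0,0,0,0,0,0,0,1]]),
  ([[1,0,0,0,0,0],[1,1]], [[0,0,0,0,0,1,0,1],[0,0,1,0,0,0,1,0],[0,1,1,0,1,1,1,1],[1,1,0,1,0,1,0,0],[1,0,1,0,1,1,1,1],[0,1,0,1,0,0,0,1],[0,0,1,0,0,0,1,1],[0,0,0,0,1,0,1,0]], [[1,0,0,1,0,1,0,0],[1,0,1,1,1,1,0,0],[0,0,0,1,1,1,0,1],[1,1,1,1,1,0,1,0],[0,1,0,1,1,1,0,0],[1,1,0,0,0,0,1,0],[0,1,0,1,1,1,0,1],[0,1,0,0,0,0,1,0]], [[1,0,0,0,0,0,0,0],[0,1,0,0,0,0,0,0],[1,1,1,0,0,0,0,0],[0,1,1,1,0,0,0,0],[0,0,1,0,1,0,0,0],[1,0,1,0,1,1,0,0],[0,1,1,0,1,1,1,0],[0,1,1,0,0,0,0,1]],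 [[1,0,1,1,0,0,0,0],[0,1,0,0,1,0,1,1],[0,0,1,0,1,0,0,1],[0,0,0,1,0,0,1,1],[0,0,0,0,1,1,1,1],[0,0,0,0,0,1,1,0],[0,0,0,0,0,0,1,1],[0,0,0,0,0,0,0,1]], [[1,0,0,0,0,0,0,0],[0,1,0,0,0,0,0,0],[0,0,1,0,0,0,0,0],[0,0,0,1,0,0,0,0],[0,0,0,0,1,0,0,0],[0,0,0,0,0,1,0,0],[0,0,0,0,0,0,1,0],[0,0,0,0,0,0,0,1]]),
  ([[1,0,0,0,0,1],[1,0]], [[0,0,0,1,1,0,0,1],[0,0,0,0,0,1,0,1],[1,1,0,0,1,1,1,1],[1,0,1,1,0,0,1,1],[1,1,0,1,0,0,1,0],[0,1,0,0,0,1,0,1],[1,0,1,0,0,1,1,0],[0,0,0,1,1,0,1,0]], [[0,1,1,1,0,1,1,1],[0,1,0,0,0,1,0,0],[1,0,1,1,0,1,0,0],[0,1,0,1,0,0,1,0],[0,0,1,1,1,0,1,0],[1,0,1,0,1,0,0,0],[0,1,1,0,1,0,0,1],[1,1,1,0,1,0,0,0]], [[1,0,0,0,0,0,0,0],[1,1,0,0,0,0,0,0],[0,1,1,0,0,0,0,0],[0,1,1,1,0,0,0,0],[1,1,0,1,1,0,0,0],[0,1,0,1,0,1,0,0],[0,0,1,1,0,0,1,0],[0,0,1,0,0,0,0,1]],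 [[1,1,1,0,1,0,0,0],[0,1,1,1,0,0,1,1],[0,0,1,0,1,0,1,0],[0,0,0,1,0,0,0,0],[0,0,0,0,1,0,0,1],[0,0,0,0,0,1,0,1],[0,0,0,0,0,0,1,0],[0,0,0,0,0,0,0,1]], [[1,0,0,0,0,0,0,0],[0,1,0,0,0,0,0,0],[0,0,1,0,0,0,0,0],[0,0,0,1,0,0,0,0],[0,0,0,0,1,0,0,0],[0,0,0,0,0,1,0,0],[0,0,0,0,0,0,1,0],[0,0,0,0,0,0,0,1]]),
  ([[1,0,0,0,0,1],[1,1]], [[1,1,1,1,0,0,1,1],[0,1,0,0,1,1,0,1],[1,0,0,1,1,0,1,1],[1,1,1,0,0,1,0,1],[1,0,1,0,0,1,0,0],[0,0,1,0,0,0,1,1],[1,1,1,0,0,0,1,0],[1,0,1,1,0,1,1,1]], [[0,0,0,1,1,1,1,0],[1,1,1,0,1,1,1,0],[0,1,1,1,1,0,0,1],[0,1,1,1,0,1,0,0],[0,0,1,1,0,1,1,1],[0,1,1,0,1,1,1,1],[1,0,0,0,1,0,1,1],[1,1,1,1,0,1,1,0]], [[1,0,0,0,0,0,0,0],[0,1,0,0,0,0,0,0],[0,0,1,0,0,0,0,0],[1,1,1,1,0,0,0,0],[0,1,0,1,1,0,0,0],[1,0,0,1,1,1,0,0],[1,0,0,0,0,0,1,0],[1,1,1,0,0,1,0,1]],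 [[1,1,1,0,1,0,0,1],[0,1,0,0,1,1,0,1],[0,0,1,1,1,1,1,0],[0,0,0,1,1,0,0,0],[0,0,0,0,1,1,0,0],[0,0,0,0,0,1,1,0],[0,0,0,0,0,0,1,0],[0,0,0,0,0,0,0,1]], [[1,0,0,0,0,0,0,0],[0,1,0,0,0,0,0,0],[0,0,1,0,0,0,0,0],[0,0,0,1,0,0,0,0],[0,0,0,0,1,0,0,0],[0,0,0,0,0,1,0,0],[0,0,0,0,0,0,1,0],[0,0,0,0,0,0,0,1]]),
  ([[1,0,0,0,1,0],[1,0]], [[0,1,0,0,1,0,0,0],[0,0,0,1,0,0,1,1],[0,0,0,1,0,0,0,1],[1,1,1,0,1,0,0,0],[0,0,0,0,0,1,0,0],[1,1,1,0,1,0,1,1],[0,1,1,1,0,1,0,0],[0,1,1,1,1,0,0,1]], [[0,0,1,1,0,0,0,1],[1,1,1,1,1,1,1,1],[1,0,1,0,0,0,0,1],[0,1,0,1,0,1,0,0],[0,1,1,1,1,1,1,1],[0,0,0,0,1,0,0,0],[0,1,1,0,0,0,0,0],[0,1,1,1,0,1,0,0]], [[1,0,0,0,0,0,0,0],[0,1,0,0,0,0,0,0],[0,0,1,0,0,0,0,0],[0,1,0,1,0,0,0,0],[0,1,1,1,1,0,0,0],[0,0,1,0,0,1,0,0],[1,1,0,0,1,1,1,0],[1,0,0,1,0,1,0,1]],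 [[1,0,0,0,0,1,1,0],[0,1,0,1,1,1,0,0],[0,0,1,1,0,1,1,1],[0,0,0,1,1,1,0,0],[0,0,0,0,1,0,0,1],[0,0,0,0,0,1,0,1],[0,0,0,0,0,0,1,0],[0,0,0,0,0,0,0,1]], [[1,0,0,0,0,0,0,0],[0,1,0,0,0,0,0,0],[0,0,1,0,0,0,0,0],[0,0,0,1,0,0,0,0],[0,0,0,0,1,0,0,0],[0,0,0,0,0,1,0,0],[0,0,0,0,0,0,1,0],[0,0,0,0,0,0,0,1]]),
  ([[1,0,0,0,1,0],[1,1]], [[1,1,0,1,0,0,1,1],[0,1,1,1,0,0,0,0],[0,0,1,0,0,0,0,1],[1,0,0,0,1,0,1,0],[1,1,1,1,1,0,1,1],[1,1,0,0,1,0,1,0],[1,0,1,0,1,0,0,0],[0,1,1,0,1,1,0,0]], [[1,0,0,0,1,0,1,0],[0,0,0,1,0,1,0,0],[0,1,1,1,1,0,0,0],[0,0,1,0,1,1,0,0],[1,1,1,1,0,0,0,0],[1,0,0,1,1,1,0,1],[0,1,1,0,1,0,1,0],[0,1,0,1,1,0,0,0]], [[1,0,0,0,0,0,0,0],[0,1,0,0,0,0,0,0],[1,1,1,0,0,0,0,0],[0,1,0,1,0,0,0,0],[1,0,1,1,1,0,0,0],[1,1,0,1,1,1,0,0],[1,1,0,1,0,1,1,0],[1,1,1,1,0,0,1,1]],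 [[1,0,0,1,1,0,1,1],[0,1,0,0,0,1,0,0],[0,0,1,1,1,0,1,0],[0,0,0,1,1,1,1,1],[0,0,0,0,1,1,1,0],[0,0,0,0,0,1,0,0],[0,0,0,0,0,0,1,0],[0,0,0,0,0,0,0,1]], [[1,0,0,0,0,0,0,0],[0,1,0,0,0,0,0,0],[0,0,1,0,0,0,0,0],[0,0,0,1,0,0,0,0],[0,0,0,0,1,0,0,0],[0,0,0,0,0,1,0,0],[0,0,0,0,0,0,1,0],[0,0,0,0,0,0,0,1]]),
  ([[1,0,0,0,1,1],[1,0]], [[1,1,0,0,1,1,1,0],[0,1,0,1,1,1,0,1],[0,1,0,0,1,1,1,1],[0,0,0,0,1,0,1,1],[0,1,1,0,1,1,0,1],[1,0,0,0,0,1,0,0],[0,1,1,1,1,0,1,1],[1,1,1,0,0,1,0,1]], [[0,1,1,0,1,1,1,0],[0,1,0,1,1,0,1,0],[1,0,0,1,0,0,0,1],[1,1,0,1,1,0,0,1],[0,1,1,0,0,1,1,1],[0,1,1,0,1,0,1,0],[1,0,1,1,1,0,0,1],[1,1,0,0,1,1,1,0]], [[1,0,0,0,0,0,0,0],[1,1,0,0,0,0,0,0],[0,0,1,0,0,0,0,0],[0,0,0,1,0,0,0,0],[0,1,0,0,1,0,0,0],[0,0,0,0,0,1,0,0],[1,0,0,0,0,1,1,0],[0,0,1,1,0,1,1,1]],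 [[1,0,1,1,0,1,0,0],[0,1,0,1,0,1,0,0],[0,0,1,1,1,1,0,0],[0,0,0,1,0,0,0,1],[0,0,0,0,1,1,1,0],[0,0,0,0,0,1,1,0],[0,0,0,0,0,0,1,1],[0,0,0,0,0,0,0,1]], [[1,0,0,0,0,0,0,0],[0,1,0,0,0,0,0,0],[0,0,1,0,0,0,0,0],[0,0,0,1,0,0,0,0],[0,0,0,0,1,0,0,0],[0,0,0,0,0,1,0,0],[0,0,0,0,0,0,1,0],[0,0,0,0,0,0,0,1]]),
  ([[1,0,0,0,1,1],[1,1]], [[0,0,0,0,0,0,1,1],[1,0,0,1,1,0,0,1],[1,1,0,1,1,0,1,0],[0,1,0,1,1,0,0,1],[0,0,0,1,0,0,1,1],[0,1,1,1,1,1,1,1],[1,1,0,1,1,1,0,0],[1,1,1,0,1,1,1,0]], [[1,0,1,1,0,0,0,0],[1,1,1,0,0,0,0,0],[0,0,1,1,0,1,1,0],[1,0,0,0,1,0,0,0],[0,1,0,0,0,1,0,1],[1,0,0,1,1,1,1,1],[1,0,1,1,1,1,0,1],[0,0,1,1,1,1,0,1]], [[1,0,0,0,0,0,0,0],[0,1,0,0,0,0,0,0],[1,1,1,0,0,0,0,0],[0,0,1,1,0,0,0,0],[1,1,0,1,1,0,0,0],[1,0,0,1,1,1,0,0],[0,1,0,1,1,0,1,0],[0,0,0,0,1,0,1,1]],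 [[1,0,0,0,1,0,1,0],[0,1,0,1,1,0,0,0],[0,0,1,1,1,0,1,1],[0,0,0,1,0,0,0,1],[0,0,0,0,1,1,0,1],[0,0,0,0,0,1,1,1],[0,0,0,0,0,0,1,1],[0,0,0,0,0,0,0,1]], [[1,0,0,0,0,0,0,0],[0,1,0,0,0,0,0,0],[0,0,1,0,0,0,0,0],[0,0,0,1,0,0,0,0],[0,0,0,0,1,0,0,0],[0,0,0,0,0,1,0,0],[0,0,0,0,0,0,1,0],[0,0,0,0,0,0,0,1]]),
  ([[1,0,0,1,0,0],[1,0]], [[0,1,1,0,0,1,1,0],[0,0,1,1,1,1,1,1],[1,0,1,0,0,1,0,1],[0,0,1,1,0,1,0,1],[0,1,0,0,0,1,0,0],[0,1,1,0,0,1,0,1],[0,0,1,1,1,0,1,0],[1,0,0,1,0,0,0,1]], [[0,1,0,1,1,1,1,1],[0,1,1,1,1,0,1,1],[0,0,1,1,1,1,0,1],[0,1,1,0,1,1,1,1],[1,1,1,0,0,1,0,1],[0,1,1,1,0,0,1,1],[1,0,1,1,0,1,0,1],[0,0,1,1,0,0,0,1]], [[1,0,0,0,0,0,0,0],[1,1,0,0,0,0,0,0],[0,0,1,0,0,0,0,0],[1,1,0,1,0,0,0,0],[1,1,0,0,1,0,0,0],[0,0,0,1,0,1,0,0],[0,1,1,1,1,1,1,0],[0,0,1,0,0,1,1,1]],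 [[1,0,1,1,1,0,1,0],[0,1,1,1,0,1,0,1],[0,0,1,0,1,1,1,1],[0,0,0,1,0,1,0,1],[0,0,0,0,1,0,0,0],[0,0,0,0,0,1,1,1],[0,0,0,0,0,0,1,1],[0,0,0,0,0,0,0,1]], [[1,0,0,0,0,0,0,0],[0,1,0,0,0,0,0,0],[0,0,1,0,0,0,0,0],[0,0,0,1,0,0,0,0],[0,0,0,0,1,0,0,0],[0,0,0,0,0,1,0,0],[0,0,0,0,0,0,1,0],[0,0,0,0,0,0,0,1]]),
  ([[1,0,0,1,0,0],[1,1]], [[0,1,1,1,1,0,1,1],[0,1,1,1,1,0,1,0],[1,1,0,1,1,1,1,0],[1,1,1,0,1,1,0,1],[1,1,0,0,1,1,1,1],[0,1,1,0,0,0,1,0],[0,1,0,0,0,0,1,0],[1,1,0,0,1,0,0,1]], [[0,1,1,1,0,0,0,1],[0,0,0,1,1,1,0,0],[0,0,0,0,0,1,1,0],[1,1,1,0,1,0,0,0],[1,0,1,0,1,1,0,0],[0,0,0,1,0,1,1,1],[0,0,0,1,1,1,1,0],[1,1,0,0,0,0,0,0]], [[1,0,0,0,0,0,0,0],[0,1,0,0,0,0,0,0],[1,1,1,0,0,0,0,0],[0,1,0,1,0,0,0,0],[1,1,0,0,1,0,0,0],[1,0,1,0,0,1,0,0],[0,0,0,0,1,1,1,0],[1,0,0,0,1,0,0,1]],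 [[1,0,0,1,1,1,0,1],[0,1,1,1,1,1,0,1],[0,0,1,1,1,1,1,1],[0,0,0,1,1,0,0,1],[0,0,0,0,1,1,0,1],[0,0,0,0,0,1,1,1],[0,0,0,0,0,0,1,0],[0,0,0,0,0,0,0,1]], [[1,0,0,0,0,0,0,0],[0,1,0,0,0,0,0,0],[0,0,1,0,0,0,0,0],[0,0,0,1,0,0,0,0],[0,0,0,0,1,0,0,0],[0,0,0,0,0,1,0,0],[0,0,0,0,0,0,1,0],[0,0,0,0,0,0,0,1]]),
  ([[1,0,0,1,0,1],[1,0]], [[1,1,0,0,1,0,1,0],[0,1,1,1,0,0,0,1],[0,1,0,0,0,1,0,1],[0,1,0,0,1,1,0,1],[1,1,1,1,0,1,1,1],[1,0,0,1,1,1,1,1],[1,0,1,1,0,0,0,0],[1,0,1,0,0,1,1,0]], [[1,1,1,0,1,1,1,1],[0,1,1,1,0,1,0,1],[0,1,0,0,1,0,0,1],[1,0,1,0,0,1,0,0],[0,0,1,1,0,0,0,0],[1,0,0,0,1,1,0,1],[0,0,1,0,1,0,1,0],[1,1,0,1,1,0,0,0]], [[1,0,0,0,0,0,0,0],[1,1,0,0,0,0,0,0],[1,0,1,0,0,0,0,0],[0,1,1,1,0,0,0,0],[1,1,0,1,1,0,0,0],[1,0,1,1,0,1,0,0],[0,0,1,0,0,0,1,0],[1,0,1,1,0,0,1,1]],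 [[1,1,1,0,1,0,0,1],[0,1,0,0,1,1,0,1],[0,0,1,0,1,0,1,0],[0,0,0,1,1,0,1,1],[0,0,0,0,1,0,0,0],[0,0,0,0,0,1,0,0],[0,0,0,0,0,0,1,0],[0,0,0,0,0,0,0,1]], [[1,0,0,0,0,0,0,0],[0,1,0,0,0,0,0,0],[0,0,1,0,0,0,0,0],[0,0,0,1,0,0,0,0],[0,0,0,0,1,0,0,0],[0,0,0,0,0,1,0,0],[0,0,0,0,0,0,1,0],[0,0,0,0,0,0,0,1]]),
  ([[1,0,0,1,0,1],[1,1]], [[0,1,0,1,1,0,0,0],[0,0,1,0,1,0,0,1],[0,0,1,1,0,0,1,0],[0,0,1,1,1,1,1,1],[1,0,0,0,1,1,0,0],[1,0,0,0,0,1,0,0],[1,0,1,1,1,0,1,0],[1,1,0,0,1,0,0,1]], [[0,0,1,0,1,1,1,0],[0,0,1,1,0,1,0,1],[0,1,0,1,1,0,1,0],[1,0,1,1,1,0,0,1],[0,0,0,0,1,1,0,0],[0,0,1,0,1,0,1,0],[1,1,0,0,0,0,1,1],[0,0,0,1,0,1,1,0]], [[1,0,0,0,0,0,0,0],[1,1,0,0,0,0,0,0],[0,0,1,0,0,0,0,0],[1,0,1,1,0,0,0,0],[0,0,1,0,1,0,0,0],[1,1,0,1,1,1,0,0],[0,0,1,0,0,1,1,0],[0,1,1,1,1,1,0,1]],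 [[1,1,1,1,1,0,0,1],[0,1,1,1,1,0,0,1],[0,0,1,0,0,1,1,1],[0,0,0,1,1,1,0,0],[0,0,0,0,1,1,1,1],[0,0,0,0,0,1,1,0],[0,0,0,0,0,0,1,0],[0,0,0,0,0,0,0,1]], [[1,0,0,0,0,0,0,0],[0,1,0,0,0,0,0,0],[0,0,1,0,0,0,0,0],[0,0,0,1,0,0,0,0],[0,0,0,0,1,0,0,0],[0,0,0,0,0,1,0,0],[0,0,0,0,0,0,1,0],[0,0,0,0,0,0,0,1]]),
  ([[1,0,0,1,1,0],[1,0]], [[1,0,1,1,1,1,1,1],[0,1,0,1,0,1,1,1],[1,1,1,1,1,0,0,1],[0,1,1,0,1,1,0,1],[1,1,0,1,1,1,0,1],[1,1,1,0,0,1,1,0],[0,1,0,1,1,0,1,0],[1,1,1,1,1,1,1,1]], [[0,1,1,1,0,1,1,1],[1,0,0,0,0,0,0,1],[1,1,0,1,0,0,1,1],[1,0,1,1,1,1,0,0],[1,1,1,0,0,1,0,1],[1,1,1,1,1,0,1,1],[1,1,0,1,1,0,1,0],[0,1,0,1,1,1,0,0]], [[1,0,0,0,0,0,0,0],[1,1,0,0,0,0,0,0],[1,0,1,0,0,0,0,0],[1,0,0,1,0,0,0,0],[0,0,1,1,1,0,0,0],[0,0,1,0,1,1,0,0],[0,1,1,1,0,0,1,0],[1,1,1,0,0,0,1,1]],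 [[1,1,0,0,1,1,0,1],[0,1,0,0,1,1,0,0],[0,0,1,0,1,0,0,1],[0,0,0,1,0,1,1,1],[0,0,0,0,1,1,1,1],[0,0,0,0,0,1,0,0],[0,0,0,0,0,0,1,1],[0,0,0,0,0,0,0,1]], [[1,0,0,0,0,0,0,0],[0,1,0,0,0,0,0,0],[0,0,1,0,0,0,0,0],[0,0,0,1,0,0,0,0],[0,0,0,0,1,0,0,0],[0,0,0,0,0,1,0,0],[0,0,0,0,0,0,1,0],[0,0,0,0,0,0,0,1]]),
  ([[1,0,0,1,1,0],[1,1]], [[1,1,1,1,0,0,1,1],[1,1,1,1,1,1,0,0],[1,1,1,1,1,1,1,1],[0,1,0,1,0,0,1,1],[0,1,1,1,1,1,1,1],[0,0,1,1,1,0,1,0],[1,1,1,0,1,0,0,0],[0,1,0,1,1,0,1,0]], [[0,0,1,0,1,0,0,0],[1,0,1,1,1,1,0,1],[1,0,1,1,1,0,0,0],[1,1,0,0,1,1,0,1],[0,0,1,0,1,1,1,1],[1,0,0,0,1,1,1,1],[0,1,0,1,1,1,1,0],[0,0,1,1,1,1,1,0]], [[1,0,0,0,0,0,0,0],[1,1,0,0,0,0,0,0],[1,1,1,0,0,0,0,0],[0,1,1,1,0,0,0,0],[1,0,0,0,1,0,0,0],[1,0,1,0,1,1,0,0],[1,1,1,0,1,1,1,0],[0,0,1,0,1,0,0,1]],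 [[1,0,1,1,1,0,1,0],[0,1,0,1,1,1,1,1],[0,0,1,1,0,0,1,0],[0,0,0,1,1,1,0,1],[0,0,0,0,1,0,1,0],[0,0,0,0,0,1,1,0],[0,0,0,0,0,0,1,1],[0,0,0,0,0,0,0,1]], [[1,0,0,0,0,0,0,0],[0,1,0,0,0,0,0,0],[0,0,1,0,0,0,0,0],[0,0,0,1,0,0,0,0],[0,0,0,0,1,0,0,0],[0,0,0,0,0,1,0,0],[0,0,0,0,0,0,1,0],[0,0,0,0,0,0,0,1]]),
  ([[1,0,0,1,1,1],[1,0]], [[0,1,0,0,1,1,0,0],[0,0,1,1,0,0,1,0],[0,0,1,0,1,0,0,0],[0,1,0,0,0,1,0,1],[1,1,0,0,1,1,0,1],[0,0,1,1,1,1,1,0],[0,0,1,1,1,1,0,0],[0,0,0,0,1,0,0,0]], [[0,0,0,1,1,0,0,1],[1,1,0,0,0,1,0,0],[0,0,1,0,0,0,0,1],[0,1,1,0,0,1,1,1],[0,0,0,0,0,0,0,1],[0,1,0,0,0,1,0,1],[0,0,0,0,0,1,1,0],[1,0,0,1,0,0,0,1]], [[1,0,0,0,0,0,0,0],[1,1,0,0,0,0,0,0],[0,0,1,0,0,0,0,0],[1,1,0,1,0,0,0,0],[0,1,1,0,1,0,0,0],[0,1,1,1,0,1,0,0],[0,0,1,1,1,1,1,0],[0,1,0,1,0,1,0,1]],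 [[1,1,0,1,0,1,1,0],[0,1,1,1,0,1,0,0],[0,0,1,0,1,1,0,0],[0,0,0,1,1,1,1,1],[0,0,0,0,1,1,1,1],[0,0,0,0,0,1,0,1],[0,0,0,0,0,0,1,0],[0,0,0,0,0,0,0,1]], [[1,0,0,0,0,0,0,0],[0,1,0,0,0,0,0,0],[0,0,1,0,0,0,0,0],[0,0,0,1,0,0,0,0],[0,0,0,0,1,0,0,0],[0,0,0,0,0,1,0,0],[0,0,0,0,0,0,1,0],[0,0,0,0,0,0,0,1]]),
  ([[1,0,0,1,1,1],[1,1]], [[0,1,0,0,0,0,1,0],[0,0,1,1,0,1,0,0],[1,1,1,0,0,0,1,0],[1,1,0,1,1,1,0,0],[0,1,0,1,0,1,0,0],[1,0,0,0,0,1,0,0],[1,0,1,0,1,1,1,1],[0,0,1,0,1,0,0,1]], [[0,1,1,0,1,1,1,1],[1,0,0,0,0,1,1,1],[1,1,0,0,1,1,1,1],[1,1,1,0,0,1,0,0],[0,1,1,1,0,1,1,1],[0,1,1,0,1,0,1,1],[0,0,0,0,0,1,1,1],[1,0,1,1,1,0,0,1]], [[1,0,0,0,0,0,0,0],[1,1,0,0,0,0,0,0],[1,1,1,0,0,0,0,0],[1,1,0,1,0,0,0,0],[1,0,0,0,1,0,0,0],[0,1,0,0,0,1,0,0],[0,0,1,1,0,0,1,0],[1,1,0,0,0,1,1,1]],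 [[1,1,0,1,1,1,0,0],[0,1,0,1,0,1,1,1],[0,0,1,1,1,1,1,1],[0,0,0,1,1,0,1,1],[0,0,0,0,1,0,0,1],[0,0,0,0,0,1,1,1],[0,0,0,0,0,0,1,1],[0,0,0,0,0,0,0,1]], [[1,0,0,0,0,0,0,0],[0,1,0,0,0,0,0,0],[0,0,1,0,0,0,0,0],[0,0,0,1,0,0,0,0],[0,0,0,0,1,0,0,0],[0,0,0,0,0,1,0,0],[0,0,0,0,0,0,1,0],[0,0,0,0,0,0,0,1]]),
  ([[1,0,1,0,0,0],[1,0]], [[0,0,1,0,1,1,0,0],[0,0,1,0,0,1,1,0],[0,0,1,1,0,0,1,0],[0,0,0,0,0,0,1,1],[0,1,0,1,0,1,0,1],[0,0,1,0,1,0,0,0],[1,0,1,1,0,0,1,0],[1,0,0,0,0,1,1,0]], [[0,0,1,0,0,0,1,0],[1,1,0,1,1,1,1,1],[0,1,1,0,0,0,1,1],[1,1,1,0,0,1,0,0],[0,1,1,0,0,1,1,1],[1,0,0,0,0,1,0,0],[1,0,1,0,0,1,1,1],[1,0,1,1,0,1,1,1]], [[1,0,0,0,0,0,0,0],[0,1,0,0,0,0,0,0],[1,0,1,0,0,0,0,0],[1,1,1,1,0,0,0,0],[1,1,0,0,1,0,0,0],[1,0,0,0,1,1,0,0],[0,1,0,1,0,0,1,0],[1,0,1,0,0,0,1,1]],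 [[1,1,1,1,1,0,0,1],[0,1,1,0,1,0,1,0],[0,0,1,0,0,0,1,1],[0,0,0,1,1,1,1,0],[0,0,0,0,1,0,1,1],[0,0,0,0,0,1,1,0],[0,0,0,0,0,0,1,0],[0,0,0,0,0,0,0,1]], [[1,0,0,0,0,0,0,0],[0,1,0,0,0,0,0,0],[0,0,1,0,0,0,0,0],[0,0,0,1,0,0,0,0],[0,0,0,0,1,0,0,0],[0,0,0,0,0,1,0,0],[0,0,0,0,0,0,1,0],[0,0,0,0,0,0,0,1]]),
  ([[1,0,1,0,0,0],[1,1]], [[1,0,0,1,0,0,0,1],[1,0,1,1,1,1,1,1],[0,1,0,0,1,0,1,1],[0,0,0,1,1,0,0,1],[0,1,1,0,1,0,0,1],[1,1,0,0,1,1,0,0],[1,0,0,0,1,0,0,1],[1,1,1,1,1,1,1,1]], [[1,0,1,0,1,1,0,1],[0,1,0,0,0,0,0,1],[1,1,1,0,0,1,1,0],[1,0,1,1,1,1,1,1],[0,0,1,1,1,1,0,1],[1,1,0,1,0,1,0,1],[1,1,0,0,1,1,1,0],[1,0,0,1,0,0,1,0]], [[1,0,0,0,0,0,0,0],[0,1,0,0,0,0,0,0],[0,1,1,0,0,0,0,0],[0,0,0,1,0,0,0,0],[1,1,1,1,1,0,0,0],[1,1,0,0,1,1,0,0],[1,0,1,1,0,0,1,0],[1,0,0,0,1,1,1,1]],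 [[1,1,0,0,0,1,0,0],[0,1,1,1,1,0,1,0],[0,0,1,0,0,0,1,1],[0,0,0,1,1,0,1,1],[0,0,0,0,1,1,1,0],[0,0,0,0,0,1,0,1],[0,0,0,0,0,0,1,1],[0,0,0,0,0,0,0,1]], [[1,0,0,0,0,0,0,0],[0,1,0,0,0,0,0,0],[0,0,1,0,0,0,0,0],[0,0,0,1,0,0,0,0],[0,0,0,0,1,0,0,0],[0,0,0,0,0,1,0,0],[0,0,0,0,0,0,1,0],[0,0,0,0,0,0,0,1]]),
  ([[1,0,1,0,0,1],[1,0]], [[1,1,0,1,0,1,0,1],[1,1,1,1,0,0,0,1],[1,1,0,0,1,0,1,1],[1,0,1,0,1,1,1,0],[0,1,1,0,0,1,1,0],[1,1,1,1,0,1,1,1],[1,0,1,0,0,0,0,1],[0,0,0,1,0,0,0,0]], [[1,0,1,1,1,1,1,0],[0,1,0,0,0,0,1,1],[0,0,0,0,1,1,1,1],[0,0,0,0,0,0,0,1],[1,1,1,0,0,1,0,1],[1,1,0,0,1,1,1,1],[1,0,0,0,1,0,1,1],[1,0,1,1,0,0,1,1]], [[1,0,0,0,0,0,0,0],[0,1,0,0,0,0,0,0],[0,1,1,0,0,0,0,0],[0,0,0,1,0,0,0,0],[0,0,1,1,1,0,0,0],[1,0,1,1,0,1,0,0],[1,1,0,0,1,0,1,0],[1,0,0,1,1,0,1,1]],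 [[1,0,1,0,0,0,0,1],[0,1,0,1,1,1,1,1],[0,0,1,0,0,0,0,1],[0,0,0,1,1,0,0,1],[0,0,0,0,1,1,0,0],[0,0,0,0,0,1,1,1],[0,0,0,0,0,0,1,0],[0,0,0,0,0,0,0,1]], [[1,0,0,0,0,0,0,0],[0,1,0,0,0,0,0,0],[0,0,1,0,0,0,0,0],[0,0,0,1,0,0,0,0],[0,0,0,0,1,0,0,0],[0,0,0,0,0,1,0,0],[0,0,0,0,0,0,1,0],[0,0,0,0,0,0,0,1]]),
  ([[1,0,1,0,0,1],[1,1]], [[0,0,0,0,1,1,0,1],[1,0,0,0,1,1,0,1],[1,0,0,0,0,0,1,1],[0,0,1,1,0,1,1,1],[1,1,0,0,1,0,0,0],[0,0,0,1,1,1,0,0],[1,0,1,1,0,0,1,1],[1,0,1,0,0,0,1,1]], [[1,1,0,0,0,0,0,0],[0,0,0,1,1,1,0,1],[0,0,1,0,0,0,0,1],[0,0,0,0,0,0,1,1],[1,1,0,1,0,1,0,1],[1,1,0,1,0,0,1,0],[0,1,1,0,0,1,1,1],[1,0,0,0,0,1,1,1]], [[1,0,0,0,0,0,0,0],[1,1,0,0,0,0,0,0],[0,1,1,0,0,0,0,0],[0,0,1,1,0,0,0,0],[1,0,1,0,1,0,0,0],[1,0,1,1,1,1,0,0],[1,0,0,1,0,1,1,0],[0,0,0,0,0,1,0,1]],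 [[1,0,1,0,0,0,0,0],[0,1,0,0,1,0,0,1],[0,0,1,1,0,0,1,0],[0,0,0,1,0,0,1,1],[0,0,0,0,1,1,1,1],[0,0,0,0,0,1,1,0],[0,0,0,0,0,0,1,1],[0,0,0,0,0,0,0,1]], [[1,0,0,0,0,0,0,0],[0,1,0,0,0,0,0,0],[0,0,1,0,0,0,0,0],[0,0,0,1,0,0,0,0],[0,0,0,0,1,0,0,0],[0,0,0,0,0,1,0,0],[0,0,0,0,0,0,1,0],[0,0,0,0,0,0,0,1]]),
  ([[1,0,1,0,1,0],[1,0]], [[1,1,1,1,1,1,1,0],[0,1,0,0,0,1,1,1],[1,0,1,1,0,0,0,1],[1,0,0,1,1,1,0,0],[0,0,1,1,1,1,0,1],[0,1,0,1,1,1,0,1],[1,0,1,1,0,0,1,0],[0,0,0,1,0,1,0,0]], [[1,1,1,1,0,0,0,1],[0,1,0,1,1,0,1,1],[0,1,0,1,0,1,1,1],[0,0,1,1,1,0,0,0],[1,1,1,0,0,0,0,0],[0,0,1,1,1,0,0,1],[1,0,0,1,1,1,0,0],[1,0,1,1,1,1,1,0]], [[1,0,0,0,0,0,0,0],[0,1,0,0,0,0,0,0],[1,1,1,0,0,0,0,0],[1,0,1,1,0,0,0,0],[0,1,0,1,1,0,0,0],[0,0,1,0,1,1,0,0],[1,0,1,0,0,0,1,0],[1,1,0,0,0,0,1,1]],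 [[1,1,1,0,1,1,0,0],[0,1,0,1,1,1,0,0],[0,0,1,0,1,1,0,0],[0,0,0,1,1,1,1,1],[0,0,0,0,1,1,1,1],[0,0,0,0,0,1,0,0],[0,0,0,0,0,0,1,0],[0,0,0,0,0,0,0,1]], [[1,0,0,0,0,0,0,0],[0,1,0,0,0,0,0,0],[0,0,1,0,0,0,0,0],[0,0,0,1,0,0,0,0],[0,0,0,0,1,0,0,0],[0,0,0,0,0,1,0,0],[0,0,0,0,0,0,1,0],[0,0,0,0,0,0,0,1]]),
  ([[1,0,1,0,1,0],[1,1]], [[0,0,1,0,0,1,1,0],[1,1,0,1,0,1,1,0],[1,0,1,1,1,1,0,0],[1,1,1,0,1,1,1,0],[0,0,1,0,0,1,0,1],[0,1,0,0,0,0,1,1],[0,0,1,0,1,1,0,0],[1,1,1,0,1,0,1,0]], [[0,1,1,0,0,0,0,1],[1,0,0,0,1,1,0,0],[0,1,1,0,1,1,1,0],[0,1,0,0,0,0,1,1],[0,1,1,1,1,1,0,1],[0,0,0,1,0,0,0,1],[1,1,1,1,1,1,1,1],[0,1,1,1,0,1,1,1]], [[1,0,0,0,0,0,0,0],[1,1,0,0,0,0,0,0],[0,0,1,0,0,0,0,0],[0,1,0,1,0,0,0,0],[0,1,1,1,1,0,0,0],[0,1,0,1,0,1,0,0],[0,0,0,0,1,1,1,0],[0,1,1,1,0,0,0,1]],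 [[1,0,1,0,1,1,0,1],[0,1,0,0,0,0,0,0],[0,0,1,0,1,1,1,0],[0,0,0,1,1,0,0,1],[0,0,0,0,1,1,0,1],[0,0,0,0,0,1,1,0],[0,0,0,0,0,0,1,1],[0,0,0,0,0,0,0,1]], [[1,0,0,0,0,0,0,0],[0,1,0,0,0,0,0,0],[0,0,1,0,0,0,0,0],[0,0,0,1,0,0,0,0],[0,0,0,0,1,0,0,0],[0,0,0,0,0,1,0,0],[0,0,0,0,0,0,1,0],[0,0,0,0,0,0,0,1]]),
  ([[1,0,1,0,1,1],[1,0]], [[0,0,0,0,1,0,1,1],[0,0,1,0,1,1,0,0],[1,1,0,0,1,1,1,1],[1,1,1,1,0,1,0,0],[0,1,1,0,0,0,0,0],[1,1,0,1,1,0,1,0],[0,1,0,0,1,1,1,1],[0,1,0,1,0,1,1,0]], [[0,0,1,0,0,0,1,0],[0,1,1,0,1,1,1,1],[0,1,1,0,0,1,1,1],[1,1,0,1,0,1,1,1],[1,1,0,0,1,0,1,0],[1,1,1,0,1,1,0,1],[0,1,0,1,0,1,0,0],[0,0,0,1,1,1,1,0]], [[1,0,0,0,0,0,0,0],[0,1,0,0,0,0,0,0],[0,0,1,0,0,0,0,0],[1,0,1,1,0,0,0,0],[0,0,1,1,1,0,0,0],[1,0,1,0,1,1,0,0],[0,1,0,1,1,0,1,0],[1,1,1,1,1,1,0,1]],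 [[1,0,1,0,0,0,1,1],[0,1,1,1,0,1,0,1],[0,0,1,0,0,0,0,0],[0,0,0,1,0,0,1,1],[0,0,0,0,1,1,0,1],[0,0,0,0,0,1,0,0],[0,0,0,0,0,0,1,0],[0,0,0,0,0,0,0,1]], [[1,0,0,0,0,0,0,0],[0,1,0,0,0,0,0,0],[0,0,1,0,0,0,0,0],[0,0,0,1,0,0,0,0],[0,0,0,0,1,0,0,0],[0,0,0,0,0,1,0,0],[0,0,0,0,0,0,1,0],[0,0,0,0,0,0,0,1]]),
  ([[1,0,1,0,1,1],[1,1]], [[1,0,0,1,1,1,0,0],[0,1,0,1,1,0,1,0],[1,1,0,1,0,1,1,0],[0,0,0,0,1,1,1,1],[0,1,1,1,1,1,1,1],[1,0,0,0,0,1,0,1],[0,1,0,0,0,1,1,1],[0,1,1,0,1,1,1,0]], [[0,0,1,0,1,0,1,1],[1,0,0,1,1,1,1,1],[0,1,1,0,0,1,1,1],[1,1,1,0,0,0,0,0],[1,0,0,0,1,1,0,1],[1,1,0,0,0,1,1,0],[1,0,1,1,0,0,1,0],[1,1,1,0,1,0,0,1]], [[1,0,0,0,0,0,0,0],[0,1,0,0,0,0,0,0],[1,0,1,0,0,0,0,0],[1,1,0,1,0,0,0,0],[1,0,0,0,1,0,0,0],[1,1,1,0,1,1,0,0],[0,0,0,1,0,1,1,0],[0,0,0,0,1,0,0,1]],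 [[1,0,0,0,1,0,0,0],[0,1,0,0,1,0,1,1],[0,0,1,0,0,0,1,1],[0,0,0,1,1,1,1,0],[0,0,0,0,1,1,1,0],[0,0,0,0,0,1,1,0],[0,0,0,0,0,0,1,0],[0,0,0,0,0,0,0,1]], [[1,0,0,0,0,0,0,0],[1,1,0,0,0,0,0,0],[1,0,1,0,0,0,0,0],[0,1,1,1,0,0,0,0],[0,0,0,0,1,0,0,0],[0,0,0,0,0,1,0,0],[0,0,1,1,1,1,1,0],[1,1,1,1,1,0,0,1]]),
  ([[1,0,1,1,0,0],[1,0]], [[1,1,1,0,1,1,0,0],[1,0,0,1,0,1,0,0],[1,1,0,0,1,0,1,1],[1,1,1,1,0,1,0,0],[0,1,1,1,0,1,1,1],[0,1,0,0,1,0,0,1],[0,0,0,0,1,1,0,1],[1,1,1,1,0,0,1,0]], [[1,1,1,0,1,1,1,0],[1,1,0,1,1,1,0,1],[1,0,0,0,1,1,0,1],[0,1,1,1,0,1,0,1],[1,1,1,0,0,1,0,1],[1,1,0,1,1,0,1,1],[1,1,0,0,1,0,1,0],[0,0,1,1,1,1,0,0]], [[1,0,0,0,0,0,0,0],[0,1,0,0,0,0,0,0],[1,1,1,0,0,0,0,0],[1,0,1,1,0,0,0,0],[1,0,0,1,1,0,0,0],[1,0,0,1,1,1,0,0],[1,1,1,1,0,0,1,0],[1,1,0,1,1,1,0,1]],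 [[1,0,0,1,0,1,1,0],[0,1,1,0,1,0,0,1],[0,0,1,0,0,0,0,1],[0,0,0,1,1,0,0,1],[0,0,0,0,1,0,0,1],[0,0,0,0,0,1,1,0],[0,0,0,0,0,0,1,0],[0,0,0,0,0,0,0,1]], [[1,0,0,0,0,0,0,0],[0,1,0,0,0,0,0,0],[0,0,1,0,0,0,0,0],[0,0,0,1,0,0,0,0],[0,0,0,0,1,0,0,0],[0,0,0,0,0,1,0,0],[0,0,0,0,0,0,1,0],[0,0,0,0,0,0,0,1]]),
  ([[1,0,1,1,0,0],[1,1]], [[1,1,1,0,0,0,1,1],[0,1,0,0,0,0,0,1],[1,0,0,1,1,0,1,0],[0,1,1,1,0,1,1,0],[0,1,1,0,1,0,1,1],[0,1,0,1,0,0,0,1],[0,0,0,0,1,1,0,0],[0,1,1,1,0,0,1,1]], [[1,1,0,0,0,1,0,1],[0,0,0,1,1,1,1,0],[1,1,1,0,1,0,0,1],[0,1,0,0,0,1,0,0],[0,1,0,0,1,1,0,1],[0,1,0,0,1,1,1,1],[1,1,1,0,1,1,0,0],[0,1,0,1,1,1,1,0]], [[1,0,0,0,0,0,0,0],[0,1,0,0,0,0,0,0],[1,1,1,0,0,0,0,0],[1,1,1,1,0,0,0,0],[0,1,0,1,1,0,0,0],[0,0,1,1,0,1,0,0],[0,1,0,1,0,0,1,0],[1,1,0,0,0,0,1,1]],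 [[1,1,1,0,1,0,1,1],[0,1,1,0,0,0,0,0],[0,0,1,0,0,0,0,1],[0,0,0,1,1,1,0,0],[0,0,0,0,1,0,1,1],[0,0,0,0,0,1,1,0],[0,0,0,0,0,0,1,0],[0,0,0,0,0,0,0,1]], [[1,0,0,0,0,0,0,0],[0,1,0,0,0,0,0,0],[0,0,1,0,0,0,0,0],[0,0,0,1,0,0,0,0],[0,0,0,0,1,0,0,0],[0,0,0,0,0,1,0,0],[0,0,0,0,0,0,1,0],[0,0,0,0,0,0,0,1]]),
  ([[1,0,1,1,0,1],[1,0]], [[1,0,1,0,1,0,1,1],[1,0,1,1,0,1,0,0],[0,0,0,0,1,0,0,1],[0,0,1,0,0,0,0,1],[1,1,1,1,1,1,1,1],[0,0,1,0,0,1,0,1],[0,0,0,1,1,1,0,1],[1,0,0,0,0,1,1,0]], [[1,1,0,1,0,1,1,1],[1,0,1,0,1,0,1,0],[1,0,1,1,0,1,0,1],[0,0,1,1,0,1,1,0],[1,0,0,0,0,1,0,1],[0,0,0,1,0,1,0,0],[1,1,0,0,0,0,1,0],[1,0,1,0,0,1,0,1]], [[1,0,0,0,0,0,0,0],[1,1,0,0,0,0,0,0],[0,0,1,0,0,0,0,0],[1,1,0,1,0,0,0,0],[0,0,0,1,1,0,0,0],[1,1,0,1,1,1,0,0],[0,1,0,0,1,1,1,0],[1,1,0,0,1,1,1,1]],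 [[1,1,0,0,0,0,0,0],[0,1,0,0,1,1,0,1],[0,0,1,1,1,0,1,0],[0,0,0,1,1,0,1,0],[0,0,0,0,1,1,0,1],[0,0,0,0,0,1,1,1],[0,0,0,0,0,0,1,1],[0,0,0,0,0,0,0,1]], [[1,0,0,0,0,0,0,0],[0,1,0,0,0,0,0,0],[0,0,1,0,0,0,0,0],[0,0,0,1,0,0,0,0],[0,0,0,0,1,0,0,0],[0,0,0,0,0,1,0,0],[0,0,0,0,0,0,1,0],[0,0,0,0,0,0,0,1]]),
  ([[1,0,1,1,0,1],[1,1]], [[1,1,0,1,1,1,1,1],[1,1,1,0,0,1,0,0],[0,0,0,1,1,0,1,0],[1,1,0,0,0,1,1,1],[1,0,0,0,1,0,0,1],[0,0,1,1,0,0,0,1],[1,1,1,0,1,1,0,1],[0,0,0,1,1,1,0,1]], [[0,1,0,0,1,0,1,0],[0,1,1,1,1,0,1,1],[1,1,0,1,0,1,1,0],[1,1,1,0,0,1,0,0],[0,1,1,1,0,1,0,0],[1,0,1,0,0,1,1,1],[1,0,1,1,0,0,0,0],[0,0,1,1,0,1,1,0]], [[1,0,0,0,0,0,0,0],[1,1,0,0,0,0,0,0],[0,0,1,0,0,0,0,0],[0,0,1,1,0,0,0,0],[1,1,1,0,1,0,0,0],[1,0,0,0,1,1,0,0],[1,1,0,1,0,1,1,0],[0,1,0,1,0,1,0,1]],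 [[1,1,1,0,0,0,1,0],[0,1,1,0,1,0,0,1],[0,0,1,0,0,0,1,1],[0,0,0,1,0,0,1,0],[0,0,0,0,1,1,0,0],[0,0,0,0,0,1,1,0],[0,0,0,0,0,0,1,0],[0,0,0,0,0,0,0,1]], [[1,0,0,0,0,0,0,0],[0,1,0,0,0,0,0,0],[0,0,1,0,0,0,0,0],[0,0,0,1,0,0,0,0],[0,0,0,0,1,0,0,0],[0,0,0,0,0,1,0,0],[0,0,0,0,0,0,1,0],[0,0,0,0,0,0,0,1]]),
  ([[1,0,1,1,1,0],[1,0]], [[1,1,1,0,1,1,0,0],[0,0,0,0,1,1,0,0],[1,1,1,1,0,0,0,1],[1,1,1,1,1,0,1,0],[0,0,1,1,1,0,0,0],[1,1,1,0,0,1,0,1],[0,1,1,0,1,1,0,1],[0,1,0,0,1,0,0,1]], [[0,0,1,0,1,0,0,1],[1,0,0,0,0,1,0,1],[0,1,1,0,1,1,0,0],[0,1,0,0,1,0,1,1],[0,0,1,0,1,1,1,1],[0,1,1,0,1,1,1,1],[1,0,1,1,0,1,0,0],[1,0,1,0,1,0,1,1]], [[1,0,0,0,0,0,0,0],[0,1,0,0,0,0,0,0],[1,1,1,0,0,0,0,0],[1,1,0,1,0,0,0,0],[0,0,0,1,1,0,0,0],[0,0,0,1,1,1,0,0],[1,0,0,1,1,0,1,0],[0,1,1,0,0,0,1,1]],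 [[1,1,0,1,1,0,0,1],[0,1,0,1,0,0,1,1],[0,0,1,0,0,1,1,1],[0,0,0,1,0,0,1,1],[0,0,0,0,1,0,0,1],[0,0,0,0,0,1,1,1],[0,0,0,0,0,0,1,0],[0,0,0,0,0,0,0,1]], [[1,0,0,0,0,0,0,0],[0,1,0,0,0,0,0,0],[0,0,1,0,0,0,0,0],[0,0,0,1,0,0,0,0],[0,0,0,0,1,0,0,0],[0,0,0,0,0,1,0,0],[0,0,0,0,0,0,1,0],[0,0,0,0,0,0,0,1]]),
  ([[1,0,1,1,1,0],[1,1]], [[0,0,0,0,1,0,0,0],[0,1,1,1,1,1,0,0],[1,1,0,0,0,1,0,1],[0,1,0,0,0,0,1,0],[0,0,1,0,1,0,1,1],[1,0,0,1,1,1,0,1],[0,0,1,1,1,0,1,0],[0,1,0,0,0,0,0,0]], [[1,1,0,1,1,1,0,0],[0,0,0,0,0,0,0,1],[0,0,1,1,0,1,1,0],[1,0,1,0,0,1,0,1],[1,0,0,0,0,0,0,0],[0,1,0,1,0,0,1,0],[0,0,0,1,0,0,0,1],[1,0,1,0,1,1,1,1]], [[1,0,0,0,0,0,0,0],[0,1,0,0,0,0,0,0],[0,0,1,0,0,0,0,0],[1,1,0,1,0,0,0,0],[1,0,0,1,1,0,0,0],[1,0,1,0,1,1,0,0],[0,1,1,1,0,1,1,0],[1,1,0,0,1,1,1,1]],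 [[1,1,1,1,1,1,0,1],[0,1,1,1,1,1,1,0],[0,0,1,1,0,0,1,0],[0,0,0,1,0,0,1,0],[0,0,0,0,1,1,1,1],[0,0,0,0,0,1,0,0],[0,0,0,0,0,0,1,1],[0,0,0,0,0,0,0,1]], [[1,0,0,0,0,0,0,0],[0,1,0,0,0,0,0,0],[0,0,1,0,0,0,0,0],[0,0,0,1,0,0,0,0],[0,0,0,0,1,0,0,0],[0,0,0,0,0,1,0,0],[0,0,0,0,0,0,1,0],[0,0,0,0,0,0,0,1]]),
  ([[1,0,1,1,1,1],[1,0]], [[0,0,0,0,1,0,0,0],[0,1,0,1,1,0,0,1],[0,1,1,1,0,1,0,0],[0,1,0,0,1,0,1,0],[1,0,0,1,1,0,1,1],[0,0,0,0,0,0,1,0],[0,1,0,1,0,0,1,0],[0,0,1,1,0,0,0,1]], [[1,1,0,1,1,0,0,0],[1,0,0,1,0,1,0,0],[0,1,0,1,0,1,0,1],[1,0,0,1,0,0,1,0],[1,0,0,0,0,0,0,0],[0,1,1,1,0,0,1,1],[0,0,0,0,0,1,0,0],[1,1,0,0,0,1,1,0]], [[1,0,0,0,0,0,0,0],[0,1,0,0,0,0,0,0],[1,0,1,0,0,0,0,0],[0,0,0,1,0,0,0,0],[0,0,0,1,1,0,0,0],[1,0,1,0,1,1,0,0],[0,0,1,1,1,0,1,0],[0,1,1,1,0,0,0,1]],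 [[1,0,0,1,1,1,1,0],[0,1,0,0,0,1,1,0],[0,0,1,1,1,0,0,0],[0,0,0,1,1,0,1,1],[0,0,0,0,1,1,0,1],[0,0,0,0,0,1,0,0],[0,0,0,0,0,0,1,1],[0,0,0,0,0,0,0,1]], [[1,0,0,0,0,0,0,0],[0,1,0,0,0,0,0,0],[0,0,1,0,0,0,0,0],[0,0,0,1,0,0,0,0],[0,0,0,0,1,0,0,0],[0,0,0,0,0,1,0,0],[0,0,0,0,0,0,1,0],[0,0,0,0,0,0,0,1]]),
  ([[1,0,1,1,1,1],[1,1]], [[1,0,1,1,1,0,0,1],[1,1,0,1,1,0,1,1],[1,1,1,1,1,0,0,1],[1,0,1,1,1,1,1,0],[1,0,0,0,1,1,1,1],[1,0,1,0,0,0,1,0],[0,0,0,0,1,1,0,1],[0,0,0,1,1,1,0,1]], [[0,1,1,0,0,1,0,0],[1,0,1,0,0,0,0,0],[0,0,0,0,1,1,1,0],[0,0,0,0,0,0,1,1],[1,1,1,1,1,1,0,0],[1,1,1,0,1,0,1,1],[0,1,1,0,1,1,1,0],[0,0,0,1,0,1,0,1]], [[1,0,0,0,0,0,0,0],[1,1,0,0,0,0,0,0],[1,1,1,0,0,0,0,0],[0,1,0,1,0,0,0,0],[0,0,0,1,1,0,0,0],[1,0,1,1,0,1,0,0],[1,0,1,1,1,0,1,0],[1,0,0,0,1,0,1,1]],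 [[1,1,1,1,1,1,0,0],[0,1,1,0,0,0,0,1],[0,0,1,0,1,1,0,1],[0,0,0,1,1,0,1,1],[0,0,0,0,1,1,1,1],[0,0,0,0,0,1,1,1],[0,0,0,0,0,0,1,1],[0,0,0,0,0,0,0,1]], [[1,0,0,0,0,0,0,0],[0,1,0,0,0,0,0,0],[0,0,1,0,0,0,0,0],[0,0,0,1,0,0,0,0],[0,0,0,0,1,0,0,0],[0,0,0,0,0,1,0,0],[0,0,0,0,0,0,1,0],[0,0,0,0,0,0,0,1]]),
  ([[1,1,0,0,0,0],[1,0]], [[1,0,1,1,0,1,0,0],[1,0,1,0,1,0,1,1],[1,0,1,1,1,0,0,0],[0,1,1,1,1,1,0,1],[0,0,1,0,1,1,1,0],[0,0,1,1,1,0,0,1],[1,0,0,0,0,0,0,0],[0,1,0,0,1,0,1,1]], [[0,0,0,0,0,0,1,0],[0,1,1,1,1,0,0,0],[0,0,1,1,1,0,1,1],[1,1,0,1,0,1,0,1],[1,1,0,0,1,1,0,0],[0,1,1,0,1,1,0,0],[1,0,0,1,0,0,1,1],[0,0,1,0,0,1,1,0]], [[1,0,0,0,0,0,0,0],[0,1,0,0,0,0,0,0],[0,0,1,0,0,0,0,0],[1,0,1,1,0,0,0,0],[0,1,1,1,1,0,0,0],[1,1,1,0,1,1,0,0],[0,0,0,1,1,1,1,0],[1,1,0,0,0,0,1,1]],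 [[1,0,1,0,1,0,1,0],[0,1,1,1,1,1,1,0],[0,0,1,0,1,1,1,1],[0,0,0,1,0,1,0,0],[0,0,0,0,1,0,1,0],[0,0,0,0,0,1,1,0],[0,0,0,0,0,0,1,1],[0,0,0,0,0,0,0,1]], [[1,0,0,0,0,0,0,0],[0,1,0,0,0,0,0,0],[0,0,1,0,0,0,0,0],[0,0,0,1,0,0,0,0],[0,0,0,0,1,0,0,0],[0,0,0,0,0,1,0,0],[0,0,0,0,0,0,1,0],[0,0,0,0,0,0,0,1]]),
  ([[1,1,0,0,0,0],[1,1]], [[0,1,0,1,0,0,0,0],[0,1,1,0,0,1,1,0],[0,0,1,0,0,0,0,1],[1,0,0,1,0,0,1,1],[0,0,0,0,1,1,1,0],[0,0,0,1,1,1,1,0],[1,1,0,0,1,1,0,0],[1,1,1,1,0,0,0,0]], [[0,0,1,1,1,0,1,1],[1,0,0,0,1,1,0,0],[1,0,1,1,1,0,1,0],[0,0,0,0,1,1,0,0],[0,1,1,1,1,1,1,0],[1,1,0,0,1,0,1,1],[1,0,1,1,1,1,0,1],[1,0,0,1,1,0,1,0]], [[1,0,0,0,0,0,0,0],[1,1,0,0,0,0,0,0],[0,1,1,0,0,0,0,0],[1,0,0,1,0,0,0,0],[1,0,0,1,1,0,0,0],[1,1,1,0,0,1,0,0],[0,0,1,1,1,1,1,0],[1,0,0,1,1,0,0,1]],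 [[1,1,1,0,0,1,0,1],[0,1,0,1,0,0,0,1],[0,0,1,0,0,0,1,0],[0,0,0,1,0,0,0,1],[0,0,0,0,1,0,1,0],[0,0,0,0,0,1,0,0],[0,0,0,0,0,0,1,1],[0,0,0,0,0,0,0,1]], [[1,0,0,0,0,0,0,0],[0,1,0,0,0,0,0,0],[0,0,1,0,0,0,0,0],[0,0,0,1,0,0,0,0],[0,0,0,0,1,0,0,0],[0,0,0,0,0,1,0,0],[0,0,0,0,0,0,1,0],[0,0,0,0,0,0,0,1]]),
  ([[1,1,0,0,0,1],[1,0]], [[0,0,0,1,0,1,1,0],[0,0,1,0,0,0,1,1],[0,0,0,0,0,1,0,1],[1,1,0,1,0,1,0,1],[1,1,0,1,1,1,1,0],[0,1,1,0,1,0,1,1],[0,1,0,1,1,1,1,1],[0,1,1,1,1,0,1,0]], [[1,1,0,0,1,1,0,0],[0,0,1,1,1,1,1,1],[0,0,1,0,0,0,1,1],[1,1,0,0,0,0,1,1],[0,1,1,1,1,0,1,1],[1,1,1,0,0,1,1,0],[1,0,1,0,0,1,0,1],[1,1,0,0,0,1,1,0]], [[1,0,0,0,0,0,0,0],[1,1,0,0,0,0,0,0],[0,1,1,0,0,0,0,0],[0,0,0,1,0,0,0,0],[1,1,0,0,1,0,0,0],[1,0,1,0,0,1,0,0],[0,1,1,1,1,1,1,0],[0,1,0,0,1,0,0,1]],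 [[1,1,0,1,1,1,0,1],[0,1,1,1,1,1,1,0],[0,0,1,1,0,0,0,0],[0,0,0,1,0,0,0,0],[0,0,0,0,1,0,0,0],[0,0,0,0,0,1,0,0],[0,0,0,0,0,0,1,0],[0,0,0,0,0,0,0,1]], [[1,0,0,0,0,0,0,0],[0,1,0,0,0,0,0,0],[0,0,1,0,0,0,0,0],[0,0,0,1,0,0,0,0],[0,0,0,0,1,0,0,0],[0,0,0,0,0,1,0,0],[0,0,0,0,0,0,1,0],[0,0,0,0,0,0,0,1]]),
  ([[1,1,0,0,0,1],[1,1]], [[0,0,0,1,1,0,0,0],[1,0,0,1,0,0,0,0],[1,1,0,1,1,1,0,0],[0,1,1,0,1,1,0,0],[1,0,1,0,1,0,0,1],[1,1,0,0,0,0,0,1],[1,0,0,0,0,0,0,0],[0,0,1,1,1,0,1,1]], [[0,0,0,0,0,0,1,0],[1,0,1,1,1,1,1,0],[0,1,1,1,0,0,0,0],[0,1,0,0,0,0,1,0],[1,1,0,0,0,0,1,0],[0,0,0,1,1,1,0,0],[0,1,0,0,1,0,0,1],[1,0,1,1,1,0,0,0]], [[1,0,0,0,0,0,0,0],[1,1,0,0,0,0,0,0],[1,1,1,0,0,0,0,0],[1,0,1,1,0,0,0,0],[1,1,1,1,1,0,0,0],[0,1,1,0,0,1,0,0],[0,1,0,0,1,0,1,0],[0,0,1,0,0,0,0,1]],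 [[1,0,1,1,0,1,1,1],[0,1,1,0,0,1,1,0],[0,0,1,1,0,1,1,1],[0,0,0,1,0,1,1,0],[0,0,0,0,1,1,0,1],[0,0,0,0,0,1,0,0],[0,0,0,0,0,0,1,1],[0,0,0,0,0,0,0,1]], [[1,0,0,0,0,0,0,0],[0,1,0,0,0,0,0,0],[0,0,1,0,0,0,0,0],[0,0,0,1,0,0,0,0],[0,0,0,0,1,0,0,0],[0,0,0,0,0,1,0,0],[0,0,0,0,0,0,1,0],[0,0,0,0,0,0,0,1]]),
  ([[1,1,0,0,1,0],[1,0]], [[0,1,1,0,0,1,1,0],[1,0,1,0,1,1,1,0],[1,0,0,1,0,1,0,0],[0,1,1,1,0,1,0,0],[0,0,0,0,1,1,1,1],[0,0,1,0,1,1,0,1],[1,1,0,0,0,0,0,1],[1,1,0,0,0,0,1,1]], [[0,1,1,1,1,0,1,0],[0,1,0,0,0,1,0,1],[0,0,0,0,1,1,1,1],[1,0,0,1,0,0,1,1],[1,1,1,1,1,1,1,1],[1,1,0,0,1,0,0,1],[0,0,0,0,0,0,1,1],[0,0,1,1,1,1,0,1]], [[1,0,0,0,0,0,0,0],[1,1,0,0,0,0,0,0],[1,0,1,0,0,0,0,0],[1,1,0,1,0,0,0,0],[0,1,0,0,1,0,0,0],[0,1,0,1,0,1,0,0],[0,1,1,0,0,0,1,0],[1,0,0,1,0,0,0,1]],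 [[1,0,0,0,1,1,0,1],[0,1,1,1,1,1,0,1],[0,0,1,0,1,1,0,0],[0,0,0,1,1,1,0,1],[0,0,0,0,1,0,1,0],[0,0,0,0,0,1,0,1],[0,0,0,0,0,0,1,0],[0,0,0,0,0,0,0,1]], [[1,0,0,0,0,0,0,0],[0,1,0,0,0,0,0,0],[0,0,1,0,0,0,0,0],[0,0,0,1,0,0,0,0],[0,0,0,0,1,0,0,0],[0,0,0,0,0,1,0,0],[0,0,0,0,0,0,1,0],[0,0,0,0,0,0,0,1]]),
  ([[1,1,0,0,1,0],[1,1]], [[0,0,0,1,1,1,0,1],[1,1,1,1,0,0,1,1],[1,0,1,0,1,1,0,0],[0,0,1,0,1,1,0,1],[0,1,0,0,0,1,0,1],[0,0,0,1,1,0,1,1],[1,1,0,1,1,1,0,0],[0,0,0,1,0,0,1,1]], [[0,1,0,1,1,1,0,0],[1,0,1,1,0,0,1,0],[1,0,1,0,1,1,1,1],[0,0,1,1,1,1,1,1],[0,0,0,0,0,1,0,1],[1,1,0,1,0,1,1,0],[0,1,0,1,0,0,1,0],[0,1,1,0,1,1,0,0]], [[1,0,0,0,0,0,0,0],[0,1,0,0,0,0,0,0],[0,1,1,0,0,0,0,0],[1,0,1,1,0,0,0,0],[0,0,0,0,1,0,0,0],[0,0,0,1,0,1,0,0],[0,1,1,0,0,1,1,0],[0,0,1,1,0,0,0,1]],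 [[1,0,0,0,0,0,0,0],[0,1,1,1,1,0,0,1],[0,0,1,1,1,1,0,0],[0,0,0,1,0,0,0,1],[0,0,0,0,1,0,1,0],[0,0,0,0,0,1,0,1],[0,0,0,0,0,0,1,1],[0,0,0,0,0,0,0,1]], [[1,0,0,0,0,0,0,0],[0,1,0,0,0,0,0,0],[0,0,1,0,0,0,0,0],[0,0,0,1,0,0,0,0],[0,0,0,0,1,0,0,0],[0,0,0,0,0,1,0,0],[0,0,0,0,0,0,1,0],[0,0,0,0,0,0,0,1]]),
  ([[1,1,0,0,1,1],[1,0]], [[0,0,0,0,0,0,1,0],[1,0,0,0,0,0,1,0],[1,1,1,0,0,1,0,0],[1,0,0,0,0,0,1,1],[0,1,1,0,1,0,0,0],[0,0,1,0,1,1,1,0],[1,0,1,1,0,0,0,0],[1,0,0,0,0,1,1,0]], [[1,1,0,0,0,0,0,0],[1,1,0,0,1,1,0,1],[0,1,1,0,1,1,0,0],[1,0,1,0,1,1,1,0],[1,0,1,0,1,0,0,1],[0,1,0,0,0,0,0,1],[1,0,0,0,0,0,0,0],[0,1,0,1,0,0,0,0]], [[1,0,0,0,0,0,0,0],[0,1,0,0,0,0,0,0],[0,0,1,0,0,0,0,0],[1,0,0,1,0,0,0,0],[0,0,0,0,1,0,0,0],[1,1,0,0,1,1,0,0],[0,0,0,0,1,0,1,0],[1,0,1,1,0,1,0,1]],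 [[1,1,1,1,1,1,1,0],[0,1,1,0,1,0,1,0],[0,0,1,0,1,1,0,1],[0,0,0,1,0,1,1,0],[0,0,0,0,1,1,0,0],[0,0,0,0,0,1,0,0],[0,0,0,0,0,0,1,1],[0,0,0,0,0,0,0,1]], [[1,0,0,0,0,0,0,0],[0,1,0,0,0,0,0,0],[0,0,1,0,0,0,0,0],[0,0,0,1,0,0,0,0],[0,0,0,0,1,0,0,0],[0,0,0,0,0,1,0,0],[0,0,0,0,0,0,1,0],[0,0,0,0,0,0,0,1]]),
  ([[1,1,0,0,1,1],[1,1]], [[1,1,0,0,0,0,0,0],[1,1,0,0,0,0,1,1],[0,0,1,1,0,0,0,1],[1,0,0,0,1,0,1,1],[1,0,1,1,0,1,0,1],[1,0,0,1,1,0,0,0],[1,1,1,1,1,0,1,1],[1,0,0,0,0,0,1,1]], [[1,1,0,0,0,0,0,1],[0,1,0,0,0,0,0,1],[1,0,0,0,0,1,1,1],[1,1,0,1,0,1,0,0],[0,0,0,1,0,0,0,1],[1,1,1,0,1,0,0,1],[1,0,1,1,0,0,1,1],[0,1,1,1,0,0,1,1]], [[1,0,0,0,0,0,0,0],[1,1,0,0,0,0,0,0],[1,0,1,0,0,0,0,0],[0,1,0,1,0,0,0,0],[0,0,0,0,1,0,0,0],[0,0,0,1,0,1,0,0],[1,0,1,0,1,1,1,0],[0,1,1,1,0,0,1,1]],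 [[1,1,1,1,1,0,0,0],[0,1,0,1,0,0,1,0],[0,0,1,0,0,0,1,1],[0,0,0,1,0,0,0,0],[0,0,0,0,1,1,1,0],[0,0,0,0,0,1,0,1],[0,0,0,0,0,0,1,1],[0,0,0,0,0,0,0,1]], [[1,0,0,0,0,0,0,0],[0,1,0,0,0,0,0,0],[0,0,1,0,0,0,0,0],[0,0,0,1,0,0,0,0],[0,0,0,0,1,0,0,0],[0,0,0,0,0,1,0,0],[0,0,0,0,0,0,1,0],[0,0,0,0,0,0,0,1]]),
  ([[1,1,0,1,0,0],[1,0]], [[0,1,1,1,1,1,0,1],[0,0,0,1,0,1,1,1],[1,0,0,1,0,0,0,1],[0,1,0,1,0,0,1,1],[1,1,0,1,0,1,0,0],[0,0,1,0,1,0,1,1],[0,0,1,1,0,0,0,1],[0,1,1,1,0,0,1,0]], [[0,1,0,0,1,0,1,1],[1,0,1,1,1,1,0,0],[0,1,1,0,1,0,0,1],[0,0,0,1,0,0,1,1],[1,1,0,1,0,0,1,0],[1,1,1,0,1,1,0,0],[1,1,0,0,0,1,1,1],[0,1,1,1,1,0,0,0]], [[1,0,0,0,0,0,0,0],[1,1,0,0,0,0,0,0],[1,1,1,0,0,0,0,0],[1,1,1,1,0,0,0,0],[0,1,0,1,1,0,0,0],[0,1,0,1,1,1,0,0],[0,1,0,0,0,0,1,0],[1,0,0,0,0,0,1,1]],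 [[1,0,0,0,1,1,1,1],[0,1,1,1,0,1,0,0],[0,0,1,1,1,1,1,1],[0,0,0,1,1,0,1,1],[0,0,0,0,1,0,1,1],[0,0,0,0,0,1,1,0],[0,0,0,0,0,0,1,0],[0,0,0,0,0,0,0,1]], [[1,0,0,0,0,0,0,0],[0,1,0,0,0,0,0,0],[0,0,1,0,0,0,0,0],[0,0,0,1,0,0,0,0],[0,0,0,0,1,0,0,0],[0,0,0,0,0,1,0,0],[0,0,0,0,0,0,1,0],[0,0,0,0,0,0,0,1]]),
  ([[1,1,0,1,0,0],[1,1]], [[1,0,1,0,0,0,1,0],[0,0,1,0,0,1,1,0],[1,1,1,1,0,1,0,0],[1,0,1,0,0,1,0,1],[0,1,0,0,0,0,1,1],[1,0,1,1,1,1,0,0],[1,1,1,0,1,0,0,1],[0,1,0,1,1,0,1,1]], [[1,1,1,1,0,1,1,0],[1,0,1,0,1,1,1,0],[1,1,0,0,1,1,0,1],[1,0,0,0,0,0,1,1],[1,0,0,0,1,0,1,0],[0,0,1,1,0,1,1,0],[1,0,1,1,1,0,1,1],[0,0,0,1,1,1,0,1]], [[1,0,0,0,0,0,0,0],[0,1,0,0,0,0,0,0],[0,1,1,0,0,0,0,0],[0,1,1,1,0,0,0,0],[1,0,1,1,1,0,0,0],[1,1,0,1,0,1,0,0],[1,1,1,1,1,0,1,0],[0,0,0,1,1,0,0,1]],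 [[1,0,1,0,0,0,0,1],[0,1,1,0,1,0,1,0],[0,0,1,1,1,1,1,1],[0,0,0,1,1,0,0,0],[0,0,0,0,1,1,1,1],[0,0,0,0,0,1,0,1],[0,0,0,0,0,0,1,0],[0,0,0,0,0,0,0,1]], [[1,0,0,0,0,0,0,0],[0,1,0,0,0,0,0,0],[0,0,1,0,0,0,0,0],[0,0,0,1,0,0,0,0],[0,0,0,0,1,0,0,0],[0,0,0,0,0,1,0,0],[0,0,0,0,0,0,1,0],[0,0,0,0,0,0,0,1]]),
  ([[1,1,0,1,0,1],[1,0]], [[1,1,0,1,0,1,0,1],[1,1,1,1,0,1,1,1],[1,0,1,1,1,0,0,1],[1,1,0,0,0,0,1,1],[0,1,1,1,1,0,0,1],[1,1,0,0,0,1,0,0],[0,0,1,1,0,0,0,1],[1,1,1,0,1,1,1,1]], [[1,0,0,1,1,0,0,1],[1,0,1,1,0,0,0,1],[1,0,0,0,0,1,1,0],[1,1,1,1,1,0,1,0],[1,0,1,1,1,0,1,1],[0,0,1,0,1,1,0,0],[0,1,0,0,0,1,1,0],[0,1,1,1,1,1,1,0]], [[1,0,0,0,0,0,0,0],[0,1,0,0,0,0,0,0],[1,1,1,0,0,0,0,0],[0,1,1,1,0,0,0,0],[1,0,1,0,1,0,0,0],[1,0,1,1,1,1,0,0],[1,0,0,1,0,1,1,0],[0,0,1,1,1,1,1,1]],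 [[1,0,0,0,1,0,1,0],[0,1,1,1,0,0,1,0],[0,0,1,1,1,1,1,1],[0,0,0,1,1,1,0,1],[0,0,0,0,1,0,1,1],[0,0,0,0,0,1,1,1],[0,0,0,0,0,0,1,0],[0,0,0,0,0,0,0,1]], [[1,0,0,0,0,0,0,0],[0,1,0,0,0,0,0,0],[0,0,1,0,0,0,0,0],[0,0,0,1,0,0,0,0],[0,0,0,0,1,0,0,0],[0,0,0,0,0,1,0,0],[0,0,0,0,0,0,1,0],[0,0,0,0,0,0,0,1]]),
  ([[1,1,0,1,0,1],[1,1]], [[1,0,0,1,1,0,1,0],[0,1,1,0,0,0,1,0],[1,0,1,0,1,0,0,1],[1,0,0,1,1,0,0,1],[0,0,0,0,0,0,0,1],[0,0,0,1,1,0,1,1],[0,1,0,1,0,1,1,0],[1,1,0,1,1,0,0,0]], [[1,0,0,0,1,1,0,0],[0,0,0,1,1,0,0,1],[1,1,0,0,0,0,0,1],[1,1,1,1,0,0,0,1],[0,1,1,0,0,1,0,1],[0,1,1,1,0,0,1,0],[1,0,0,1,1,0,0,0],[0,0,0,0,1,0,0,0]], [[1,0,0,0,0,0,0,0],[1,1,0,0,0,0,0,0],[0,0,1,0,0,0,0,0],[1,1,0,1,0,0,0,0],[1,0,0,0,1,0,0,0],[0,0,1,0,1,1,0,0],[1,1,0,1,0,0,1,0],[1,0,0,0,1,0,1,1]],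 [[1,1,0,0,0,1,1,0],[0,1,0,1,1,1,1,1],[0,0,1,1,1,1,0,0],[0,0,0,1,0,0,1,0],[0,0,0,0,1,1,1,1],[0,0,0,0,0,1,1,0],[0,0,0,0,0,0,1,1],[0,0,0,0,0,0,0,1]], [[1,0,0,0,0,0,0,0],[0,1,0,0,0,0,0,0],[0,0,1,0,0,0,0,0],[0,0,0,1,0,0,0,0],[0,0,0,0,1,0,0,0],[0,0,0,0,0,1,0,0],[0,0,0,0,0,0,1,0],[0,0,0,0,0,0,0,1]]),
  ([[1,1,0,1,1,0],[1,0]], [[0,1,1,1,1,0,0,0],[0,0,1,0,0,1,1,1],[1,1,1,0,1,1,1,0],[1,0,1,1,1,0,0,1],[0,1,1,1,1,1,0,0],[0,1,0,0,0,1,0,0],[1,1,0,0,1,0,0,0],[1,1,1,1,0,1,1,0]], [[0,1,1,1,1,1,1,0],[1,0,0,0,1,1,0,0],[0,0,1,0,1,1,0,1],[1,1,0,1,0,0,0,1],[1,1,1,1,0,0,0,0],[1,0,0,0,1,0,0,0],[1,0,0,0,0,1,1,1],[0,1,1,0,0,0,1,0]], [[1,0,0,0,0,0,0,0],[1,1,0,0,0,0,0,0],[0,1,1,0,0,0,0,0],[1,1,0,1,0,0,0,0],[0,1,1,1,1,0,0,0],[1,0,1,0,1,1,0,0],[0,1,0,0,1,1,1,0],[0,1,0,1,0,0,0,1]],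 [[1,1,0,0,0,1,0,1],[0,1,1,1,0,1,0,0],[0,0,1,0,0,1,1,0],[0,0,0,1,1,1,1,0],[0,0,0,0,1,0,1,0],[0,0,0,0,0,1,0,0],[0,0,0,0,0,0,1,0],[0,0,0,0,0,0,0,1]], [[1,0,0,0,0,0,0,0],[0,1,0,0,0,0,0,0],[0,0,1,0,0,0,0,0],[0,0,0,1,0,0,0,0],[0,0,0,0,1,0,0,0],[0,0,0,0,0,1,0,0],[0,0,0,0,0,0,1,0],[0,0,0,0,0,0,0,1]]),
  ([[1,1,0,1,1,0],[1,1]], [[1,0,1,0,1,0,1,0],[1,1,0,0,1,1,0,0],[1,0,0,1,0,1,0,0],[0,1,0,0,0,1,1,1],[0,1,1,1,0,1,1,0],[0,0,0,1,0,1,0,0],[0,1,0,0,0,0,0,0],[0,1,1,1,1,1,1,1]], [[0,0,1,0,0,1,0,0],[0,0,0,0,0,0,1,0],[0,1,1,1,0,0,1,1],[1,1,0,0,1,0,0,0],[1,0,1,0,1,0,1,0],[1,1,0,0,1,1,0,0],[0,1,1,1,1,1,0,1],[1,0,1,0,0,0,1,1]], [[1,0,0,0,0,0,0,0],[0,1,0,0,0,0,0,0],[0,1,1,0,0,0,0,0],[1,0,0,1,0,0,0,0],[0,0,0,0,1,0,0,0],[0,1,0,1,0,1,0,0],[1,1,0,0,0,0,1,0],[1,1,0,0,0,0,1,1]],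 [[1,0,1,1,1,1,0,0],[0,1,0,1,0,1,1,1],[0,0,1,1,1,0,1,0],[0,0,0,1,0,0,1,0],[0,0,0,0,1,1,0,0],[0,0,0,0,0,1,1,0],[0,0,0,0,0,0,1,0],[0,0,0,0,0,0,0,1]], [[1,0,0,0,0,0,0,0],[0,1,0,0,0,0,0,0],[0,0,1,0,0,0,0,0],[0,0,0,1,0,0,0,0],[0,0,0,0,1,0,0,0],[0,0,0,0,0,1,0,0],[0,0,0,0,0,0,1,0],[0,0,0,0,0,0,0,1]]),
  ([[1,1,0,1,1,1],[1,0]], [[0,1,1,1,1,0,0,0],[0,0,1,0,1,0,0,1],[1,1,0,0,1,1,1,0],[1,0,0,0,1,1,0,1],[1,0,0,1,0,1,1,0],[0,0,1,0,1,1,0,0],[1,1,1,1,0,0,1,0],[1,1,1,1,1,1,0,1]], [[1,1,0,0,0,1,0,1],[1,0,0,1,1,1,1,1],[1,0,1,0,1,0,0,0],[0,0,1,0,0,1,1,0],[1,0,0,1,0,0,0,1],[0,0,1,1,1,1,0,1],[1,1,0,1,0,1,1,0],[0,1,1,1,1,0,0,1]], [[1,0,0,0,0,0,0,0],[1,1,0,0,0,0,0,0],[1,0,1,0,0,0,0,0],[1,1,1,1,0,0,0,0],[1,1,1,0,1,0,0,0],[1,1,0,0,0,1,0,0],[0,1,1,1,0,0,1,0],[1,1,1,1,1,0,0,1]],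 [[1,1,1,0,0,0,1,1],[0,1,0,1,0,0,1,1],[0,0,1,0,1,1,0,0],[0,0,0,1,1,1,0,0],[0,0,0,0,1,1,1,0],[0,0,0,0,0,1,0,0],[0,0,0,0,0,0,1,0],[0,0,0,0,0,0,0,1]], [[1,0,0,0,0,0,0,0],[0,1,0,0,0,0,0,0],[0,0,1,0,0,0,0,0],[0,0,0,1,0,0,0,0],[0,0,0,0,1,0,0,0],[0,0,0,0,0,1,0,0],[0,0,0,0,0,0,1,0],[0,0,0,0,0,0,0,1]]),
  ([[1,1,0,1,1,1],[1,1]], [[1,0,0,0,0,0,0,0],[1,1,0,1,0,1,0,1],[1,1,0,1,0,0,0,1],[1,0,1,1,1,0,1,0],[1,0,1,0,0,1,1,1],[1,0,1,0,0,0,0,1],[1,1,1,1,1,1,0,1],[1,0,0,1,0,1,0,1]], [[1,0,0,0,0,0,0,0],[0,1,0,0,0,0,0,1],[1,1,0,1,1,0,1,1],[1,0,1,1,1,1,1,0],[1,0,0,1,1,0,0,1],[0,1,1,0,0,0,0,0],[0,1,1,0,1,1,0,0],[0,1,0,1,1,1,1,1]], [[1,0,0,0,0,0,0,0],[0,1,0,0,0,0,0,0],[0,0,1,0,0,0,0,0],[1,1,1,1,0,0,0,0],[0,0,1,0,1,0,0,0],[1,0,0,1,0,1,0,0],[0,0,1,0,1,0,1,0],[0,0,0,0,0,1,1,1]],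 [[1,0,0,0,0,1,1,0],[0,1,0,1,1,1,1,0],[0,0,1,1,1,0,0,0],[0,0,0,1,1,0,1,1],[0,0,0,0,1,0,1,0],[0,0,0,0,0,1,0,1],[0,0,0,0,0,0,1,1],[0,0,0,0,0,0,0,1]], [[1,0,0,0,0,0,0,0],[0,1,0,0,0,0,0,0],[0,0,1,0,0,0,0,0],[0,0,0,1,0,0,0,0],[0,0,0,0,1,0,0,0],[0,0,0,0,0,1,0,0],[0,0,0,0,0,0,1,0],[0,0,0,0,0,0,0,1]]),
  ([[1,1,1,0,0,0],[1,0]], [[1,1,0,1,1,0,0,0],[0,1,0,0,1,1,0,0],[0,0,1,0,1,0,1,0],[1,1,0,0,1,1,1,1],[1,1,1,1,1,1,0,1],[0,0,1,0,1,0,1,1],[0,1,0,1,0,1,1,0],[0,1,0,0,0,1,0,1]], [[0,0,0,0,1,1,1,0],[1,0,1,1,0,1,1,0],[0,0,1,1,1,1,1,1],[0,1,0,1,1,1,0,1],[0,1,1,0,0,1,0,1],[1,0,0,1,0,0,1,1],[0,1,1,1,1,0,1,0],[0,0,1,0,0,1,0,0]], [[1,0,0,0,0,0,0,0],[1,1,0,0,0,0,0,0],[0,0,1,0,0,0,0,0],[1,0,1,1,0,0,0,0],[0,1,0,1,1,0,0,0],[0,1,1,1,0,1,0,0],[0,1,0,0,1,1,1,0],[1,0,1,1,0,1,0,1]],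 [[1,0,1,1,1,0,1,0],[0,1,1,1,0,1,1,1],[0,0,1,1,1,0,1,1],[0,0,0,1,1,1,0,1],[0,0,0,0,1,1,1,0],[0,0,0,0,0,1,0,1],[0,0,0,0,0,0,1,1],[0,0,0,0,0,0,0,1]], [[1,0,0,0,0,0,0,0],[0,1,0,0,0,0,0,0],[0,0,1,0,0,0,0,0],[0,0,0,1,0,0,0,0],[0,0,0,0,1,0,0,0],[0,0,0,0,0,1,0,0],[0,0,0,0,0,0,1,0],[0,0,0,0,0,0,0,1]]),
  ([[1,1,1,0,0,0],[1,1]], [[1,1,1,1,1,0,0,0],[0,1,1,1,1,1,1,1],[1,1,0,0,1,0,0,1],[0,1,1,1,1,1,1,0],[1,1,0,0,0,0,1,1],[0,0,0,0,0,1,0,0],[1,0,1,1,1,0,1,0],[1,0,1,0,1,1,0,1]], [[1,1,0,1,1,0,1,0],[1,1,0,0,1,1,0,0],[1,1,1,0,1,0,0,1],[0,0,0,1,1,0,0,1],[0,1,1,0,0,1,1,0],[0,0,0,0,0,1,0,0],[0,1,0,0,1,1,1,0],[0,1,0,1,0,0,0,0]], [[1,0,0,0,0,0,0,0],[0,1,0,0,0,0,0,0],[1,1,1,0,0,0,0,0],[1,0,1,1,0,0,0,0],[0,0,1,0,1,0,0,0],[1,1,0,1,0,1,0,0],[0,1,1,1,0,0,1,0],[1,1,1,0,0,0,0,1]],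 [[1,1,0,1,0,1,1,0],[0,1,1,0,1,1,1,0],[0,0,1,0,0,0,1,1],[0,0,0,1,0,1,1,1],[0,0,0,0,1,1,1,0],[0,0,0,0,0,1,0,0],[0,0,0,0,0,0,1,0],[0,0,0,0,0,0,0,1]], [[1,0,0,0,0,0,0,0],[0,1,0,0,0,0,0,0],[0,0,1,0,0,0,0,0],[0,0,0,1,0,0,0,0],[0,0,0,0,1,0,0,0],[0,0,0,0,0,1,0,0],[0,0,0,0,0,0,1,0],[0,0,0,0,0,0,0,1]]),
  ([[1,1,1,0,0,1],[1,0]], [[1,1,0,1,0,0,1,1],[0,1,0,0,0,1,1,1],[0,0,1,0,0,0,1,1],[0,1,0,1,1,1,0,0],[0,0,1,0,1,0,1,0],[1,0,0,0,1,0,0,0],[1,0,1,0,1,0,1,0],[1,1,1,0,1,1,1,0]], [[0,0,0,0,1,0,1,0],[1,1,0,1,0,1,0,0],[0,1,1,0,0,0,1,1],[0,0,0,1,1,1,0,1],[0,0,0,0,1,1,1,0],[1,1,0,1,0,1,1,1],[0,1,1,0,0,1,0,1],[0,0,1,0,0,1,1,0]], [[1,0,0,0,0,0,0,0],[1,1,0,0,0,0,0,0],[0,0,1,0,0,0,0,0],[1,0,0,1,0,0,0,0],[1,1,0,1,1,0,0,0],[0,0,1,0,1,1,0,0],[1,0,0,1,0,1,1,0],[1,1,0,1,1,0,1,1]],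 [[1,1,1,0,0,1,0,1],[0,1,1,0,0,1,1,0],[0,0,1,0,1,0,1,0],[0,0,0,1,0,0,1,0],[0,0,0,0,1,0,0,1],[0,0,0,0,0,1,0,0],[0,0,0,0,0,0,1,1],[0,0,0,0,0,0,0,1]], [[1,0,0,0,0,0,0,0],[0,1,0,0,0,0,0,0],[1,1,1,0,0,0,0,0],[0,1,1,1,0,0,0,0],[1,0,0,0,1,0,0,0],[0,0,1,0,0,1,0,0],[0,0,0,1,1,0,1,0],[1,0,1,0,1,0,0,1]]),
  ([[1,1,1,0,0,1],[1,1]], [[1,0,0,1,0,1,1,1],[0,1,0,0,1,1,1,0],[0,0,1,1,0,1,1,1],[0,1,0,1,1,1,1,0],[1,1,1,0,0,1,1,1],[0,1,0,1,1,0,1,1],[0,0,0,1,0,1,1,0],[1,0,0,0,0,1,0,1]], [[0,0,0,1,0,1,0,1],[0,1,1,0,1,1,0,1],[1,0,1,1,0,1,0,1],[0,1,0,1,0,0,0,0],[0,1,1,1,1,1,1,1],[1,0,0,0,0,0,1,1],[1,1,0,1,0,0,0,1],[1,0,0,1,0,1,1,1]], [[1,0,0,0,0,0,0,0],[1,1,0,0,0,0,0,0],[0,1,1,0,0,0,0,0],[1,0,0,1,0,0,0,0],[1,1,0,1,1,0,0,0],[0,1,0,1,1,1,0,0],[1,1,1,0,1,0,1,0],[1,0,1,0,0,1,1,1]],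 [[1,0,0,1,1,1,0,1],[0,1,0,1,1,0,1,1],[0,0,1,1,1,1,1,1],[0,0,0,1,1,0,0,1],[0,0,0,0,1,0,0,0],[0,0,0,0,0,1,1,0],[0,0,0,0,0,0,1,1],[0,0,0,0,0,0,0,1]], [[1,0,0,0,0,0,0,0],[0,1,0,0,0,0,0,0],[0,0,1,0,0,0,0,0],[0,0,0,1,0,0,0,0],[0,0,0,0,1,0,0,0],[0,0,0,0,0,1,0,0],[0,0,0,0,0,0,1,0],[0,0,0,0,0,0,0,1]]),
  ([[1,1,1,0,1,0],[1,0]], [[1,0,1,0,1,0,0,1],[0,0,1,1,1,1,1,1],[1,0,0,1,0,1,0,1],[0,0,1,1,0,1,0,0],[1,1,1,1,0,0,0,0],[1,1,0,1,0,0,0,1],[0,1,1,0,0,0,0,0],[1,0,1,1,0,1,1,0]], [[0,0,1,1,1,1,0,0],[1,1,0,0,0,0,1,1],[1,1,0,0,0,0,0,1],[0,0,1,1,0,1,1,0],[1,0,1,1,0,0,0,0],[1,1,1,0,0,1,1,1],[0,0,1,0,1,1,0,1],[1,1,0,0,1,1,0,1]], [[1,0,0,0,0,0,0,0],[1,1,0,0,0,0,0,0],[0,0,1,0,0,0,0,0],[0,1,0,1,0,0,0,0],[0,0,0,0,1,0,0,0],[1,1,0,0,0,1,0,0],[1,0,0,1,1,1,1,0],[1,0,0,1,0,0,1,1]],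 [[1,1,1,0,0,1,0,1],[0,1,0,0,1,0,1,1],[0,0,1,1,0,0,0,1],[0,0,0,1,0,1,0,0],[0,0,0,0,1,0,1,1],[0,0,0,0,0,1,1,1],[0,0,0,0,0,0,1,1],[0,0,0,0,0,0,0,1]], [[1,0,0,0,0,0,0,0],[0,1,0,0,0,0,0,0],[0,0,1,0,0,0,0,0],[0,0,0,1,0,0,0,0],[0,0,0,0,1,0,0,0],[0,0,0,0,0,1,0,0],[0,0,0,0,0,0,1,0],[0,0,0,0,0,0,0,1]]),
  ([[1,1,1,0,1,0],[1,1]], [[1,0,1,1,0,1,1,0],[1,1,1,1,1,1,0,1],[1,1,0,0,1,0,0,0],[0,1,1,1,1,1,0,0],[0,0,1,1,0,0,0,1],[1,1,1,1,1,1,1,0],[1,0,0,1,1,0,1,0],[0,0,0,0,1,1,0,0]], [[1,0,1,0,0,1,0,0],[1,1,1,0,1,1,0,1],[1,0,0,0,0,0,1,1],[0,1,1,1,1,1,1,1],[0,1,1,0,1,0,0,1],[0,1,1,0,1,0,0,0],[1,0,1,1,0,0,0,0],[1,1,1,1,0,1,0,0]], [[1,0,0,0,0,0,0,0],[0,1,0,0,0,0,0,0],[1,1,1,0,0,0,0,0],[1,1,1,1,0,0,0,0],[0,0,0,1,1,0,0,0],[1,1,1,1,0,1,0,0],[1,1,0,0,0,0,1,0],[0,1,0,0,0,0,0,1]],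 [[1,0,1,1,1,1,0,0],[0,1,0,1,0,0,1,1],[0,0,1,1,0,1,1,0],[0,0,0,1,1,0,0,0],[0,0,0,0,1,1,1,0],[0,0,0,0,0,1,1,0],[0,0,0,0,0,0,1,1],[0,0,0,0,0,0,0,1]], [[1,0,0,0,0,0,0,0],[0,1,0,0,0,0,0,0],[0,0,1,0,0,0,0,0],[0,0,0,1,0,0,0,0],[0,0,0,0,1,0,0,0],[0,0,0,0,0,1,0,0],[0,0,0,0,0,0,1,0],[0,0,0,0,0,0,0,1]]),
  ([[1,1,1,0,1,1],[1,0]], [[0,0,0,1,1,0,0,0],[1,0,1,1,1,0,1,0],[0,1,0,0,1,0,1,1],[0,1,1,1,0,0,0,0],[0,1,1,0,1,0,1,0],[0,0,0,1,1,0,1,1],[1,0,1,0,0,1,0,1],[1,1,1,0,0,1,0,0]], [[0,1,1,0,1,1,0,0],[0,0,0,1,1,1,1,1],[0,0,1,1,0,1,0,0],[0,0,1,1,1,0,1,1],[1,0,1,1,1,0,1,1],[0,1,0,0,0,1,1,0],[1,0,0,1,1,0,0,0],[0,0,0,1,1,1,0,0]], [[1,0,0,0,0,0,0,0],[0,1,0,0,0,0,0,0],[0,0,1,0,0,0,0,0],[1,0,0,1,0,0,0,0],[1,1,1,0,1,0,0,0],[0,1,0,1,0,1,0,0],[0,1,1,1,0,0,1,0],[0,0,1,1,1,1,0,1]],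 [[1,1,1,0,0,1,0,0],[0,1,0,1,0,0,0,1],[0,0,1,0,1,1,0,0],[0,0,0,1,1,1,1,0],[0,0,0,0,1,0,0,1],[0,0,0,0,0,1,1,0],[0,0,0,0,0,0,1,0],[0,0,0,0,0,0,0,1]], [[1,0,0,0,0,0,0,0],[0,1,0,0,0,0,0,0],[0,0,1,0,0,0,0,0],[0,0,0,1,0,0,0,0],[0,0,0,0,1,0,0,0],[0,0,0,0,0,1,0,0],[0,0,0,0,0,0,1,0],[0,0,0,0,0,0,0,1]]),
  ([[1,1,1,0,1,1],[1,1]], [[0,1,1,1,0,0,1,0],[0,1,1,1,1,1,1,1],[0,1,0,0,1,0,1,0],[1,1,0,0,0,0,1,0],[0,1,0,0,0,1,0,0],[0,0,1,1,1,0,0,1],[1,1,1,1,0,0,0,1],[1,0,0,1,1,0,1,0]], [[0,1,1,0,1,0,1,0],[0,0,1,1,0,1,1,0],[1,0,0,0,0,1,1,1],[0,1,1,1,1,1,0,1],[0,1,0,1,1,0,1,0],[0,0,1,1,1,1,1,0],[0,1,0,0,1,1,0,0],[1,0,1,0,0,1,0,0]], [[1,0,0,0,0,0,0,0],[1,1,0,0,0,0,0,0],[1,0,1,0,0,0,0,0],[0,0,1,1,0,0,0,0],[0,0,1,0,1,0,0,0],[0,1,1,1,0,1,0,0],[0,1,0,1,0,0,1,0],[1,1,0,1,1,0,0,1]],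 [[1,1,1,0,0,0,1,1],[0,1,0,1,1,0,1,0],[0,0,1,0,1,0,0,0],[0,0,0,1,0,0,1,0],[0,0,0,0,1,1,1,1],[0,0,0,0,0,1,1,0],[0,0,0,0,0,0,1,0],[0,0,0,0,0,0,0,1]], [[1,0,0,0,0,0,0,0],[0,1,0,0,0,0,0,0],[0,0,1,0,0,0,0,0],[0,0,0,1,0,0,0,0],[0,0,0,0,1,0,0,0],[0,0,0,0,0,1,0,0],[0,0,0,0,0,0,1,0],[0,0,0,0,0,0,0,1]]),
  ([[1,1,1,1,0,0],[1,0]], [[0,1,1,0,1,1,1,0],[1,1,1,1,0,0,0,0],[0,1,0,1,1,1,1,1],[1,1,0,1,0,1,0,1],[0,1,1,1,1,1,1,1],[1,0,1,1,1,1,1,1],[1,0,1,1,0,1,1,0],[0,1,0,0,1,1,0,0]], [[0,1,1,1,0,0,1,1],[0,1,1,1,1,1,1,1],[0,0,1,0,1,0,0,0],[0,1,1,0,0,1,0,0],[1,1,1,0,1,0,1,0],[1,0,0,1,0,1,0,0],[1,0,1,0,1,0,0,1],[1,1,1,0,1,1,0,0]], [[1,0,0,0,0,0,0,0],[1,1,0,0,0,0,0,0],[1,0,1,0,0,0,0,0],[1,0,0,1,0,0,0,0],[1,0,0,0,1,0,0,0],[0,1,0,0,0,1,0,0],[1,1,1,0,1,0,1,0],[1,0,1,0,0,1,0,1]],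 [[1,0,1,0,1,0,1,1],[0,1,0,0,0,1,1,1],[0,0,1,0,0,0,1,1],[0,0,0,1,0,0,1,0],[0,0,0,0,1,0,0,0],[0,0,0,0,0,1,0,1],[0,0,0,0,0,0,1,1],[0,0,0,0,0,0,0,1]], [[1,0,0,0,0,0,0,0],[0,1,0,0,0,0,0,0],[0,0,1,0,0,0,0,0],[0,0,0,1,0,0,0,0],[0,0,0,0,1,0,0,0],[0,0,0,0,0,1,0,0],[0,0,0,0,0,0,1,0],[0,0,0,0,0,0,0,1]]),
  ([[1,1,1,1,0,0],[1,1]], [[0,1,0,0,0,1,0,0],[0,1,1,1,0,1,0,1],[0,1,0,0,1,0,1,0],[0,1,1,0,0,1,0,1],[1,1,0,1,1,1,0,0],[1,1,0,0,0,1,1,1],[0,0,0,1,0,1,0,0],[0,0,0,1,0,1,1,1]], [[1,0,0,0,0,1,1,1],[1,1,0,1,0,0,1,0],[0,0,1,1,1,1,1,0],[0,1,0,1,0,0,0,0],[0,1,0,1,1,1,1,1],[0,1,0,1,0,0,1,0],[1,0,1,0,1,1,0,1],[1,0,1,0,1,1,1,0]], [[1,0,0,0,0,0,0,0],[0,1,0,0,0,0,0,0],[0,0,1,0,0,0,0,0],[0,1,0,1,0,0,0,0],[0,0,1,1,1,0,0,0],[1,1,0,1,0,1,0,0],[0,1,0,0,1,0,1,0],[0,1,1,1,0,1,1,1]],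 [[1,1,1,0,1,0,0,1],[0,1,0,0,1,1,1,1],[0,0,1,1,1,0,0,1],[0,0,0,1,0,0,0,0],[0,0,0,0,1,0,0,1],[0,0,0,0,0,1,0,0],[0,0,0,0,0,0,1,0],[0,0,0,0,0,0,0,1]], [[1,0,0,0,0,0,0,0],[0,1,0,0,0,0,0,0],[0,0,1,0,0,0,0,0],[0,0,0,1,0,0,0,0],[0,0,0,0,1,0,0,0],[0,0,0,0,0,1,0,0],[0,0,0,0,0,0,1,0],[0,0,0,0,0,0,0,1]]),
  ([[1,1,1,1,0,1],[1,0]], [[0,1,0,0,0,1,0,0],[0,0,0,0,0,1,1,0],[1,1,1,1,0,0,1,1],[1,1,1,0,1,1,1,0],[0,0,0,0,0,1,0,0],[0,1,1,1,1,1,1,0],[0,1,0,1,0,1,0,1],[1,0,0,0,0,1,0,0]], [[0,0,0,0,1,0,0,1],[1,0,0,0,1,0,0,0],[0,1,1,0,1,0,1,1],[0,0,0,1,1,1,0,1],[1,0,1,1,1,0,1,0],[0,0,0,0,1,0,0,0],[0,1,0,0,1,0,0,0],[1,0,0,1,1,1,1,1]], [[1,0,0,0,0,0,0,0],[0,1,0,0,0,0,0,0],[1,0,1,0,0,0,0,0],[1,1,1,1,0,0,0,0],[1,0,1,1,1,0,0,0],[1,0,0,1,0,1,0,0],[1,0,1,1,0,0,1,0],[0,1,0,0,0,0,1,1]],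 [[1,1,1,1,1,0,0,1],[0,1,0,0,1,0,1,0],[0,0,1,0,1,1,1,0],[0,0,0,1,0,1,1,0],[0,0,0,0,1,0,0,0],[0,0,0,0,0,1,1,1],[0,0,0,0,0,0,1,1],[0,0,0,0,0,0,0,1]], [[1,0,0,0,0,0,0,0],[0,1,0,0,0,0,0,0],[0,0,1,0,0,0,0,0],[0,0,0,1,0,0,0,0],[0,0,0,0,1,0,0,0],[0,0,0,0,0,1,0,0],[0,0,0,0,0,0,1,0],[0,0,0,0,0,0,0,1]]),
  ([[1,1,1,1,0,1],[1,1]], [[0,0,1,0,0,1,1,0],[0,1,1,1,1,1,0,1],[1,0,0,1,1,0,0,1],[1,0,0,0,1,0,0,0],[1,1,0,1,1,0,1,0],[0,0,1,0,1,0,1,0],[1,1,0,1,0,1,1,1],[0,1,1,0,1,1,1,0]], [[0,1,0,0,0,1,1,0],[1,1,0,1,0,1,1,1],[0,0,1,0,0,0,1,1],[1,0,1,1,1,1,1,0],[0,1,0,1,0,1,1,0],[1,1,0,1,0,0,1,0],[0,1,1,1,0,0,0,1],[1,0,0,0,1,1,1,0]], [[1,0,0,0,0,0,0,0],[1,1,0,0,0,0,0,0],[1,1,1,0,0,0,0,0],[1,1,1,1,0,0,0,0],[0,0,1,0,1,0,0,0],[1,0,0,0,0,1,0,0],[0,0,0,1,1,1,1,0],[0,1,1,0,0,0,0,1]],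 [[1,0,1,1,1,0,1,0],[0,1,0,1,1,0,1,1],[0,0,1,0,1,1,0,0],[0,0,0,1,0,0,1,0],[0,0,0,0,1,0,1,1],[0,0,0,0,0,1,0,1],[0,0,0,0,0,0,1,1],[0,0,0,0,0,0,0,1]], [[1,0,0,0,0,0,0,0],[0,1,0,0,0,0,0,0],[0,0,1,0,0,0,0,0],[0,0,0,1,0,0,0,0],[0,0,0,0,1,0,0,0],[0,0,0,0,0,1,0,0],[0,0,0,0,0,0,1,0],[0,0,0,0,0,0,0,1]]),
  ([[1,1,1,1,1,0],[1,0]], [[1,1,0,0,1,0,1,1],[1,1,1,0,0,1,1,0],[0,0,0,1,1,1,0,0],[0,1,1,1,0,0,1,0],[1,1,1,1,1,0,0,1],[1,0,1,1,0,1,1,1],[0,1,1,1,0,1,1,1],[0,0,1,0,0,0,1,0]], [[1,0,0,1,1,1,1,0],[1,0,0,1,1,0,0,0],[0,0,1,1,1,1,0,0],[1,0,0,0,1,0,0,1],[1,1,1,0,1,1,1,0],[0,1,0,0,0,1,1,1],[0,0,1,1,1,1,0,1],[0,1,0,1,0,1,0,1]], [[1,0,0,0,0,0,0,0],[0,1,0,0,0,0,0,0],[0,1,1,0,0,0,0,0],[1,1,0,1,0,0,0,0],[0,0,0,0,1,0,0,0],[0,1,0,0,0,1,0,0],[0,0,1,1,1,0,1,0],[0,0,1,0,0,1,1,1]],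 [[1,0,0,0,0,1,0,0],[0,1,0,1,1,0,0,0],[0,0,1,0,0,0,0,1],[0,0,0,1,0,1,0,1],[0,0,0,0,1,1,1,1],[0,0,0,0,0,1,1,1],[0,0,0,0,0,0,1,1],[0,0,0,0,0,0,0,1]], [[1,0,0,0,0,0,0,0],[0,1,0,0,0,0,0,0],[0,0,1,0,0,0,0,0],[0,0,0,1,0,0,0,0],[0,0,0,0,1,0,0,0],[0,0,0,0,0,1,0,0],[0,0,0,0,0,0,1,0],[0,0,0,0,0,0,0,1]]),
  ([[1,1,1,1,1,0],[1,1]], [[1,1,0,1,0,0,0,0],[0,0,1,0,1,0,1,0],[0,1,1,0,0,0,0,1],[1,1,0,0,0,0,1,0],[0,1,1,1,0,1,1,0],[0,0,1,0,0,1,0,1],[1,0,0,0,0,0,1,0],[0,1,0,1,0,1,0,1]], [[0,0,1,1,1,0,0,1],[0,0,0,1,0,0,1,0],[1,0,1,1,1,1,0,0],[1,0,1,0,1,0,1,1],[1,1,0,0,0,1,1,1],[0,0,1,1,0,1,1,0],[0,0,1,1,1,0,1,1],[1,0,0,0,1,1,1,0]], [[1,0,0,0,0,0,0,0],[1,1,0,0,0,0,0,0],[1,1,1,0,0,0,0,0],[0,0,1,1,0,0,0,0],[1,1,1,1,1,0,0,0],[1,1,1,0,1,1,0,0],[1,1,1,0,0,1,1,0],[1,0,1,1,1,0,0,1]],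 [[1,0,1,0,1,1,1,1],[0,1,1,1,1,0,1,1],[0,0,1,0,0,1,1,1],[0,0,0,1,0,1,0,0],[0,0,0,0,1,1,1,0],[0,0,0,0,0,1,1,1],[0,0,0,0,0,0,1,1],[0,0,0,0,0,0,0,1]], [[1,0,0,0,0,0,0,0],[0,1,0,0,0,0,0,0],[0,0,1,0,0,0,0,0],[0,0,0,1,0,0,0,0],[0,0,0,0,1,0,0,0],[0,0,0,0,0,1,0,0],[0,0,0,0,0,0,1,0],[0,0,0,0,0,0,0,1]]),
  ([[1,1,1,1,1,1],[1,0]], [[1,1,1,1,1,1,0,0],[1,0,1,0,0,0,0,1],[0,1,1,1,0,1,0,0],[1,0,1,0,0,0,0,0],[1,1,0,1,0,0,1,1],[1,1,0,1,1,0,0,1],[1,0,0,0,0,0,0,0],[0,1,1,0,0,1,1,0]], [[0,0,0,0,0,0,1,0],[0,1,1,1,1,0,1,1],[0,0,0,1,0,0,1,0],[1,0,0,0,1,1,1,1],[1,0,1,0,0,0,1,0],[1,1,0,0,0,1,1,0],[1,0,1,0,1,1,1,0],[0,1,0,1,0,0,0,0]], [[1,0,0,0,0,0,0,0],[0,1,0,0,0,0,0,0],[0,0,1,0,0,0,0,0],[0,0,1,1,0,0,0,0],[0,1,1,1,1,0,0,0],[0,0,0,0,0,1,0,0],[1,0,1,0,0,0,1,0],[1,1,0,0,1,0,0,1]],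 [[1,0,0,1,1,1,0,0],[0,1,1,1,0,1,1,1],[0,0,1,0,1,0,1,1],[0,0,0,1,1,0,1,1],[0,0,0,0,1,0,1,0],[0,0,0,0,0,1,1,1],[0,0,0,0,0,0,1,0],[0,0,0,0,0,0,0,1]], [[1,0,0,0,0,0,0,0],[0,1,0,0,0,0,0,0],[0,0,1,0,0,0,0,0],[0,0,0,1,0,0,0,0],[0,0,0,0,1,0,0,0],[0,0,0,0,0,1,0,0],[0,0,0,0,0,0,1,0],[0,0,0,0,0,0,0,1]]),
  ([[1,1,1,1,1,1],[1,1]], [[1,0,0,1,0,0,0,0],[1,0,1,0,0,1,1,1],[0,0,0,1,0,1,1,0],[0,0,0,0,1,0,0,0],[1,1,0,0,1,1,1,1],[1,0,0,0,1,0,0,1],[1,0,0,1,0,0,1,0],[0,1,1,0,0,1,1,0]], [[1,1,1,1,1,0,0,1],[0,1,0,1,0,1,0,1],[0,0,0,0,1,1,0,1],[0,1,1,1,1,0,0,1],[0,0,0,1,0,0,0,0],[1,1,0,1,1,0,1,1],[1,0,0,0,0,0,1,0],[1,1,1,0,1,1,0,1]], [[1,0,0,0,0,0,0,0],[1,1,0,0,0,0,0,0],[0,0,1,0,0,0,0,0],[1,1,0,1,0,0,0,0],[1,1,0,1,1,0,0,0],[0,0,0,0,0,1,0,0],[1,0,1,1,1,0,1,0],[0,0,1,0,1,0,1,1]],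 [[1,1,0,1,0,0,1,1],[0,1,0,0,1,0,0,0],[0,0,1,1,0,1,0,1],[0,0,0,1,1,0,1,1],[0,0,0,0,1,1,1,0],[0,0,0,0,0,1,0,1],[0,0,0,0,0,0,1,0],[0,0,0,0,0,0,0,1]], [[1,0,0,0,0,0,0,0],[0,1,0,0,0,0,0,0],[0,0,1,0,0,0,0,0],[0,0,0,1,0,0,0,0],[0,0,0,0,1,0,0,0],[0,0,0,0,0,1,0,0],[0,0,0,0,0,0,1,0],[0,0,0,0,0,0,0,1]])]

theorem tail28_ok : tblOk 2 [g8] tail28 = true := by decide +kernel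

theorem tail28_keys : keys tail28 = ((unitV 2 6).flatMap fun a => (unitV 2 2).map fun b => [a, b]) := by decide +kernel

def p224 : Tbl :=
  [([[1,0],[1,0]], [[1,0,1,1],[0,1,0,1],[1,0,1,0],[1,0,0,0]], [[0,0,0,1],[1,1,1,0],[0,0,1,1],[1,0,1,0]], [[1,0,0,0],[0,1,0,0],[0,0,1,0],[0,0,0,1]], [[1,1,1,0],[0,1,1,0],[0,0,1,0],[0,0,0,1]], [[1,0,0,0],[0,1,0,0],[0,0,1,0],[0,0,0,1]]),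
  ([[1,0],[1,1]], [[0,1,0,0],[0,1,1,1],[1,0,1,1],[1,0,1,0]], [[1,1,1,0],[1,0,0,0],[1,1,1,1],[0,0,1,1]], [[1,0,0,0],[1,1,0,0],[1,0,1,0],[1,0,0,1]], [[1,0,0,1],[0,1,0,1],[0,0,1,0],[0,0,0,1]], [[1,0,0,0],[0,1,0,0],[0,0,1,0],[0,0,0,1]]),
  ([[1,1],[1,0]], [[0,0,1,0],[1,0,1,0],[1,1,0,0],[1,1,1,1]], [[1,1,0,0],[1,1,1,0],[1,0,0,0],[1,0,1,1]], [[1,0,0,0],[1,1,0,0],[1,0,1,0],[0,0,0,1]], [[1,1,0,1],[0,1,1,0],[0,0,1,0],[0,0,0,1]], [[1,0,0,0],[0,1,0,0],[0,0,1,0],[0,0,0,1]]),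
  ([[1,1],[1,1]], [[0,0,1,1],[0,1,0,0],[1,1,1,1],[0,1,1,0]], [[1,1,1,0],[0,1,0,0],[0,1,0,1],[1,1,0,1]], [[1,0,0,0],[1,1,0,0],[0,1,1,0],[0,0,0,1]], [[1,1,0,1],[0,1,0,1],[0,0,1,0],[0,0,0,1]], [[1,0,0,0],[0,1,0,0],[0,0,1,0],[0,0,0,1]])]

theorem p224_ok : tblOk 2 [f4] p224 = true := by decide +kernel

theorem p224_keys : keys p224 = ((unitV 2 2).flatMap fun a => (unitV 2 2).map fun b => [a, b]) := by decide +kernel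

def p22116 : Tbl :=
  [([[1,0],[1,0],[1],[1]], [[1,0,1,0,1,1],[1,1,0,1,0,1],[0,0,1,1,1,0],[1,1,0,0,1,1],[1,1,0,0,1,0],[1,0,0,0,0,0]], [[0,0,0,0,0,1],[1,1,1,0,0,0],[0,1,1,1,0,0],[1,0,1,1,1,1],[1,1,1,0,1,1],[0,0,0,1,1,0]], [[1,0,0,0,0,0],[0,1,0,0,0,0],[1,1,1,0,0,0],[1,0,1,1,0,0],[0,1,1,0,1,0],[1,1,1,1,1,1]], [[1,0,0,1,1,0],[0,1,0,0,1,1],[0,0,1,0,1,1],[0,0,0,1,1,0],[0,0,0,0,1,1],[0,0,0,0,0,1]], [[1,0,0,0,0,0],[0,1,0,0,0,0],[0,0,1,0,0,0],[0,0,0,1,0,0],[0,0,0,0,1,0],[0,0,0,0,0,1]]),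
  ([[1,0],[1,1],[1],[1]], [[0,1,1,0,1,1],[1,1,1,0,0,1],[0,0,1,1,0,0],[1,1,0,0,1,1],[1,0,1,1,0,1],[0,1,1,1,1,1]], [[0,0,1,1,0,1],[1,1,0,0,1,1],[1,0,1,0,0,1],[1,0,0,0,0,1],[1,1,1,1,0,1],[0,0,0,1,1,1]], [[1,0,0,0,0,0],[0,1,0,0,0,0],[0,0,1,0,0,0],[1,1,1,1,0,0],[0,0,1,0,1,0],[1,1,0,0,0,1]], [[1,0,1,0,1,1],[0,1,0,0,0,0],[0,0,1,0,0,0],[0,0,0,1,1,0],[0,0,0,0,1,0],[0,0,0,0,0,1]], [[1,0,0,0,0,0],[0,1,0,0,0,0],[0,0,1,0,0,0],[0,0,0,1,0,0],[0,0,0,0,1,0],[0,0,0,0,0,1]]),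
  ([[1,1],[1,0],[1],[1]], [[1,1,0,1,0,1],[0,1,0,0,0,1],[0,0,1,0,1,0],[1,0,0,1,1,0],[1,0,0,0,1,1],[0,1,0,0,1,0]], [[0,1,0,0,1,1],[1,1,0,1,0,1],[1,1,1,1,0,0],[1,0,0,0,1,1],[1,1,0,1,0,0],[1,0,0,1,0,1]], [[1,0,0,0,0,0],[0,1,0,0,0,0],[0,0,1,0,0,0],[1,0,0,1,0,0],[1,1,0,0,1,0],[0,1,1,1,0,1]], [[1,1,1,1,1,1],[0,1,1,0,0,1],[0,0,1,1,0,0],[0,0,0,1,1,0],[0,0,0,0,1,1],[0,0,0,0,0,1]], [[1,0,0,0,0,0],[0,1,0,0,0,0],[0,0,1,0,0,0],[0,0,0,1,0,0],[0,0,0,0,1,0],[0,0,0,0,0,1]]),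
  ([[1,1],[1,1],[1],[1]], [[0,1,0,0,1,1],[1,1,1,1,0,1],[1,0,1,0,1,1],[0,0,0,0,0,1],[1,1,0,0,0,1],[0,0,1,1,1,1]], [[1,1,0,1,0,1],[1,1,0,0,1,1],[1,0,1,1,1,0],[1,1,1,1,0,0],[0,1,0,1,1,1],[0,0,0,1,0,0]], [[1,0,0,0,0,0],[1,1,0,0,0,0],[1,0,1,0,0,0],[1,1,0,1,0,0],[0,1,1,0,1,0],[1,1,1,1,1,1]], [[1,1,0,1,1,1],[0,1,1,1,0,1],[0,0,1,1,0,0],[0,0,0,1,0,1],[0,0,0,0,1,0],[0,0,0,0,0,1]], [[1,0,0,0,0,0],[0,1,0,0,0,0],[0,0,1,0,0,0],[0,0,0,1,0,0],[0,0,0,0,1,0],[0,0,0,0,0,1]])]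

theorem p22116_ok : tblOk 2 [g6] p22116 = true := by decide +kernel

theorem p22116_keys : keys p22116 = ((unitV 2 2).flatMap fun a => (unitV 2 2).map fun b => [a, b, [1], [1]]) := by decide +kernel

def p2226 : Tbl :=
  [([[1,0],[1,0],[1,0]], [[0,1,0,1,0,1],[1,1,0,1,1,1],[0,1,0,1,1,0],[1,1,1,0,0,1],[1,0,1,1,1,0],[0,1,1,1,0,0]], [[0,1,0,1,1,0],[1,1,0,0,1,1],[1,0,1,1,1,1],[0,1,1,1,0,1],[1,0,0,1,1,0],[0,0,1,1,1,0]], [[1,0,0,0,0,0],[0,1,0,0,0,0],[0,0,1,0,0,0],[0,1,1,1,0,0],[0,0,0,1,1,0],[1,1,0,1,1,1]], [[1,0,1,0,0,0],[0,1,1,0,1,0],[0,0,1,1,0,1],[0,0,0,1,1,1],[0,0,0,0,1,0],[0,0,0,0,0,1]], [[1,0,0,0,0,0],[0,1,0,0,0,0],[0,0,1,0,0,0],[0,0,0,1,0,0],[0,0,0,0,1,0],[0,0,0,0,0,1]]),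
  ([[1,0],[1,0],[1,1]], [[0,0,1,0,1,0],[0,1,0,0,1,1],[0,0,0,1,0,1],[1,1,0,1,0,0],[0,0,1,0,0,0],[1,0,1,0,0,1]], [[1,1,1,1,1,0],[0,0,1,1,1,1],[0,0,0,0,1,0],[1,1,0,1,0,1],[1,0,0,0,1,0],[1,1,1,1,0,1]], [[1,0,0,0,0,0],[0,1,0,0,0,0],[0,0,1,0,0,0],[1,1,1,1,0,0],[0,1,0,0,1,0],[1,0,1,1,0,1]], [[1,0,0,0,1,0],[0,1,0,1,1,1],[0,0,1,0,0,1],[0,0,0,1,0,0],[0,0,0,0,1,0],[0,0,0,0,0,1]], [[1,0,0,0,0,0],[0,1,0,0,0,0],[0,0,1,0,0,0],[0,0,0,1,0,0],[0,0,0,0,1,0],[0,0,0,0,0,1]]),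
  ([[1,0],[1,1],[1,0]], [[1,0,1,1,1,1],[0,0,1,0,0,0],[0,1,1,1,1,0],[0,1,1,0,1,0],[1,1,0,0,1,0],[1,1,0,1,0,0]], [[0,1,0,1,1,0],[0,1,1,0,1,1],[0,1,0,0,0,0],[0,0,1,1,0,0],[0,0,1,1,1,1],[1,0,0,1,0,1]], [[1,0,0,0,0,0],[1,1,0,0,0,0],[0,0,1,0,0,0],[1,1,1,1,0,0],[1,0,1,0,1,0],[1,0,0,1,0,1]], [[1,0,0,1,1,0],[0,1,1,0,0,0],[0,0,1,0,1,1],[0,0,0,1,1,1],[0,0,0,0,1,1],[0,0,0,0,0,1]], [[1,0,0,0,0,0],[0,1,0,0,0,0],[0,0,1,0,0,0],[0,0,0,1,0,0],[0,0,0,0,1,0],[0,0,0,0,0,1]]),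
  ([[1,0],[1,1],[1,1]], [[0,1,0,1,0,0],[1,1,1,0,1,0],[0,0,0,1,0,0],[1,1,1,1,0,0],[0,0,1,0,1,1],[1,1,1,0,1,1]], [[1,0,1,0,1,1],[1,0,1,0,0,0],[0,0,1,1,1,1],[0,0,1,0,0,0],[0,1,1,1,0,0],[0,1,0,0,0,1]], [[1,0,0,0,0,0],[1,1,0,0,0,0],[0,0,1,0,0,0],[0,1,0,1,0,0],[0,0,0,1,1,0],[1,1,1,0,1,1]], [[1,1,1,1,1,1],[0,1,1,0,0,0],[0,0,1,1,0,1],[0,0,0,1,1,1],[0,0,0,0,1,0],[0,0,0,0,0,1]], [[1,0,0,0,0,0],[0,1,0,0,0,0],[0,0,1,0,0,0],[0,0,0,1,0,0],[0,0,0,0,1,0],[0,0,0,0,0,1]]),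
  ([[1,1],[1,0],[1,0]], [[0,0,1,1,0,1],[0,1,1,0,1,1],[0,1,0,1,0,1],[1,1,0,1,0,1],[0,0,1,1,1,1],[0,0,0,1,1,0]], [[0,0,1,1,0,0],[1,1,0,0,0,1],[0,1,1,0,0,1],[1,0,0,0,1,1],[1,0,0,0,1,0],[0,1,1,0,1,0]], [[1,0,0,0,0,0],[1,1,0,0,0,0],[0,0,1,0,0,0],[1,0,1,1,0,0],[0,1,1,0,1,0],[0,0,1,0,1,1]], [[1,1,0,0,0,1],[0,1,0,0,1,1],[0,0,1,1,1,1],[0,0,0,1,1,1],[0,0,0,0,1,0],[0,0,0,0,0,1]], [[1,0,0,0,0,0],[0,1,0,0,0,0],[0,0,1,0,0,0],[0,0,0,1,0,0],[0,0,0,0,1,0],[0,0,0,0,0,1]]),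
  ([[1,1],[1,0],[1,1]], [[0,0,1,1,1,1],[1,0,1,0,1,1],[1,1,1,1,0,0],[1,1,0,1,0,1],[1,0,1,0,1,0],[1,1,1,0,0,0]], [[1,1,1,0,0,1],[1,0,0,1,1,0],[0,1,1,1,1,0],[0,0,1,0,0,1],[1,0,0,1,0,1],[0,1,0,0,1,0]], [[1,0,0,0,0,0],[0,1,0,0,0,0],[0,1,1,0,0,0],[0,1,1,1,0,0],[1,0,0,1,1,0],[1,0,0,1,0,1]], [[1,0,0,1,1,1],[0,1,1,0,1,1],[0,0,1,0,1,0],[0,0,0,1,1,1],[0,0,0,0,1,1],[0,0,0,0,0,1]], [[1,0,0,0,0,0],[0,1,0,0,0,0],[0,0,1,0,0,0],[0,0,0,1,0,0],[0,0,0,0,1,0],[0,0,0,0,0,1]]),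
  ([[1,1],[1,1],[1,0]], [[1,1,1,0,0,1],[0,1,0,1,1,0],[1,1,0,1,1,1],[0,0,0,0,1,0],[1,1,0,1,1,0],[1,1,0,0,0,0]], [[0,1,0,0,1,0],[0,1,0,0,1,1],[1,0,1,0,1,1],[0,0,0,1,1,1],[0,0,0,1,0,0],[0,0,1,0,1,0]], [[1,0,0,0,0,0],[1,1,0,0,0,0],[0,0,1,0,0,0],[0,0,1,1,0,0],[1,0,0,1,1,0],[1,1,0,1,1,1]], [[1,1,1,1,0,1],[0,1,1,0,1,1],[0,0,1,0,1,1],[0,0,0,1,0,1],[0,0,0,0,1,0],[0,0,0,0,0,1]], [[1,0,0,0,0,0],[0,1,0,0,0,0],[0,0,1,0,0,0],[0,0,0,1,0,0],[0,0,0,0,1,0],[0,0,0,0,0,1]]),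
  ([[1,1],[1,1],[1,1]], [[0,1,1,1,0,0],[0,1,1,1,1,1],[1,1,0,1,0,0],[0,0,0,1,0,0],[1,1,1,1,1,1],[1,1,1,1,0,1]], [[0,1,0,0,1,0],[0,1,1,1,1,0],[1,1,1,0,1,0],[0,0,0,1,0,0],[0,0,0,0,1,1],[1,1,0,0,1,1]], [[1,0,0,0,0,0],[0,1,0,0,0,0],[1,1,1,0,0,0],[1,0,1,1,0,0],[0,1,0,0,1,0],[0,1,1,0,0,1]], [[1,1,1,0,0,0],[0,1,0,1,0,0],[0,0,1,1,0,1],[0,0,0,1,1,0],[0,0,0,0,1,0],[0,0,0,0,0,1]], [[1,0,0,0,0,0],[0,1,0,0,0,0],[0,0,1,0,0,0],[0,0,0,1,0,0],[0,0,0,0,1,0],[0,0,0,0,0,1]])]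

theorem p2226_ok : tblOk 2 [g6] p2226 = true := by decide +kernel

theorem p2226_keys : keys p2226 = ((unitV 2 2).flatMap fun a => (unitV 2 2).flatMap fun b => (unitV 2 2).map fun c => [a, b, c]) := by decide +kernel

def c114 : Tbl :=
  [([[1,0],[1],[1]], [[1,0,0,0],[1,1,0,0],[0,1,0,1],[0,0,1,1]], [[1,0,0,0],[1,1,0,0],[1,1,1,1],[1,1,1,0]], [[1,0,0,0],[0,1,0,0],[0,0,1,0],[0,0,0,1]], [[1,1,1,1],[0,1,0,0],[0,0,1,0],[0,0,0,1]], [[1,0,0,0],[0,1,0,0],[0,0,1,0],[0,0,0,1]]),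
  ([[1,1],[1],[1]], [[1,0,1,0],[0,1,1,0],[0,1,0,1],[0,0,1,0]], [[1,0,0,1],[0,1,0,1],[0,0,0,1],[0,1,1,1]], [[1,0,0,0],[1,1,0,0],[0,0,1,0],[0,0,0,1]], [[1,0,1,0],[0,1,1,0],[0,0,1,0],[0,0,0,1]], [[1,0,0,0],[0,1,0,0],[0,0,1,0],[0,0,0,1]])]

theorem c114_ok : tblOk 2 [[1],f3] c114 = true := by decide +kernel

theorem c114_keys : keys c114 = ((unitV 2 2).map fun a => [a, [1], [1]]) := by decide +kernel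

def c1115 : Tbl :=
  [([[1,0],[1],[1],[1]], [[1,0,0,1,0],[0,0,0,1,0],[0,1,0,0,1],[1,0,0,0,1],[1,1,1,0,0]], [[1,1,0,0,0],[1,1,1,1,0],[0,0,1,1,1],[0,1,0,0,0],[1,1,0,1,0]], [[1,0,0,0,0],[1,1,0,0,0],[1,0,1,0,0],[1,0,0,1,0],[0,0,0,0,1]], [[1,0,0,0,0],[0,1,0,0,0],[0,0,1,0,0],[0,0,0,1,0],[0,0,0,0,1]], [[1,0,0,0,0],[0,1,0,0,0],[0,0,1,0,0],[0,0,0,1,0],[0,0,0,0,1]]),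
  ([[1,1],[1],[1],[1]], [[0,1,0,1,1],[1,1,1,0,1],[1,0,1,0,0],[1,0,1,0,1],[1,0,0,0,0]], [[0,0,0,0,1],[0,1,0,1,0],[0,0,1,0,1],[1,1,1,0,0],[0,0,1,1,0]], [[1,0,0,0,0],[1,1,0,0,0],[1,0,1,0,0],[1,1,1,1,0],[0,0,0,0,1]], [[1,0,0,0,0],[0,1,0,1,1],[0,0,1,1,1],[0,0,0,1,1],[0,0,0,0,1]], [[1,0,0,0,0],[0,1,0,0,0],[0,0,1,0,0],[0,0,0,1,0],[0,0,0,0,1]])]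

theorem c1115_ok : tblOk 2 [[1],f4] c1115 = true := by decide +kernel

theorem c1115_keys : keys c1115 = ((unitV 2 2).map fun a => [a, [1], [1], [1]]) := by decide +kernel

def c11116 : Tbl :=
  [([[1,0],[1],[1],[1],[1]], [[1,0,0,1,1,0],[1,0,1,1,0,1],[0,1,0,1,0,1],[0,1,0,1,1,1],[0,1,0,0,1,0],[0,0,1,0,0,0]], [[0,1,0,1,1,1],[0,0,1,1,1,0],[0,0,0,0,0,1],[1,1,1,0,1,1],[0,0,1,1,0,0],[1,1,1,1,0,1]], [[1,0,0,0,0,0],[0,1,0,0,0,0],[0,0,1,0,0,0],[0,0,0,1,0,0],[0,1,0,0,1,0],[0,0,1,0,0,1]], [[1,0,1,1,0,1],[0,1,0,1,0,0],[0,0,1,0,1,0],[0,0,0,1,0,1],[0,0,0,0,1,0],[0,0,0,0,0,1]], [[1,0,0,0,0,0],[0,1,0,0,0,0],[0,0,1,0,0,0],[0,0,0,1,0,0],[0,0,0,0,1,0],[0,0,0,0,0,1]]),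
  ([[1,1],[1],[1],[1],[1]], [[0,0,1,1,1,1],[1,0,1,0,0,1],[1,0,0,0,0,0],[0,1,0,1,0,0],[1,0,0,0,1,0],[0,0,0,1,1,1]], [[0,0,1,0,0,0],[1,1,0,1,1,0],[1,0,0,0,0,1],[1,1,0,0,1,0],[0,0,1,0,1,0],[1,1,1,0,0,1]], [[1,0,0,0,0,0],[0,1,0,0,0,0],[0,1,1,0,0,0],[1,1,1,1,0,0],[1,0,0,0,1,0],[1,0,0,0,0,1]], [[1,0,0,0,0,0],[0,1,1,1,1,0],[0,0,1,1,0,0],[0,0,0,1,0,1],[0,0,0,0,1,0],[0,0,0,0,0,1]], [[1,0,0,0,0,0],[0,1,0,0,0,0],[0,0,1,0,0,0],[0,0,0,1,0,0],[0,0,0,0,1,0],[0,0,0,0,0,1]])]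

theorem c11116_ok : tblOk 2 [[1],f5] c11116 = true := by decide +kernel

theorem c11116_keys : keys c11116 = ((unitV 2 2).map fun a => [a, [1], [1], [1], [1]]) := by decide +kernel

end H31.Com.D2
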