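import Cfsg.Agent.H31.Commutator.Small
import Cfsg.Agent.H31.Commutator.Table2

/-!
Free commutator factorisations in `SL_n(2)`.
-/

set_option autoImplicit false
set_option linter.unusedSectionVars false
set_option linter.style.longLine false

namespace H31.Com

open Matrix Polynomial
open H89.CN (Sim Dec)

variable {K : Type*} [Field K]

/-- One large block with fixed small blocks beside it. -/
def One (l : List K[X]) (d : ℕ) : Prop := ∃ f, OkBlock f ∧ f.natDegree = d ∧ l = [f]

/-- One large block with a block of degree `t`. -/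
def Tail (t : ℕ) (l : List K[X]) (d : ℕ) : Prop :=
  ∃ f h, OkBlock f ∧ OkBlock h ∧ f.natDegree = d ∧ h.natDegree = t ∧ l = [f, h]

theorem shrinks_one : Shrinks (One (K := K)) 3 := by
  rintro l d j n A ⟨f, hf, rfl, rfl⟩ h2 hlo hA
  obtain ⟨g, A', hr, hA', hg, hcd⟩ := red_one hA (j := j) (by omega)
  exact ⟨[g], _, A', hr, hA', g, ⟨hA'.1, hg ▸ (by omega), hcd ▸ hf.2.2⟩, hg, rfl⟩

theorem shrinks_tail (t : ℕ) : Shrinks (Tail (K := K) t) 3 := by
  rintro l d j n A ⟨f, h, hf, hh, rfl, rfl, rfl⟩ h2 hlo hA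
  obtain ⟨g, g', N, A', hr, hA', ⟨hg, hcd⟩, hg', hcd'⟩ := red_two hA (j := j) (j' := 0) (by omega) (by omega)
  rw [add_zero] at hr
  rw [Nat.sub_zero] at hg'
  obtain ⟨hm, -, -, -, A₂, -, hm', -⟩ := id hA'
  exact ⟨[g, g'], N, A', hr, hA', g, g', ⟨hm, hg ▸ (by omega), hcd ▸ hf.2.2⟩,
    ⟨hm', hg' ▸ hh.2.1, hcd' ▸ hh.2.2⟩, hg, hg', rfl⟩

variable [Fintype K] [CharP K 2]

theorem code_of (hK : Fintype.card K = 2) {f : K[X]} (hf : OkBlock f) {d : ℕ} (hd : f.natDegree = d) :
    ∃ a ∈ unitV 2 d, f = ofL (a ++ [1]) :=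
  exists_unitV Nat.prime_two hK hf.1 hd (hd ▸ hf.2.1) (coeff_zero_of_cd hf.2.2)

theorem deg_one (hK : Fintype.card K = 2) {f : K[X]} (hf : OkBlock f) (hd : f.natDegree = 1) :
    f = ofL ([1] ++ [1]) := by
  obtain ⟨a, ha, rfl⟩ := code_of hK hf hd
  obtain rfl : a = [1] := by
    have e : unitV 2 1 = [[1]] := by decide
    rw [e] at ha
    exact List.mem_singleton.1 ha
  rfl

section
variable {φ : ℕ → K[X]}

/-- The side polynomials. -/
abbrev S2 (φ : ℕ → K[X]) : Set K[X] := side (pset D2.cs) 9 φ

theorem free_S2 (hφ : Chosen 9 φ) : Free (S2 φ) :=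
  free_side (by norm_num) hφ (free_pset D2.codes_ok D2.free_ok) fun _ ht => code_prop D2.codes_ok ht

theorem pset_S2 {cs : List (List ℕ)} (h : cs.all (fun a => D2.cs.contains a) = true) : (pset cs : Set K[X]) ⊆ S2 φ :=
  fun _ ht => Or.inl (pset_mono h ht)

theorem mem_S2 {a : List ℕ} (h : D2.cs.contains a = true) : (ofL (a ++ [1]) : K[X]) ∈ S2 φ :=
  Or.inl ⟨a, List.contains_iff_mem.1 h, rfl⟩

theorem against_one (hφ : Chosen 9 φ) : Against (S2 φ) (ofL ([1] ++ [1])) :=
  against_lin (by norm_num) hφ (by decide) D2.codes_ok D2.lp_ok D2.lp_ok'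

theorem one_fg (hK : Fintype.card K = 2) (hφ : Chosen 9 φ) :
    ∀ d, 3 ≤ d → GP (One (K := K)) (S2 φ) ((1 : ℕ) : K) d := by
  have hb : ∀ (d : ℕ) (t : Tbl) (a : List ℕ), tblOk 2 [a] t = true → detN 2 [a] = 1 →
      keys t = ((unitV 2 d).map fun a => [a]) → GP (One (K := K)) (pset [a] : Set K[X]) ((1 : ℕ) : K) d := by
    rintro d t a h1 h2 h3 l ⟨f, hf, hd, rfl⟩
    obtain ⟨c, hc, rfl⟩ := code_of hK hf hd
    exact fg_tbl (by norm_num) h1 h2 (ms := [c]) (h3 ▸ List.mem_map.2 ⟨c, hc, rfl⟩)
  exact GP.tower shrinks_one (by norm_num) (by norm_num) hφ (fun _ ht => code_prop D2.codes_ok ht) (by norm_num)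
    (D2.chain0 shrinks_one (hb 3 _ _ D2.single3_ok (by decide) D2.single3_keys)
      (hb 4 _ _ D2.single4_ok (by decide) D2.single4_keys) (hb 5 _ _ D2.single5_ok (by decide) D2.single5_keys)
      (hb 6 _ _ D2.single6_ok (by decide) D2.single6_keys))

theorem tail_fg (hK : Fintype.card K = 2) (hφ : Chosen 9 φ) (t : ℕ) (ht : t = 1 ∨ t = 2) :
    ∀ d, 3 ≤ d → GP (Tail (K := K) t) (S2 φ) ((1 : ℕ) : K) d := by
  have hb : ∀ (d : ℕ) (T : Tbl) (a : List ℕ), tblOk 2 [a] T = true → detN 2 [a] = 1 →
      keys T = ((unitV 2 d).flatMap fun a => (unitV 2 t).map fun b => [a, b]) →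
      GP (Tail (K := K) t) (pset [a] : Set K[X]) ((1 : ℕ) : K) d := by
    rintro d T a h1 h2 h3 l ⟨f, h, hf, hh, hd, ht, rfl⟩
    obtain ⟨c, hc, rfl⟩ := code_of hK hf hd
    obtain ⟨b, hb, rfl⟩ := code_of hK hh ht
    exact fg_tbl (by norm_num) h1 h2 (ms := [c, b])
      (h3 ▸ List.mem_flatMap.2 ⟨c, hc, List.mem_map.2 ⟨b, hb, rfl⟩⟩)
  refine GP.tower (shrinks_tail t) (by norm_num) (by norm_num) hφ (fun _ ht => code_prop D2.codes_ok ht) (by norm_num) ?_
  rcases ht with rfl | rfl
  · exact D2.chain1 (shrinks_tail 1) (hb 3 _ _ D2.tail14_ok (by decide) D2.tail14_keys)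
      (hb 4 _ _ D2.tail15_ok (by decide) D2.tail15_keys) (hb 5 _ _ D2.tail16_ok (by decide) D2.tail16_keys)
      (hb 6 _ _ D2.tail17_ok (by decide) D2.tail17_keys)
  · exact D2.chain2 (shrinks_tail 2) (hb 3 _ _ D2.tail25_ok (by decide) D2.tail25_keys)
      (hb 4 _ _ D2.tail26_ok (by decide) D2.tail26_keys) (hb 5 _ _ D2.tail27_ok (by decide) D2.tail27_keys)
      (hb 6 _ _ D2.tail28_ok (by decide) D2.tail28_keys)

theorem fg_big (hK : Fintype.card K = 2) (hφ : Chosen 9 φ) :
    ∀ B : List K[X], (∀ f ∈ B, OkBlock f ∧ 3 ≤ f.natDegree) → FG (S2 φ) (1 : K) B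
  | [], _ => FG.nil _
  | f :: B, h => by
    have h1 := one_fg hK hφ f.natDegree (h f (List.mem_cons_self ..)).2 [f] ⟨f, (h f (List.mem_cons_self ..)).1, rfl, rfl⟩
    have h2 := fg_big hK hφ B fun g hg => h g (List.mem_cons_of_mem _ hg)
    simpa using h1.append h2

theorem fg_pairs (hK : Fintype.card K = 2) : ∀ C : List K[X], (∀ f ∈ C, OkBlock f ∧ f.natDegree = 2) →
    Even C.length → FG (S2 φ) (1 : K) C
  | [], _, _ => FG.nil _
  | [x], _, he => by simp at he
  | x :: y :: C, h, he => by
    obtain ⟨a, ha, rfl⟩ := code_of hK (h x (List.mem_cons_self ..)).1 (h x (List.mem_cons_self ..)).2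
    obtain ⟨b, hb, rfl⟩ := code_of hK (h y (by simp)).1 (h y (by simp)).2
    have h1 := (fg_tbl (K := K) (by norm_num) (e := 1) D2.p224_ok (by decide) (ms := [a, b])
      (D2.p224_keys ▸ List.mem_flatMap.2 ⟨a, ha, List.mem_map.2 ⟨b, hb, rfl⟩⟩)).mono (pset_S2 (φ := φ) (by decide))
    have h2 := fg_pairs hK C (fun g hg => h g (by simp [hg])) (by
      rw [List.length_cons, List.length_cons, Nat.even_add_one, Nat.even_add_one, not_not] at he; exact he)
    rw [Nat.cast_one] at h1
    simpa [polysOf] using h1.append h2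

theorem fg_threes (o : K[X]) (ho : o = ofL ([1] ++ [1])) :
    ∀ k : ℕ, FG (S2 φ) (1 : K) (List.replicate (3 * k) o)
  | 0 => FG.nil _
  | k + 1 => by
    have h1 := (FG.ident (K := K) (by norm_num) (a := D2.f3) (e := 1) (ms := [[1], [1], [1]]) (by decide) (by decide)).mono
      (pset_S2 (φ := φ) (by decide))
    rw [Nat.cast_one] at h1
    have h2 := h1.append (fg_threes o ho k)
    rw [one_mul, show polysOf [[1], [1], [1]] = List.replicate 3 o by rw [ho]; rfl, List.replicate_append_replicate] at h2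
    rwa [show 3 * (k + 1) = 3 + 3 * k by ring]

theorem fr_two (hK : Fintype.card K = 2) (hφ : Chosen 9 φ) (B C : List K[X]) (o : K[X]) (ho : o = ofL ([1] ++ [1])) (a : ℕ)
    (hB : ∀ f ∈ B, OkBlock f ∧ 3 ≤ f.natDegree) (hC : ∀ f ∈ C, OkBlock f ∧ f.natDegree = 2)
    (hn : 4 ≤ (B.map natDegree).sum + 2 * C.length + a) :
    FR (S2 φ) (1 : K) (B ++ C ++ List.replicate a o) := by
  classical
  have hS := free_S2 hφ
  have hone : (polysOf [[1]] : List K[X]) = [o] := by rw [ho]; rfl
  have lone : FR (S2 φ) (1 : K) [o] := by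
    have h := fr_lone (K := K) (q := 2) (by norm_num) (c := 1) (x := 1) (e := 1) (against_one hφ) (by decide)
    rwa [Nat.cast_one, hone] at h
  have tail : ∀ t, (t = 1 ∨ t = 2) → ∀ f ∈ B, ∀ h, OkBlock h → h.natDegree = t → FG (S2 φ) (1 : K) [f, h] :=
    fun t ht f hf h hh hd => by
      have := tail_fg hK hφ t ht f.natDegree (hB f hf).2 [f, h] ⟨f, h, (hB f hf).1, hh, rfl, hd, rfl⟩
      rwa [Nat.cast_one] at this
  have okO : OkBlock o := by
    rw [ho]; exact ⟨monic_ofL _, by rw [(cd_ofL (a := [1]) Nat.one_pos).1]; norm_num,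
      by rw [cd_code (q := 2) (by norm_num) (a := [1]) Nat.one_pos]; exact cast_ne_zero_of (q := 2) (by decide)⟩
  have degO : o.natDegree = 1 := by rw [ho, (cd_ofL (a := [1]) Nat.one_pos).1]; rfl
  -- finish from a free head and a rest
  have fin : ∀ {X Y : List K[X]}, FR (S2 φ) (1 : K) X → FG (S2 φ) (1 : K) Y →
      (B ++ C ++ List.replicate a o).Perm (X ++ Y) → FR (S2 φ) (1 : K) (B ++ C ++ List.replicate a o) :=
    fun {X Y} h h' hp => by have := h.append hS h'; rw [one_mul] at this; exact this.perm hp.symm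
  have fcat : ∀ {X Y : List K[X]}, FG (S2 φ) (1 : K) X → FG (S2 φ) (1 : K) Y → FG (S2 φ) (1 : K) (X ++ Y) :=
    fun h h' => by have := h.append h'; rwa [one_mul] at this
  obtain ⟨k, r, hr, rfl⟩ : ∃ k r, r < 3 ∧ a = 3 * k + r :=
    ⟨a / 3, a % 3, Nat.mod_lt _ (by norm_num), (Nat.div_add_mod a 3).symm⟩
  have hO := fg_threes (φ := φ) o ho k
  have hBg := fg_big hK hφ B hB
  rcases Nat.even_or_odd C.length with hC2 | hC2
  · have hCg := fg_pairs (φ := φ) hK C hC hC2
    interval_cases r
    · refine fin ((FG.nil _).toFR hS) (fcat (fcat hBg hCg) hO) (List.Perm.of_eq ?_)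
      simp
    · exact fin lone (fcat (fcat hBg hCg) hO) (List.perm_iff_count.2 fun x => by
        simp [List.count_append, List.count_cons, List.count_replicate]; split_ifs <;> omega)
    · rcases Nat.eq_zero_or_pos k with rfl | hk
      swap
      · obtain ⟨k, rfl⟩ : ∃ k', k = k' + 1 := ⟨k - 1, by omega⟩
        have h5 := (FG.ident (K := K) (by norm_num) (a := D2.f5) (e := 1) (ms := [[1], [1], [1], [1], [1]]) (by decide) (by decide)).mono
          (pset_S2 (φ := φ) (by decide))
        rw [Nat.cast_one, show polysOf [[1], [1], [1], [1], [1]] = List.replicate 5 o by rw [ho]; rfl] at h5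
        exact fin ((FG.nil _).toFR hS) (fcat (fcat (fcat hBg hCg) h5) (fg_threes (φ := φ) o ho k))
          (List.perm_iff_count.2 fun x => by
            simp [List.count_append, List.count_cons, List.count_replicate]; split_ifs <;> omega)
      rcases C with _ | ⟨x, _ | ⟨y, C⟩⟩
      · rcases B with _ | ⟨f, B⟩
        · simp at hn
        · exact fin lone (fcat (tail 1 (Or.inl rfl) f (List.mem_cons_self ..) o okO degO)
            (fg_big hK hφ B fun g hg => hB g (List.mem_cons_of_mem _ hg))) (List.perm_iff_count.2 fun x => by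
            simp [List.count_append, List.count_cons, List.count_replicate]; split_ifs <;> omega)
      · simp at hC2
      · obtain ⟨c, hc, rfl⟩ := code_of hK (hC x (List.mem_cons_self ..)).1 (hC x (List.mem_cons_self ..)).2
        obtain ⟨d, hd, rfl⟩ := code_of hK (hC y (by simp)).1 (hC y (by simp)).2
        have h1 := (fg_tbl (K := K) (by norm_num) (e := 1) D2.p22116_ok (by decide) (ms := [c, d, [1], [1]])
          (D2.p22116_keys ▸ List.mem_flatMap.2 ⟨c, hc, List.mem_map.2 ⟨d, hd, rfl⟩⟩)).mono (pset_S2 (φ := φ) (by decide))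
        rw [Nat.cast_one, show (polysOf [c, d, [1], [1]] : List K[X]) = [ofL (c ++ [1]), ofL (d ++ [1]), o, o] by
          rw [ho]; rfl] at h1
        exact fin ((FG.nil _).toFR hS) (fcat (fcat hBg h1) (fg_pairs (φ := φ) hK C (fun g hg => hC g (by simp [hg])) (by
          rw [List.length_cons, List.length_cons, Nat.even_add_one, Nat.even_add_one, not_not] at hC2; exact hC2)))
          (List.perm_iff_count.2 fun x => by
            simp [List.count_append, List.count_cons, List.count_replicate]; split_ifs <;> omega)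
  · rcases C with _ | ⟨x, C⟩
    · simp at hC2
    have hC' : Even C.length := by simpa [Nat.odd_add_one] using hC2
    have hCg := fg_pairs (φ := φ) hK C (fun g hg => hC g (List.mem_cons_of_mem _ hg)) hC'
    obtain ⟨c, hc, rfl⟩ := code_of hK (hC x (List.mem_cons_self ..)).1 (hC x (List.mem_cons_self ..)).2
    -- the odd block with a partner, without using ones
    have partner : (B ≠ [] ∨ C ≠ []) → ∃ X, FG (S2 φ) (1 : K) X ∧ (B ++ ofL (c ++ [1]) :: C).Perm X := by
      rintro hne
      rcases B with _ | ⟨f, B⟩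
      · rcases C with _ | ⟨y, _ | ⟨z, C⟩⟩
        · simp at hne
        · simp at hC'
        · obtain ⟨d, hd, rfl⟩ := code_of hK (hC y (by simp)).1 (hC y (by simp)).2
          obtain ⟨e, he, rfl⟩ := code_of hK (hC z (by simp)).1 (hC z (by simp)).2
          have h1 := (fg_tbl (K := K) (by norm_num) (e := 1) D2.p2226_ok (by decide) (ms := [c, d, e])
            (D2.p2226_keys ▸ List.mem_flatMap.2 ⟨c, hc, List.mem_flatMap.2 ⟨d, hd, List.mem_map.2 ⟨e, he, rfl⟩⟩⟩)).mono
            (pset_S2 (φ := φ) (by decide))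
          rw [Nat.cast_one] at h1
          exact ⟨_, fcat h1 (fg_pairs (φ := φ) hK C (fun g hg => hC g (by simp [hg])) (by
            rw [List.length_cons, List.length_cons, Nat.even_add_one, Nat.even_add_one, not_not] at hC'; exact hC')),
            List.Perm.of_eq (by simp [polysOf])⟩
      · exact ⟨_, fcat (fcat (tail 2 (Or.inr rfl) f (List.mem_cons_self ..) _ (hC _ (List.mem_cons_self ..)).1
          (hC _ (List.mem_cons_self ..)).2) (fg_big hK hφ B fun g hg => hB g (List.mem_cons_of_mem _ hg))) hCg,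
          List.perm_iff_count.2 fun x => by
            simp [List.count_append, List.count_cons]; split_ifs <;> omega⟩
    have smallTbl : ∀ (T : Tbl) (g : List ℕ) (j : ℕ), tblOk 2 [[1], g] T = true → detN 2 [[1], g] = 1 →
        D2.cs.contains g = true → ([c] ++ List.replicate j [1]) ∈ keys T →
        FR (S2 φ) (1 : K) (ofL (c ++ [1]) :: List.replicate j o) := by
      intro T g j h1 h2 h3 h4
      have := fr_tbl (K := K) (by norm_num) hS h1 h2 (against_one hφ) (mem_S2 h3) h4
      rwa [Nat.cast_one, show (polysOf ([c] ++ List.replicate j [1]) : List K[X]) = ofL (c ++ [1]) :: List.replicate j o by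
        simp [polysOf, List.map_replicate, ho]] at this
    by_cases hne : B ≠ [] ∨ C ≠ []
    · obtain ⟨X, hX, hp⟩ := partner hne
      interval_cases r
      · exact fin ((FG.nil _).toFR hS) (fcat hX hO) (List.perm_iff_count.2 fun x => by
          have := List.perm_iff_count.1 hp x
          simp [List.count_append, List.count_cons, List.count_replicate] at this ⊢; split_ifs at this ⊢ <;> omega)
      · exact fin lone (fcat hX hO) (List.perm_iff_count.2 fun x => by
          have := List.perm_iff_count.1 hp x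
          simp [List.count_append, List.count_cons, List.count_replicate] at this ⊢; split_ifs at this ⊢ <;> omega)
      · exact fin (smallTbl _ _ 2 D2.c114_ok (by decide) (by decide) (D2.c114_keys ▸ List.mem_map.2 ⟨c, hc, rfl⟩))
          (fcat (fcat hBg hCg) hO) (List.perm_iff_count.2 fun x => by
            simp [List.count_append, List.count_cons, List.count_replicate]; split_ifs <;> omega)
    · push Not at hne
      obtain ⟨rfl, rfl⟩ := hne
      interval_cases r
      · rcases Nat.eq_zero_or_pos k with rfl | hk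
        · simp at hn
        obtain ⟨k, rfl⟩ : ∃ k', k = k' + 1 := ⟨k - 1, by omega⟩
        exact fin (smallTbl _ _ 3 D2.c1115_ok (by decide) (by decide) (D2.c1115_keys ▸ List.mem_map.2 ⟨c, hc, rfl⟩))
          (fg_threes (φ := φ) o ho k) (List.perm_iff_count.2 fun x => by
            simp [List.count_append, List.count_cons, List.count_replicate]; split_ifs <;> omega)
      · rcases Nat.eq_zero_or_pos k with rfl | hk
        · simp at hn
        obtain ⟨k, rfl⟩ : ∃ k', k = k' + 1 := ⟨k - 1, by omega⟩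
        exact fin (smallTbl _ _ 4 D2.c11116_ok (by decide) (by decide) (D2.c11116_keys ▸ List.mem_map.2 ⟨c, hc, rfl⟩))
          (fg_threes (φ := φ) o ho k) (List.perm_iff_count.2 fun x => by
            simp [List.count_append, List.count_cons, List.count_replicate]; split_ifs <;> omega)
      · exact fin (smallTbl _ _ 2 D2.c114_ok (by decide) (by decide) (D2.c114_keys ▸ List.mem_map.2 ⟨c, hc, rfl⟩))
          hO (List.perm_iff_count.2 fun x => by
            simp [List.count_append, List.count_cons, List.count_replicate]; split_ifs <;> omega)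

end

/-- **Two elements.** -/
theorem slFac_two (hK : Fintype.card K = 2) {m : ℕ} (hm : 4 ≤ m) : SLFac m K := by
  classical
  obtain ⟨φ, hφ⟩ := exists_chosen (K := K) (J0 := 9) (by norm_num)
  refine slFac_of_fr fun l hl hs _ n A hA _ => ?_
  set B := l.filter fun f => decide (3 ≤ f.natDegree)
  set C := l.filter fun f => decide (f.natDegree = 2)
  set a := (l.filter fun f => decide (f.natDegree = 1)).length
  have hO : (l.filter fun f => decide (f.natDegree = 1)) = List.replicate a (ofL ([1] ++ [1])) :=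
    List.eq_replicate_of_mem fun f hf => by
      simp only [List.mem_filter, decide_eq_true_eq] at hf
      exact deg_one hK (hl f hf.1) hf.2
  have hperm : (B ++ C ++ List.replicate a (ofL ([1] ++ [1]))).Perm l := by
    rw [← hO]
    refine List.perm_iff_count.2 fun x => ?_
    by_cases hx : x ∈ l
    · have := (hl x hx).2.1
      rcases (by omega : x.natDegree = 1 ∨ x.natDegree = 2 ∨ 3 ≤ x.natDegree) with h | h | h
      all_goals
        simp only [B, C, List.count_append]
        by_cases h1 : x.natDegree = 1 <;> by_cases h2 : x.natDegree = 2 <;> by_cases h3 : 3 ≤ x.natDegree <;>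
          (try omega) <;> simp [h1, h2, h3, List.count_filter, List.count_eq_zero_of_not_mem, List.mem_filter]
    · simp [B, C, List.count_append, List.count_eq_zero.2 hx, List.count_eq_zero, hx]
  have hB : ∀ f ∈ B, OkBlock f ∧ 3 ≤ f.natDegree := fun f hf => by
    simp only [B, List.mem_filter, decide_eq_true_eq] at hf; exact ⟨hl f hf.1, hf.2⟩
  have hC : ∀ f ∈ C, OkBlock f ∧ f.natDegree = 2 := fun f hf => by
    simp only [C, List.mem_filter, decide_eq_true_eq] at hf; exact ⟨hl f hf.1, hf.2⟩
  have hsum := (hperm.map natDegree).sum_eq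
  have hC2 : (C.map natDegree).sum = 2 * C.length := by
    rw [List.eq_replicate_of_mem (l := C.map natDegree) (a := 2) (fun x hx => by
      obtain ⟨f, hf, rfl⟩ := List.mem_map.1 hx; exact (hC f hf).2)]
    simp [mul_comm]
  rw [List.map_append, List.map_append, List.sum_append, List.sum_append, List.map_replicate, List.sum_replicate,
    hC2, hs, (cd_ofL (a := [1]) Nat.one_pos).1] at hsum
  exact ((fr_two hK hφ B C _ rfl a hB hC (by simp at hsum; omega)).perm hperm).result n A hA

end H31.Com
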