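import Cfsg.Agent.H31.Commutator.MinusEven
import Cfsg.Agent.H31.Commutator.MinusTable
import Cfsg.Agent.H31.Commutator.BigOdd
import Cfsg.Agent.H31.Commutator.ThreeOdd
import Cfsg.Agent.H31.Commutator.Two
import Cfsg.Agent.H31.Commutator.Big

/-!
The factorisations needed for `Ω⁻` over every finite field.
-/

set_option autoImplicit false
set_option linter.style.haveILetI false
set_option linter.unusedSectionVars false

namespace H31.Com.Minus

open Matrix Polynomial H21.ClassSquare H41 H41.Reg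
open H31.CSQ.Plus (trInv)

variable {K : Type*} [Field K] [Fintype K] {m : ℕ} {a b : K} [Ani a b]

theorem slFacM_odd [NeZero (2 : K)] (hm : 3 ≤ m) (h : Odd.SLFacO m K) : SLFacM m a b := by
  intro M hM hns
  obtain ⟨Φ, ε, hε, hε0, hc, A, P, hA, hP, hΦ, hMP, f1, f2⟩ := h M hM hns
  refine split_of_comm (θ := 1) hm (by rw [map_one]; exact one_mem _) hP (hA ▸ hε) (hA ▸ hε0) hMP f1 f2
    (noInt_one (Odd.fix_of_coprime hΦ hc)) ?_
  rw [inv_one]
  exact noInt_one (Odd.fix_of_coprime (by rw [aeval_transpose, hΦ, transpose_zero]) hc)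

theorem slFac_char_two_big [CharP K 2] (hK : 4 ≤ Fintype.card K) (hm : 2 ≤ m) : SLFac m K := by
  classical
  obtain ⟨n, rfl⟩ : ∃ n, m = n + 2 := ⟨m - 2, by omega⟩
  obtain ⟨l, hl1⟩ : ∃ l : Kˣ, (l : K) ≠ 1 := by
    by_contra hc
    push Not at hc
    have := Fintype.card_units K
    rw [Fintype.card_eq_one_iff.2 ⟨1, fun x => Units.ext (hc x)⟩] at this
    omega
  have hl2 : (l : K) * l ≠ 1 := fun e => by
    rcases mul_self_eq_one_iff.1 e with h | h
    · exact hl1 h
    · exact hl1 (by rw [h, CharTwo.neg_eq])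
  intro M hM hns
  exact ⟨_, _, FiniteField.isSquare_of_char_two (ringChar.eq K 2) _,
    mul_ne_zero (Units.ne_zero _) (pow_ne_zero _ (Units.ne_zero _)),
    ffac_cls (c := 1) (l := l) hK hl2 (by simpa using hl1) (by simpa using hl1.symm) M hns hM⟩

namespace Two

section
variable [CharP K 2]

/-- The matrix of a code. -/
def toM (f : ℕ → ℕ → ℕ) : Matrix (Fin 3) (Fin 3) K := Matrix.of fun i j => (f i j : K)

theorem toM_eq {f g : ℕ → ℕ → ℕ} (h : eqC f g = true) : (toM f : Matrix (Fin 3) (Fin 3) K) = toM g := by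
  simp only [eqC, List.all_eq_true, List.mem_range, beq_iff_eq] at h
  ext i j
  show (f i j : K) = (g i j : K)
  rw [← cast_mod (q := 2) (f i j), ← cast_mod (q := 2) (g i j), h i i.isLt j j.isLt]

theorem toM_mul (f g : ℕ → ℕ → ℕ) : (toM (mulC f g) : Matrix (Fin 3) (Fin 3) K) = toM f * toM g := by
  ext i j
  simp only [toM, mulC, of_apply, cast_mod (q := 2), Matrix.mul_apply, Fin.sum_univ_three, Nat.cast_add, Nat.cast_mul]
  rfl

theorem toM_one : (toM oneC : Matrix (Fin 3) (Fin 3) K) = 1 := by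
  ext i j
  fin_cases i <;> fin_cases j <;> simp [toM, oneC]

theorem toM_zero : (toM fun _ _ => 0 : Matrix (Fin 3) (Fin 3) K) = 0 := by
  ext i j; simp [toM]

theorem toM_add (f g : ℕ → ℕ → ℕ) : (toM (fun i j => f i j + g i j) : Matrix (Fin 3) (Fin 3) K) = toM f + toM g := by
  ext i j; simp [toM]

theorem rev_coprime : IsCoprime (ofL [1, 1, 0, 1] : K[X]) (ofL [1, 0, 1, 1]) ∧
    (ofL [1, 1, 0, 1] : K[X]).reverse = ofL [1, 0, 1, 1] ∧ (ofL [1, 0, 1, 1] : K[X]).reverse = ofL [1, 1, 0, 1] :=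
  ⟨coprime_of_bez (q := 2) (u := [0, 1]) (v := [1, 1]) (by decide),
    reverse_ofL (by simp) (by simp), reverse_ofL (by simp) (by simp)⟩

theorem root_props {f : ℕ → ℕ → ℕ} (h : rootC f = true) :
    AFree (toM f : Matrix (Fin 3) (Fin 3) K) ∧ AFree (toM f : Matrix (Fin 3) (Fin 3) K)ᵀ ∧
      (∀ r, (toM f : Matrix (Fin 3) (Fin 3) K) *ᵥ r = r → r = 0) ∧
      (∀ r, (toM f : Matrix (Fin 3) (Fin 3) K)ᵀ *ᵥ r = r → r = 0) ∧
      (toM f : Matrix (Fin 3) (Fin 3) K).det ≠ 0 := by
  obtain ⟨c1, c2, c3⟩ := rev_coprime (K := K)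
  simp only [rootC, Bool.or_eq_true] at h
  obtain ⟨Φ, hΦ, hc, hfix, h0⟩ : ∃ Φ : K[X], aeval (toM f : Matrix (Fin 3) (Fin 3) K) Φ = 0 ∧
      IsCoprime Φ Φ.reverse ∧ Φ.eval 1 = 1 ∧ Φ.eval 0 = 1 := by
    have h3 : (1 : K) + 1 + 1 = 1 := by linear_combination (CharTwo.two_eq_zero : (2 : K) = 0)
    rcases h with h | h
    · refine ⟨ofL [1, 1, 0, 1], ?_, c2 ▸ c1, by simp [ofL]; linear_combination h3, by simp [ofL]⟩
      have h1 := toM_eq (K := K) h
      rw [toM_zero, toM_add, toM_add, toM_mul, toM_mul, toM_one] at h1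
      rw [← h1]
      simp [ofL, Matrix.mul_add, Matrix.mul_assoc]
      abel
    · refine ⟨ofL [1, 0, 1, 1], ?_, c3 ▸ c1.symm, by simp [ofL]; linear_combination h3, by simp [ofL]⟩
      have h1 := toM_eq (K := K) h
      rw [toM_zero, toM_add, toM_add, toM_mul, toM_mul, toM_one] at h1
      rw [← h1]
      simp [ofL, Matrix.mul_add, Matrix.mul_assoc]
      abel
  set A := (toM f : Matrix (Fin 3) (Fin 3) K)
  have hT : aeval Aᵀ Φ = 0 := by rw [aeval_transpose, hΦ, transpose_zero]
  have key : ∀ (B : Matrix (Fin 3) (Fin 3) K), aeval B Φ = 0 → ∀ (c : K) (r : Fin 3 → K), B *ᵥ r = c • r →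
      Φ.eval c • r = 0 := by
    intro B hB c r hr
    have h2 : ∀ p : K[X], aeval B p *ᵥ r = p.eval c • r := fun p => by
      induction p using Polynomial.induction_on with
      | C x => simp [Algebra.algebraMap_eq_smul_one, smul_mulVec]
      | add p q hp hq => simp [add_mulVec, hp, hq, add_smul]
      | monomial n x ih =>
        rw [pow_succ, ← mul_assoc, map_mul, aeval_X, ← mulVec_mulVec, hr, mulVec_smul, ih, smul_smul]
        simp only [eval_mul, eval_pow, eval_X, eval_C]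
        congr 1
        ring
    rw [← h2, hB, zero_mulVec]
  refine ⟨afree_of_coprime hc hΦ, afree_of_coprime hc hT, fun r hr => ?_, fun r hr => ?_, fun hd => ?_⟩
  · simpa [hfix] using key A hΦ 1 r (by rw [hr, one_smul])
  · simpa [hfix] using key _ hT 1 r (by rw [hr, one_smul])
  · obtain ⟨r, hr0, hr⟩ := exists_mulVec_eq_zero_iff.2 hd
    exact hr0 (by simpa [h0] using key A hΦ 0 r (by rw [hr, zero_smul]))

theorem isSquare_all (x : K) : IsSquare x := FiniteField.isSquare_of_char_two (ringChar.eq K 2) x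

theorem split_swap {A P Q M : Matrix (Fin 3) (Fin 3) K} (hPQ : P * Q = 1) (hM : M * P = A * P * Aᵀ)
    (hA0 : A.det ≠ 0) (f1 : AFree A) (f2 : AFree Aᵀ) (n1 : ∀ r, Aᵀ *ᵥ r = r → r = 0) : Split 3 a b M := by
  let x : GL (Fin 3) K := GeneralLinearGroup.mk'' A (IsUnit.mk0 _ hA0)
  let p : GL (Fin 3) K := ⟨P, Q, hPQ, mul_eq_one_comm.1 hPQ⟩
  let xT : GL (Fin 3) K := GeneralLinearGroup.mk'' Aᵀ (by rw [det_transpose]; exact IsUnit.mk0 _ hA0)
  have hxT : trInv x⁻¹ = xT := Units.ext (by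
    simp [trInv, xT, x, Units.inv_mk])
  set B := p * xT * p⁻¹
  have hsp : ∀ g : Iso 3 a b, H43.spinor (theta 3 a b g) = 1 := fun g => by
    obtain ⟨s, hs, hs'⟩ := H43.sqc_surjective (H43.spinor (theta 3 a b g))
    rw [← hs', H43.sqc_eq_one_iff hs]
    exact isSquare_all s
  have hΩ : ∀ (X : GL (Fin 3) K), (levX X : Iso 3 a b) ∈ commutator (Iso 3 a b) := fun X =>
    (levX_mem_iff le_rfl X).2 (isSquare_all _)
  obtain ⟨η, hη⟩ : ∃ η : Oz a b, (wS * levZ η : Iso 3 a b) ∈ commutator (Iso 3 a b) := by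
    rcases dickson_eq (H43.dickson (theta 3 a b (wS : Iso 3 a b))) with h | h
    · exact ⟨1, by rw [map_one, mul_one, omega_iff le_rfl]; exact ⟨h, hsp _⟩⟩
    · refine ⟨zrefl (Pi.single 0 1), (omega_iff le_rfl _).2 ⟨?_, hsp _⟩⟩
      rw [dickson_mul' le_rfl, h, (zrefl_invariants le_rfl (by simp)).1]
      rfl
  have hB : AFree B.val := by
    refine f2.congr_left (P := P) ((isUnit_iff_isUnit_det _).1 p.isUnit) ?_
    show p.val * xT.val = (B * p).val
    rw [← Units.val_mul]
    congr 1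
    simp [B]
  refine ⟨1, x, B, levX p * (wS * levZ η), mul_mem (hΩ p) hη, ?_, hΩ x, ?_, f2, ?_, hB, ?_⟩
  · show (x * (p * xT * p⁻¹)).val = M
    rw [Units.val_mul, Units.val_mul, Units.val_mul, show x.val = A from rfl, show xT.val = Aᵀ from rfl,
      show p.val = P from rfl, show (p⁻¹).val = Q from rfl]
    calc A * (P * Aᵀ * Q) = A * P * Aᵀ * Q := by simp only [Matrix.mul_assoc]
      _ = M := by rw [← hM, Matrix.mul_assoc, hPQ, Matrix.mul_one]
  · have hc : levZ η * (levX x : Iso 3 a b)⁻¹ * (levZ η)⁻¹ = levX x⁻¹ := by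
      rw [levX_apply, levX_apply, levZ_apply, ← map_inv, ← map_inv, ← map_mul, ← map_mul]
      congr 1
      simp
    calc (lev (B, (1 : Oz a b)⁻¹) : Iso 3 a b) = levX p * levX xT * (levX p)⁻¹ := by
          rw [inv_one, ← levX_apply, ← map_inv, ← map_mul, ← map_mul]
      _ = levX p * (wS * (levZ η * (levX x)⁻¹ * (levZ η)⁻¹) * wS⁻¹) * (levX p)⁻¹ := by
          rw [hc, levX_apply x⁻¹, conj_wS_lev, hxT, levX_apply xT]
      _ = _ := by rw [← levX_apply x]; group
  · rw [inv_one]; exact noInt_one n1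
  · rw [inv_one]
    refine noInt_one fun r hr => ?_
    have hQ : Q *ᵥ (B.val *ᵥ r) = Q *ᵥ r := by rw [hr]
    rw [show B.val = P * Aᵀ * Q from rfl, mulVec_mulVec, ← Matrix.mul_assoc, ← Matrix.mul_assoc,
      mul_eq_one_comm.1 hPQ, Matrix.one_mul, ← mulVec_mulVec] at hQ
    have h2 := congrArg (P *ᵥ ·) (n1 _ hQ)
    simpa [mulVec_mulVec, hPQ] using h2

/-- The code of a Boolean matrix. -/
def code (g : Fin 3 → Fin 3 → Bool) : ℕ := ∑ i : Fin 3, ∑ j : Fin 3, (g i j).toNat * 2 ^ (3 * i.val + j.val)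

theorem code_spec : ∀ g : Fin 3 → Fin 3 → Bool, code g < 512 ∧ ∀ i j : Fin 3, bit (code g) i j = (g i j).toNat := by
  decide +kernel

theorem split_two (hK : Fintype.card K = 2) : SLFacM 3 a b := by
  classical
  intro M hM hns
  have h01 : ∀ x : K, x = 0 ∨ x = 1 := fun x => by
    by_contra hc
    push Not at hc
    have : ({0, 1, x} : Finset K).card ≤ 2 := hK ▸ Finset.card_le_univ _
    rw [Finset.card_insert_of_notMem (by simp [eq_comm, hc.1]), Finset.card_insert_of_notMem (by simp [Ne.symm hc.2]),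
      Finset.card_singleton] at this
    omega
  set g : Fin 3 → Fin 3 → Bool := fun i j => decide (M i j = 1) with hg
  obtain ⟨hlt, hbit⟩ := code_spec g
  have hMe : M = toM (bit (code g)) := by
    ext i j
    show M i j = (bit (code g) i j : K)
    rw [hbit]
    rcases h01 (M i j) with h | h <;> simp [hg, h]
  have h := List.all_eq_true.1 cover (code g) (List.mem_range.2 hlt)
  simp only [Bool.or_eq_true, beq_iff_eq, List.any_eq_true] at h
  rcases h with ((h | h) | h) | h
  · exfalso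
    have h2 : (toM (bit (code g)) : Matrix (Fin 3) (Fin 3) K).det = ((detC (bit (code g)) : ℕ) : K) := by
      simp only [detC, cast_mod (q := 2), det_fin_three, toM, of_apply, Nat.cast_add, Nat.cast_mul, CharTwo.sub_eq_add,
        Fin.val_zero, Fin.val_one, Fin.val_two]
      ring
    rw [h, Nat.cast_zero, ← hMe, hM] at h2
    exact one_ne_zero h2
  · exact absurd (by rw [hMe, toM_eq h, toM_one, one_smul]) (hns 1)
  · obtain ⟨⟨c, A, P, Q⟩, he, rfl⟩ := h
    have := List.all_eq_true.1 swapTab_ok _ he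
    simp only [swapOk, Bool.and_eq_true] at this
    obtain ⟨⟨hr, hpq⟩, hMP⟩ := this
    obtain ⟨f1, f2, -, n1, hd⟩ := root_props (K := K) hr
    refine hMe ▸ split_swap (A := toM (bit A)) (P := toM (bit P)) (Q := toM (bit Q)) ?_ ?_ hd f1 f2 n1
    · rw [← toM_mul, toM_eq hpq, toM_one]
    · rw [← toM_mul, toM_eq hMP, toM_mul, toM_mul]
      rfl
  · obtain ⟨⟨c, A, P, Q⟩, he, rfl⟩ := h
    have := List.all_eq_true.1 commTab_ok _ he
    simp only [commOk, Bool.and_eq_true] at this
    obtain ⟨⟨hr, hpq⟩, hMP⟩ := this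
    obtain ⟨f1, f2, n1, n2, hd⟩ := root_props (K := K) hr
    have hP : (toM (bit P) : Matrix (Fin 3) (Fin 3) K).det = 1 := (h01 _).resolve_left (by
      refine left_ne_zero_of_mul (b := (toM (bit Q) : Matrix (Fin 3) (Fin 3) K).det) ?_
      rw [← det_mul, ← toM_mul, toM_eq hpq, toM_one, det_one]
      exact one_ne_zero)
    refine hMe ▸ split_of_comm (θ := 1) le_rfl (by rw [map_one]; exact one_mem _) hP (isSquare_all _) hd ?_ f1 f2
      (noInt_one n1) (by rw [inv_one]; exact noInt_one n2)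
    rw [← toM_mul, ← toM_mul, toM_eq hMP, toM_mul]

end
end Two

/-- **The factorisations over any finite field.** -/
theorem slFacM (hm : 3 ≤ m) : SLFacM m a b := by
  classical
  have h1 : 1 < Fintype.card K := Fintype.one_lt_card
  by_cases hev : ringChar K = 2
  · haveI : CharP K 2 := ringChar.of_eq hev
    by_cases h4 : 4 ≤ Fintype.card K
    · exact slFacM_even hm (slFac_char_two_big h4 (by omega))
    have h2 : Fintype.card K = 2 := by
      have := FiniteField.even_card_iff_char_two.1 hev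
      omega
    by_cases hm4 : 4 ≤ m
    · exact slFacM_even hm (slFac_two h2 hm4)
    obtain rfl : m = 3 := by omega
    exact Two.split_two h2
  · haveI : NeZero (2 : K) := ⟨Ring.two_ne_zero hev⟩
    have hodd : Fintype.card K % 2 ≠ 0 := fun h => hev (FiniteField.even_card_iff_char_two.2 h)
    refine slFacM_odd hm ?_
    rcases (by omega : Fintype.card K = 3 ∨ 5 ≤ Fintype.card K) with h | h
    · haveI := Fact.mk Nat.prime_three
      haveI : CharP K 3 := charP_of_card_eq_prime h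
      exact T3.slFacO_three h hm
    · exact Odd.slFacO_big h hm

end H31.Com.Minus
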