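import Cfsg.Agent.H31.Commutator.MinusBase

/-!
Invariants of the Levi subgroup of `Ω⁻` and the binary orthogonal group.
-/

set_option autoImplicit false
set_option linter.style.haveILetI false
set_option linter.unusedSectionVars false

namespace H31.Com.Minus

open Matrix H21.ClassSquare H41 H41.Reg
open H31.CSQ.Plus (trInv)
open H43 (orthGroup qMinus polB)

variable {K : Type*} [Field K] [Fintype K] {m n : ℕ} {a b : K} [Ani a b]

theorem levX_apply (X : GL (Fin m) K) : (levX X : Iso m a b) = lev (X, 1) := rfl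

theorem levZ_apply (θ : Oz a b) : (levZ θ : Iso m a b) = lev (1, θ) := rfl

theorem lev_eq (X : GL (Fin m) K) (θ : Oz a b) : (lev (X, θ) : Iso m a b) = levX X * levZ θ := by
  rw [levX_apply, levZ_apply, ← map_mul, Prod.mk_mul_mk, mul_one, one_mul]

theorem dickson_mul' (hm : 3 ≤ m) (g h : Iso m a b) :
    H43.dickson (theta m a b (g * h)) = H43.dickson (theta m a b g) * H43.dickson (theta m a b h) := by
  rw [map_mul, H44.dickson_mul hnd (gen hm)]

theorem spinor_mul' (hm : 3 ≤ m) (g h : Iso m a b) :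
    H43.spinor (theta m a b (g * h)) = H43.spinor (theta m a b g) * H43.spinor (theta m a b h) := by
  rw [map_mul, H44.spinor_mul hnd (gen hm)]

theorem levX_omega_of_det {X : GL (Fin m) K} (hm : 3 ≤ m) (hX : X.val.det = 1) :
    (levX X : Iso m a b) ∈ commutator (Iso m a b) := by
  have hle : (commutator (GL (Fin m) K)).map (levX : GL (Fin m) K →* Iso m a b) ≤ commutator (Iso m a b) := by
    rw [commutator_def, Subgroup.map_commutator, commutator_def]
    exact Subgroup.commutator_mono le_top le_top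
  refine hle ⟨X, ?_, rfl⟩
  have hp : commutator (Matrix.SpecialLinearGroup (Fin m) K) = ⊤ :=
    H37.commutator_SL_eq_top (by rw [Fintype.card_fin]; exact hm)
  have hle2 : (commutator (Matrix.SpecialLinearGroup (Fin m) K)).map Matrix.SpecialLinearGroup.toGL ≤
      commutator (GL (Fin m) K) := by
    rw [commutator_def, Subgroup.map_commutator, commutator_def]
    exact Subgroup.commutator_mono le_top le_top
  exact hle2 ⟨⟨X, hX⟩, by rw [hp]; trivial, Units.ext rfl⟩

theorem corner_invariants (hm : 3 ≤ n + 1) (t : Kˣ) :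
    H43.dickson (theta (n + 1) a b (levX (cornerHom (t, 1)))) = 1 ∧
      H43.spinor (theta (n + 1) a b (levX (cornerHom (t, 1)))) = H43.sqc (t : K) := by
  have hp : H43.HypPair (qMinus (n + 1) K a b) (Pi.single (Sum.inl (Sum.inl 0)) 1)
      (Pi.single (Sum.inl (Sum.inr 0)) 1) :=
    ⟨by simp [H43.coe_qMinus, Cfsg.quadFormMinus, Pi.single_apply],
      by simp [H43.coe_qMinus, Cfsg.quadFormMinus, Pi.single_apply],
      by simp [H43.polB_qMinus, Pi.single_apply]⟩
  have e : theta (n + 1) a b (levX (cornerHom (t, 1))) =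
      H43.hscale (qMinus (n + 1) K a b) (Pi.single (Sum.inl (Sum.inl 0)) 1) (Pi.single (Sum.inl (Sum.inr 0)) 1)
        (t : K) := by
    refine H43.orth_ext fun x => ?_
    rw [theta_apply, levX_apply, mx_lev, H43.hscale_apply hp t.ne_zero, tri_eta x, mat3_mulVec, zm_one]
    rw [← map_inv, Prod.inv_mk, inv_one, coe_cornerHom, coe_cornerHom]
    funext i
    rcases i with (i | i) | i
    · cases i using Fin.cases <;>
        simp [H43.polB_qMinus, Pi.single_apply, mulVec, dotProduct, Fin.sum_univ_succ, Matrix.one_apply] <;> ring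
    · cases i using Fin.cases <;>
        simp [H43.polB_qMinus, Pi.single_apply, mulVec, dotProduct, Fin.sum_univ_succ, Matrix.one_apply] <;> ring
    · simp [Pi.single_apply]
  rw [e]
  exact H44.hscale_invariants hnd (gen hm) hp t.ne_zero

theorem levX_invariants (hm : 3 ≤ m) (X : GL (Fin m) K) :
    H43.dickson (theta m a b (levX X)) = 1 ∧ H43.spinor (theta m a b (levX X)) = H43.sqc X.val.det := by
  obtain ⟨n, rfl⟩ : ∃ k, m = k + 1 := ⟨m - 1, by omega⟩
  set t := GeneralLinearGroup.det X with ht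
  have h1 : ((cornerHom (t, 1))⁻¹ * X : GL (Fin (n + 1)) K).val.det = 1 := by
    rw [← map_inv, Units.val_mul, det_mul, coe_cornerHom, det_border_zero_col]
    simp [ht]
    exact inv_mul_cancel₀ ((isUnit_iff_isUnit_det _).1 X.isUnit).ne_zero
  obtain ⟨hd, hs⟩ := (omega_iff hm _).1 (levX_omega_of_det (a := a) (b := b) hm h1)
  obtain ⟨hd', hs'⟩ := corner_invariants (a := a) (b := b) hm t
  rw [← mul_inv_cancel_left (cornerHom (t, 1)) X, map_mul, dickson_mul' hm, spinor_mul' hm, hd, hd', hs, hs',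
    mul_one, mul_one, mul_inv_cancel_left, ht, GeneralLinearGroup.val_det_apply]
  exact ⟨rfl, rfl⟩

/-! ### The binary group -/

/-- A reflection of the binary form. -/
noncomputable def zrefl (w : Fin 2 → K) : Oz a b :=
  zmk (1 - (nrm a b w)⁻¹ • vecMulVec w (gram a b *ᵥ w)) fun z => by
    by_cases hw : w = 0
    · simp [hw, nrm_zero]
    have hn : nrm a b w ≠ 0 := nrm_ne_zero hw
    set c := (nrm a b w)⁻¹ * (z ⬝ᵥ gram a b *ᵥ w) with hc
    have e : (1 - (nrm a b w)⁻¹ • vecMulVec w (gram a b *ᵥ w)) *ᵥ z = z + (-c) • w := by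
      rw [sub_mulVec, one_mulVec, smul_mulVec, vecMulVec_mulVec, op_smul_eq_smul, smul_smul, neg_smul,
        ← sub_eq_add_neg, hc, dotProduct_comm z]
    rw [e, nrm_add, nrm_smul, mulVec_smul, dotProduct_smul, smul_eq_mul, hc]
    field_simp
    ring

theorem zrefl_mulVec (w z : Fin 2 → K) :
    zm (zrefl w : Oz a b) *ᵥ z = z - ((nrm a b w)⁻¹ * (z ⬝ᵥ gram a b *ᵥ w)) • w := by
  rw [zrefl, zm_zmk, sub_mulVec, one_mulVec, smul_mulVec, vecMulVec_mulVec, op_smul_eq_smul, smul_smul,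
    dotProduct_comm z]

theorem theta_zrefl (hm : 3 ≤ m) {w : Fin 2 → K} :
    theta m a b (levZ (zrefl w)) = H43.refl (qMinus m K a b) (tri 0 0 w) := by
  refine H43.orth_ext fun x => ?_
  have hq : qMinus m K a b (tri 0 0 w) = nrm a b w := by rw [H43.coe_qMinus, quad_tri]; simp
  have hB : polB (qMinus m K a b) x (tri 0 0 w) = (fun i => x (Sum.inr i)) ⬝ᵥ gram a b *ᵥ w := by
    simp [H43.polB_qMinus, gram, mulVec, dotProduct, Fin.sum_univ_two]; ring
  rw [theta_apply, levZ_apply, mx_lev, H43.refl_apply, hq, hB]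
  conv_lhs => rw [tri_eta x, mat3_mulVec]
  rw [inv_one, Units.val_one, transpose_one, zrefl_mulVec]
  funext i
  rcases i with (i | i) | i <;> simp

theorem zrefl_invariants (hm : 3 ≤ m) {w : Fin 2 → K} (hw : w ≠ 0) :
    H43.dickson (theta m a b (levZ (zrefl w : Oz a b))) = Multiplicative.ofAdd 1 ∧
      H43.spinor (theta m a b (levZ (zrefl w : Oz a b))) = H43.sqc (nrm a b w) := by
  have hq : qMinus m K a b (tri 0 0 w) = nrm a b w := by rw [H43.coe_qMinus, quad_tri]; simp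
  have hne : qMinus m K a b (tri 0 0 w) ≠ 0 := by rw [hq]; exact nrm_ne_zero hw
  rw [theta_zrefl hm, H43.dickson_refl hnd hne, H43.spinor_refl hnd hne, hq]
  exact ⟨rfl, rfl⟩

theorem zrefl_smul (w : Fin 2 → K) {t : K} (ht : t ≠ 0) : (zrefl (t • w) : Oz a b) = zrefl w := by
  refine zm_ext (Matrix.ext_iff_mulVec.2 fun z => ?_)
  rw [zrefl_mulVec, zrefl_mulVec, nrm_smul, mulVec_smul, dotProduct_smul, smul_smul, smul_eq_mul]
  congr 2
  field_simp

theorem zrefl_self {w : Fin 2 → K} (hw : w ≠ 0) : zm (zrefl w : Oz a b) *ᵥ w = -w := by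
  have hn : nrm a b w ≠ 0 := nrm_ne_zero hw
  rw [zrefl_mulVec, dot_gram_self, ← mul_assoc, mul_comm _ (2 : K), mul_assoc, inv_mul_cancel₀ hn, mul_one, two_smul]
  abel

theorem zrefl_sq (w : Fin 2 → K) : (zrefl w : Oz a b) * zrefl w = 1 := by
  refine zm_ext (Matrix.ext_iff_mulVec.2 fun z => ?_)
  rw [zm_mul, zm_one, one_mulVec, ← mulVec_mulVec]
  by_cases hw : w = 0
  · rw [hw, zrefl_mulVec, smul_zero, sub_zero, zrefl_mulVec, smul_zero, sub_zero]
  rw [zrefl_mulVec w z, mulVec_sub, mulVec_smul, zrefl_self hw, zrefl_mulVec]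
  rw [smul_neg, sub_neg_eq_add, sub_add_cancel]

/-- An isometry fixing a nonzero vector is trivial or the reflection orthogonal to it. -/
theorem eq_of_fix {T : Oz a b} {r : Fin 2 → K} (hr : r ≠ 0) (h : zm T *ᵥ r = r) :
    T = 1 ∨ ∃ w, w ≠ 0 ∧ T = zrefl w := by
  classical
  by_cases h1 : T = 1
  · exact Or.inl h1
  refine Or.inr ?_
  obtain ⟨x, hx⟩ : ∃ x, zm T *ᵥ x ≠ x := by
    by_contra hc
    push Not at hc
    exact h1 (zm_ext (Matrix.ext_iff_mulVec.2 fun z => by rw [hc, zm_one, one_mulVec]))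
  have hpres : ∀ u v, (zm T *ᵥ u) ⬝ᵥ gram a b *ᵥ (zm T *ᵥ v) = u ⬝ᵥ gram a b *ᵥ v := fun u v => by
    have := nrm_add (a := a) (b := b) (zm T *ᵥ u) (zm T *ᵥ v)
    rw [← mulVec_add, zm_nrm, zm_nrm, zm_nrm, nrm_add, add_right_inj] at this
    exact this.symm
  set d := x - zm T *ᵥ x with hd
  have hd0 : d ≠ 0 := sub_ne_zero.2 (Ne.symm hx)
  have hn : nrm a b d ≠ 0 := nrm_ne_zero hd0
  have hdr : r ⬝ᵥ gram a b *ᵥ d = 0 := by
    rw [hd, mulVec_sub, dotProduct_sub, sub_eq_zero]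
    conv_lhs => rw [← hpres, h]
  have hdx : x ⬝ᵥ gram a b *ᵥ d = nrm a b d := by
    have h2 := nrm_add (a := a) (b := b) d (zm T *ᵥ x)
    rw [show d + zm T *ᵥ x = x by rw [hd, sub_add_cancel], zm_nrm, dot_gram_comm] at h2
    have h3 : x ⬝ᵥ gram a b *ᵥ d = d ⬝ᵥ gram a b *ᵥ d + (zm T *ᵥ x) ⬝ᵥ gram a b *ᵥ d := by
      rw [← add_dotProduct, hd, sub_add_cancel]
    rw [h3, dot_gram_self]
    linear_combination -h2
  refine ⟨d, hd0, ?_⟩
  have hx' : zm (zrefl d : Oz a b) *ᵥ x = zm T *ᵥ x := by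
    rw [zrefl_mulVec, hdx, inv_mul_cancel₀ hn, one_smul, hd, sub_sub_cancel]
  have hr' : zm (zrefl d : Oz a b) *ᵥ r = zm T *ᵥ r := by
    rw [zrefl_mulVec, hdr, mul_zero, zero_smul, sub_zero, h]
  have hli : LinearIndependent K ![r, x] := by
    rw [LinearIndependent.pair_iff' hr]
    intro c hc
    exact hx (by rw [← hc, mulVec_smul, h])
  have hsp := hli.span_eq_top_of_card_eq_finrank (by simp)
  refine zm_ext (Matrix.toLin'.injective (LinearMap.ext_on hsp ?_))
  rintro v ⟨i, rfl⟩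
  fin_cases i <;> simp [hx', hr']

/-- An isometry of Dickson invariant one is a reflection. -/
theorem eq_zrefl (hm : 3 ≤ m) {T : Oz a b} (hT : H43.dickson (theta m a b (levZ T)) ≠ 1) :
    ∃ w, w ≠ 0 ∧ T = zrefl w := by
  set r : Fin 2 → K := Pi.single 0 1 with hr
  have hr0 : r ≠ 0 := by simp [hr]
  by_cases hfix : zm T *ᵥ r = r
  · refine (eq_of_fix hr0 hfix).resolve_left fun e => hT ?_
    rw [e, map_one, map_one, H43.dickson_one]
  set d := r - zm T *ᵥ r with hd
  have hd0 : d ≠ 0 := sub_ne_zero.2 (Ne.symm hfix)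
  have hn : nrm a b d ≠ 0 := nrm_ne_zero hd0
  have h2 : zm (zrefl d * T : Oz a b) *ᵥ r = r := by
    rw [zm_mul, ← mulVec_mulVec, zrefl_mulVec]
    have h4 := nrm_add (a := a) (b := b) d (zm T *ᵥ r)
    rw [show d + zm T *ᵥ r = r by rw [hd, sub_add_cancel], zm_nrm, dot_gram_comm] at h4
    have h5 : (zm T *ᵥ r) ⬝ᵥ gram a b *ᵥ d = -nrm a b d := by linear_combination -h4
    rw [h5, mul_neg, inv_mul_cancel₀ hn, neg_one_smul, sub_neg_eq_add, hd, add_sub_cancel]
  rcases eq_of_fix hr0 h2 with e | ⟨w, hw, e⟩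
  · refine ⟨d, hd0, ?_⟩
    rw [← one_mul T, ← zrefl_sq d, mul_assoc, e, mul_one]
  · refine absurd ?_ hT
    have e' : T = zrefl d * zrefl w := by rw [← e, ← mul_assoc, zrefl_sq, one_mul]
    rw [e', map_mul, dickson_mul' hm, (zrefl_invariants hm hd0).1, (zrefl_invariants hm hw).1]
    rfl

theorem dickson_eq (x : Multiplicative (ZMod 2)) : x = 1 ∨ x = Multiplicative.ofAdd 1 := by
  revert x; decide

theorem lev_invariants (hm : 3 ≤ m) (X : GL (Fin m) K) (θ : Oz a b) :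
    H43.dickson (theta m a b (lev (X, θ))) = H43.dickson (theta m a b (levZ θ)) ∧
      H43.spinor (theta m a b (lev (X, θ))) = H43.sqc X.val.det * H43.spinor (theta m a b (levZ θ)) := by
  rw [lev_eq, dickson_mul' hm, spinor_mul' hm, (levX_invariants hm X).1, (levX_invariants hm X).2, one_mul]
  exact ⟨rfl, rfl⟩

theorem levX_mem_iff (hm : 3 ≤ m) (X : GL (Fin m) K) :
    (levX X : Iso m a b) ∈ commutator (Iso m a b) ↔ IsSquare X.val.det := by
  rw [omega_iff hm, (levX_invariants hm X).1, (levX_invariants hm X).2,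
    H43.sqc_eq_one_iff ((isUnit_iff_isUnit_det _).1 X.isUnit).ne_zero]
  exact ⟨fun h => h.2, fun h => ⟨rfl, h⟩⟩

theorem levZ_mem_iff (hm : 3 ≤ m) (θ : Oz a b) : (levZ θ : Iso m a b) ∈ commutator (Iso m a b) ↔
    H43.dickson (theta m a b (levZ θ)) = 1 ∧ H43.spinor (theta m a b (levZ θ)) = 1 := omega_iff hm _

theorem zrefl_two_mem (hm : 3 ≤ m) {u w : Fin 2 → K} (hu : u ≠ 0) (hw : w ≠ 0) :
    (levZ (zrefl u * zrefl w : Oz a b) : Iso m a b) ∈ commutator (Iso m a b) ↔
      IsSquare (nrm a b u * nrm a b w) := by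
  rw [levZ_mem_iff hm, map_mul, dickson_mul' hm, spinor_mul' hm, (zrefl_invariants hm hu).1,
    (zrefl_invariants hm hu).2, (zrefl_invariants hm hw).1, (zrefl_invariants hm hw).2,
    ← H43.sqc_mul (nrm_ne_zero hu) (nrm_ne_zero hw),
    H43.sqc_eq_one_iff (mul_ne_zero (nrm_ne_zero hu) (nrm_ne_zero hw))]
  exact ⟨fun h => h.2, fun h => ⟨rfl, h⟩⟩

/-- The Weyl element exchanging the two radicals. -/
noncomputable def wS : Iso m a b :=
  mk (mat3 0 1 1 0 0 0 0 0 1) fun v => by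
    rw [tri_eta v, mat3_mulVec, quad_tri, quad_tri]
    simp only [zero_mulVec, one_mulVec, zero_add, add_zero]
    rw [dotProduct_comm]

theorem conj_wS_lev (X : GL (Fin m) K) (θ : Oz a b) :
    wS * (lev (X, θ) : Iso m a b) * wS⁻¹ = lev (trInv X, θ) := by
  rw [mul_inv_eq_iff_eq_mul]
  refine mx_ext ?_
  rw [mx_mul, mx_mul, mx_lev, mx_lev, wS, mx_mk]
  simp [mat3_mul, mat3_inj, trInv, Units.inv_mk]

theorem conj_wS_V {v : Iso m a b} (hv : v ∈ (siegel m a b).V) : wS * v * wS⁻¹ ∈ (siegel m a b).U := by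
  obtain ⟨R, S, h, rfl⟩ := exists_lo hv
  have e : wS * lo R S h * wS⁻¹ = up R S h := by
    rw [mul_inv_eq_iff_eq_mul]
    refine mx_ext ?_
    rw [mx_mul, mx_mul, mx_lo, mx_up, wS, mx_mk]
    simp [mat3_mul, mat3_inj]
  rw [e]
  exact up_mem _

/-- The Siegel decomposition. -/
theorem decomp (g : Iso m a b) (hg : IsUnit ((siegel m a b).top g).det) :
    ∃ v ∈ (siegel m a b).V, ∃ (X : GL (Fin m) K) (θ : Oz a b) (R : Matrix (Fin 2) (Fin m) K)
      (S : Matrix (Fin m) (Fin m) K) (h : MinPair a b R S), g = v * lev (X, θ) * up R S h := by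
  classical
  set A := (mx g).toBlocks₁₁.toBlocks₁₁ with hA
  set B := (mx g).toBlocks₁₁.toBlocks₁₂ with hB
  set P := (mx g).toBlocks₁₂.toRows₁ with hP
  set C := (mx g).toBlocks₁₁.toBlocks₂₁
  set D := (mx g).toBlocks₁₁.toBlocks₂₂
  set Q := (mx g).toBlocks₁₂.toRows₂
  set W := (mx g).toBlocks₂₁.toCols₁
  set V := (mx g).toBlocks₂₁.toCols₂
  set Z := (mx g).toBlocks₂₂
  have eg : mx g = mat3 A B C D P Q W V Z := eq_mat3 _
  rw [top_eq, ← hA] at hg
  set p := A⁻¹ * P with hp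
  set S := A⁻¹ * B with hS
  have hAp : A * p = P := by rw [hp, ← Matrix.mul_assoc, mul_nonsing_inv _ hg, Matrix.one_mul]
  have hAS : A * S = B := by rw [hS, ← Matrix.mul_assoc, mul_nonsing_inv _ hg, Matrix.one_mul]
  set Θ := Z - W * p with hΘ
  set Φ := V - W * S with hΦ
  have hq : ∀ z y, nrm a b (Θ *ᵥ z + Φ *ᵥ y) = -((p *ᵥ z + S *ᵥ y) ⬝ᵥ y) + nrm a b z := fun z y => by
    have := mx_quad g (tri (-(p *ᵥ z + S *ᵥ y)) y z)
    rw [eg, mat3_mulVec, quad_tri, quad_tri] at this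
    have e1 : A *ᵥ (-(p *ᵥ z + S *ᵥ y)) + B *ᵥ y + P *ᵥ z = 0 := by
      rw [mulVec_neg, mulVec_add, mulVec_mulVec, mulVec_mulVec, hAp, hAS]; abel
    rw [e1, zero_dotProduct, zero_add, neg_dotProduct] at this
    rw [← this, hΘ, hΦ]
    simp only [sub_mulVec, mulVec_neg, mulVec_add, ← mulVec_mulVec]
    congr 1; abel
  set θ : Oz a b := zmk Θ (fun z => by simpa using hq z 0) with hθ
  set R := zm θ⁻¹ * Φ with hR
  have hΘR : Θ * R = Φ := by
    rw [hR, ← Matrix.mul_assoc, show Θ = zm θ from rfl, ← zm_mul, mul_inv_cancel, zm_one, Matrix.one_mul]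
  have hNR : ∀ y, nrm a b (R *ᵥ y) = nrm a b (Φ *ᵥ y) := fun y => by
    rw [← zm_nrm θ (R *ᵥ y), mulVec_mulVec, show zm θ * R = Φ from hΘR]
  have hodd : MinPair a b R S := fun y => by
    have := hq 0 y
    simp only [mulVec_zero, zero_add, nrm_zero, add_zero] at this
    rw [hNR, this, neg_neg, dotProduct_comm]
  have hpb : p = pblk a b R := by
    refine Matrix.ext_iff_mulVec.2 fun z => funext fun i => ?_
    have h1 := hq z (Pi.single i 1)
    rw [← hΘR, ← mulVec_mulVec, ← mulVec_add, show Θ = zm θ from rfl, zm_nrm, nrm_add, add_dotProduct] at h1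
    have h0 := hodd (Pi.single i 1)
    rw [dotProduct_comm] at h0
    have h3 := pblk_mulVec (a := a) (b := b) R (Pi.single i 1) z
    rw [single_one_dotProduct] at h3
    rw [h3]
    rw [dotProduct_single_one, dotProduct_single_one] at h1
    rw [dotProduct_single_one] at h0
    linear_combination h1 - h0
  let X : GL (Fin m) K := GeneralLinearGroup.mk'' A hg
  set w := lev (X, θ) * up R S hodd with hw
  have ew : mx w = mat3 A B 0 (X⁻¹ : GL (Fin m) K).valᵀ P 0 0 Φ Θ := by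
    rw [hw, mx_mul, mx_lev, mx_up, ← hpb]
    simp [mat3_mul, show X.val = A from rfl, show zm θ = Θ from rfl, hAp, hAS, hΘR]
  obtain ⟨v, hv⟩ : ∃ v, v = g * w⁻¹ := ⟨_, rfl⟩
  have e0 : v * w = g := by rw [hv, inv_mul_cancel_right]
  refine ⟨v, ?_, X, θ, R, S, hodd, by rw [mul_assoc, ← hw, e0]⟩
  have hrow : ∀ i k, mx w (Sum.inl (Sum.inl i)) k = mx g (Sum.inl (Sum.inl i)) k := by
    intro i k
    rw [ew, eg]
    rcases k with (k | k) | k <;> simp [mat3]
  have hvx : ∀ i k, mx v (Sum.inl (Sum.inl i)) k = (1 : Matrix (Idx m) (Idx m) K) (Sum.inl (Sum.inl i)) k := by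
    intro i k
    rw [← mx_one, ← mul_inv_cancel w, hv, mx_mul, mx_mul, Matrix.mul_apply, Matrix.mul_apply]
    exact Finset.sum_congr rfl fun j _ => by rw [hrow]
  have hvf : ∀ j, mx v *ᵥ tri 0 (Pi.single j 1) 0 = tri 0 (Pi.single j 1) 0 := by
    intro j
    set f : Idx m → K := tri 0 (Pi.single j 1) 0
    have hB' : ∀ u, polB (qMinus m K a b) u f = u (Sum.inl (Sum.inl j)) := fun u => by
      simp [H43.polB_qMinus, f, Pi.single_apply]
    have hx : ∀ u, (mx v *ᵥ u) (Sum.inl (Sum.inl j)) = u (Sum.inl (Sum.inl j)) := fun u => by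
      rw [mulVec, dotProduct, Finset.sum_congr rfl fun k _ => by rw [hvx j k]]
      simp [Matrix.one_apply]
    refine sub_eq_zero.1 ((hnd (a := a) (b := b)).2 _ fun z => ?_)
    obtain ⟨u, rfl⟩ : ∃ u, mx v *ᵥ u = z := ⟨mx v⁻¹ *ᵥ z, by
      rw [mulVec_mulVec, ← mx_mul, mul_inv_cancel, mx_one, one_mulVec]⟩
    rw [map_sub, hB', hx, ← hB' u, H43.polB_apply, H43.polB_apply, QuadraticMap.polar, QuadraticMap.polar,
      ← mulVec_add, H43.coe_qMinus, mx_quad, mx_quad, mx_quad, sub_self]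
  have hy : ∀ i j, mx v i (Sum.inl (Sum.inr j)) = (1 : Matrix (Idx m) (Idx m) K) i (Sum.inl (Sum.inr j)) := by
    intro i j
    have := congrFun (hvf j) i
    rw [mulVec, dotProduct, Finset.sum_eq_single (Sum.inl (Sum.inr j))] at this
    · simp at this
      rw [this]
      rcases i with (i | i) | i <;> simp [Matrix.one_apply, Pi.single_apply]
    · intro k _ hk
      rcases k with (k | k) | k <;> simp [Pi.single_apply] at hk ⊢
      intro h; exact absurd h hk
    · simp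
  have ev : mx v = mat3 1 0 (mx v).toBlocks₁₁.toBlocks₂₁ 1 0 (mx v).toBlocks₁₂.toRows₂ (mx v).toBlocks₂₁.toCols₁ 0
      (mx v).toBlocks₂₂ := by
    ext i j
    rcases i with (i | i) | i <;> rcases j with (j | j) | j <;>
      first
        | rfl
        | (rw [hvx]; simp [mat3, Matrix.one_apply])
        | (rw [hy]; simp [mat3, Matrix.one_apply])
  have hzz : (mx v).toBlocks₂₂ = 1 := by
    have h1 : mx v * mx w = mx g := by rw [← mx_mul, e0]
    rw [ev, ew, eg, mat3_mul, mat3_inj] at h1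
    obtain ⟨-, -, -, -, -, -, h7, -, h9⟩ := h1
    simp only [Matrix.mul_zero, Matrix.zero_mul, add_zero, zero_add] at h7 h9
    have h10 : (mx v).toBlocks₂₂ * zm θ = zm θ := by
      conv_rhs => rw [show zm θ = Θ from rfl, hΘ, ← h7, ← h9, Matrix.mul_assoc, hAp]
      rw [show zm θ = Θ from rfl, add_sub_cancel_left]
    have := congrArg (· * zm θ⁻¹) h10
    simpa [Matrix.mul_assoc, ← zm_mul, zm_one] using this
  rw [Siegel.mem_V]
  intro x y hxy
  rw [siegel_mat, ev, hzz]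
  rcases x with (x | x) | x <;> rcases y with (y | y) | y <;> simp [siegel] at hxy <;>
    simp [mat3, Matrix.one_apply]

theorem kill {C : Matrix (Fin m) (Fin m) K} {w : Fin m → K} (h : ∀ x, C *ᵥ x = 0 → w ⬝ᵥ x = 0) :
    ∃ v, v ᵥ* C = w := by
  classical
  obtain ⟨P, Q, hP, hQ, d, hd⟩ := H31.CSQ.exists_diag C
  have hz : ∀ i, d i = 0 → (w ᵥ* Q) i = 0 := fun i hi => by
    have hC : C *ᵥ (Q *ᵥ Pi.single i 1) = 0 := by
      refine mulVec_injective_iff_isUnit.2 ((isUnit_iff_isUnit_det P).2 hP) ?_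
      rw [mulVec_zero, mulVec_mulVec, mulVec_mulVec, hd]
      funext j
      simp only [mulVec_diagonal, Pi.zero_apply]
      by_cases h : j = i <;> simp [h, hi]
    have h1 := h _ hC
    rw [dotProduct_mulVec, dotProduct_single, mul_one] at h1
    exact h1
  refine ⟨(fun i => (w ᵥ* Q) i / d i) ᵥ* P, ?_⟩
  have h2 : ((fun i => (w ᵥ* Q) i / d i) ᵥ* P) ᵥ* C ᵥ* Q = w ᵥ* Q := by
    rw [vecMul_vecMul, vecMul_vecMul, ← Matrix.mul_assoc, hd]
    funext i
    rw [vecMul_diagonal]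
    by_cases h : d i = 0
    · rw [h, mul_zero, hz i h]
    · rw [div_mul_cancel₀ _ h]
  exact vecMul_injective_iff_isUnit.2 ((isUnit_iff_isUnit_det Q).2 hQ) h2

theorem invert (g : Iso m a b) : ∃ u ∈ (siegel m a b).U, IsUnit ((siegel m a b).top (u * g)).det := by
  classical
  set A := (mx g).toBlocks₁₁.toBlocks₁₁ with hA
  set B := (mx g).toBlocks₁₁.toBlocks₁₂
  set C := (mx g).toBlocks₁₁.toBlocks₂₁ with hC
  set W := (mx g).toBlocks₂₁.toCols₁ with hW
  have eg : mx g = mat3 A B C (mx g).toBlocks₁₁.toBlocks₂₂ (mx g).toBlocks₁₂.toRows₁ (mx g).toBlocks₁₂.toRows₂ W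
      (mx g).toBlocks₂₁.toCols₂ (mx g).toBlocks₂₂ := eq_mat3 _
  have hg0 : ∀ x, mx g *ᵥ tri x 0 0 = tri (A *ᵥ x) (C *ᵥ x) (W *ᵥ x) := fun x => by
    conv_lhs => rw [eg, mat3_mulVec]
    simp
  have hq : ∀ x, (A *ᵥ x) ⬝ᵥ (C *ᵥ x) = -nrm a b (W *ᵥ x) := fun x => by
    have := mx_quad g (tri x 0 0)
    rw [hg0, quad_tri, quad_tri, dotProduct_zero, nrm_zero] at this
    linear_combination this
  have hker : ∀ x, C *ᵥ x = 0 → W *ᵥ x = 0 := fun x hx => by
    refine Ani.ani (a := a) (b := b) _ ?_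
    have := hq x
    rw [hx, dotProduct_zero] at this
    linear_combination this
  choose V₀ hV₀ using fun i => kill (C := C) (w := W i) fun x hx => congrFun (hker x hx) i
  set V : Matrix (Fin 2) (Fin m) K := Matrix.of V₀ with hV
  have hVC : V * C = W := Matrix.ext fun i j => congrFun (hV₀ i) j
  set X₀ := Vᵀ * (tmat a b)ᵀ with hX₀
  set A₁ := A + X₀ * W with hA₁
  have hX₀W : ∀ x, (X₀ *ᵥ (W *ᵥ x)) ⬝ᵥ (C *ᵥ x) = nrm a b (W *ᵥ x) := fun x => by
    rw [hX₀, ← mulVec_mulVec, mulVec_transpose, ← dotProduct_mulVec, mulVec_mulVec _ V C, hVC, mulVec_transpose,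
      ← dotProduct_mulVec, nrm_eq]
  obtain ⟨K₁, v, hK₁, hu, -⟩ := H31.CSQ.exists_orth_shear (A := A₁) (C := C) (fun x h1 h2 => by
      have h3 := hker x h2
      rw [hA₁, add_mulVec, ← mulVec_mulVec, h3, mulVec_zero, add_zero] at h1
      have h4 : tri x 0 0 = 0 := mx_inj g (by
        simp only [hg0, h1, h2, h3, mulVec_zero]
        funext i; rcases i with (i | i) | i <;> rfl)
      exact funext fun i => congrFun h4 (Sum.inl (Sum.inl i)))
    (fun x => by rw [hA₁, add_mulVec, add_dotProduct, ← mulVec_mulVec, hq, hX₀W]; ring)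
  set R := vecMulVec (Pi.single 0 1) v - V with hR
  set S := X₀ * V + K₁ - pblk a b R * V with hS
  have hodd : MinPair a b R S := fun y => by
    have e1 : y ⬝ᵥ (X₀ * V) *ᵥ y = nrm a b (V *ᵥ y) := by
      rw [hX₀, nrm_eq, ← mulVec_mulVec, ← mulVec_mulVec, dotProduct_mulVec, vecMul_transpose, dotProduct_comm,
        mulVec_transpose, ← dotProduct_mulVec]
    have e2 : nrm a b (R *ᵥ y) + nrm a b (V *ᵥ y) + (V *ᵥ y) ⬝ᵥ gram a b *ᵥ (R *ᵥ y) = (v ⬝ᵥ y) ^ 2 := by
      rw [dot_gram_comm, ← nrm_add, hR, sub_mulVec, sub_add_cancel, vecMulVec_mulVec, op_smul_eq_smul, nrm_smul]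
      simp [nrm]
    rw [hS, sub_mulVec, add_mulVec, dotProduct_sub, dotProduct_add, e1, hK₁, ← mulVec_mulVec, pblk_mulVec]
    linear_combination e2
  refine ⟨up R S hodd, up_mem _, ?_⟩
  have e : (siegel m a b).top (up R S hodd * g) = A₁ + K₁ * C := by
    rw [top_mat3 (up R S hodd * g) (by rw [mx_mul, mx_up, eg, mat3_mul]), hA₁, hS, sub_mul, add_mul,
      Matrix.mul_assoc X₀ V C, hVC, Matrix.mul_assoc _ V C, hVC, Matrix.one_mul]
    abel
  rwa [e]

end H31.Com.Minus
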