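import Cfsg.Agent.H31.Commutator.MinusBlock

/-!
The scalar `-1` of `Ω⁻`.
-/

set_option autoImplicit false
set_option linter.style.haveILetI false
set_option linter.unusedSectionVars false

namespace H31.Com.Minus

open Matrix H21.ClassSquare
open H43 (orthGroup qMinus polB)

variable {K : Type*} [Field K] [Fintype K] {m : ℕ} {a b : K} [Ani a b]

theorem commutator_of_fixed {a₁ b₁ s : Iso m a b} (h : Commute a₁ s) :
    a₁ * (b₁ * s) * a₁⁻¹ * (b₁ * s)⁻¹ = a₁ * b₁ * a₁⁻¹ * b₁⁻¹ := by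
  have h' : s * a₁⁻¹ = a₁⁻¹ * s := (h.inv_left.eq).symm
  calc a₁ * (b₁ * s) * a₁⁻¹ * (b₁ * s)⁻¹ = a₁ * b₁ * (s * a₁⁻¹) * s⁻¹ * b₁⁻¹ := by group
    _ = _ := by rw [h']; group

set_option maxHeartbeats 1600000 in
theorem neg_one_comm (hm : 3 ≤ m) (h2 : (2 : K) ≠ 0) {X : GL (Fin m) K} {θ : Oz a b} (hX : X.val = (-1 : K) • 1)
    (hθ : zm θ = (-1 : K) • 1) (hg : lev (X, θ) ∈ commutator (Iso m a b)) : IsComm (lev (X, θ) : Iso m a b) := by
  classical
  set e₁ : Fin 2 → K := ![1, 0] with he₁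
  set w₀ : Fin 2 → K := ![-(a / 2), 1] with hw₀
  have hN1 : nrm a b e₁ = 1 := by simp [nrm, e₁]
  have hB : e₁ ⬝ᵥ gram a b *ᵥ w₀ = 0 := by
    simp [gram, e₁, w₀, mulVec, dotProduct, Fin.sum_univ_two]
    field_simp
    ring
  set c := nrm a b w₀ with hc
  have he0 : e₁ ≠ 0 := fun e => one_ne_zero (α := K) (by simpa [e₁] using congrFun e 0)
  have hw0 : w₀ ≠ 0 := fun e => one_ne_zero (α := K) (by simpa [w₀] using congrFun e 1)
  have hc0 : c ≠ 0 := nrm_ne_zero hw0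
  have hnsq : ∀ u : K, -c ≠ u * u := fun u hu => by
    have h1 : nrm a b (u • e₁ + w₀) = 0 := by
      rw [nrm_add, nrm_smul, hN1, smul_dotProduct, hB, smul_zero, ← hc]
      linear_combination -hu
    have h3 := congrFun (Ani.ani _ h1) 1
    simp [e₁, w₀] at h3
  have hsp : ∀ {S T : Oz a b}, zm S *ᵥ e₁ = zm T *ᵥ e₁ → zm S *ᵥ w₀ = zm T *ᵥ w₀ → S = T := by
    intro S T h1 h3
    refine zm_ext (Matrix.ext_iff_mulVec.2 fun z => ?_)
    have hz : z = (z 0 + z 1 * (a / 2)) • e₁ + z 1 • w₀ := by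
      funext i; fin_cases i <;> simp [e₁, w₀]
    rw [hz, mulVec_add, mulVec_add, mulVec_smul, mulVec_smul, mulVec_smul, mulVec_smul, h1, h3]
  have hneg : ∀ z, zm θ *ᵥ z = -z := fun z => by rw [hθ, smul_mulVec, one_mulVec, neg_one_smul]
  have hθe : θ = zrefl e₁ * zrefl w₀ := by
    refine hsp ?_ ?_
    · rw [hneg, zm_mul, ← mulVec_mulVec, zrefl_mulVec w₀, hB, mul_zero, zero_smul, sub_zero, zrefl_self he0]
    · rw [hneg, zm_mul, ← mulVec_mulVec, zrefl_self hw0, mulVec_neg, zrefl_mulVec, dot_gram_comm, hB, mul_zero,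
        zero_smul, sub_zero]
  have hdetX : X.val.det = (-1) ^ m := by rw [hX, det_smul, det_one, mul_one, Fintype.card_fin]
  have hsq : IsSquare ((-1) ^ m * c) := by
    obtain ⟨-, hs⟩ := (omega_iff hm _).1 hg
    have hne : X.val.det ≠ 0 := ((isUnit_iff_isUnit_det _).1 X.isUnit).ne_zero
    rw [(lev_invariants hm X θ).2, hθe, map_mul, spinor_mul' hm, (zrefl_invariants hm he0).2,
      (zrefl_invariants hm hw0).2, hN1, H43.sqc_one, one_mul, ← H43.sqc_mul hne hc0,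
      H43.sqc_eq_one_iff (mul_ne_zero hne hc0), hdetX] at hs
    exact hs
  have hev : Even m := by
    rcases Nat.even_or_odd m with h | h
    · exact h
    · obtain ⟨u, hu⟩ := hsq
      rw [h.neg_one_pow, neg_one_mul] at hu
      exact absurd hu (hnsq u)
  obtain ⟨t, ht⟩ : IsSquare c := by rwa [hev.neg_one_pow, one_mul] at hsq
  have ht0 : t ≠ 0 := fun e => hc0 (by rw [ht, e, mul_zero])
  set e₂ := t⁻¹ • w₀ with he₂
  have hN2 : nrm a b e₂ = 1 := by rw [he₂, nrm_smul, ← hc, ht]; field_simp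
  have hB2 : e₁ ⬝ᵥ gram a b *ᵥ e₂ = 0 := by rw [he₂, mulVec_smul, dotProduct_smul, hB, smul_zero]
  have hN3 : nrm a b (e₁ + e₂) = 2 := by rw [nrm_add, hN1, hN2, hB2]; norm_num
  have he20 : e₂ ≠ 0 := fun e => one_ne_zero (α := K) (by rw [← hN2, e, nrm_zero])
  have he30 : e₁ + e₂ ≠ 0 := fun e => h2 (by rw [← hN3, e, nrm_zero])
  set J : Oz a b := zrefl e₁ * zrefl (e₁ + e₂) with hJ
  have hJ1 : zm J *ᵥ e₁ = -e₂ := by
    rw [hJ, zm_mul, ← mulVec_mulVec, zrefl_mulVec (e₁ + e₂), hN3, mulVec_add, dotProduct_add, dot_gram_self, hN1, hB2,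
      mul_one, add_zero, inv_mul_cancel₀ h2, one_smul, sub_add_cancel_left, mulVec_neg, zrefl_mulVec, dot_gram_comm,
      hB2, mul_zero, zero_smul, sub_zero]
  have hJ2 : zm J *ᵥ e₂ = e₁ := by
    rw [hJ, zm_mul, ← mulVec_mulVec, zrefl_mulVec (e₁ + e₂), hN3, mulVec_add, dotProduct_add, dot_gram_self, hN2,
      dot_gram_comm, hB2, mul_one, zero_add, inv_mul_cancel₀ h2, one_smul, add_comm e₁ e₂, sub_add_cancel_left,
      mulVec_neg, zrefl_self he0, neg_neg]
  have hJJ : θ = J * zrefl e₁ * J⁻¹ * (zrefl e₁)⁻¹ := by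
    have hr : ∀ w : Fin 2 → K, (zrefl w : Oz a b)⁻¹ = zrefl w := fun w => inv_eq_of_mul_eq_one_right (zrefl_sq w)
    have e : J * zrefl e₁ * J⁻¹ * (zrefl e₁)⁻¹ = J * J := by
      rw [hJ, _root_.mul_inv_rev, hr, hr]
      calc zrefl e₁ * zrefl (e₁ + e₂) * zrefl e₁ * (zrefl (e₁ + e₂) * zrefl e₁) * zrefl e₁
          = zrefl e₁ * zrefl (e₁ + e₂) * zrefl e₁ * zrefl (e₁ + e₂) * (zrefl e₁ * zrefl e₁) := by group
        _ = _ := by rw [zrefl_sq, mul_one]; group
    rw [e]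
    refine hsp ?_ ?_
    · rw [hneg, zm_mul, ← mulVec_mulVec, hJ1, mulVec_neg, hJ2]
    · have hw : w₀ = t • e₂ := by rw [he₂, smul_smul, mul_inv_cancel₀ ht0, one_smul]
      rw [hneg, zm_mul, hw, ← mulVec_mulVec, mulVec_smul, hJ2, mulVec_smul, hJ1, smul_neg]
  obtain ⟨n, hn⟩ := hev
  obtain ⟨k, rfl⟩ : ∃ k, m = 2 + 2 * k := ⟨n - 1, by omega⟩
  have hk : 0 < k := by omega
  obtain ⟨p₀, hp₀⟩ := CharP.exists K
  haveI : NeZero p₀ := ⟨CharP.char_ne_zero_of_finite K p₀⟩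
  obtain ⟨p, q, hpq⟩ := CharP.sq_add_sq K p₀ (-1)
  rw [Int.cast_neg, Int.cast_one] at hpq
  let e : Fin 2 ⊕ (Fin 2 × Fin k) ≃ Fin (2 + 2 * k) := ((Equiv.refl _).sumCongr finProdFinEquiv).trans finSumFinEquiv
  let J₂ : Matrix (Fin 2) (Fin 2) K := !![0, 1; -1, 0]
  let D₂ : Matrix (Fin 2) (Fin 2) K := !![(p : K), (q : K); (q : K), -(p : K)]
  let E₂ : Matrix (Fin 2) (Fin 2) K := !![1, 0; 0, -1]
  let S₂ : Matrix (Fin 2) (Fin 2) K := !![0, 1; 1, 0]
  let fA : Fin k → Matrix (Fin 2) (Fin 2) K :=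
    if IsSquare (-2 : K) then fun _ => D₂ else fun j => if j = ⟨0, hk⟩ then E₂ else D₂
  let MA := reindex e e (fromBlocks E₂ 0 0 (blockDiagonal fA))
  let MB := reindex e e (fromBlocks S₂ 0 0 (blockDiagonal fun _ : Fin k => J₂))
  have hD₂ : D₂.det = 1 := by simp [D₂, det_fin_two]; linear_combination -hpq
  have hE₂ : E₂.det = -1 := by simp [E₂, det_fin_two]
  have hnotsq : ¬ IsSquare (-1 : K) := fun ⟨u, hu⟩ => hnsq (u * t) (by rw [ht]; linear_combination (t * t) * hu)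
  have hMB : MB.det = -1 := by
    simp [MB, det_fromBlocks_zero₁₂, det_blockDiagonal, S₂, J₂, det_fin_two]
  have hMA0 : MA.det ≠ 0 ∧ IsSquare (MA.det * 2) := by
    have e1 : MA.det = -1 * ∏ j, (fA j).det := by simp [MA, det_fromBlocks_zero₁₂, det_blockDiagonal, hE₂]
    by_cases h : IsSquare (-2 : K)
    · have e3 : MA.det = -1 := by rw [e1]; simp [fA, h, hD₂]
      rw [e3, show (-1 : K) * 2 = -2 by ring]
      exact ⟨neg_ne_zero.2 one_ne_zero, h⟩
    · have e2 : ∏ j, (fA j).det = -1 := by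
        rw [Finset.prod_eq_single (⟨0, hk⟩ : Fin k) (fun j _ hj => by simp [fA, h, hj, hD₂]) (by simp)]
        simp [fA, h, hE₂]
      have e3 : MA.det = 1 := by rw [e1, e2]; ring
      rw [e3, one_mul]
      refine ⟨one_ne_zero, ?_⟩
      rw [← neg_one_mul (2 : K)] at h
      by_contra h'
      have h3 := FiniteField.isSquare_neg_one_iff (F := K)
      have hmul : IsSquare ((-1 : K) * 2) := by
        have h4 : quadraticChar K (-1) = -1 := quadraticChar_neg_one_iff_not_isSquare.2 hnotsq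
        have h5 : quadraticChar K 2 = -1 := quadraticChar_neg_one_iff_not_isSquare.2 h'
        refine (quadraticChar_one_iff_isSquare (mul_ne_zero (neg_ne_zero.2 one_ne_zero) h2)).1 ?_
        rw [map_mul, h4, h5]; norm_num
      exact h hmul
  let xA : GL (Fin (2 + 2 * k)) K := GeneralLinearGroup.mk'' MA (IsUnit.mk0 _ hMA0.1)
  let xB : GL (Fin (2 + 2 * k)) K :=
    GeneralLinearGroup.mk'' MB (by rw [hMB]; exact IsUnit.mk0 _ (neg_ne_zero.2 one_ne_zero))
  have hXX : X = xA * xB * xA⁻¹ * xB⁻¹ := by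
    rw [eq_mul_inv_iff_mul_eq, eq_mul_inv_iff_mul_eq]
    apply Units.ext
    show X.val * MB * MA = MA * MB
    rw [hX, smul_mul, Matrix.one_mul, smul_mul]
    simp only [MA, MB, reindex_apply, submatrix_mul_equiv, fromBlocks_multiply, Matrix.mul_zero, Matrix.zero_mul,
      add_zero, zero_add, ← blockDiagonal_mul]
    have a1 : S₂ * E₂ = -(E₂ * S₂) := by ext x y; fin_cases x <;> fin_cases y <;> simp [S₂, E₂]
    have a2 : ∀ j, J₂ * fA j = -(fA j * J₂) := fun j => by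
      by_cases h : IsSquare (-2 : K)
      · ext x y; fin_cases x <;> fin_cases y <;> simp [fA, h, J₂, D₂]
      · by_cases hj : j = ⟨0, hk⟩
        · ext x y; fin_cases x <;> fin_cases y <;> simp [fA, h, hj, J₂, E₂]
        · ext x y; fin_cases x <;> fin_cases y <;> simp [fA, h, hj, J₂, D₂]
    simp only [a1, a2, show (fun j => -(fA j * J₂)) = -(fun j => fA j * J₂) from rfl, blockDiagonal_neg]
    ext x y
    obtain ⟨x, rfl⟩ := e.surjective x
    obtain ⟨y, rfl⟩ := e.surjective y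
    rcases x with x | x <;> rcases y with y | y <;> simp [Matrix.smul_apply]
  set i₀ : Fin (2 + 2 * k) := e (Sum.inl 0) with hi₀
  have hA1 : MA *ᵥ Pi.single i₀ 1 = Pi.single i₀ 1 := by
    funext x
    obtain ⟨x, rfl⟩ := e.surjective x
    rcases x with x | x
    · fin_cases x <;> simp [MA, i₀, E₂, Pi.single_apply]
    · simp [MA, i₀, Pi.single_apply]
  have hA2 : Pi.single i₀ 1 ᵥ* MA = Pi.single i₀ 1 := by
    funext x
    obtain ⟨x, rfl⟩ := e.surjective x
    rcases x with x | x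
    · fin_cases x <;> simp [MA, i₀, E₂, Pi.single_apply]
    · simp [MA, i₀, Pi.single_apply]
  set v : Idx (2 + 2 * k) → K := tri (Pi.single i₀ 1) (-Pi.single i₀ 1) 0 with hv
  have hQv : qMinus (2 + 2 * k) K a b v = -1 := by rw [H43.coe_qMinus, hv, quad_tri, nrm_zero]; simp
  have hQv0 : qMinus (2 + 2 * k) K a b v ≠ 0 := by rw [hQv]; exact neg_ne_zero.2 one_ne_zero
  set s : Iso (2 + 2 * k) a b := (theta _ a b).symm (H43.refl (qMinus (2 + 2 * k) K a b) v) with hs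
  have hfix : mx (lev (xA, J) : Iso (2 + 2 * k) a b) *ᵥ v = v := by
    rw [hv, mx_lev, mat3_mulVec]
    have h4 : (xA⁻¹ : GL (Fin (2 + 2 * k)) K).valᵀ *ᵥ Pi.single i₀ 1 = Pi.single i₀ 1 := by
      rw [mulVec_transpose]
      conv_lhs => rw [← hA2]
      rw [vecMul_vecMul, show MA = xA.val from rfl, xA.mul_inv, vecMul_one]
    simp only [mulVec_neg, h4, show xA.val = MA from rfl, hA1, zero_mulVec, neg_zero, add_zero, zero_add, mulVec_zero]
  have hcomm : Commute (lev (xA, J) : Iso (2 + 2 * k) a b) s := by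
    refine (theta _ a b).injective ?_
    rw [map_mul, map_mul, hs, MulEquiv.apply_symm_apply]
    have h5 := H43.refl_conj (theta _ a b (lev (xA, J) : Iso (2 + 2 * k) a b)) v
    rw [theta_apply, hfix] at h5
    exact mul_inv_eq_iff_eq_mul.1 h5
  refine ⟨lev (xA, J), (omega_iff hm _).2 ⟨?_, ?_⟩, lev (xB, zrefl e₁) * s, (omega_iff hm _).2 ⟨?_, ?_⟩, ?_⟩
  · rw [(lev_invariants hm xA J).1, hJ, map_mul, dickson_mul' hm, (zrefl_invariants hm he0).1,
      (zrefl_invariants hm he30).1]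
    rfl
  · rw [(lev_invariants hm xA J).2, hJ, map_mul, spinor_mul' hm, (zrefl_invariants hm he0).2,
      (zrefl_invariants hm he30).2, hN1, hN3, H43.sqc_one, one_mul, show xA.val.det = MA.det from rfl, ← H43.sqc_mul hMA0.1 h2,
      H43.sqc_eq_one_iff (mul_ne_zero hMA0.1 h2)]
    exact hMA0.2
  · rw [dickson_mul' hm, (lev_invariants hm xB _).1, (zrefl_invariants hm he0).1, hs, MulEquiv.apply_symm_apply,
      H43.dickson_refl hnd hQv0]
    rfl
  · rw [spinor_mul' hm, (lev_invariants hm xB _).2, (zrefl_invariants hm he0).2, hs, MulEquiv.apply_symm_apply,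
      H43.spinor_refl hnd hQv0, hQv, hN1, H43.sqc_one, mul_one, show xB.val.det = -1 from hMB, H43.sqClass_mul_self]
  · rw [commutator_of_fixed hcomm, hXX, hJJ, ← map_inv, ← map_inv, ← map_mul, ← map_mul, ← map_mul]
    rfl

end H31.Com.Minus
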