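import Cfsg.Agent.H31.Commutator.MinusMoves
import Cfsg.Agent.H31.Commutator.MinusNeg

/-!
Every element of `Ω⁻` is a commutator, granted commutator factorisations in `SL_n`.
-/

set_option autoImplicit false
set_option linter.style.haveILetI false
set_option linter.unusedSectionVars false

namespace H31.Com.Minus

open Matrix H21.ClassSquare H31.CSQ.Orth
open H31.CSQ.Plus (trInv)

variable {K : Type*} [Field K] [Fintype K] {m : ℕ} {a b : K} [Ani a b]

theorem up_eq_one {R : Matrix (Fin 2) (Fin m) K} {S : Matrix (Fin m) (Fin m) K} {h : MinPair a b R S}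
    (hR : R = 0) (hS : S = 0) : up R S h = 1 := by
  subst hR hS
  exact mx_ext (by rw [mx_up, pblk_zero, mx_one, mat3_one])

theorem lev_mem (hm : 3 ≤ m) (hGL : SLFacM m a b) {g v u : Iso m a b} {X : GL (Fin m) K} {α : Oz a b}
    (hg : g ∈ commutator (Iso m a b)) (hv : v ∈ (siegel m a b).V) (hu : u ∈ (siegel m a b).U)
    (e : g = v * lev (X, α) * u) : (lev (X, α) : Iso m a b) ∈ commutator (Iso m a b) := by
  rw [show lev (X, α) = v⁻¹ * g * u⁻¹ by rw [e]; group]
  exact mul_mem (mul_mem (inv_mem (radicals_le hm hGL (Or.inr hv))) hg) (inv_mem (radicals_le hm hGL (Or.inl hu)))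

theorem stage_det (hm : 3 ≤ m) (hGL : SLFacM m a b) {g v : Iso m a b} {X : GL (Fin m) K}
    {R : Matrix (Fin 2) (Fin m) K} {S : Matrix (Fin m) (Fin m) K} {h : MinPair a b R S}
    (hv : v ∈ (siegel m a b).V) (hX : X.val.det = 1) (hne : ¬ (R = 0 ∧ S = 0))
    (e : g = v * lev (X, 1) * up R S h) : IsComm g := by
  by_cases hns : ∀ μ : K, X.val ≠ μ • 1
  · exact e ▸ block_comm hm hGL hv (up_mem h) hX hns
  push Not at hns
  obtain ⟨ν, hν⟩ := hns
  haveI : Nonempty (Fin m) := ⟨⟨0, by omega⟩⟩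
  have hν0 : ν ≠ 0 := fun e0 => by
    rw [hν, e0, zero_smul, det_zero] at hX
    exact zero_ne_one hX
  obtain ⟨R', S', h', v₀, hv₀, A, R₀, S₀, h₀, e₀, hA, hAs⟩ : ∃ R' S', ∃ h' : MinPair a b R' S',
      ∃ v ∈ (siegel m a b).V, ∃ A : GL (Fin m) K, ∃ R₀ S₀, ∃ h₀ : MinPair a b R₀ S₀,
      up R S h * lo R' S' h' = v * lev (A, 1) * up R₀ S₀ h₀ ∧ A.val.det = 1 ∧ ∀ μ : K, A.val ≠ μ • 1 := by
    by_cases hR : R = 0
    · subst hR
      obtain ⟨R', S', h', v, hv, A, R₀, S₀, h₀, h1, -, h3, h4⟩ := move_zero hm h fun hS => hne ⟨rfl, hS⟩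
      exact ⟨R', S', h', v, hv, A, R₀, S₀, h₀, h1, h3, h4⟩
    · exact move_scalar hm h hR
  obtain ⟨v', hv', e'⟩ := conj_lo h' hv e hv₀ e₀
  refine IsComm.of_conj (lo R' S' h')⁻¹ ?_
  rw [inv_inv, e', mul_one]
  refine block_comm hm hGL hv' (up_mem h₀) (by rw [Units.val_mul, det_mul, hX, hA, one_mul]) fun μ hμ => ?_
  rw [Units.val_mul, hν, smul_mul, Matrix.one_mul] at hμ
  exact hAs (ν⁻¹ * μ) (by rw [← inv_smul_smul₀ hν0 A.val, hμ, smul_smul])

theorem central (hm : 3 ≤ m) {X : GL (Fin m) K} {α : Oz a b}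
    (h : ∀ u ∈ (siegel m a b).U, Commute (lev (X, α) : Iso m a b) u) :
    ∃ ν : K, X.val = ν • 1 ∧ zm α = ν • 1 ∧ ν * ν = 1 := by
  have hc : ∀ R S, MinPair a b R S →
      X.val * S = S * (X⁻¹ : GL (Fin m) K).valᵀ ∧ X.val * pblk a b R = pblk a b R * zm α := by
    intro R S hodd
    have e := congrArg mx (h _ (up_mem hodd)).eq
    rw [mx_mul, mx_mul, mx_lev, mx_up, mat3_mul, mat3_mul, mat3_inj] at e
    simp only [Matrix.mul_zero, Matrix.zero_mul, Matrix.one_mul, Matrix.mul_one, add_zero, zero_add] at e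
    exact ⟨e.2.1, e.2.2.2.2.1⟩
  obtain ⟨ν, hν, hν2⟩ := scalar_of_alt (A := X.val) (B := (X⁻¹ : GL (Fin m) K).valᵀ) hm
    (by rw [transpose_transpose, Units.inv_mul]) fun S hS => (hc 0 S (minPair_zero hS)).1
  refine ⟨ν, hν, ?_, hν2⟩
  set i : Fin m := ⟨0, by omega⟩
  have hG : gram a b * zm α = gram a b * (ν • 1) := by
    refine Matrix.ext fun l j => ?_
    have e := congrFun (congrFun (hc _ _ (minPair_rank_one (Pi.single l 1) (Pi.single i 1))).2 i) j
    rw [hν, pblk_rank_one, smul_mul, Matrix.one_mul, Matrix.neg_mul, vecMulVec_mul] at e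
    simp [vecMulVec_apply, vecMul, dotProduct] at e
    simp only [Matrix.mul_apply, Fin.sum_univ_two, Matrix.smul_apply, smul_eq_mul, Matrix.one_apply]
    have hs : ∀ x y, gram a b x y = gram a b y x := fun x y => congrFun (congrFun gram_transpose y) x
    rw [hs 0 l, hs 1 l] at e
    fin_cases j <;> simp [hs _ l] at e ⊢ <;> linear_combination e
  have hG' : IsUnit (gram a b).det := IsUnit.mk0 _ gram_det_ne_zero
  have := congrArg ((gram a b)⁻¹ * ·) hG
  simpa [← Matrix.mul_assoc, nonsing_inv_mul _ hG'] using this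

set_option maxHeartbeats 800000 in
theorem stage_one (hm : 3 ≤ m) (hGL : SLFacM m a b) {g v : Iso m a b} {X : GL (Fin m) K}
    {R : Matrix (Fin 2) (Fin m) K} {S : Matrix (Fin m) (Fin m) K} {h : MinPair a b R S}
    (hv : v ∈ (siegel m a b).V) (hX : X.val.det = 1) (e : g = v * lev (X, 1) * up R S h) : IsComm g := by
  by_cases hns : ∀ μ : K, X.val ≠ μ • 1
  · exact e ▸ block_comm hm hGL hv (up_mem h) hX hns
  by_cases hne : R = 0 ∧ S = 0
  swap
  · exact stage_det hm hGL hv hX hne e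
  rw [up_eq_one hne.1 hne.2, mul_one] at e
  by_cases hv1 : v = 1
  · subst hv1
    rw [one_mul] at e
    by_cases hc : ∀ y ∈ (siegel m a b).U, Commute (lev (X, (1 : Oz a b))) y
    · obtain ⟨ν, hν, hα, -⟩ := central hm hc
      have hν1 : ν = 1 := by simpa [zm_one] using (congrFun (congrFun hα 0) 0).symm
      rw [e, show X = 1 from Units.ext (by rw [hν, hν1, one_smul, Units.val_one]), ← Prod.one_eq_mk, map_one]
      exact ⟨1, one_mem _, 1, one_mem _, by group⟩
    push Not at hc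
    obtain ⟨y, hy, hyc⟩ := hc
    obtain ⟨R', S', h', e'⟩ := exists_up (mul_mem (lev_conj_U hy (X, (1 : Oz a b))⁻¹) (inv_mem hy))
    have e'' : (lev (X, (1 : Oz a b)))⁻¹ * y * lev (X, 1) * y⁻¹ = up R' S' h' := by
      rw [← e', map_inv, inv_inv]
    refine IsComm.of_conj y (stage_det hm hGL (v := 1) (h := h') (one_mem _) hX (fun h0 => hyc ?_) ?_)
    · rw [up_eq_one h0.1 h0.2] at e''
      have := congrArg (fun z => lev (X, (1 : Oz a b)) * z * y) e''
      simp only [mul_one] at this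
      show _ = _
      rw [← this]; group
    · rw [e, ← e'']; group
  · obtain ⟨R', S', h', e'⟩ := exists_up (lev_conj_U (conj_wS_V hv) (trInv X, (1 : Oz a b))⁻¹)
    refine IsComm.of_conj wS (stage_det hm hGL (v := 1) (X := trInv X) (h := h') (one_mem _) ?_ (fun h0 => hv1 ?_) ?_)
    · show (trInv X).val.det = 1
      rw [trInv]
      simp [det_transpose, Matrix.det_nonsing_inv, hX]
    · rw [up_eq_one h0.1 h0.2, conj_eq_one_iff, conj_eq_one_iff] at e'
      exact e'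
    · rw [e, one_mul, ← e', map_inv, inv_inv, ← conj_wS_lev]; group

set_option maxHeartbeats 800000 in
theorem stage_pair (hm : 3 ≤ m) (hGL : SLFacM m a b) {g v : Iso m a b} {X : GL (Fin m) K} {α : Oz a b}
    {R : Matrix (Fin 2) (Fin m) K} {S : Matrix (Fin m) (Fin m) K} {h : MinPair a b R S}
    (hg : g ∈ commutator (Iso m a b)) (hv : v ∈ (siegel m a b).V) (hR : R ≠ 0)
    (e : g = v * lev (X, α) * up R S h) : IsComm g := by
  obtain ⟨hd, hs⟩ := (omega_iff hm _).1 (lev_mem hm hGL hg hv (up_mem h) e)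
  rw [(lev_invariants hm X α).1] at hd
  rw [(lev_invariants hm X α).2] at hs
  obtain ⟨k, hk⟩ : ∃ k, R *ᵥ k ≠ 0 := by
    by_contra hc
    push Not at hc
    exact hR (Matrix.ext_iff_mulVec.2 fun y => by rw [hc, zero_mulVec])
  set r := R *ᵥ k with hr
  set n := nrm a b r with hn
  have hn0 : n ≠ 0 := nrm_ne_zero hk
  have hinv : H43.dickson (theta m a b (levZ (α⁻¹))) = 1 := by
    have h1 := dickson_mul' hm (levZ α) (levZ α⁻¹ : Iso m a b)
    rw [← map_mul, mul_inv_cancel, map_one, map_one, H43.dickson_one, hd, one_mul] at h1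
    exact h1.symm
  obtain ⟨w₀, hw₀, hT⟩ := eq_zrefl hm (T := zrefl r * α⁻¹) (by
    rw [map_mul, dickson_mul' hm, (zrefl_invariants hm hk).1, hinv, mul_one]
    decide)
  have hα : α = zrefl w₀ * zrefl r := by
    rw [← hT, mul_assoc]
    have h2 : zrefl r * α⁻¹ * (zrefl r * α⁻¹) = 1 := by rw [hT, zrefl_sq]
    calc α = (zrefl r * α⁻¹ * (zrefl r * α⁻¹)) * α := by rw [h2, one_mul]
      _ = _ := by group
  have hdX : X.val.det ≠ 0 := ((isUnit_iff_isUnit_det _).1 X.isUnit).ne_zero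
  rw [hα, map_mul, spinor_mul' hm, (zrefl_invariants hm hw₀).2, (zrefl_invariants hm hk).2,
    ← H43.sqc_mul (nrm_ne_zero hw₀) hn0, ← H43.sqc_mul hdX (mul_ne_zero (nrm_ne_zero hw₀) hn0),
    H43.sqc_eq_one_iff (mul_ne_zero hdX (mul_ne_zero (nrm_ne_zero hw₀) hn0))] at hs
  obtain ⟨σ, hσ⟩ := hs
  have hσ0 : σ ≠ 0 := fun e0 =>
    mul_ne_zero hdX (mul_ne_zero (nrm_ne_zero hw₀) hn0) (hσ.trans (by rw [e0, mul_zero]))
  set s := n / σ with hsdef
  have hs0 : s ≠ 0 := div_ne_zero hn0 hσ0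
  obtain ⟨R', S', h', v₀, hv₀, A, R₀, S₀, h₀, e₀, hA⟩ :=
    move_pair h (k := k) rfl hk (w := s • w₀) (smul_ne_zero hs0 hw₀)
  rw [zrefl_smul _ hs0] at e₀
  obtain ⟨v', hv', e'⟩ := conj_lo h' hv e hv₀ e₀
  have hαβ : α * (zrefl r * zrefl w₀) = 1 := by
    rw [hα, mul_assoc, ← mul_assoc (zrefl r) (zrefl r), zrefl_sq, one_mul, zrefl_sq]
  rw [hαβ] at e'
  refine IsComm.of_conj (lo R' S' h')⁻¹ ?_
  rw [inv_inv]
  refine stage_one hm hGL hv' ?_ e'
  rw [Units.val_mul, det_mul, hA, nrm_smul, ← hn, hsdef]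
  field_simp
  linear_combination hσ

set_option maxHeartbeats 800000 in
theorem comm_of_block (hm : 3 ≤ m) (hGL : SLFacM m a b) {g v : Iso m a b} {X : GL (Fin m) K} {α : Oz a b}
    {R : Matrix (Fin 2) (Fin m) K} {S : Matrix (Fin m) (Fin m) K} {h : MinPair a b R S}
    (hg : g ∈ commutator (Iso m a b)) (hv : v ∈ (siegel m a b).V) (hne : ¬ (R = 0 ∧ S = 0))
    (e : g = v * lev (X, α) * up R S h) : IsComm g := by
  by_cases hR : R = 0
  swap
  · exact stage_pair hm hGL hg hv hR e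
  subst hR
  obtain ⟨R', S', h', v₀, hv₀, A, R₀, S₀, h₀, e₀, hR₀, -, -⟩ := move_zero hm h fun hS => hne ⟨rfl, hS⟩
  obtain ⟨v', hv', e'⟩ := conj_lo h' hv e hv₀ e₀
  refine IsComm.of_conj (lo R' S' h')⁻¹ ?_
  rw [inv_inv]
  refine stage_pair hm hGL ?_ hv' hR₀ e'
  simpa using commutator_conj hg (lo R' S' h')⁻¹

set_option maxHeartbeats 800000 in
/-- **Every element of `Ω⁻` is a commutator.** -/
theorem all_comm (hm : 3 ≤ m) (hGL : SLFacM m a b) {g : Iso m a b} (hg : g ∈ commutator (Iso m a b)) :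
    IsComm g := by
  obtain ⟨u₀, hu₀, htop⟩ := invert g
  refine IsComm.of_conj u₀ ?_
  have hg₁ : u₀ * g * u₀⁻¹ ∈ commutator (Iso m a b) := commutator_conj hg u₀
  obtain ⟨v, hv, X, α, R, S, h, e⟩ := decomp (u₀ * g * u₀⁻¹)
    (by rwa [(siegel m a b).top_mul_U (inv_mem hu₀)])
  generalize u₀ * g * u₀⁻¹ = g₁ at e hg₁
  by_cases hne : R = 0 ∧ S = 0
  swap
  · exact comm_of_block hm hGL hg₁ hv hne e
  rw [up_eq_one hne.1 hne.2, mul_one] at e
  by_cases hv1 : v = 1
  · subst hv1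
    rw [one_mul] at e
    by_cases hc : ∀ y ∈ (siegel m a b).U, Commute (lev (X, α)) y
    · obtain ⟨ν, hν, hα, hν2⟩ := central hm hc
      by_cases hν1 : ν = 1
      · rw [e, show X = 1 from Units.ext (by rw [hν, hν1, one_smul, Units.val_one]),
          show α = 1 from zm_ext (by rw [hα, hν1, one_smul, zm_one]), ← Prod.one_eq_mk, map_one]
        exact ⟨1, one_mem _, 1, one_mem _, by group⟩
      have hν' : ν = -1 := (mul_self_eq_one_iff.1 hν2).resolve_left hν1
      subst hν'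
      have h2 : (2 : K) ≠ 0 := fun h0 => hν1 (by linear_combination -h0)
      rw [e]
      exact neg_one_comm hm h2 hν hα (e ▸ hg₁)
    push Not at hc
    obtain ⟨y, hy, hyc⟩ := hc
    obtain ⟨R', S', h', e'⟩ := exists_up (mul_mem (lev_conj_U hy (X, α)⁻¹) (inv_mem hy))
    have e'' : (lev (X, α))⁻¹ * y * lev (X, α) * y⁻¹ = up R' S' h' := by
      rw [← e', map_inv, inv_inv]
    refine IsComm.of_conj y (comm_of_block hm hGL (v := 1) (X := X) (α := α) (h := h') (commutator_conj hg₁ y)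
      (one_mem _) (fun h0 => hyc ?_) ?_)
    · rw [up_eq_one h0.1 h0.2] at e''
      have := congrArg (fun z => lev (X, α) * z * y) e''
      simp only [mul_one] at this
      show _ = _
      rw [← this]; group
    · rw [e, ← e'']; group
  · obtain ⟨R', S', h', e'⟩ := exists_up (lev_conj_U (conj_wS_V hv) (trInv X, α)⁻¹)
    refine IsComm.of_conj wS (comm_of_block hm hGL (v := 1) (X := trInv X) (α := α) (h := h')
      (commutator_conj hg₁ _) (one_mem _) (fun h0 => hv1 ?_) ?_)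
    · rw [up_eq_one h0.1 h0.2, conj_eq_one_iff, conj_eq_one_iff] at e'
      exact e'
    · rw [e, one_mul, ← e', map_inv, inv_inv, ← conj_wS_lev]; group

end H31.Com.Minus
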