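import Cfsg.Agent.H31.Commutator.MinusBlock

/-!
The moves which normalise the Levi part.
-/

set_option autoImplicit false
set_option linter.style.haveILetI false
set_option linter.unusedSectionVars false

namespace H31.Com.Minus

open Matrix H21.ClassSquare H31.CSQ.Orth

variable {K : Type*} [Field K] [Fintype K] {m : ℕ} {a b : K} [Ani a b]

theorem minPair_rank_one (z : Fin 2 → K) (k : Fin m → K) :
    MinPair a b (vecMulVec z k) ((-nrm a b z) • vecMulVec k k) := fun y => by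
  simp [smul_mulVec, neg_mulVec, vecMulVec_mulVec, op_smul_eq_smul, nrm_smul, dotProduct_comm y k]
  ring

theorem minPair_zero {S : Matrix (Fin m) (Fin m) K} (hS : Alt S) :
    MinPair a b (0 : Matrix (Fin 2) (Fin m) K) S := fun y => by simp [hS y, nrm_zero]

theorem pblk_rank_one (z : Fin 2 → K) (k : Fin m → K) :
    pblk a b (vecMulVec z k) = -vecMulVec k (gram a b *ᵥ z) := by
  rw [pblk, transpose_vecMulVec, vecMulVec_mul, ← mulVec_transpose, gram_transpose]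

theorem mul_vecMulVec_inv {A : Matrix (Fin m) (Fin m) K} {c k : Fin m → K} (hA : A = 1 + vecMulVec c k)
    (hu : IsUnit A.det) (hne : 1 + k ⬝ᵥ c ≠ 0) : k ᵥ* A⁻¹ = (1 + k ⬝ᵥ c)⁻¹ • k := by
  have h1 : k ᵥ* A = (1 + k ⬝ᵥ c) • k := by
    rw [hA, vecMul_add, vecMul_one, vecMul_vecMulVec, add_smul, one_smul]
  have h2 := congrArg (· ᵥ* A⁻¹) h1
  simp only [vecMul_vecMul, mul_nonsing_inv _ hu, vecMul_one, smul_vecMul] at h2
  have h3 := congrArg ((1 + k ⬝ᵥ c)⁻¹ • ·) h2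
  simp only [smul_smul, inv_mul_cancel₀ hne, one_smul] at h3
  exact h3.symm

theorem det_one_add_vec (c k : Fin m → K) : (1 + vecMulVec c k).det = 1 + k ⬝ᵥ c := by
  rw [vecMulVec_eq Unit, det_one_add_replicateCol_mul_replicateRow]

/-- The decomposition of a product of opposite radical elements. -/
theorem split_up_lo {R R' : Matrix (Fin 2) (Fin m) K} {S S' : Matrix (Fin m) (Fin m) K} (h : MinPair a b R S)
    (h' : MinPair a b R' S') {X : GL (Fin m) K} (hX : X.val = 1 + S * S' + pblk a b R * R') {β : Oz a b}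
    (hβ : R * pblk a b R' + 1 - (R * S' + R') * (X.val⁻¹ * (S * pblk a b R' + pblk a b R)) = zm β) :
    ∃ v ∈ (siegel m a b).V, ∃ R₀ S₀, ∃ h₀ : MinPair a b R₀ S₀, up R S h * lo R' S' h' = v * lev (X, β) * up R₀ S₀ h₀ ∧
      X.val * S₀ = S ∧ zm β * R₀ = R - (R * S' + R') * (X.val⁻¹ * S) := by
  have e := mx_up_mul_lo h h'
  obtain ⟨v, hv, X', θ', R₀, S₀, h₀, eq⟩ := decomp (up R S h * lo R' S' h') (by
    rw [top_mat3 _ e, ← hX]
    exact (isUnit_iff_isUnit_det _).1 X.isUnit)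
  obtain ⟨Rv, Sv, hv', rfl⟩ := exists_lo hv
  rw [eq, mx_mul, mx_mul, mx_lev, mx_lo, mx_up, mat3_mul, mat3_mul, mat3_inj] at e
  simp only [Matrix.mul_zero, Matrix.zero_mul, Matrix.one_mul, Matrix.mul_one, add_zero, zero_add] at e
  obtain ⟨h1, h2, -, -, h5, -, h7, h8, h9⟩ := e
  have hXX : X' = X := Units.ext (by rw [hX]; exact h1)
  subst hXX
  have hu : IsUnit X'.val.det := (isUnit_iff_isUnit_det _).1 X'.isUnit
  have hW : Rv = (R * S' + R') * X'.val⁻¹ := by rw [← h7, Matrix.mul_assoc, mul_nonsing_inv _ hu, Matrix.mul_one]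
  have hP : pblk a b R₀ = X'.val⁻¹ * (S * pblk a b R' + pblk a b R) := by
    rw [← h5, ← Matrix.mul_assoc, nonsing_inv_mul _ hu, Matrix.one_mul]
  have hS : S₀ = X'.val⁻¹ * S := by conv_rhs => rw [← h2, ← Matrix.mul_assoc, nonsing_inv_mul _ hu, Matrix.one_mul]
  have hθ : θ' = β := zm_ext (by
    rw [← hβ, ← hP, ← h7, ← h9, add_sub_cancel_left])
  subst hθ
  refine ⟨lo Rv Sv hv', lo_mem _, R₀, S₀, h₀, eq, h2, ?_⟩
  rw [← hS, ← h7, ← h8, Matrix.mul_assoc, add_sub_cancel_left]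

theorem levX_neg (X : GL (Fin m) K) : (levX X : Iso m a b) = lev (X, 1) := rfl

/-- Conjugation by a lower radical element. -/
theorem conj_lo {g v : Iso m a b} {X : GL (Fin m) K} {α : Oz a b} {R R' : Matrix (Fin 2) (Fin m) K}
    {S S' : Matrix (Fin m) (Fin m) K} {h : MinPair a b R S} (h' : MinPair a b R' S') (hv : v ∈ (siegel m a b).V)
    (e : g = v * lev (X, α) * up R S h) {A : GL (Fin m) K} {β : Oz a b} {v₀ : Iso m a b}
    (hv₀ : v₀ ∈ (siegel m a b).V) {R₀ : Matrix (Fin 2) (Fin m) K} {S₀ : Matrix (Fin m) (Fin m) K}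
    {h₀ : MinPair a b R₀ S₀} (e₀ : up R S h * lo R' S' h' = v₀ * lev (A, β) * up R₀ S₀ h₀) :
    ∃ v' ∈ (siegel m a b).V, (lo R' S' h')⁻¹ * g * lo R' S' h' = v' * lev (X * A, α * β) * up R₀ S₀ h₀ := by
  refine ⟨(lo R' S' h')⁻¹ * v * (lev (X, α) * v₀ * (lev (X, α))⁻¹),
    mul_mem (mul_mem (inv_mem (lo_mem _)) hv) (lev_conj_V hv₀ _), ?_⟩
  rw [e, show (X * A, α * β) = (X, α) * (A, β) from rfl, map_mul]
  calc (lo R' S' h')⁻¹ * (v * lev (X, α) * up R S h) * lo R' S' h'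
      = (lo R' S' h')⁻¹ * v * lev (X, α) * (up R S h * lo R' S' h') := by group
    _ = _ := by rw [e₀]; group

theorem vec_mul_mat (c : Fin 2 → K) (k : Fin m → K) (M : Matrix (Fin m) (Fin 2) K) :
    vecMulVec c k * M = vecMulVec c (k ᵥ* M) := vecMulVec_mul _ _ _

theorem dot_pblk (R : Matrix (Fin 2) (Fin m) K) (k : Fin m → K) :
    k ᵥ* pblk a b R = -(gram a b *ᵥ (R *ᵥ k)) := by
  refine funext fun i => ?_
  have h := pblk_mulVec (a := a) (b := b) R k (Pi.single i 1)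
  rw [dotProduct_mulVec, dotProduct_single_one, single_one_dotProduct] at h
  rw [h, Pi.neg_apply]

/-- The move adjusting the binary part. -/
theorem move_pair {R : Matrix (Fin 2) (Fin m) K} {S : Matrix (Fin m) (Fin m) K} (h : MinPair a b R S)
    {k : Fin m → K} {r : Fin 2 → K} (hr : R *ᵥ k = r) (hr0 : r ≠ 0) {w : Fin 2 → K} (hw : w ≠ 0) :
    ∃ R' S', ∃ h' : MinPair a b R' S', ∃ v ∈ (siegel m a b).V, ∃ A : GL (Fin m) K, ∃ R₀ S₀,
      ∃ h₀ : MinPair a b R₀ S₀,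
      up R S h * lo R' S' h' = v * lev (A, zrefl r * zrefl w) * up R₀ S₀ h₀ ∧
        A.val.det = nrm a b w / nrm a b r := by
  set n := nrm a b r with hn
  have hn0 : n ≠ 0 := nrm_ne_zero hr0
  set z₀ := n⁻¹ • (w + r) with hz₀
  set c := pblk a b R *ᵥ z₀ - nrm a b z₀ • (S *ᵥ k) with hc
  clear_value z₀ c
  have hkS : k ⬝ᵥ S *ᵥ k = -n := by rw [h k, hr]
  have hwz : n • z₀ - r = w := by rw [hz₀, smul_smul, mul_inv_cancel₀ hn0, one_smul, add_sub_cancel_right]
  have hkc : k ⬝ᵥ c = -(z₀ ⬝ᵥ gram a b *ᵥ r) + nrm a b z₀ * n := by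
    rw [hc, dotProduct_sub, pblk_mulVec, hr, dotProduct_smul, hkS, smul_eq_mul]; ring
  have hNw : nrm a b w = n * (1 + k ⬝ᵥ c) := by
    rw [hkc, ← hwz, sub_eq_add_neg, show -r = (-1 : K) • r by rw [neg_one_smul], nrm_add, nrm_smul n,
      nrm_smul (-1), mulVec_smul, smul_dotProduct, dotProduct_smul, ← hn, smul_eq_mul, smul_eq_mul]
    ring
  have hf : 1 + k ⬝ᵥ c ≠ 0 := fun e => nrm_ne_zero (a := a) (b := b) hw (by rw [hNw, e, mul_zero])
  set f := 1 + k ⬝ᵥ c with hfdef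
  clear_value f
  set R' := vecMulVec z₀ k
  set S' := (-nrm a b z₀) • vecMulVec k k
  have hA : 1 + S * S' + pblk a b R * R' = 1 + vecMulVec c k := by
    rw [hc, Matrix.mul_smul, mul_vecMulVec, mul_vecMulVec, sub_vecMulVec, smul_vecMulVec, neg_smul]
    abel
  have hu : IsUnit (1 + vecMulVec c k).det := IsUnit.mk0 _ (by rw [det_one_add_vec, ← hfdef]; exact hf)
  let A : GL (Fin m) K := GeneralLinearGroup.mk'' _ hu
  have hd : R * S' + R' = vecMulVec (z₀ - nrm a b z₀ • r) k := by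
    show R * ((-nrm a b z₀) • vecMulVec k k) + vecMulVec z₀ k = _
    rw [Matrix.mul_smul, mul_vecMulVec, hr, sub_vecMulVec, smul_vecMulVec, neg_smul, neg_add_eq_sub]
  have hβ : R * pblk a b R' + 1 - (R * S' + R') * (A.val⁻¹ * (S * pblk a b R' + pblk a b R)) =
      zm (zrefl r * zrefl w : Oz a b) := by
    rw [hd, vec_mul_mat, ← vecMul_vecMul, mul_vecMulVec_inv (A := A.val) rfl hu (hfdef ▸ hf), ← hfdef, smul_vecMul, vecMul_add,
      ← vecMul_vecMul, dot_pblk R k, hr, pblk_rank_one, vecMul_neg, vecMul_vecMulVec,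
      ← dotProduct_mulVec, hkS, Matrix.mul_neg, mul_vecMulVec, hr]
    refine Matrix.ext_iff_mulVec.2 fun z => ?_
    rw [zm_mul, ← mulVec_mulVec, zrefl_mulVec, zrefl_mulVec]
    simp only [sub_mulVec, add_mulVec, neg_mulVec, one_mulVec, vecMulVec_mulVec, op_smul_eq_smul, neg_smul,
      smul_dotProduct, add_dotProduct, neg_dotProduct, sub_dotProduct, smul_eq_mul, ← hn, neg_neg]
    rw [dotProduct_comm (gram a b *ᵥ z₀) z, dotProduct_comm (gram a b *ᵥ r) z, hNw]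
    have e1 : z ⬝ᵥ gram a b *ᵥ w = n * (z ⬝ᵥ gram a b *ᵥ z₀) - z ⬝ᵥ gram a b *ᵥ r := by
      rw [← hwz, mulVec_sub, mulVec_smul, dotProduct_sub, dotProduct_smul, smul_eq_mul]
    have e2 : w ⬝ᵥ gram a b *ᵥ r = n * (z₀ ⬝ᵥ gram a b *ᵥ r) - 2 * n := by
      rw [← hwz, sub_dotProduct, smul_dotProduct, dot_gram_self, smul_eq_mul]
    rw [e1, e2, ← hwz]
    have hff : f = 1 + (-(z₀ ⬝ᵥ gram a b *ᵥ r) + nrm a b z₀ * n) := by rw [hfdef, hkc]
    funext i
    simp only [Pi.sub_apply, Pi.add_apply, Pi.neg_apply, Pi.smul_apply, smul_eq_mul]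
    field_simp
    rw [hff]
    ring
  obtain ⟨v, hv, R₀, S₀, h₀, e, -, -⟩ := split_up_lo h (minPair_rank_one z₀ k) (X := A) hA.symm hβ
  refine ⟨R', S', minPair_rank_one z₀ k, v, hv, A, R₀, S₀, h₀, e, ?_⟩
  show (1 + vecMulVec c k).det = _
  rw [det_one_add_vec, ← hfdef, hNw, mul_div_cancel_left₀ _ hn0]

/-- The move creating a nonzero `R`. -/
theorem move_zero (hm : 3 ≤ m) {S : Matrix (Fin m) (Fin m) K} (h : MinPair a b (0 : Matrix (Fin 2) (Fin m) K) S)
    (hS : S ≠ 0) :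
    ∃ R' S', ∃ h' : MinPair a b R' S', ∃ v ∈ (siegel m a b).V, ∃ A : GL (Fin m) K, ∃ R₀ S₀,
      ∃ h₀ : MinPair a b R₀ S₀,
      up 0 S h * lo R' S' h' = v * lev (A, 1) * up R₀ S₀ h₀ ∧ R₀ ≠ 0 ∧ A.val.det = 1 ∧ ∀ μ : K, A.val ≠ μ • 1 := by
  obtain ⟨k, hk⟩ : ∃ k, S *ᵥ k ≠ 0 := by
    by_contra hc
    push Not at hc
    exact hS (Matrix.ext fun i j => by simpa using congrFun (hc (Pi.single j 1)) i)
  have hk0 : k ≠ 0 := fun e => hk (by rw [e, mulVec_zero])
  have hkS : k ⬝ᵥ S *ᵥ k = 0 := h.alt k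
  set z₀ : Fin 2 → K := Pi.single 0 1
  have hz₀ : nrm a b z₀ = 1 := by simp [z₀, nrm]
  set c := -(S *ᵥ k) with hc
  have hkc : k ⬝ᵥ c = 0 := by rw [hc, dotProduct_neg, hkS, neg_zero]
  set R' := vecMulVec z₀ k
  set S' := (-nrm a b z₀) • vecMulVec k k
  have hA : 1 + S * S' + pblk a b (0 : Matrix (Fin 2) (Fin m) K) * R' = 1 + vecMulVec c k := by
    rw [pblk_zero, Matrix.zero_mul, add_zero, Matrix.mul_smul, mul_vecMulVec, hz₀, neg_one_smul, hc, neg_vecMulVec]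
  have hu : IsUnit (1 + vecMulVec c k).det := IsUnit.mk0 _ (by rw [det_one_add_vec, hkc, add_zero]; exact one_ne_zero)
  let A : GL (Fin m) K := GeneralLinearGroup.mk'' _ hu
  have hinv : k ᵥ* A.val⁻¹ = k := by
    rw [mul_vecMulVec_inv (A := A.val) rfl hu (by rw [hkc, add_zero]; exact one_ne_zero), hkc, add_zero, inv_one,
      one_smul]
  have hd : (0 : Matrix (Fin 2) (Fin m) K) * S' + R' = vecMulVec z₀ k := by rw [Matrix.zero_mul, zero_add]
  have hkS' : k ᵥ* S = -(S *ᵥ k) := funext fun i => by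
    have h1 := h.alt (k + Pi.single i 1)
    rw [mulVec_add, add_dotProduct, dotProduct_add, dotProduct_add, hkS, h.alt, dotProduct_mulVec k S,
      dotProduct_single_one, single_one_dotProduct] at h1
    rw [Pi.neg_apply]
    linear_combination h1
  obtain ⟨v, hv, R₀, S₀, h₀, e, -, eR⟩ := split_up_lo h (minPair_rank_one z₀ k) (X := A) hA.symm (β := 1) (by
    rw [hd, vec_mul_mat, ← vecMul_vecMul, hinv, vecMul_add, pblk_zero, vecMul_zero, add_zero, ← vecMul_vecMul,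
      hkS', pblk_rank_one, vecMul_neg, vecMul_vecMulVec, neg_dotProduct, dotProduct_comm, hkS, neg_zero, zero_smul,
      neg_zero, vecMulVec_zero, sub_zero, Matrix.zero_mul, zero_add, zm_one])
  refine ⟨R', S', minPair_rank_one z₀ k, v, hv, A, R₀, S₀, h₀, e, fun e0 => ?_, ?_, fun μ hμ => ?_⟩
  · rw [zm_one, Matrix.one_mul, Matrix.zero_mul, zero_add, vecMulVec_mul, ← vecMul_vecMul, hinv, e0, zero_sub, eq_comm, neg_eq_zero] at eR
    obtain ⟨l, hl⟩ : ∃ l, (S *ᵥ k) l ≠ 0 := by by_contra h'; push Not at h'; exact hk (funext h')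
    refine hl ?_
    have h1 := congrFun (congrFun eR 0) l
    simpa [z₀, vecMulVec_apply, hkS'] using h1
  · show (1 + vecMulVec c k).det = 1
    rw [det_one_add_vec, hkc, add_zero]
  · change 1 + vecMulVec c k = μ • 1 at hμ
    obtain ⟨y, hy, hky, -⟩ := exists_orth2 hm k k
    have h1 := congrArg (· *ᵥ y) hμ
    simp only [add_mulVec, one_mulVec, vecMulVec_mulVec, op_smul_eq_smul, hky, zero_smul, add_zero,
      smul_mulVec] at h1
    have hμ1 : μ = 1 := by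
      have h2 : (μ - 1) • y = 0 := by rw [sub_smul, one_smul, ← h1, sub_self]
      exact sub_eq_zero.1 ((smul_eq_zero.1 h2).resolve_right hy)
    rw [hμ1, one_smul, add_eq_left, vecMulVec_eq_zero] at hμ
    exact hμ.elim (fun e1 => hk (neg_eq_zero.1 e1)) hk0

/-- The move leaving the scalars. -/
theorem move_scalar (hm : 3 ≤ m) {R : Matrix (Fin 2) (Fin m) K} {S : Matrix (Fin m) (Fin m) K}
    (h : MinPair a b R S) (hR : R ≠ 0) :
    ∃ R' S', ∃ h' : MinPair a b R' S', ∃ v ∈ (siegel m a b).V, ∃ A : GL (Fin m) K, ∃ R₀ S₀,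
      ∃ h₀ : MinPair a b R₀ S₀,
      up R S h * lo R' S' h' = v * lev (A, 1) * up R₀ S₀ h₀ ∧ A.val.det = 1 ∧ ∀ μ : K, A.val ≠ μ • 1 := by
  obtain ⟨x, hx, hx1, hx2⟩ := exists_orth2 hm (R 0) (R 1)
  have hRx : R *ᵥ x = 0 := funext fun i => by fin_cases i <;> assumption
  have hxx : x ⬝ᵥ S *ᵥ x = 0 := by rw [h x, hRx, nrm_zero, neg_zero]
  obtain ⟨y, hy1, hy2, hy3⟩ : ∃ y, y ⬝ᵥ S *ᵥ x = 0 ∧ (∀ c : K, y ≠ c • x) ∧ (S *ᵥ x = 0 → S *ᵥ y ≠ 0) := by
    by_cases hSx : S *ᵥ x = 0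
    · obtain ⟨y, hy⟩ : ∃ y, S *ᵥ y ≠ 0 := by
        by_contra hc
        push Not at hc
        refine hR (Matrix.ext_iff_mulVec.2 fun y => ?_)
        have h1 := h y
        rw [hc, dotProduct_zero, zero_eq_neg] at h1
        rw [zero_mulVec]; exact Ani.ani _ h1
      exact ⟨y, by rw [hSx, dotProduct_zero], fun c e => hy (by rw [e, mulVec_smul, hSx, smul_zero]), fun _ => hy⟩
    · obtain ⟨i, hi⟩ : ∃ i, x i ≠ 0 := by by_contra h'; push Not at h'; exact hx (funext h')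
      obtain ⟨y, hy0, hy1, hy2⟩ := exists_orth2 hm (S *ᵥ x) (Pi.single i 1)
      refine ⟨y, by rw [dotProduct_comm]; exact hy1, fun c e => hy0 ?_, fun e => absurd e hSx⟩
      rw [single_one_dotProduct, e, Pi.smul_apply, smul_eq_mul, mul_eq_zero] at hy2
      rw [e, hy2.resolve_right hi, zero_smul]
  have hxy : x ⬝ᵥ S *ᵥ y = 0 := by
    have h1 := h (x + y)
    rw [mulVec_add, mulVec_add, hRx, zero_add, add_dotProduct, dotProduct_add, dotProduct_add, hxx, hy1, h y] at h1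
    linear_combination h1
  set T := (1 : K) • (vecMulVec x y - vecMulVec y x) with hT
  have hA : 1 + S * T + pblk a b R * (0 : Matrix (Fin 2) (Fin m) K) =
      1 + (vecMulVec (S *ᵥ x) y + vecMulVec (-(S *ᵥ y)) x) := by
    rw [hT, one_smul, Matrix.mul_zero, add_zero, Matrix.mul_sub, mul_vecMulVec, mul_vecMulVec, neg_vecMulVec,
      sub_eq_add_neg]
  have hdet : (1 + (vecMulVec (S *ᵥ x) y + vecMulVec (-(S *ᵥ y)) x)).det = 1 := by
    rw [det_rank_two, hy1, dotProduct_neg, dotProduct_neg, hxy, hxx]; ring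
  let A : GL (Fin m) K := GeneralLinearGroup.mk'' _ (by rw [hdet]; exact isUnit_one)
  have hxA : x ᵥ* A.val = x := by
    show x ᵥ* (1 + _) = x
    rw [vecMul_add, vecMul_one, vecMul_add, vecMul_vecMulVec, vecMul_vecMulVec, hxx, dotProduct_neg, hxy]
    simp
  have hxI : x ᵥ* A.val⁻¹ = x := by
    conv_lhs => rw [← hxA, vecMul_vecMul, mul_nonsing_inv _ ((isUnit_iff_isUnit_det _).1 A.isUnit), vecMul_one]
  have hd : R * T + 0 = vecMulVec (-(R *ᵥ y)) x := by
    rw [add_zero, hT, one_smul, Matrix.mul_sub, mul_vecMulVec, mul_vecMulVec, hRx, zero_vecMulVec, zero_sub,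
      neg_vecMulVec]
  obtain ⟨v, hv, R₀, S₀, h₀, e, -, -⟩ := split_up_lo h (minPair_zero (alt_wedge 1 x y)) (X := A) hA.symm (β := 1) (by
    rw [← hT, hd, vec_mul_mat, ← vecMul_vecMul, hxI, pblk_zero, Matrix.mul_zero, zero_add, Matrix.mul_zero, zero_add,
      dot_pblk, hRx, mulVec_zero, neg_zero, vecMulVec_zero, sub_zero, zm_one])
  refine ⟨0, T, minPair_zero (alt_wedge 1 x y), v, hv, A, R₀, S₀, h₀, e, hdet, fun μ hμ => ?_⟩
  change 1 + _ = μ • 1 at hμ
  obtain ⟨z, hz, hxz, hyz⟩ := exists_orth2 hm x y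
  have h1 := congrArg (· *ᵥ z) hμ
  simp only [add_mulVec, one_mulVec, vecMulVec_mulVec, op_smul_eq_smul, hxz, hyz, zero_smul, add_zero,
    smul_mulVec] at h1
  have hμ1 : μ = 1 := by
    have h2 : (μ - 1) • z = 0 := by rw [sub_smul, one_smul, ← h1, sub_self]
    exact sub_eq_zero.1 ((smul_eq_zero.1 h2).resolve_right hz)
  rw [hμ1, one_smul, add_eq_left] at hμ
  obtain ⟨i, hi⟩ : ∃ i, x i ≠ 0 := by by_contra h'; push Not at h'; exact hx (funext h')
  obtain ⟨j, hj⟩ : ∃ j, y i * x j ≠ x i * y j := by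
    by_contra h'
    push Not at h'
    refine hy2 (y i / x i) (funext fun j => ?_)
    simp only [Pi.smul_apply, smul_eq_mul]
    field_simp
    linear_combination -(h' j)
  have hzero : ∀ l, (S *ᵥ x) l = 0 ∧ (S *ᵥ y) l = 0 := fun l => by
    have h2 := congrFun (congrFun hμ l) i
    have h3 := congrFun (congrFun hμ l) j
    simp [vecMulVec_apply] at h2 h3
    have hne : y i * x j - x i * y j ≠ 0 := sub_ne_zero.2 hj
    refine ⟨(mul_eq_zero.1 ?_).resolve_right hne, (mul_eq_zero.1 ?_).resolve_right hne⟩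
    · linear_combination x j * h2 - x i * h3
    · linear_combination y j * h2 - y i * h3
  exact hy3 (funext fun l => (hzero l).1) (funext fun l => (hzero l).2)

end H31.Com.Minus
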