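import Cfsg.Agent.H31.ClassSq.PlusInst
import Cfsg.Agent.H31.Commutator.Free

/-!
Every element of `Ω⁺` is a commutator, granted commutator factorisations in `SL_n` by free matrices.
-/

set_option autoImplicit false
set_option linter.style.haveILetI false
set_option linter.unusedSectionVars false

namespace H31.Com

open Matrix Polynomial H21.ClassSquare H31.CSQ.Plus H31.CSQ.Orth
open H43 (orthGroup qPlus)
open scoped commutatorElement

variable {K : Type*} [Field K] [Fintype K] {m : ℕ}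

theorem exists_absorb {G : Type*} [Group G] {s : G} {U : Subgroup G} [Finite U] (hn : ∀ u ∈ U, s * u * s⁻¹ ∈ U)
    (hf : ∀ u ∈ U, s * u = u * s → u = 1) {u : G} (hu : u ∈ U) : ∃ y ∈ U, y * s * y⁻¹ = u * s := by
  let φ : U → U := fun v => ⟨v.1 * (s * v.1⁻¹ * s⁻¹), U.mul_mem v.2 (hn _ (U.inv_mem v.2))⟩
  have hinj : Function.Injective φ := by
    intro v w hvw
    have he : v.1 * (s * v.1⁻¹ * s⁻¹) = w.1 * (s * w.1⁻¹ * s⁻¹) := congrArg Subtype.val hvw
    have h1 : w.1⁻¹ * v.1 * s = s * (w.1⁻¹ * v.1) := by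
      calc w.1⁻¹ * v.1 * s = w.1⁻¹ * (v.1 * (s * v.1⁻¹ * s⁻¹)) * (s * v.1) := by group
        _ = s * (w.1⁻¹ * v.1) := by rw [he]; group
    exact Subtype.ext (inv_mul_eq_one.1 (hf _ (U.mul_mem (U.inv_mem w.2) v.2) h1.symm)).symm
  obtain ⟨v, hv⟩ := Finite.surjective_of_injective hinj ⟨u, hu⟩
  have hv' : v.1 * (s * v.1⁻¹ * s⁻¹) = u := congrArg Subtype.val hv
  exact ⟨v.1, v.2, by rw [← hv']; group⟩

/-- A commutator of two elements of `Ω⁺`. -/
def IsComm (g : Iso m K) : Prop :=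
  ∃ a ∈ commutator (Iso m K), ∃ b ∈ commutator (Iso m K), g = a * b * a⁻¹ * b⁻¹

theorem IsComm.of_conj {g : Iso m K} (c : Iso m K) (h : IsComm (c * g * c⁻¹)) : IsComm g := by
  obtain ⟨a, ha, b, hb, e⟩ := h
  have hn : (commutator (Iso m K)).Normal := inferInstance
  refine ⟨c⁻¹ * a * c, by simpa using hn.conj_mem a ha c⁻¹, c⁻¹ * b * c, by simpa using hn.conj_mem b hb c⁻¹, ?_⟩
  calc g = c⁻¹ * (c * g * c⁻¹) * c := by group
    _ = _ := by rw [e]; group

theorem gen_plus (hm : 4 ≤ m) : H43.ReflGenerates K (Fin m ⊕ Fin m → K) :=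
  H43.reflGenerates_of_card (Or.inr (by
    rw [Module.finrank_fintype_fun_eq_card, Fintype.card_sum, Fintype.card_fin]; omega))

theorem omega_iff (hm : 4 ≤ m) (g : Iso m K) :
    g ∈ commutator (Iso m K) ↔ H43.dickson (theta m K g) = 1 ∧ H43.spinor (theta m K g) = 1 := by
  rw [← H44.mem_commutator_iff (H43.qPlus_nondeg m) (gen_plus hm)]
  have e : (commutator (Iso m K)).map (theta m K : Iso m K →* orthGroup (qPlus m K)) =
      commutator (orthGroup (qPlus m K)) := by
    rw [commutator_def, Subgroup.map_commutator, Subgroup.map_top_of_surjective _ (theta m K).surjective,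
      commutator_def]
  rw [← e]
  exact (Subgroup.mem_map_iff_mem (theta m K).injective).symm

theorem lev_mem_iff (hm : 4 ≤ m) (X : GL (Fin m) K) :
    lev X ∈ commutator (Iso m K) ↔ IsSquare X.val.det := by
  have hd : X.val.det ≠ 0 := ((isUnit_iff_isUnit_det _).1 X.isUnit).ne_zero
  have he : ∀ x, (theta m K (lev X)).1 x = fromBlocks X.val 0 0 (X.val⁻¹)ᵀ *ᵥ x := fun x => by
    rw [theta_apply, mx_lev, coe_units_inv]
  rw [omega_iff hm, H44.blockOrth_dickson (gen_plus hm) he, H44.blockOrth_spinor (gen_plus hm) X.val hd _ he,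
    H43.sqc_eq_one_iff hd]
  exact ⟨fun h => h.2, fun h => ⟨rfl, h⟩⟩

theorem lev_U_commute {X : GL (Fin m) K} {u : Iso m K} (hu : u ∈ (siegel m K).U) (hX : AFree X.val)
    (h : lev X * u = u * lev X) : u = 1 := by
  obtain ⟨S, hS, rfl⟩ := exists_up hu
  have he := congrArg mx h
  simp only [mx_mul, mx_lev, up, mx_mkIso, fromBlocks_multiply, Matrix.mul_zero, Matrix.zero_mul, Matrix.one_mul,
    Matrix.mul_one, add_zero, zero_add, fromBlocks_inj] at he
  have : X.val * S * X.valᵀ = S := by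
    rw [he.2.1, Matrix.mul_assoc, ← transpose_mul, X.mul_inv, transpose_one, Matrix.mul_one]
  obtain rfl := hX S hS this
  exact mx_ext (by simp [up, mx_mkIso, mx_one])

theorem lev_V_commute {X : GL (Fin m) K} {v : Iso m K} (hv : v ∈ (siegel m K).V) (hX : AFree X.valᵀ)
    (h : lev X * v = v * lev X) : v = 1 := by
  obtain ⟨S, hS, rfl⟩ := exists_lo hv
  have he := congrArg mx h
  simp only [mx_mul, mx_lev, lo, mx_mkIso, fromBlocks_multiply, Matrix.mul_zero, Matrix.zero_mul, Matrix.one_mul,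
    Matrix.mul_one, add_zero, zero_add, fromBlocks_inj] at he
  have : X.valᵀ * S * X.valᵀᵀ = S := by
    rw [transpose_transpose, Matrix.mul_assoc, ← he.2.2.1, ← Matrix.mul_assoc, ← transpose_mul, X.inv_mul,
      transpose_one, Matrix.one_mul]
  obtain rfl := hX S hS this
  exact mx_ext (by simp [lo, mx_mkIso, mx_one])

theorem AFree.inv {ι : Type*} [Fintype ι] [DecidableEq ι] {A : Matrix ι ι K} (hA : IsUnit A.det) (h : AFree A) :
    AFree A⁻¹ := fun S hS e => h S hS (by
  conv_lhs => rw [← e]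
  rw [← Matrix.mul_assoc, ← Matrix.mul_assoc, Matrix.mul_nonsing_inv _ hA, Matrix.one_mul, Matrix.mul_assoc,
    ← transpose_mul, Matrix.mul_nonsing_inv _ hA, transpose_one, Matrix.mul_one])

set_option maxHeartbeats 800000 in
theorem block_comm (hm : 4 ≤ m) {v u : Iso m K} (hv : v ∈ (siegel m K).V) (hu : u ∈ (siegel m K).U)
    {X : GL (Fin m) K} {Φ : K[X]} {ε : K} (hε : IsSquare ε) (hε0 : ε ≠ 0) (hX : FFac Φ ε X.val) :
    IsComm (v * lev X * u) := by
  obtain ⟨A, P, hA, hP, -, hM, f1, f2⟩ := hX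
  let a : GL (Fin m) K := GeneralLinearGroup.mk'' A (IsUnit.mk0 _ (by rw [hA]; exact hε0))
  let p : GL (Fin m) K := GeneralLinearGroup.mk'' P (by rw [hP]; exact isUnit_one)
  have hXe : X = a * p * a⁻¹ * p⁻¹ := by
    rw [eq_mul_inv_iff_mul_eq, eq_mul_inv_iff_mul_eq]
    exact Units.ext hM
  set B := p * a⁻¹ * p⁻¹ with hB
  have hBf : AFree B.val := by
    refine ((f1.inv (IsUnit.mk0 _ (by rw [hA]; exact hε0))).congr_left (P := P) (by rw [hP]; exact isUnit_one) ?_)
    have e : (a⁻¹ : GL (Fin m) K).val = A⁻¹ := coe_units_inv _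
    rw [← e]
    show (p * a⁻¹).val = (B * p).val
    rw [hB, inv_mul_cancel_right]
  obtain ⟨x, hx, hxe⟩ := exists_absorb (s := lev a) (fun w hw => (siegel m K).L_conj_V hw a)
    (fun w hw e => lev_V_commute hw f2 e) hv
  obtain ⟨y, hy, hye⟩ := exists_absorb (s := lev B) (fun w hw => (siegel m K).L_conj_U hw B)
    (fun w hw e => lev_U_commute hw hBf e) ((siegel m K).L_conj_U hu B)
  have hΩ : (commutator (Iso m K)).Normal := inferInstance
  have hmem : ∀ (W : Subgroup (Iso m K)) (s : Iso m K), (∀ w ∈ W, s * w * s⁻¹ ∈ W) →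
      (∀ w ∈ W, s * w = w * s → w = 1) → ∀ w ∈ W, w ∈ commutator (Iso m K) := by
    intro W s hn hf w hw
    obtain ⟨z, -, hz⟩ := exists_absorb hn hf hw
    have e : w = ⁅z, s⁆ := by rw [commutatorElement_def, hz]; group
    rw [e, commutator_def]
    exact Subgroup.commutator_mem_commutator (Subgroup.mem_top _) (Subgroup.mem_top _)
  have hxΩ := hmem _ (lev a) (fun w hw => (siegel m K).L_conj_V hw a) (fun w hw e => lev_V_commute hw f2 e) x hx
  have hyΩ := hmem _ (lev B) (fun w hw => (siegel m K).L_conj_U hw B) (fun w hw e => lev_U_commute hw hBf e) y hy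
  refine ⟨x * lev a * x⁻¹, hΩ.conj_mem _ ((lev_mem_iff hm a).2 (by show IsSquare A.det; rw [hA]; exact hε)) x,
    y * lev p * x⁻¹, mul_mem (mul_mem hyΩ ((lev_mem_iff hm p).2 (by show IsSquare P.det; rw [hP]; exact IsSquare.one)))
      (inv_mem hxΩ), ?_⟩
  calc v * lev X * u = (v * lev a) * (lev B * u * (lev B)⁻¹ * lev B) := by
        rw [show lev X = lev a * lev B by rw [← map_mul, hXe, hB]; congr 1; group]; group
    _ = (x * lev a * x⁻¹) * (y * lev B * y⁻¹) := congrArg₂ (· * ·) hxe.symm hye.symm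
    _ = _ := by rw [hB, map_mul, map_mul, map_inv, map_inv]; group

theorem exists_shear_det_one (hm : 3 ≤ m) {S : Matrix (Fin m) (Fin m) K} (hS : Alt S) (hS0 : S ≠ 0) :
    ∃ T, Alt T ∧ (1 + S * T).det = 1 ∧ ∀ ν : K, 1 + S * T ≠ ν • 1 := by
  obtain ⟨v, hv⟩ : ∃ v, S *ᵥ v ≠ 0 := by
    by_contra h; push Not at h
    exact hS0 (ext fun i j => by simpa using congrFun (h (Pi.single j 1)) i)
  have hv0 : v ≠ 0 := fun e => hv (by rw [e, mulVec_zero])
  obtain ⟨w, hw0, hw1, hw2⟩ := exists_orth2 hm (S *ᵥ v) v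
  -- `w` orthogonal to `S v` and `v`
  obtain ⟨z, hz1, hz2⟩ : ∃ z, z ⬝ᵥ (S *ᵥ v) = 0 ∧ ∀ c : K, z ≠ c • v := by
    by_contra h
    push Not at h
    obtain ⟨c, hc⟩ := h w (by rw [dotProduct_comm]; exact hw1)
    have hc0 : c ≠ 0 := fun e => hw0 (by rw [hc, e, zero_smul])
    have key : ∀ z, z ⬝ᵥ (S *ᵥ v) = 0 → v ⬝ᵥ z = 0 := fun z hz => by
      obtain ⟨d, rfl⟩ := h z hz
      have h2 := hw2
      rw [hc, dotProduct_smul, smul_eq_mul, mul_eq_zero] at h2
      rw [dotProduct_smul, h2.resolve_left hc0, smul_zero]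
    obtain ⟨i, hi⟩ : ∃ i, v i ≠ 0 := by by_contra h'; push Not at h'; exact hv0 (funext h')
    -- the kernel of one functional is not a line
    obtain ⟨y, hy0, hy1, hy2⟩ := exists_orth2 hm (S *ᵥ v) (Pi.single i 1)
    obtain ⟨d, hd⟩ := h y (by rw [dotProduct_comm]; exact hy1)
    rw [hd, single_one_dotProduct, Pi.smul_apply, smul_eq_mul, mul_eq_zero] at hy2
    exact hy0 (by rw [hd, hy2.resolve_right hi, zero_smul])
  refine ⟨(1 : K) • (vecMulVec v z - vecMulVec z v), alt_wedge _ _ _, ?_, fun ν hν => ?_⟩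
  · rw [one_smul, Matrix.mul_sub, mul_vecMulVec, mul_vecMulVec, sub_eq_add_neg, ← Matrix.vecMulVec_neg,
      det_rank_two]
    have e1 : v ⬝ᵥ S *ᵥ z = 0 := by have := hS.add_dot v z; rw [hz1, add_zero] at this; exact this
    simp [neg_dotProduct, hz1, e1, hS v, hS z]
  · obtain ⟨y, hy0, hy1, hy2⟩ := exists_orth2 hm v z
    have h1 := congrArg (· *ᵥ y) hν
    simp only [one_smul, Matrix.mul_sub, mul_vecMulVec, add_mulVec, sub_mulVec, one_mulVec, vecMulVec_mulVec,
      op_smul_eq_smul, hy1, hy2, zero_smul, sub_self, add_zero, smul_mulVec] at h1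
    have hν1 : ν = 1 := by
      by_contra hne
      have h2 : (1 - ν) • y = 0 := by rw [sub_smul, one_smul, ← h1, sub_self]
      exact hy0 ((smul_eq_zero.1 h2).resolve_left (sub_ne_zero.2 (Ne.symm hne)))
    rw [hν1] at hν
    simp only [one_smul, add_eq_left, Matrix.mul_sub, mul_vecMulVec, sub_eq_zero] at hν
    obtain ⟨x, hx1, hx2⟩ : ∃ x, z ⬝ᵥ x ≠ 0 ∧ v ⬝ᵥ x = 0 := by
      by_contra h
      push Not at h
      obtain ⟨i, hi⟩ : ∃ i, v i ≠ 0 := by by_contra h'; push Not at h'; exact hv0 (funext h')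
      refine hz2 (z i / v i) (funext fun j => ?_)
      have h3 := mt (h (v j • Pi.single i 1 - v i • Pi.single j 1))
        (by simp [dotProduct_sub]; ring_nf)
      simp [dotProduct_sub] at h3
      simp only [Pi.smul_apply, smul_eq_mul]
      field_simp
      linear_combination -h3
    have h4 := congrArg (· *ᵥ x) hν
    simp only [vecMulVec_mulVec, op_smul_eq_smul, hx2, zero_smul] at h4
    exact hv ((smul_eq_zero.1 h4).resolve_left hx1)

theorem lev_neg_one_comm (hm : 4 ≤ m) {X : GL (Fin m) K} {a : K} (hX : X.val = a • 1) (ha : a * a = 1)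
    (hdet : X.val.det = 1) : IsComm (lev X) := by
  by_cases ha1 : a = 1
  · refine ⟨1, one_mem _, 1, one_mem _, ?_⟩
    rw [show X = 1 from Units.ext (by rw [hX, ha1, one_smul]; rfl), map_one]
    group
  have ham : a = -1 := (mul_self_eq_one_iff.1 ha).resolve_left ha1
  have hev : Even m := by
    rcases Nat.even_or_odd m with h | h
    · exact h
    · exfalso
      rw [hX, det_smul, det_one, mul_one, Fintype.card_fin, ham, h.neg_one_pow] at hdet
      exact ha1 (by rw [ham, hdet])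
  obtain ⟨k, rfl⟩ := hev
  obtain ⟨c, hc⟩ := CharP.exists K
  haveI : NeZero c := ⟨CharP.char_ne_zero_of_finite K c⟩
  obtain ⟨p, q, hpq⟩ := CharP.sq_add_sq K c (-1)
  rw [Int.cast_neg, Int.cast_one] at hpq
  let e : Fin 2 × Fin k ≃ Fin (k + k) := finProdFinEquiv.trans (finCongr (two_mul k))
  let J₂ : Matrix (Fin 2) (Fin 2) K := !![0, 1; -1, 0]
  let D₂ : Matrix (Fin 2) (Fin 2) K := !![(p : K), (q : K); (q : K), -(p : K)]
  have hJ₂ : J₂.det = 1 := by simp [J₂, det_fin_two]
  have hD₂ : D₂.det = 1 := by simp [D₂, det_fin_two]; linear_combination -hpq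
  let J : Matrix (Fin (k + k)) (Fin (k + k)) K :=
    reindex e e (Matrix.kroneckerMap (· * ·) J₂ (1 : Matrix (Fin k) (Fin k) K))
  let D : Matrix (Fin (k + k)) (Fin (k + k)) K :=
    reindex e e (Matrix.kroneckerMap (· * ·) D₂ (1 : Matrix (Fin k) (Fin k) K))
  have hJ : J.det = 1 := by simp [J, det_kronecker, hJ₂]
  have hD : D.det = 1 := by simp [D, det_kronecker, hD₂]
  let j : GL (Fin (k + k)) K := GeneralLinearGroup.mk'' J (by rw [hJ]; exact isUnit_one)
  let d : GL (Fin (k + k)) K := GeneralLinearGroup.mk'' D (by rw [hD]; exact isUnit_one)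
  refine ⟨lev j, (lev_mem_iff hm j).2 (by show IsSquare J.det; rw [hJ]; exact IsSquare.one), lev d,
    (lev_mem_iff hm d).2 (by show IsSquare D.det; rw [hD]; exact IsSquare.one), ?_⟩
  rw [← map_inv, ← map_inv, ← map_mul, ← map_mul, ← map_mul]
  congr 1
  rw [eq_mul_inv_iff_mul_eq, eq_mul_inv_iff_mul_eq]
  apply Units.ext
  show X.val * D * J = J * D
  rw [hX, ham, smul_mul, Matrix.one_mul, smul_mul]
  simp only [J, D, reindex_apply, submatrix_mul_equiv, ← Matrix.mul_kronecker_mul, Matrix.one_mul]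
  have h2 : D₂ * J₂ = -(J₂ * D₂) := by
    ext x y
    fin_cases x <;> fin_cases y <;> simp [J₂, D₂]
  rw [h2]
  ext x y
  simp [Matrix.kroneckerMap_apply]

end H31.Com
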