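import Cfsg.Agent.H31.Commutator.Codes

/-!
Shared parts of the assembly over two and three elements.
-/

set_option autoImplicit false
set_option linter.unusedSectionVars false

namespace H31.Com

open Matrix Polynomial
open H89.CN (Sim Dec)

variable {K : Type*} [Field K] {q : ℕ} [CharP K q]

theorem fg_tbl (hq : 0 < q) {a : List ℕ} {e : ℕ} {t : Tbl} (h : tblOk q [a] t = true) (he : detN q [a] = e)
    {ms : List (List ℕ)} (hm : ms ∈ keys t) : FG (pset [a] : Set K[X]) (e : K) (polysOf ms) := by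
  rw [pset_single, ← he, ← detOf_eq hq]
  exact FG.of_table hq h hm

theorem fr_tbl (hq : 0 < q) {S : Set K[X]} (hS : Free S) {c : ℕ} {a : List ℕ} {e : ℕ} {t : Tbl}
    (h : tblOk q [[c], a] t = true) (he : detN q [[c], a] = e) (hc : Against S (ofL ([c] ++ [1])))
    (ha : (ofL (a ++ [1]) : K[X]) ∈ S) {ms : List (List ℕ)} (hm : ms ∈ keys t) : FR S (e : K) (polysOf ms) := by
  rw [← he, ← detOf_eq hq]
  exact FR.of_table hq h hc (fun t ht => ⟨hS _ ha t ht, hS t ht _ ha⟩) (Or.inr (hS _ ha _ ha)) (hc _ ha).1 (hc _ ha).2 hm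

theorem FG.ident (hq : 0 < q) {a : List ℕ} {e : ℕ} {ms : List (List ℕ)} (ha : (a ≠ []))
    (h : (decide (tot ms = a.length ∧ detN q [a] = e) &&
      eqM q (tot ms) (tab (tot ms) (bEnt q ms)) (oneM (tot ms))) = true) :
    FG (pset [a] : Set K[X]) (e : K) (polysOf ms) := by
  simp only [Bool.and_eq_true, decide_eq_true_eq] at h
  obtain ⟨⟨hlen, he⟩, h1⟩ := h
  intro n A hA
  have hsim := simTo_of_dec hq ms A hA
  have hM := ML_eq_of_eqM (K := K) h1
  rw [ML_tab, ML_oneM] at hM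
  rw [hM] at hsim
  refine ⟨(polysOf [a] : List K[X]).prod, ?_, Fac.of_simTo ?_ hsim⟩
  · simp only [polysOf, List.map_cons, List.map_nil, List.prod_cons, List.prod_nil, mul_one, pset_single]
    exact Submonoid.subset_closure rfl
  · have h2 := Fac.one (K := K) (Φ := (polysOf [a] : List K[X]).prod) (ε := (e : K))
      (ML (tot [a]) (bEnt q [a]) : Matrix (Fin (tot [a])) (Fin (tot [a])) K)
      (by rw [det_bmat hq [a] (by simpa using ha), detOf_eq hq, he]) (aeval_bmat hq [a])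
    have hn : tot [a] = tot ms := by simp [tot, hlen]
    rw [← hn]
    exact h2

theorem fr_lone (hq : 0 < q) {S : Set K[X]} {c x : ℕ} {e : ℕ} (hc : Against S (ofL ([c] ++ [1]) : K[X]))
    (h : (decide (detN q [[c]] = e) && eqM q (tot [[x]]) (tab (tot [[x]]) (bEnt q [[x]])) (oneM (tot [[x]]))) = true) :
    FR S (e : K) (polysOf [[x]]) := by
  simp only [Bool.and_eq_true, decide_eq_true_eq] at h
  obtain ⟨he, h1⟩ := h
  intro n A hA
  have hsim := simTo_of_dec hq [[x]] A hA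
  have hM := ML_eq_of_eqM (K := K) h1
  rw [ML_tab, ML_oneM] at hM
  rw [hM] at hsim
  refine ⟨(polysOf [[c]] : List K[X]).prod, ?_, FFac.of_simTo ?_ hsim⟩
  · intro t ht
    simpa [polysOf] using hc t ht
  · obtain ⟨f1, f2⟩ := free_ml_single (K := K) hq [c] (Or.inl le_rfl)
    suffices h2 : FFac (polysOf [[c]] : List K[X]).prod (e : K) (1 : Matrix (Fin (tot [[c]])) (Fin (tot [[c]])) K) from h2
    exact ⟨ML (tot [[c]]) (bEnt q [[c]]), 1, by rw [det_bmat hq [[c]] (by simp), detOf_eq hq, he],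
      det_one, aeval_bmat hq [[c]], by simp, f1, f2⟩

/-- A block which can occur. -/
def OkBlock (f : K[X]) : Prop := f.Monic ∧ 0 < f.natDegree ∧ cd f ≠ 0

theorem coeff_zero_of_cd {f : K[X]} (h : cd f ≠ 0) : f.coeff 0 ≠ 0 := fun e => h (by rw [cd, e, mul_zero])

theorem dec_ok : ∀ {l : List K[X]} {n : ℕ} {A : Matrix (Fin n) (Fin n) K}, Dec A l → A.det ≠ 0 →
    (∀ f ∈ l, OkBlock f) ∧ (l.map natDegree).sum = n ∧ (l.map cd).prod = A.det
  | [], n, A, h, _ => by
    have hn : n = 0 := h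
    subst hn
    simp
  | f :: l, n, A, ⟨hf, hf0, N, e, A₂, hs, h2⟩, hA => by
    have hd : A.det = (H89.CN.rComp f.natDegree f).det * A₂.det := by
      rw [hs.det_eq, det_reindex_self, det_fromBlocks_zero₁₂]
    have hc : cd f = (H89.CN.rComp f.natDegree f).det := by
      rw [rComp_eq_cmat, ← cd_mpoly hf0]
      congr 1
      conv_lhs => rw [hf.as_sum, Finset.sum_range fun k => C (f.coeff k) * X ^ k]
      rfl
    rw [hd] at hA
    obtain ⟨i1, i2, i3⟩ := dec_ok h2 (right_ne_zero_of_mul hA)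
    refine ⟨fun g hg => ?_, ?_, ?_⟩
    · rcases List.mem_cons.1 hg with rfl | hg
      · exact ⟨hf, hf0, hc ▸ left_ne_zero_of_mul hA⟩
      · exact i1 g hg
    · have := Fintype.card_congr e
      simp only [Fintype.card_sum, Fintype.card_fin] at this
      simp [i2, this]
    · simp [i3, hd, hc]

theorem slFac_of_fr {m : ℕ}
    (h : ∀ l : List K[X], (∀ f ∈ l, OkBlock f) → (l.map natDegree).sum = m → (l.map cd).prod = 1 →
      (∀ n : ℕ, ∀ A : Matrix (Fin n) (Fin n) K, Dec A l → (∀ μ : K, A ≠ μ • 1) →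
        ∃ Φ, FFac Φ (1 : K) A)) : SLFac m K := by
  intro M hd hns
  obtain ⟨l, hl⟩ := H89.CN.exists_dec M
  obtain ⟨h1, h2, h3⟩ := dec_ok hl (by rw [hd]; exact one_ne_zero)
  obtain ⟨Φ, hΦ⟩ := h l h1 h2 (h3.trans hd) m M hl hns
  exact ⟨Φ, 1, ⟨1, (one_mul 1).symm⟩, one_ne_zero, hΦ⟩

theorem FR.result {S : Set K[X]} {l : List K[X]} (h : FR S (1 : K) l) (n : ℕ) (A : Matrix (Fin n) (Fin n) K)
    (hA : Dec A l) : ∃ Φ, FFac Φ (1 : K) A :=
  let ⟨Φ, _, hf⟩ := h n A hA; ⟨Φ, hf⟩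

end H31.Com
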