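import Cfsg.Agent.H31.Commutator.Data3

/-!
Witness tables over 3 elements.
-/

set_option autoImplicit false
set_option maxHeartbeats 4000000
set_option maxRecDepth 100000
set_option linter.style.longLine false
set_option linter.unusedVariables false

namespace H31.Com.D3

open Matrix Polynomial

def singlep3 : Tbl :=
  [([[2,0,0]], [[1,0,0],[1,1,0],[0,1,2]], [[1,0,0],[2,1,0],[2,1,2]], [[1,0,0],[0,1,0],[2,0,1]], [[1,2,0],[0,1,0],[0,0,1]], [[1,0,0],[0,1,0],[0,0,1]]),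
  ([[2,0,1]], [[1,1,1],[2,1,2],[0,2,2]], [[1,0,1],[2,2,0],[1,1,2]], [[1,0,0],[2,1,0],[0,1,1]], [[1,0,2],[0,1,1],[0,0,1]], [[1,0,0],[0,1,0],[0,0,1]]),
  ([[2,0,2]], [[2,0,0],[0,1,2],[0,0,2]], [[2,0,0],[0,1,2],[0,0,2]], [[1,0,0],[0,1,0],[1,0,1]], [[1,0,1],[0,1,2],[0,0,1]], [[1,0,0],[0,1,0],[0,0,1]]),
  ([[2,1,0]], [[1,2,1],[2,2,1],[1,2,2]], [[2,1,0],[0,1,1],[2,0,1]], [[1,0,0],[2,1,0],[2,2,1]], [[1,2,0],[0,1,2],[0,0,1]], [[1,0,0],[0,1,0],[0,0,1]]),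
  ([[2,1,1]], [[2,1,0],[1,0,0],[2,1,2]], [[0,1,0],[1,1,0],[1,0,2]], [[1,0,0],[1,1,0],[2,2,1]], [[1,2,1],[0,1,2],[0,0,1]], [[1,0,0],[0,1,0],[0,0,1]]),
  ([[2,1,2]], [[1,1,2],[1,0,1],[2,1,2]], [[2,0,1],[0,1,1],[1,1,2]], [[1,0,0],[1,1,0],[2,2,1]], [[1,2,2],[0,1,2],[0,0,1]], [[1,0,0],[0,1,0],[0,0,1]]),
  ([[2,2,0]], [[0,0,1],[2,0,0],[0,2,2]], [[0,2,0],[2,0,2],[1,0,0]], [[1,0,0],[2,1,0],[2,0,1]], [[1,2,0],[0,1,1],[0,0,1]], [[1,0,0],[0,1,0],[0,0,1]]),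
  ([[2,2,1]], [[2,0,1],[0,1,2],[1,0,1]], [[1,0,2],[2,1,2],[2,0,2]], [[1,0,0],[2,1,0],[0,2,1]], [[1,1,1],[0,1,1],[0,0,1]], [[1,0,0],[0,1,0],[0,0,1]]),
  ([[2,2,2]], [[1,1,2],[2,0,0],[0,1,1]], [[0,2,0],[2,2,2],[1,1,2]], [[1,0,0],[1,1,0],[0,1,1]], [[1,0,2],[0,1,1],[0,0,1]], [[1,0,0],[0,1,0],[0,0,1]])]

theorem singlep3_ok : tblOk 3 [g3p] singlep3 = true := by decide +kernel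

theorem singlep3_keys : keys singlep3 = ((detV 3 3 1).map fun a => [a]) := by decide +kernel

def singlep4 : Tbl :=
  [([[1,0,0,0]], [[2,2,2,1],[2,0,0,2],[0,2,1,1],[0,0,2,1]], [[1,1,2,1],[1,2,1,0],[2,1,1,1],[2,1,1,2]], [[1,0,0,0],[0,1,0,0],[0,1,1,0],[1,2,1,1]], [[1,1,0,1],[0,1,0,1],[0,0,1,2],[0,0,0,1]], [[1,0,0,0],[0,1,0,0],[0,0,1,0],[0,0,0,1]]),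
  ([[1,0,0,1]], [[0,2,1,2],[1,2,2,2],[2,0,0,2],[1,1,0,0]], [[2,2,2,1],[1,1,1,0],[0,2,1,2],[1,1,0,2]], [[1,0,0,0],[2,1,0,0],[0,2,1,0],[1,2,0,1]], [[1,2,2,1],[0,1,0,0],[0,0,1,0],[0,0,0,1]], [[1,0,0,0],[0,1,0,0],[0,0,1,0],[0,0,0,1]]),
  ([[1,0,0,2]], [[0,2,1,0],[1,0,1,2],[1,1,0,1],[0,2,0,2]], [[0,0,1,1],[1,2,1,2],[2,2,1,2],[2,1,2,0]], [[1,0,0,0],[1,1,0,0],[1,0,1,0],[0,2,0,1]], [[1,2,0,0],[0,1,1,0],[0,0,1,2],[0,0,0,1]], [[1,0,0,0],[0,1,0,0],[0,0,1,0],[0,0,0,1]]),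
  ([[1,0,1,0]], [[0,2,1,0],[1,0,0,2],[0,2,0,0],[1,0,1,0]], [[2,0,1,1],[0,0,2,0],[1,0,2,0],[2,2,1,1]], [[1,0,0,0],[1,1,0,0],[1,0,1,0],[0,2,0,1]], [[1,0,0,2],[0,1,2,0],[0,0,1,0],[0,0,0,1]], [[1,0,0,0],[0,1,0,0],[0,0,1,0],[0,0,0,1]]),
  ([[1,0,1,1]], [[1,0,0,2],[1,2,2,0],[1,1,2,2],[1,2,1,0]], [[2,0,1,1],[2,1,1,2],[0,1,0,2],[1,0,1,1]], [[1,0,0,0],[2,1,0,0],[0,0,1,0],[1,1,0,1]], [[1,1,1,1],[0,1,1,1],[0,0,1,2],[0,0,0,1]], [[1,0,0,0],[0,1,0,0],[0,0,1,0],[0,0,0,1]]),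
  ([[1,0,1,2]], [[0,0,0,1],[2,2,0,2],[1,1,1,2],[0,2,2,0]], [[1,0,1,1],[1,2,2,2],[2,1,1,0],[1,0,0,0]], [[1,0,0,0],[1,1,0,0],[0,0,1,0],[0,0,1,1]], [[1,1,2,1],[0,1,1,0],[0,0,1,0],[0,0,0,1]], [[1,0,0,0],[0,1,0,0],[0,0,1,0],[0,0,0,1]]),
  ([[1,0,2,0]], [[1,1,2,1],[2,2,1,1],[2,2,2,2],[2,0,2,0]], [[2,0,2,2],[1,1,2,1],[1,0,1,0],[2,2,0,0]], [[1,0,0,0],[0,1,0,0],[1,0,1,0],[0,1,2,1]], [[1,0,0,1],[0,1,1,0],[0,0,1,2],[0,0,0,1]], [[1,0,0,0],[0,1,0,0],[0,0,1,0],[0,0,0,1]]),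
  ([[1,0,2,1]], [[1,2,2,1],[2,2,2,1],[0,0,0,2],[0,0,2,2]], [[2,1,0,0],[1,1,1,1],[0,0,1,2],[0,0,2,0]], [[1,0,0,0],[2,1,0,0],[2,0,1,0],[0,2,1,1]], [[1,1,2,0],[0,1,0,0],[0,0,1,0],[0,0,0,1]], [[1,0,0,0],[0,1,0,0],[0,0,1,0],[0,0,0,1]]),
  ([[1,0,2,2]], [[0,2,0,1],[2,0,1,0],[2,0,0,2],[2,1,0,0]], [[1,0,1,1],[1,0,1,2],[1,1,1,1],[2,0,1,2]], [[1,0,0,0],[1,1,0,0],[2,1,1,0],[1,2,1,1]], [[1,0,1,2],[0,1,0,2],[0,0,1,0],[0,0,0,1]], [[1,0,0,0],[0,1,0,0],[0,0,1,0],[0,0,0,1]]),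
  ([[1,1,0,0]], [[2,1,0,1],[2,1,2,0],[1,2,2,0],[0,1,1,0]], [[0,0,1,1],[0,2,2,1],[0,1,1,0],[1,1,2,0]], [[1,0,0,0],[0,1,0,0],[1,0,1,0],[0,1,2,1]], [[1,1,2,0],[0,1,2,1],[0,0,1,0],[0,0,0,1]], [[1,0,0,0],[0,1,0,0],[0,0,1,0],[0,0,0,1]]),
  ([[1,1,0,1]], [[1,0,0,0],[2,0,0,2],[1,0,2,1],[2,2,0,2]], [[1,0,0,0],[0,1,0,2],[0,2,2,0],[2,2,0,0]], [[1,0,0,0],[2,1,0,0],[2,1,1,0],[2,2,2,1]], [[1,0,2,1],[0,1,2,1],[0,0,1,1],[0,0,0,1]], [[1,0,0,0],[0,1,0,0],[0,0,1,0],[0,0,0,1]]),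
  ([[1,1,0,2]], [[2,2,1,2],[0,1,0,1],[1,0,1,0],[2,0,0,1]], [[1,1,2,0],[2,0,1,2],[2,2,2,0],[1,1,2,1]], [[1,0,0,0],[0,1,0,0],[2,2,1,0],[0,1,1,1]], [[1,0,2,2],[0,1,0,0],[0,0,1,1],[0,0,0,1]], [[1,0,0,0],[0,1,0,0],[0,0,1,0],[0,0,0,1]]),
  ([[1,1,1,0]], [[1,1,1,1],[1,2,1,1],[1,1,2,0],[1,0,0,0]], [[0,0,0,1],[2,1,0,0],[2,1,2,1],[0,1,1,1]], [[1,0,0,0],[1,1,0,0],[0,2,1,0],[0,0,1,1]], [[1,0,1,2],[0,1,0,0],[0,0,1,2],[0,0,0,1]], [[1,0,0,0],[0,1,0,0],[0,0,1,0],[0,0,0,1]]),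
  ([[1,1,1,1]], [[0,0,2,2],[2,2,1,1],[1,0,0,2],[1,1,1,0]], [[1,2,1,2],[1,0,2,1],[1,1,0,1],[1,2,0,2]], [[1,0,0,0],[1,1,0,0],[2,1,1,0],[0,1,2,1]], [[1,1,0,1],[0,1,2,0],[0,0,1,2],[0,0,0,1]], [[1,0,0,0],[0,1,0,0],[0,0,1,0],[0,0,0,1]]),
  ([[1,1,1,2]], [[0,1,2,1],[1,1,2,1],[1,1,1,1],[1,2,2,1]], [[2,1,0,0],[0,2,0,1],[0,1,2,0],[1,2,2,2]], [[1,0,0,0],[1,1,0,0],[2,0,1,0],[1,0,2,1]], [[1,2,1,2],[0,1,2,1],[0,0,1,0],[0,0,0,1]], [[1,0,0,0],[0,1,0,0],[0,0,1,0],[0,0,0,1]]),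
  ([[1,1,2,0]], [[1,1,0,2],[1,2,1,1],[0,0,0,2],[0,1,0,1]], [[1,0,1,2],[0,0,1,1],[2,1,1,2],[0,0,2,0]], [[1,0,0,0],[2,1,0,0],[0,0,1,0],[2,0,2,1]], [[1,0,1,0],[0,1,0,2],[0,0,1,2],[0,0,0,1]], [[1,0,0,0],[0,1,0,0],[0,0,1,0],[0,0,0,1]]),
  ([[1,1,2,1]], [[0,1,0,1],[2,0,0,1],[0,1,2,0],[0,2,2,0]], [[1,2,1,2],[0,0,2,1],[0,0,1,1],[1,0,1,2]], [[1,0,0,0],[0,1,0,0],[1,2,1,0],[1,0,1,1]], [[1,0,1,0],[0,1,0,1],[0,0,1,0],[0,0,0,1]], [[1,0,0,0],[0,1,0,0],[0,0,1,0],[0,0,0,1]]),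
  ([[1,1,2,2]], [[2,1,2,1],[0,2,0,1],[0,1,2,2],[2,2,1,1]], [[0,0,2,2],[2,2,2,1],[0,2,2,0],[2,0,2,1]], [[1,0,0,0],[0,1,0,0],[2,1,1,0],[1,0,2,1]], [[1,0,2,2],[0,1,2,0],[0,0,1,1],[0,0,0,1]], [[1,0,0,0],[0,1,0,0],[0,0,1,0],[0,0,0,1]]),
  ([[1,2,0,0]], [[2,1,1,2],[1,2,0,2],[1,1,1,2],[2,1,2,2]], [[1,0,2,0],[2,1,2,1],[2,0,0,1],[2,1,0,2]], [[1,0,0,0],[0,1,0,0],[2,2,1,0],[2,2,0,1]], [[1,0,2,0],[0,1,0,0],[0,0,1,0],[0,0,0,1]], [[1,0,0,0],[0,1,0,0],[0,0,1,0],[0,0,0,1]]),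
  ([[1,2,0,1]], [[1,0,1,2],[1,1,0,2],[2,2,1,1],[0,1,1,2]], [[0,2,1,2],[2,2,1,0],[0,1,1,0],[2,0,2,2]], [[1,0,0,0],[0,1,0,0],[0,2,1,0],[1,0,2,1]], [[1,1,2,1],[0,1,1,1],[0,0,1,1],[0,0,0,1]], [[1,0,0,0],[0,1,0,0],[0,0,1,0],[0,0,0,1]]),
  ([[1,2,0,2]], [[2,2,2,0],[2,0,1,2],[1,1,1,2],[0,2,2,0]], [[2,0,0,1],[2,2,1,1],[1,1,2,1],[2,0,2,0]], [[1,0,0,0],[0,1,0,0],[0,0,1,0],[0,0,2,1]], [[1,2,2,0],[0,1,2,2],[0,0,1,2],[0,0,0,1]], [[1,0,0,0],[0,1,0,0],[0,0,1,0],[0,0,0,1]]),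
  ([[1,2,1,0]], [[1,0,2,2],[0,1,1,1],[0,0,1,1],[1,1,1,0]], [[1,0,1,0],[0,1,2,0],[2,2,0,1],[1,1,1,2]], [[1,0,0,0],[2,1,0,0],[2,1,1,0],[0,0,2,1]], [[1,0,0,1],[0,1,0,2],[0,0,1,1],[0,0,0,1]], [[1,0,0,0],[0,1,0,0],[0,0,1,0],[0,0,0,1]]),
  ([[1,2,1,1]], [[2,0,0,1],[0,1,1,0],[0,1,1,2],[0,0,2,1]], [[2,1,2,0],[0,0,1,1],[0,1,2,2],[0,1,2,0]], [[1,0,0,0],[0,1,0,0],[2,1,1,0],[2,2,1,1]], [[1,2,2,1],[0,1,2,1],[0,0,1,2],[0,0,0,1]], [[1,0,0,0],[0,1,0,0],[0,0,1,0],[0,0,0,1]]),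
  ([[1,2,1,2]], [[0,2,0,2],[0,2,2,2],[0,1,0,2],[1,0,2,0]], [[1,2,0,1],[1,0,2,0],[1,2,0,0],[1,0,1,0]], [[1,0,0,0],[1,1,0,0],[0,1,1,0],[0,1,0,1]], [[1,2,2,1],[0,1,2,0],[0,0,1,1],[0,0,0,1]], [[1,0,0,0],[0,1,0,0],[0,0,1,0],[0,0,0,1]]),
  ([[1,2,2,0]], [[2,0,1,0],[1,0,0,2],[2,2,0,0],[1,1,2,2]], [[1,2,1,1],[2,1,1,2],[2,2,1,1],[1,1,1,1]], [[1,0,0,0],[1,1,0,0],[2,1,1,0],[2,0,0,1]], [[1,2,2,0],[0,1,0,0],[0,0,1,2],[0,0,0,1]], [[1,0,0,0],[0,1,0,0],[0,0,1,0],[0,0,0,1]]),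
  ([[1,2,2,1]], [[0,0,1,0],[1,0,1,1],[0,1,0,2],[1,2,0,0]], [[1,2,2,2],[1,2,2,1],[1,0,0,0],[1,2,1,1]], [[1,0,0,0],[2,1,0,0],[1,1,1,0],[0,2,0,1]], [[1,0,1,0],[0,1,0,1],[0,0,1,2],[0,0,0,1]], [[1,0,0,0],[0,1,0,0],[0,0,1,0],[0,0,0,1]]),
  ([[1,2,2,2]], [[1,1,1,2],[1,2,1,0],[2,1,0,1],[1,1,1,1]], [[2,1,2,0],[1,1,0,1],[2,1,1,1],[1,0,0,2]], [[1,0,0,0],[0,1,0,0],[1,2,1,0],[2,0,2,1]], [[1,1,0,0],[0,1,1,1],[0,0,1,0],[0,0,0,1]], [[1,0,0,0],[0,1,0,0],[0,0,1,0],[0,0,0,1]])]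

theorem singlep4_ok : tblOk 3 [g4p] singlep4 = true := by decide +kernel

theorem singlep4_keys : keys singlep4 = ((detV 3 4 1).map fun a => [a]) := by decide +kernel

def pairp3 : Tbl :=
  [([[2,0],[1]], [[0,2,0],[2,1,0],[0,1,1]], [[2,2,0],[2,0,0],[1,0,1]], [[1,0,0],[0,1,0],[2,0,1]], [[1,1,0],[0,1,1],[0,0,1]], [[1,0,0],[0,1,0],[0,0,1]]),
  ([[2,1],[1]], [[0,1,2],[1,1,0],[1,1,2]], [[2,0,1],[1,1,2],[0,1,2]], [[1,0,0],[1,1,0],[2,2,1]], [[1,2,0],[0,1,1],[0,0,1]], [[1,0,0],[0,1,0],[0,0,1]]),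
  ([[2,2],[1]], [[0,0,1],[2,2,2],[0,1,0]], [[2,2,2],[0,0,1],[1,0,0]], [[1,0,0],[2,1,0],[2,1,1]], [[1,2,0],[0,1,1],[0,0,1]], [[1,0,0],[0,1,0],[0,0,1]])]

theorem pairp3_ok : tblOk 3 [g3p] pairp3 = true := by decide +kernel

theorem pairp3_keys : keys pairp3 = (((detV 3 2 2).flatMap fun a => (detV 3 1 2).map fun b => [a, b])) := by decide +kernel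

def pairp4 : Tbl :=
  [([[1,0,0],[1]], [[0,0,2,2],[1,1,1,1],[0,1,0,1],[0,0,0,1]], [[1,1,2,1],[0,0,1,2],[2,0,0,2],[0,0,0,1]], [[1,0,0,0],[1,1,0,0],[0,2,1,0],[1,2,0,1]], [[1,1,1,0],[0,1,2,1],[0,0,1,1],[0,0,0,1]], [[1,0,0,0],[0,1,0,0],[0,0,1,0],[0,0,0,1]]),
  ([[1,0,1],[1]], [[1,1,1,1],[2,2,0,0],[0,0,2,1],[2,0,1,0]], [[2,2,1,2],[1,0,2,1],[2,2,1,0],[2,2,2,0]], [[1,0,0,0],[2,1,0,0],[1,2,1,0],[1,1,0,1]], [[1,2,0,0],[0,1,2,1],[0,0,1,0],[0,0,0,1]], [[1,0,0,0],[0,1,0,0],[0,0,1,0],[0,0,0,1]]),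
  ([[1,0,2],[1]], [[1,2,1,2],[2,1,0,0],[1,0,2,0],[2,0,1,2]], [[1,1,0,2],[1,2,0,2],[1,1,2,2],[0,0,2,2]], [[1,0,0,0],[0,1,0,0],[2,1,1,0],[1,0,0,1]], [[1,0,0,0],[0,1,1,1],[0,0,1,1],[0,0,0,1]], [[1,0,0,0],[0,1,0,0],[0,0,1,0],[0,0,0,1]]),
  ([[1,1,0],[1]], [[0,2,2,2],[2,2,1,0],[1,2,1,2],[0,0,2,0]], [[2,0,1,2],[1,2,2,0],[0,0,0,2],[1,1,1,1]], [[1,0,0,0],[2,1,0,0],[0,2,1,0],[0,0,1,1]], [[1,1,1,2],[0,1,1,2],[0,0,1,2],[0,0,0,1]], [[1,0,0,0],[0,1,0,0],[0,0,1,0],[0,0,0,1]]),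
  ([[1,1,1],[1]], [[1,1,0,2],[1,1,2,0],[1,2,1,0],[1,0,2,2]], [[0,2,2,0],[2,1,2,1],[2,2,1,1],[1,0,1,1]], [[1,0,0,0],[1,1,0,0],[2,2,1,0],[0,1,2,1]], [[1,0,2,2],[0,1,1,1],[0,0,1,1],[0,0,0,1]], [[1,0,0,0],[0,1,0,0],[0,0,1,0],[0,0,0,1]]),
  ([[1,1,2],[1]], [[0,1,1,1],[1,1,2,1],[1,0,2,1],[2,1,0,2]], [[2,0,2,1],[0,1,2,0],[0,1,1,2],[1,1,0,1]], [[1,0,0,0],[0,1,0,0],[2,2,1,0],[0,2,2,1]], [[1,0,2,1],[0,1,0,0],[0,0,1,1],[0,0,0,1]], [[1,0,0,0],[0,1,0,0],[0,0,1,0],[0,0,0,1]]),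
  ([[1,2,0],[1]], [[1,0,0,1],[0,2,0,0],[1,1,2,2],[0,0,1,1]], [[0,1,1,1],[0,2,0,0],[2,1,1,2],[1,2,2,2]], [[1,0,0,0],[0,1,0,0],[1,2,1,0],[2,1,1,1]], [[1,2,1,0],[0,1,1,1],[0,0,1,1],[0,0,0,1]], [[1,0,0,0],[0,1,0,0],[0,0,1,0],[0,0,0,1]]),
  ([[1,2,1],[1]], [[0,0,1,1],[2,2,0,2],[2,1,2,2],[0,1,2,2]], [[0,0,2,1],[1,0,0,1],[2,1,2,2],[2,2,1,1]], [[1,0,0,0],[2,1,0,0],[1,2,1,0],[2,2,0,1]], [[1,2,0,2],[0,1,2,2],[0,0,1,1],[0,0,0,1]], [[1,0,0,0],[0,1,0,0],[0,0,1,0],[0,0,0,1]]),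
  ([[1,2,2],[1]], [[1,2,1,1],[2,2,1,0],[0,0,1,0],[2,1,0,0]], [[0,1,2,1],[0,1,2,2],[0,0,1,0],[1,0,2,1]], [[1,0,0,0],[2,1,0,0],[2,0,1,0],[0,0,0,1]], [[1,2,1,0],[0,1,1,0],[0,0,1,1],[0,0,0,1]], [[1,0,0,0],[0,1,0,0],[0,0,1,0],[0,0,0,1]]),
  ([[2,0],[2,0]], [[2,0,0,2],[1,0,0,0],[0,1,2,2],[2,2,2,1]], [[0,1,0,0],[2,0,2,1],[0,1,1,1],[2,2,0,0]], [[1,0,0,0],[0,1,0,0],[1,2,1,0],[1,2,0,1]], [[1,1,1,1],[0,1,2,0],[0,0,1,2],[0,0,0,1]], [[1,0,0,0],[0,1,0,0],[0,0,1,0],[0,0,0,1]]),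
  ([[2,0],[2,1]], [[0,2,1,1],[0,0,1,1],[2,2,2,2],[0,0,2,0]], [[1,1,2,0],[2,1,0,0],[0,0,0,2],[0,1,0,1]], [[1,0,0,0],[1,1,0,0],[2,2,1,0],[1,0,1,1]], [[1,2,1,1],[0,1,1,1],[0,0,1,0],[0,0,0,1]], [[1,0,0,0],[0,1,0,0],[0,0,1,0],[0,0,0,1]]),
  ([[2,0],[2,2]], [[2,1,0,1],[1,2,1,1],[1,2,2,2],[1,1,2,1]], [[2,0,1,2],[2,1,2,2],[2,0,2,0],[1,2,2,0]], [[1,0,0,0],[2,1,0,0],[0,1,1,0],[2,2,0,1]], [[1,1,1,2],[0,1,1,0],[0,0,1,1],[0,0,0,1]], [[1,0,0,0],[0,1,0,0],[0,0,1,0],[0,0,0,1]]),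
  ([[2,1],[2,0]], [[0,0,1,2],[0,2,1,0],[0,0,2,2],[1,0,1,2]], [[2,0,0,1],[2,2,1,0],[2,0,1,0],[1,0,1,0]], [[1,0,0,0],[2,1,0,0],[1,0,1,0],[0,0,1,1]], [[1,0,0,2],[0,1,0,2],[0,0,1,1],[0,0,0,1]], [[1,0,0,0],[0,1,0,0],[0,0,1,0],[0,0,0,1]]),
  ([[2,1],[2,1]], [[2,2,2,1],[1,0,1,0],[0,1,1,1],[0,0,2,0]], [[0,1,0,1],[1,1,2,2],[0,0,0,2],[2,2,2,2]], [[1,0,0,0],[0,1,0,0],[1,0,1,0],[0,1,2,1]], [[1,2,1,1],[0,1,1,1],[0,0,1,1],[0,0,0,1]], [[1,0,0,0],[0,1,0,0],[0,0,1,0],[0,0,0,1]]),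
  ([[2,1],[2,2]], [[1,2,1,0],[0,2,0,1],[0,0,1,0],[0,2,2,2]], [[1,1,0,1],[0,1,1,1],[0,0,1,0],[0,2,1,1]], [[1,0,0,0],[2,1,0,0],[0,0,1,0],[1,1,0,1]], [[1,1,2,1],[0,1,0,0],[0,0,1,0],[0,0,0,1]], [[1,0,0,0],[0,1,0,0],[0,0,1,0],[0,0,0,1]]),
  ([[2,2],[2,0]], [[2,0,0,0],[0,2,2,2],[0,0,1,1],[0,0,0,2]], [[2,0,0,0],[0,2,2,0],[0,0,1,1],[0,0,0,2]], [[1,0,0,0],[2,1,0,0],[0,0,1,0],[0,0,0,1]], [[1,1,0,1],[0,1,2,1],[0,0,1,0],[0,0,0,1]], [[1,0,0,0],[0,1,0,0],[0,0,1,0],[0,0,0,1]]),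
  ([[2,2],[2,1]], [[2,1,2,0],[2,2,0,1],[0,1,0,2],[0,2,2,1]], [[0,2,2,0],[1,2,1,2],[0,0,2,2],[1,2,0,2]], [[1,0,0,0],[2,1,0,0],[1,0,1,0],[0,1,0,1]], [[1,0,2,2],[0,1,0,1],[0,0,1,2],[0,0,0,1]], [[1,0,0,0],[0,1,0,0],[0,0,1,0],[0,0,0,1]]),
  ([[2,2],[2,2]], [[1,0,1,1],[2,1,2,2],[2,2,1,1],[1,2,1,2]], [[0,1,1,0],[1,1,0,0],[1,1,2,2],[0,1,0,1]], [[1,0,0,0],[1,1,0,0],[0,2,1,0],[2,1,0,1]], [[1,0,0,1],[0,1,2,2],[0,0,1,2],[0,0,0,1]], [[1,0,0,0],[0,1,0,0],[0,0,1,0],[0,0,0,1]])]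

theorem pairp4_ok : tblOk 3 [g4p] pairp4 = true := by decide +kernel

theorem pairp4_keys : keys pairp4 = (((detV 3 3 2).flatMap fun a => (detV 3 1 2).map fun b => [a, b]) ++ ((detV 3 2 2).flatMap fun a => (detV 3 2 2).map fun b => [a, b])) := by decide +kernel

def pairp5 : Tbl :=
  [([[2,0,0,0],[1]], [[2,0,2,0,2],[0,1,1,2,1],[1,2,0,0,1],[2,2,1,2,2],[1,1,1,0,1]], [[1,2,2,1,1],[1,0,0,0,1],[1,0,2,0,2],[2,0,1,2,0],[0,1,2,2,0]], [[1,0,0,0,0],[1,1,0,0,0],[2,2,1,0,0],[2,0,0,1,0],[2,0,1,0,1]], [[1,1,2,2,0],[0,1,1,2,2],[0,0,1,1,1],[0,0,0,1,1],[0,0,0,0,1]], [[1,0,0,0,0],[0,1,0,0,0],[0,0,1,0,0],[0,0,0,1,0],[0,0,0,0,1]]),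
  ([[2,0,0,1],[1]], [[2,2,1,1,0],[0,0,0,1,2],[2,2,0,1,0],[0,2,0,2,1],[2,1,0,0,2]], [[0,2,1,0,1],[0,2,0,2,0],[1,0,2,0,0],[0,1,2,2,1],[0,0,2,2,1]], [[1,0,0,0,0],[2,1,0,0,0],[0,1,1,0,0],[1,1,1,1,0],[0,2,1,1,1]], [[1,2,2,2,0],[0,1,0,1,0],[0,0,1,1,2],[0,0,0,1,2],[0,0,0,0,1]], [[1,0,0,0,0],[0,1,0,0,0],[0,0,1,0,0],[0,0,0,1,0],[0,0,0,0,1]]),
  ([[2,0,0,2],[1]], [[1,0,0,0,2],[2,2,0,1,2],[0,0,0,1,1],[2,0,2,1,1],[2,2,1,1,1]], [[2,2,2,1,1],[2,2,1,0,0],[1,1,2,1,2],[2,1,2,2,2],[1,2,2,1,1]], [[1,0,0,0,0],[1,1,0,0,0],[1,1,1,0,0],[2,1,2,1,0],[0,2,0,1,1]], [[1,2,2,2,2],[0,1,2,2,1],[0,0,1,0,1],[0,0,0,1,2],[0,0,0,0,1]], [[1,0,0,0,0],[0,1,0,0,0],[0,0,1,0,0],[0,0,0,1,0],[0,0,0,0,1]]),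
  ([[2,0,1,0],[1]], [[2,1,0,0,0],[1,1,2,0,1],[1,2,1,0,0],[1,0,1,0,0],[2,1,1,2,1]], [[2,0,2,1,0],[0,0,2,1,0],[1,0,1,0,0],[1,1,1,1,2],[2,1,0,1,0]], [[1,0,0,0,0],[0,1,0,0,0],[1,1,1,0,0],[2,2,0,1,0],[2,2,2,2,1]], [[1,2,2,1,2],[0,1,2,0,0],[0,0,1,2,1],[0,0,0,1,0],[0,0,0,0,1]], [[1,0,0,0,0],[1,1,0,0,0],[1,0,1,0,0],[0,2,1,1,0],[1,1,2,0,1]]),
  ([[2,0,1,1],[1]], [[0,1,0,1,2],[1,2,2,2,2],[1,2,2,0,1],[0,2,0,1,1],[2,1,2,2,0]], [[2,2,0,1,1],[1,1,2,0,0],[0,2,2,0,1],[2,0,0,2,0],[2,1,2,2,0]], [[1,0,0,0,0],[2,1,0,0,0],[0,0,1,0,0],[1,1,1,1,0],[1,2,2,0,1]], [[1,2,0,2,1],[0,1,1,2,1],[0,0,1,1,1],[0,0,0,1,2],[0,0,0,0,1]], [[1,0,0,0,0],[0,1,0,0,0],[1,0,1,0,0],[0,2,1,1,0],[1,2,1,2,1]]),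
  ([[2,0,1,2],[1]], [[2,2,2,0,0],[0,2,0,1,2],[1,2,2,2,2],[2,2,1,0,0],[0,1,1,1,2]], [[0,2,0,2,1],[1,1,0,2,2],[1,0,0,2,0],[1,0,1,0,2],[0,1,1,1,0]], [[1,0,0,0,0],[0,1,0,0,0],[0,1,1,0,0],[1,1,1,1,0],[0,1,1,1,1]], [[1,1,0,0,0],[0,1,1,2,0],[0,0,1,0,1],[0,0,0,1,0],[0,0,0,0,1]], [[1,0,0,0,0],[0,1,0,0,0],[0,0,1,0,0],[0,0,0,1,0],[0,0,0,0,1]]),
  ([[2,0,2,0],[1]], [[0,2,0,1,0],[1,2,2,2,1],[2,0,1,2,1],[2,1,1,2,1],[2,0,2,1,2]], [[0,0,1,0,1],[0,0,2,1,0],[0,1,2,1,1],[1,0,2,1,0],[1,2,2,0,0]], [[1,0,0,0,0],[0,1,0,0,0],[0,0,1,0,0],[1,2,2,1,0],[0,2,1,2,1]], [[1,2,1,1,1],[0,1,2,1,1],[0,0,1,1,1],[0,0,0,1,2],[0,0,0,0,1]], [[1,0,0,0,0],[2,1,0,0,0],[1,1,1,0,0],[2,0,2,1,0],[2,2,1,0,1]]),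
  ([[2,0,2,1],[1]], [[2,0,0,0,0],[2,2,1,0,1],[2,2,0,2,1],[0,0,0,1,0],[0,0,1,2,1]], [[2,0,0,0,0],[1,2,0,1,1],[0,1,2,2,0],[0,0,0,1,0],[0,2,1,2,1]], [[1,0,0,0,0],[1,1,0,0,0],[2,1,1,0,0],[0,1,2,1,0],[0,0,2,2,1]], [[1,0,0,0,0],[0,1,1,0,1],[0,0,1,1,2],[0,0,0,1,1],[0,0,0,0,1]], [[1,0,0,0,0],[0,1,0,0,0],[2,1,1,0,0],[2,2,0,1,0],[0,0,1,0,1]]),
  ([[2,0,2,2],[1]], [[1,1,1,0,0],[1,2,0,0,0],[2,2,1,1,1],[2,0,2,1,1],[0,1,0,1,0]], [[1,0,1,2,0],[1,2,1,2,0],[2,1,1,2,0],[2,1,2,1,1],[1,0,0,1,2]], [[1,0,0,0,0],[2,1,0,0,0],[1,1,1,0,0],[1,2,1,1,0],[2,2,2,2,1]], [[1,0,1,0,1],[0,1,1,0,1],[0,0,1,0,1],[0,0,0,1,2],[0,0,0,0,1]], [[1,0,0,0,0],[0,1,0,0,0],[0,0,1,0,0],[0,0,0,1,0],[0,0,0,0,1]]),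
  ([[2,1,0,0],[1]], [[1,2,0,0,1],[1,2,2,0,0],[1,1,1,1,2],[0,2,2,0,0],[1,2,1,1,2]], [[0,1,0,2,0],[0,0,2,0,1],[0,0,1,2,2],[1,1,0,0,1],[1,2,2,1,1]], [[1,0,0,0,0],[1,1,0,0,0],[1,1,1,0,0],[1,0,0,1,0],[0,1,2,0,1]], [[1,1,2,0,1],[0,1,2,0,1],[0,0,1,2,1],[0,0,0,1,2],[0,0,0,0,1]], [[1,0,0,0,0],[0,1,0,0,0],[0,0,1,0,0],[0,0,0,1,0],[0,0,0,0,1]]),
  ([[2,1,0,1],[1]], [[1,0,1,1,0],[2,2,0,2,2],[1,2,0,2,1],[0,2,1,1,0],[1,0,0,2,1]], [[1,0,1,2,2],[0,0,2,0,1],[0,2,0,1,2],[0,1,2,0,2],[2,1,1,1,1]], [[1,0,0,0,0],[0,1,0,0,0],[2,0,1,0,0],[2,0,2,1,0],[1,1,0,2,1]], [[1,0,0,1,0],[0,1,1,1,1],[0,0,1,0,0],[0,0,0,1,0],[0,0,0,0,1]], [[1,0,0,0,0],[0,1,0,0,0],[0,0,1,0,0],[0,0,0,1,0],[0,0,0,0,1]]),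
  ([[2,1,0,2],[1]], [[2,0,0,0,1],[1,2,0,2,2],[1,0,1,0,0],[2,2,2,0,2],[0,0,1,1,1]], [[2,1,1,2,1],[0,2,1,0,2],[1,2,0,1,2],[2,0,2,0,1],[0,1,1,2,1]], [[1,0,0,0,0],[1,1,0,0,0],[0,0,1,0,0],[0,2,1,1,0],[0,2,2,1,1]], [[1,0,1,2,2],[0,1,1,1,0],[0,0,1,1,2],[0,0,0,1,0],[0,0,0,0,1]], [[1,0,0,0,0],[0,1,0,0,0],[0,0,1,0,0],[0,0,0,1,0],[0,0,0,0,1]]),
  ([[2,1,1,0],[1]], [[1,1,2,0,1],[0,2,1,1,1],[0,0,1,2,0],[1,1,1,0,2],[2,0,2,1,2]], [[0,1,1,1,0],[2,2,2,1,0],[1,2,1,1,2],[1,2,0,1,2],[0,2,1,2,2]], [[1,0,0,0,0],[0,1,0,0,0],[2,0,1,0,0],[1,0,2,1,0],[1,1,0,1,1]], [[1,1,2,1,0],[0,1,1,0,2],[0,0,1,1,2],[0,0,0,1,0],[0,0,0,0,1]], [[1,0,0,0,0],[2,1,0,0,0],[0,2,1,0,0],[2,0,0,1,0],[2,1,2,2,1]]),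
  ([[2,1,1,1],[1]], [[2,2,2,2,1],[2,0,2,1,2],[2,2,2,2,2],[0,2,1,2,2],[2,0,1,2,2]], [[1,1,2,0,1],[1,1,2,2,2],[1,1,0,2,1],[1,0,0,2,2],[2,0,1,0,0]], [[1,0,0,0,0],[0,1,0,0,0],[1,2,1,0,0],[0,2,1,1,0],[1,2,2,2,1]], [[1,0,1,1,2],[0,1,2,0,2],[0,0,1,2,2],[0,0,0,1,2],[0,0,0,0,1]], [[1,0,0,0,0],[0,1,0,0,0],[0,0,1,0,0],[0,0,0,1,0],[0,0,0,0,1]]),
  ([[2,1,1,2],[1]], [[2,2,1,2,2],[0,2,2,2,1],[2,1,0,2,2],[1,2,0,2,1],[0,2,1,1,0]], [[1,2,1,0,1],[2,0,0,2,1],[2,0,2,1,2],[0,0,1,1,0],[1,1,0,1,0]], [[1,0,0,0,0],[1,1,0,0,0],[0,1,1,0,0],[0,1,2,1,0],[2,0,0,1,1]], [[1,1,0,2,2],[0,1,2,1,2],[0,0,1,1,2],[0,0,0,1,1],[0,0,0,0,1]], [[1,0,0,0,0],[0,1,0,0,0],[0,0,1,0,0],[0,0,0,1,0],[0,0,0,0,1]]),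
  ([[2,1,2,0],[1]], [[2,1,2,1,2],[1,2,1,0,1],[2,0,0,2,0],[2,2,2,0,0],[1,0,0,1,2]], [[2,2,2,0,0],[0,1,1,1,1],[1,0,0,1,2],[1,1,0,0,0],[0,0,2,0,2]], [[1,0,0,0,0],[0,1,0,0,0],[2,2,1,0,0],[2,0,0,1,0],[2,1,1,2,1]], [[1,1,1,0,1],[0,1,2,2,0],[0,0,1,1,2],[0,0,0,1,1],[0,0,0,0,1]], [[1,0,0,0,0],[0,1,0,0,0],[0,0,1,0,0],[0,0,0,1,0],[0,0,0,0,1]]),
  ([[2,1,2,1],[1]], [[2,0,0,1,2],[2,2,2,0,0],[0,0,0,2,2],[2,1,1,0,1],[2,0,1,0,0]], [[1,2,1,2,0],[1,1,1,2,2],[1,2,1,2,1],[1,1,0,1,0],[2,2,2,2,0]], [[1,0,0,0,0],[2,1,0,0,0],[2,1,1,0,0],[0,0,2,1,0],[2,0,2,1,1]], [[1,2,0,1,0],[0,1,0,1,1],[0,0,1,2,1],[0,0,0,1,1],[0,0,0,0,1]], [[1,0,0,0,0],[0,1,0,0,0],[0,0,1,0,0],[0,0,0,1,0],[0,0,0,0,1]]),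
  ([[2,1,2,2],[1]], [[0,1,1,0,0],[1,2,0,0,2],[2,2,0,1,2],[1,2,0,0,1],[1,0,2,0,0]], [[2,1,0,1,2],[2,2,0,2,2],[2,1,0,1,1],[1,1,1,2,1],[0,1,0,2,0]], [[1,0,0,0,0],[1,1,0,0,0],[0,1,1,0,0],[0,0,1,1,0],[1,2,2,0,1]], [[1,2,2,2,2],[0,1,0,0,0],[0,0,1,2,1],[0,0,0,1,1],[0,0,0,0,1]], [[1,0,0,0,0],[0,1,0,0,0],[0,0,1,0,0],[2,0,0,1,0],[0,2,0,0,1]]),
  ([[2,2,0,0],[1]], [[2,1,2,1,2],[0,2,2,0,1],[2,0,2,1,2],[0,1,1,1,1],[0,0,1,0,0]], [[0,1,2,1,2],[1,0,2,0,0],[0,0,0,0,1],[1,2,2,1,1],[1,1,2,0,1]], [[1,0,0,0,0],[0,1,0,0,0],[2,2,1,0,0],[0,1,0,1,0],[0,1,1,0,1]], [[1,2,0,0,1],[0,1,0,1,1],[0,0,1,2,2],[0,0,0,1,1],[0,0,0,0,1]], [[1,0,0,0,0],[0,1,0,0,0],[0,0,1,0,0],[0,0,0,1,0],[0,0,0,0,1]]),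
  ([[2,2,0,1],[1]], [[1,2,2,0,0],[1,1,2,0,1],[0,0,1,0,0],[2,2,2,2,0],[0,2,1,1,1]], [[0,2,2,1,1],[2,2,1,1,1],[0,0,1,0,0],[1,2,2,0,1],[1,0,1,1,1]], [[1,0,0,0,0],[0,1,0,0,0],[0,0,1,0,0],[0,2,2,1,0],[1,0,0,0,1]], [[1,1,1,0,0],[0,1,0,1,0],[0,0,1,1,1],[0,0,0,1,0],[0,0,0,0,1]], [[1,0,0,0,0],[0,1,0,0,0],[0,0,1,0,0],[0,0,0,1,0],[0,0,0,0,1]]),
  ([[2,2,0,2],[1]], [[2,0,0,2,0],[1,0,0,2,2],[1,2,2,2,2],[2,1,2,1,1],[2,1,2,2,2]], [[0,1,0,2,1],[0,1,1,2,0],[0,0,1,1,0],[2,2,0,1,2],[1,1,0,1,2]], [[1,0,0,0,0],[2,1,0,0,0],[2,2,1,0,0],[2,2,1,1,0],[1,1,0,1,1]], [[1,2,1,2,0],[0,1,2,1,1],[0,0,1,0,2],[0,0,0,1,0],[0,0,0,0,1]], [[1,0,0,0,0],[0,1,0,0,0],[0,0,1,0,0],[0,0,0,1,0],[0,0,0,0,1]]),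
  ([[2,2,1,0],[1]], [[0,0,2,2,1],[0,1,0,1,2],[2,2,2,2,2],[2,0,0,1,1],[1,1,1,0,2]], [[2,1,0,1,2],[0,1,1,0,1],[2,0,1,0,1],[1,2,1,1,2],[1,2,2,1,0]], [[1,0,0,0,0],[2,1,0,0,0],[1,0,1,0,0],[0,2,2,1,0],[1,1,0,0,1]], [[1,1,0,2,2],[0,1,2,0,2],[0,0,1,2,2],[0,0,0,1,1],[0,0,0,0,1]], [[1,0,0,0,0],[2,1,0,0,0],[0,2,1,0,0],[0,1,0,1,0],[0,0,1,1,1]]),
  ([[2,2,1,1],[1]], [[2,1,0,0,1],[1,0,1,2,1],[1,0,1,1,2],[2,2,0,0,0],[0,2,2,2,2]], [[2,0,1,1,1],[1,0,2,1,2],[1,2,1,2,2],[2,1,1,0,2],[2,0,2,0,2]], [[1,0,0,0,0],[2,1,0,0,0],[2,0,1,0,0],[2,1,0,1,0],[2,1,2,0,1]], [[1,0,0,1,1],[0,1,2,1,2],[0,0,1,2,0],[0,0,0,1,1],[0,0,0,0,1]], [[1,0,0,0,0],[1,1,0,0,0],[2,0,1,0,0],[0,1,1,1,0],[2,2,1,2,1]]),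
  ([[2,2,1,2],[1]], [[0,1,1,1,1],[2,2,2,1,1],[1,1,0,2,1],[0,1,2,0,2],[1,2,0,2,0]], [[1,1,1,0,1],[0,2,2,1,0],[0,0,2,2,1],[1,2,2,2,0],[0,2,0,1,2]], [[1,0,0,0,0],[0,1,0,0,0],[0,0,1,0,0],[0,0,2,1,0],[2,2,1,0,1]], [[1,2,0,1,2],[0,1,0,1,2],[0,0,1,2,0],[0,0,0,1,1],[0,0,0,0,1]], [[1,0,0,0,0],[0,1,0,0,0],[0,0,1,0,0],[0,0,0,1,0],[0,0,0,0,1]]),
  ([[2,2,2,0],[1]], [[2,0,1,2,1],[1,0,1,0,0],[2,2,0,1,2],[0,2,0,1,2],[1,0,1,1,1]], [[0,0,2,1,0],[2,1,2,0,0],[0,1,1,2,0],[1,0,1,2,2],[2,2,2,1,2]], [[1,0,0,0,0],[2,1,0,0,0],[0,1,1,0,0],[1,0,2,1,0],[0,2,1,1,1]], [[1,2,2,0,2],[0,1,0,0,0],[0,0,1,1,2],[0,0,0,1,0],[0,0,0,0,1]], [[1,0,0,0,0],[0,1,0,0,0],[0,0,1,0,0],[0,0,0,1,0],[0,0,0,0,1]]),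
  ([[2,2,2,1],[1]], [[2,1,2,1,1],[0,1,2,0,1],[1,2,1,2,0],[0,1,1,0,0],[1,1,1,1,1]], [[2,2,1,1,2],[1,2,1,2,0],[2,1,2,2,0],[0,1,1,1,2],[1,0,1,0,0]], [[1,0,0,0,0],[0,1,0,0,0],[0,1,1,0,0],[2,1,0,1,0],[0,2,1,2,1]], [[1,1,1,2,2],[0,1,0,0,1],[0,0,1,1,0],[0,0,0,1,1],[0,0,0,0,1]], [[1,0,0,0,0],[0,1,0,0,0],[0,0,1,0,0],[0,0,0,1,0],[0,0,0,0,1]]),
  ([[2,2,2,2],[1]], [[2,2,1,0,2],[0,2,1,0,2],[1,2,1,0,0],[2,1,1,0,2],[2,0,2,2,0]], [[2,1,0,0,0],[1,0,0,2,0],[2,2,1,2,0],[2,0,2,1,2],[1,1,1,0,0]], [[1,0,0,0,0],[2,1,0,0,0],[1,0,1,0,0],[1,0,2,1,0],[2,0,1,1,1]], [[1,0,2,0,2],[0,1,0,1,1],[0,0,1,1,0],[0,0,0,1,1],[0,0,0,0,1]], [[1,0,0,0,0],[0,1,0,0,0],[0,0,1,0,0],[0,0,0,1,0],[0,0,0,0,1]]),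
  ([[1,0,0],[2,0]], [[0,0,2,0,1],[2,2,0,0,0],[2,1,0,0,1],[1,1,1,1,2],[1,2,0,1,0]], [[1,2,0,1,2],[2,0,0,2,1],[1,2,1,2,1],[1,1,0,1,0],[2,2,1,2,1]], [[1,0,0,0,0],[1,1,0,0,0],[2,2,1,0,0],[0,1,2,1,0],[0,1,2,0,1]], [[1,1,2,1,0],[0,1,0,1,2],[0,0,1,1,2],[0,0,0,1,1],[0,0,0,0,1]], [[1,0,0,0,0],[0,1,0,0,0],[0,0,1,0,0],[0,0,0,1,0],[0,0,0,0,1]]),
  ([[1,0,0],[2,1]], [[0,2,2,0,2],[1,2,0,2,1],[2,1,2,1,1],[2,1,0,2,2],[0,1,1,1,2]], [[1,1,1,2,2],[2,1,1,0,0],[2,0,2,1,2],[0,1,0,1,0],[1,2,0,2,1]], [[1,0,0,0,0],[1,1,0,0,0],[1,1,1,0,0],[1,2,1,1,0],[0,1,1,2,1]], [[1,1,1,0,0],[0,1,0,1,2],[0,0,1,2,2],[0,0,0,1,0],[0,0,0,0,1]], [[1,0,0,0,0],[1,1,0,0,0],[0,1,1,0,0],[1,1,2,1,0],[2,0,1,2,1]]),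
  ([[1,0,0],[2,2]], [[0,1,1,0,2],[1,1,1,2,0],[2,1,2,2,0],[1,2,0,2,0],[0,2,2,2,1]], [[1,2,2,1,1],[2,2,2,0,2],[2,0,2,2,2],[2,0,0,0,2],[0,2,1,2,1]], [[1,0,0,0,0],[1,1,0,0,0],[1,0,1,0,0],[2,1,1,1,0],[1,2,2,0,1]], [[1,1,1,0,0],[0,1,1,0,0],[0,0,1,2,2],[0,0,0,1,2],[0,0,0,0,1]], [[1,0,0,0,0],[0,1,0,0,0],[0,0,1,0,0],[0,0,0,1,0],[0,0,0,0,1]]),
  ([[1,0,1],[2,0]], [[1,0,0,1,2],[1,2,1,2,0],[1,0,2,2,1],[2,1,1,2,1],[1,1,2,1,2]], [[1,0,2,1,2],[0,0,0,2,2],[1,0,0,2,1],[2,2,2,1,1],[2,2,1,2,0]], [[1,0,0,0,0],[0,1,0,0,0],[1,0,1,0,0],[0,1,1,1,0],[2,1,0,1,1]], [[1,2,1,1,0],[0,1,2,0,0],[0,0,1,1,0],[0,0,0,1,1],[0,0,0,0,1]], [[1,0,0,0,0],[2,1,0,0,0],[2,1,1,0,0],[0,1,2,1,0],[2,1,1,2,1]]),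
  ([[1,0,1],[2,1]], [[1,1,1,2,1],[2,0,0,0,2],[1,0,2,2,1],[2,2,1,2,2],[0,0,0,2,1]], [[1,1,2,1,2],[2,1,0,1,0],[1,1,1,1,0],[2,1,1,2,0],[2,1,1,2,1]], [[1,0,0,0,0],[2,1,0,0,0],[2,1,1,0,0],[0,0,2,1,0],[0,2,1,0,1]], [[1,0,0,2,0],[0,1,2,2,0],[0,0,1,2,1],[0,0,0,1,1],[0,0,0,0,1]], [[1,0,0,0,0],[0,1,0,0,0],[0,0,1,0,0],[0,0,0,1,0],[0,0,0,0,1]]),
  ([[1,0,1],[2,2]], [[1,0,0,1,0],[1,1,0,2,1],[2,0,0,2,1],[1,2,2,1,2],[1,0,0,2,2]], [[1,0,2,0,2],[1,1,1,0,2],[2,2,1,2,1],[0,0,1,0,1],[1,0,1,0,0]], [[1,0,0,0,0],[0,1,0,0,0],[0,0,1,0,0],[1,0,0,1,0],[2,2,1,2,1]], [[1,1,1,2,0],[0,1,0,2,2],[0,0,1,0,0],[0,0,0,1,2],[0,0,0,0,1]], [[1,0,0,0,0],[0,1,0,0,0],[0,2,1,0,0],[2,0,1,1,0],[2,2,1,1,1]]),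
  ([[1,0,2],[2,0]], [[1,2,1,2,1],[1,1,2,1,0],[1,1,1,2,2],[2,1,1,0,0],[0,0,1,0,1]], [[1,0,2,2,1],[0,1,1,2,1],[1,2,1,1,0],[0,2,1,0,1],[2,1,2,2,1]], [[1,0,0,0,0],[2,1,0,0,0],[2,2,1,0,0],[2,2,2,1,0],[2,1,2,2,1]], [[1,1,1,0,2],[0,1,2,1,0],[0,0,1,1,2],[0,0,0,1,1],[0,0,0,0,1]], [[1,0,0,0,0],[0,1,0,0,0],[0,0,1,0,0],[0,0,0,1,0],[0,0,0,0,1]]),
  ([[1,0,2],[2,1]], [[2,1,0,2,0],[0,1,2,2,0],[1,1,1,2,1],[1,1,1,0,0],[1,0,0,1,0]], [[2,2,0,2,1],[1,0,0,0,1],[0,1,0,2,1],[1,1,0,1,0],[1,1,1,0,0]], [[1,0,0,0,0],[0,1,0,0,0],[2,1,1,0,0],[1,0,1,1,0],[0,1,0,2,1]], [[1,1,0,2,2],[0,1,2,2,0],[0,0,1,1,1],[0,0,0,1,0],[0,0,0,0,1]], [[1,0,0,0,0],[2,1,0,0,0],[2,2,1,0,0],[0,0,2,1,0],[2,1,1,1,1]]),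
  ([[1,0,2],[2,2]], [[0,0,0,2,2],[0,0,0,0,2],[2,1,2,0,1],[0,2,2,1,2],[0,1,2,0,2]], [[0,1,2,0,1],[1,2,0,1,2],[1,0,0,1,1],[2,1,0,0,0],[0,2,0,0,0]], [[1,0,0,0,0],[2,1,0,0,0],[0,1,1,0,0],[1,0,1,1,0],[2,0,0,2,1]], [[1,0,2,2,0],[0,1,1,1,2],[0,0,1,1,0],[0,0,0,1,0],[0,0,0,0,1]], [[1,0,0,0,0],[0,1,0,0,0],[0,0,1,0,0],[0,0,0,1,0],[0,0,0,0,1]]),
  ([[1,1,0],[2,0]], [[2,2,2,2,2],[2,2,1,0,1],[1,2,1,2,0],[0,0,0,0,1],[1,2,1,1,0]], [[0,1,1,2,1],[1,0,0,1,1],[1,2,1,2,2],[0,0,1,0,2],[0,0,0,1,0]], [[1,0,0,0,0],[1,1,0,0,0],[1,1,1,0,0],[0,0,1,1,0],[0,1,2,2,1]], [[1,2,0,1,0],[0,1,0,2,0],[0,0,1,2,0],[0,0,0,1,0],[0,0,0,0,1]], [[1,0,0,0,0],[0,1,0,0,0],[0,1,1,0,0],[2,0,1,1,0],[1,1,1,2,1]]),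
  ([[1,1,0],[2,1]], [[1,0,1,2,0],[1,2,2,2,1],[2,2,2,2,2],[0,1,2,2,0],[1,1,0,2,0]], [[2,1,1,0,2],[0,2,2,2,0],[1,2,2,2,2],[2,0,0,2,1],[1,1,0,0,1]], [[1,0,0,0,0],[2,1,0,0,0],[2,1,1,0,0],[0,2,1,1,0],[1,2,2,2,1]], [[1,2,0,0,1],[0,1,0,0,0],[0,0,1,2,0],[0,0,0,1,2],[0,0,0,0,1]], [[1,0,0,0,0],[0,1,0,0,0],[0,0,1,0,0],[0,0,0,1,0],[0,0,0,0,1]]),
  ([[1,1,0],[2,2]], [[1,0,0,1,2],[0,0,2,1,1],[1,0,1,0,0],[2,1,1,2,1],[1,0,0,2,0]], [[1,1,1,0,2],[2,1,0,1,2],[2,2,0,0,1],[1,1,1,0,1],[1,2,2,0,0]], [[1,0,0,0,0],[1,1,0,0,0],[0,2,1,0,0],[1,0,2,1,0],[1,0,2,2,1]], [[1,0,2,0,2],[0,1,1,1,1],[0,0,1,0,1],[0,0,0,1,2],[0,0,0,0,1]], [[1,0,0,0,0],[0,1,0,0,0],[1,2,1,0,0],[2,0,1,1,0],[2,1,0,0,1]]),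
  ([[1,1,1],[2,0]], [[1,1,1,2,1],[1,0,2,1,2],[0,1,0,1,1],[1,0,0,2,1],[2,2,0,2,0]], [[2,2,2,1,1],[0,0,2,1,1],[1,0,1,1,2],[1,1,2,1,0],[2,2,0,1,2]], [[1,0,0,0,0],[2,1,0,0,0],[0,1,1,0,0],[2,1,2,1,0],[1,1,2,0,1]], [[1,0,0,0,0],[0,1,1,2,1],[0,0,1,2,0],[0,0,0,1,1],[0,0,0,0,1]], [[1,0,0,0,0],[0,1,0,0,0],[0,0,1,0,0],[0,0,0,1,0],[0,0,0,0,1]]),
  ([[1,1,1],[2,1]], [[0,1,2,2,0],[1,2,2,2,1],[2,0,0,0,2],[2,0,2,2,0],[1,1,0,1,0]], [[2,2,2,2,0],[2,1,1,0,0],[2,1,1,2,2],[2,0,0,1,1],[1,1,0,1,0]], [[1,0,0,0,0],[0,1,0,0,0],[2,0,1,0,0],[1,1,2,1,0],[2,2,1,2,1]], [[1,2,0,1,0],[0,1,0,1,2],[0,0,1,2,1],[0,0,0,1,0],[0,0,0,0,1]], [[1,0,0,0,0],[0,1,0,0,0],[0,0,1,0,0],[0,0,0,1,0],[0,0,0,0,1]]),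
  ([[1,1,1],[2,2]], [[0,0,1,0,1],[1,1,2,2,2],[2,1,1,1,0],[0,0,0,2,0],[1,0,2,0,0]], [[1,1,2,1,2],[0,0,1,1,1],[1,1,2,1,1],[0,0,0,2,0],[0,2,1,2,2]], [[1,0,0,0,0],[0,1,0,0,0],[2,2,1,0,0],[2,0,0,1,0],[0,1,0,2,1]], [[1,0,2,0,1],[0,1,0,2,0],[0,0,1,0,2],[0,0,0,1,0],[0,0,0,0,1]], [[1,0,0,0,0],[1,1,0,0,0],[0,0,1,0,0],[2,0,1,1,0],[0,1,1,0,1]]),
  ([[1,1,2],[2,0]], [[0,2,1,0,0],[1,0,0,1,2],[1,1,1,2,2],[1,0,2,1,1],[1,1,0,2,2]], [[2,0,0,2,2],[2,0,1,0,2],[0,0,1,0,2],[1,2,2,0,2],[0,1,2,2,1]], [[1,0,0,0,0],[1,1,0,0,0],[0,0,1,0,0],[0,1,1,1,0],[0,2,0,0,1]], [[1,0,0,2,1],[0,1,2,1,2],[0,0,1,2,0],[0,0,0,1,2],[0,0,0,0,1]], [[1,0,0,0,0],[0,1,0,0,0],[0,0,1,0,0],[0,0,0,1,0],[0,0,0,0,1]]),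
  ([[1,1,2],[2,1]], [[0,2,1,0,0],[0,1,1,0,0],[0,0,2,1,1],[2,0,2,1,1],[2,1,2,1,2]], [[0,0,1,2,0],[1,2,0,0,0],[2,2,0,0,0],[0,1,1,1,2],[2,1,0,2,1]], [[1,0,0,0,0],[1,1,0,0,0],[0,2,1,0,0],[2,1,2,1,0],[0,2,1,1,1]], [[1,2,0,2,2],[0,1,0,1,1],[0,0,1,0,0],[0,0,0,1,0],[0,0,0,0,1]], [[1,0,0,0,0],[0,1,0,0,0],[0,2,1,0,0],[0,2,2,1,0],[1,0,1,2,1]]),
  ([[1,1,2],[2,2]], [[0,0,1,2,1],[0,1,2,1,1],[1,1,0,1,1],[0,2,1,1,0],[2,2,1,0,0]], [[2,0,1,1,0],[2,2,2,1,2],[1,2,0,2,0],[1,0,2,0,2],[1,1,2,1,2]], [[1,0,0,0,0],[0,1,0,0,0],[1,1,1,0,0],[0,1,0,1,0],[2,2,1,0,1]], [[1,0,1,2,2],[0,1,2,2,0],[0,0,1,1,1],[0,0,0,1,1],[0,0,0,0,1]], [[1,0,0,0,0],[0,1,0,0,0],[0,0,1,0,0],[0,0,0,1,0],[0,0,0,0,1]]),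
  ([[1,2,0],[2,0]], [[1,0,2,2,1],[0,2,2,1,1],[0,0,2,0,0],[2,0,1,1,1],[2,1,0,1,0]], [[2,1,0,0,1],[2,0,2,1,1],[0,0,2,0,0],[0,1,1,2,1],[2,0,0,2,0]], [[1,0,0,0,0],[2,1,0,0,0],[0,0,1,0,0],[2,2,0,1,0],[1,0,1,2,1]], [[1,2,0,1,1],[0,1,1,0,2],[0,0,1,0,2],[0,0,0,1,0],[0,0,0,0,1]], [[1,0,0,0,0],[0,1,0,0,0],[0,0,1,0,0],[0,0,0,1,0],[0,0,0,0,1]]),
  ([[1,2,0],[2,1]], [[1,2,0,0,0],[2,0,0,1,1],[2,2,2,0,0],[0,0,0,2,0],[0,1,2,0,2]], [[1,2,1,2,2],[0,2,1,2,2],[2,2,0,2,2],[0,0,0,2,0],[1,0,1,0,2]], [[1,0,0,0,0],[2,1,0,0,0],[0,0,1,0,0],[1,0,0,1,0],[1,2,1,0,1]], [[1,2,1,1,0],[0,1,1,2,1],[0,0,1,0,1],[0,0,0,1,1],[0,0,0,0,1]], [[1,0,0,0,0],[0,1,0,0,0],[0,0,1,0,0],[0,0,0,1,0],[0,0,0,0,1]]),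
  ([[1,2,0],[2,2]], [[0,2,2,2,2],[0,1,2,2,0],[0,2,2,0,2],[1,0,2,1,2],[1,1,0,2,2]], [[1,1,1,0,1],[0,2,0,1,2],[1,1,2,1,2],[2,0,1,0,0],[2,0,0,1,2]], [[1,0,0,0,0],[0,1,0,0,0],[0,1,1,0,0],[1,2,2,1,0],[0,1,0,2,1]], [[1,0,0,2,1],[0,1,2,2,2],[0,0,1,1,0],[0,0,0,1,0],[0,0,0,0,1]], [[1,0,0,0,0],[0,1,0,0,0],[0,0,1,0,0],[0,0,0,1,0],[0,0,0,0,1]]),
  ([[1,2,1],[2,0]], [[2,2,0,2,2],[2,0,0,2,2],[0,1,0,1,2],[2,1,2,0,2],[1,2,1,0,0]], [[2,0,2,2,2],[2,1,0,0,0],[0,1,1,1,2],[1,2,1,2,2],[0,0,0,2,2]], [[1,0,0,0,0],[2,1,0,0,0],[2,2,1,0,0],[2,0,2,1,0],[0,1,0,0,1]], [[1,2,1,1,0],[0,1,2,0,2],[0,0,1,1,0],[0,0,0,1,0],[0,0,0,0,1]], [[1,0,0,0,0],[2,1,0,0,0],[1,2,1,0,0],[2,0,0,1,0],[2,1,1,0,1]]),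
  ([[1,2,1],[2,1]], [[0,1,2,1,1],[2,2,1,2,2],[2,0,0,2,0],[2,2,1,2,0],[2,1,0,2,0]], [[2,2,0,0,0],[0,0,2,0,1],[0,0,1,1,1],[1,1,2,0,0],[0,2,0,1,0]], [[1,0,0,0,0],[1,1,0,0,0],[2,1,1,0,0],[1,1,2,1,0],[1,0,2,0,1]], [[1,2,2,1,0],[0,1,1,2,1],[0,0,1,0,1],[0,0,0,1,1],[0,0,0,0,1]], [[1,0,0,0,0],[0,1,0,0,0],[0,0,1,0,0],[0,0,0,1,0],[0,0,0,0,1]]),
  ([[1,2,1],[2,2]], [[1,2,0,1,0],[1,2,2,0,2],[2,2,2,2,1],[2,2,2,1,1],[1,2,2,0,1]], [[0,0,2,2,2],[2,0,0,1,2],[1,1,2,1,1],[0,0,1,2,0],[0,1,0,0,2]], [[1,0,0,0,0],[2,1,0,0,0],[1,2,1,0,0],[1,1,1,1,0],[0,2,0,2,1]], [[1,2,2,2,0],[0,1,1,2,2],[0,0,1,1,1],[0,0,0,1,1],[0,0,0,0,1]], [[1,0,0,0,0],[0,1,0,0,0],[0,0,1,0,0],[0,0,0,1,0],[0,0,0,0,1]]),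
  ([[1,2,2],[2,0]], [[0,1,0,0,2],[2,1,1,1,0],[2,2,2,2,1],[0,1,0,2,0],[0,1,2,0,0]], [[0,2,0,2,2],[1,2,1,1,1],[1,2,1,1,0],[1,2,1,0,1],[0,2,1,1,1]], [[1,0,0,0,0],[0,1,0,0,0],[1,2,1,0,0],[1,0,0,1,0],[1,0,2,0,1]], [[1,1,2,1,2],[0,1,1,2,0],[0,0,1,2,1],[0,0,0,1,1],[0,0,0,0,1]], [[1,0,0,0,0],[0,1,0,0,0],[0,0,1,0,0],[0,0,0,1,0],[0,0,0,0,1]]),
  ([[1,2,2],[2,1]], [[1,1,2,0,1],[0,2,0,2,2],[1,1,1,0,2],[0,0,0,1,0],[2,2,1,1,1]], [[1,1,2,2,2],[1,2,0,1,1],[0,0,2,1,2],[0,0,0,1,0],[2,0,0,1,2]], [[1,0,0,0,0],[1,1,0,0,0],[1,1,1,0,0],[2,2,1,1,0],[0,1,2,0,1]], [[1,0,0,1,0],[0,1,1,1,0],[0,0,1,0,2],[0,0,0,1,0],[0,0,0,0,1]], [[1,0,0,0,0],[0,1,0,0,0],[0,0,1,0,0],[0,0,0,1,0],[0,0,0,0,1]]),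
  ([[1,2,2],[2,2]], [[1,2,0,2,2],[2,2,0,2,2],[0,1,1,2,1],[0,1,1,0,1],[1,1,0,0,0]], [[2,1,0,0,0],[1,2,0,0,1],[2,2,2,2,0],[0,0,2,1,0],[0,2,1,2,2]], [[1,0,0,0,0],[1,1,0,0,0],[1,0,1,0,0],[1,1,2,1,0],[1,0,2,0,1]], [[1,1,0,2,2],[0,1,1,2,0],[0,0,1,2,1],[0,0,0,1,2],[0,0,0,0,1]], [[1,0,0,0,0],[0,1,0,0,0],[0,0,1,0,0],[0,0,0,1,0],[0,0,0,0,1]])]

theorem pairp5_ok : tblOk 3 [g5p] pairp5 = true := by decide +kernel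

theorem pairp5_keys : keys pairp5 = (((detV 3 4 2).flatMap fun a => (detV 3 1 2).map fun b => [a, b]) ++ ((detV 3 3 2).flatMap fun a => (detV 3 2 2).map fun b => [a, b])) := by decide +kernel

def c22p4 : Tbl :=
  [([[1,0],[1,0]], [[1,1,0,2],[1,1,2,0],[2,1,1,0],[0,0,1,0]], [[0,2,1,1],[0,2,2,0],[0,0,0,1],[2,1,0,1]], [[1,0,0,0],[0,1,0,0],[0,0,1,0],[1,0,0,1]], [[1,0,0,1],[0,1,0,0],[0,0,1,2],[0,0,0,1]], [[1,0,0,0],[0,1,0,0],[0,0,1,0],[0,0,0,1]]),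
  ([[1,0],[1,1]], [[1,1,1,1],[2,0,0,1],[2,1,0,2],[2,0,1,0]], [[2,2,1,1],[1,2,0,2],[2,2,1,2],[2,0,1,1]], [[1,0,0,0],[0,1,0,0],[2,2,1,0],[2,1,1,1]], [[1,0,1,0],[0,1,0,0],[0,0,1,1],[0,0,0,1]], [[1,0,0,0],[0,1,0,0],[0,0,1,0],[0,0,0,1]]),
  ([[1,0],[1,2]], [[2,2,0,1],[2,2,1,2],[0,2,0,1],[0,1,1,2]], [[2,0,1,0],[2,1,1,2],[0,0,1,1],[2,1,2,2]], [[1,0,0,0],[1,1,0,0],[1,1,1,0],[1,0,2,1]], [[1,1,0,2],[0,1,0,1],[0,0,1,1],[0,0,0,1]], [[1,0,0,0],[0,1,0,0],[0,0,1,0],[0,0,0,1]]),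
  ([[1,1],[1,0]], [[1,2,2,2],[0,2,0,1],[1,2,0,0],[1,2,1,2]], [[1,2,2,1],[1,2,1,1],[1,0,0,2],[1,0,1,1]], [[1,0,0,0],[0,1,0,0],[1,2,1,0],[2,2,0,1]], [[1,1,1,2],[0,1,0,2],[0,0,1,1],[0,0,0,1]], [[1,0,0,0],[0,1,0,0],[0,0,1,0],[0,0,0,1]]),
  ([[1,1],[1,1]], [[0,0,2,2],[2,0,1,1],[2,1,2,0],[2,2,1,1]], [[2,2,0,0],[0,1,0,2],[1,2,2,2],[1,1,1,1]], [[1,0,0,0],[1,1,0,0],[2,2,1,0],[2,1,1,1]], [[1,0,2,1],[0,1,2,1],[0,0,1,1],[0,0,0,1]], [[1,0,0,0],[0,1,0,0],[0,0,1,0],[0,0,0,1]]),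
  ([[1,1],[1,2]], [[1,1,1,1],[2,1,0,2],[2,0,2,0],[2,0,1,0]], [[0,0,1,1],[2,2,1,2],[0,0,1,2],[2,1,0,1]], [[1,0,0,0],[1,1,0,0],[2,2,1,0],[0,0,1,1]], [[1,0,1,1],[0,1,0,1],[0,0,1,1],[0,0,0,1]], [[1,0,0,0],[0,1,0,0],[0,0,1,0],[0,0,0,1]]),
  ([[1,2],[1,0]], [[0,1,0,1],[1,1,1,2],[1,1,2,1],[2,1,2,2]], [[1,1,2,2],[2,1,0,1],[2,1,1,2],[2,2,0,2]], [[1,0,0,0],[1,1,0,0],[2,1,1,0],[0,0,2,1]], [[1,1,1,0],[0,1,0,0],[0,0,1,2],[0,0,0,1]], [[1,0,0,0],[0,1,0,0],[0,0,1,0],[0,0,0,1]]),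
  ([[1,2],[1,1]], [[1,0,1,1],[1,2,1,0],[0,2,2,2],[2,1,1,2]], [[1,1,0,1],[0,1,2,1],[2,1,2,0],[1,1,1,2]], [[1,0,0,0],[0,1,0,0],[2,1,1,0],[0,2,1,1]], [[1,0,2,0],[0,1,1,2],[0,0,1,0],[0,0,0,1]], [[1,0,0,0],[0,1,0,0],[0,0,1,0],[0,0,0,1]]),
  ([[1,2],[1,2]], [[1,1,1,2],[1,2,1,2],[0,2,2,2],[2,0,2,2]], [[2,1,1,2],[2,1,0,0],[2,0,2,2],[2,2,0,1]], [[1,0,0,0],[1,1,0,0],[2,1,1,0],[1,2,0,1]], [[1,0,1,1],[0,1,2,0],[0,0,1,0],[0,0,0,1]], [[1,0,0,0],[0,1,0,0],[0,0,1,0],[0,0,0,1]])]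

theorem c22p4_ok : tblOk 3 [g4p] c22p4 = true := by decide +kernel

theorem c22p4_keys : keys c22p4 = ((detV 3 2 1).flatMap fun a => (detV 3 2 1).map fun b => [a, b]) := by decide +kernel

def cmp4 : Tbl :=
  [([[1,0],[1],[1]], [[1,2,0,2],[0,2,1,0],[0,2,2,2],[2,0,1,2]], [[0,2,1,2],[1,0,1,1],[1,1,1,1],[1,2,0,1]], [[1,0,0,0],[2,1,0,0],[2,0,1,0],[0,1,0,1]], [[1,2,0,1],[0,1,0,0],[0,0,1,2],[0,0,0,1]], [[1,0,0,0],[0,1,0,0],[0,0,1,0],[0,0,0,1]]),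
  ([[1,1],[1],[1]], [[1,1,1,1],[0,1,0,0],[2,2,1,2],[1,0,1,2]], [[0,1,1,2],[0,1,0,0],[2,0,2,0],[2,1,0,1]], [[1,0,0,0],[2,1,0,0],[1,2,1,0],[2,2,0,1]], [[1,1,2,2],[0,1,1,0],[0,0,1,2],[0,0,0,1]], [[1,0,0,0],[0,1,0,0],[0,0,1,0],[0,0,0,1]]),
  ([[1,2],[1],[1]], [[1,1,1,2],[0,1,1,2],[0,0,1,0],[0,1,2,0]], [[1,2,0,0],[0,0,1,1],[0,0,1,0],[0,2,2,1]], [[1,0,0,0],[2,1,0,0],[2,1,1,0],[1,1,2,1]], [[1,2,2,1],[0,1,1,0],[0,0,1,2],[0,0,0,1]], [[1,0,0,0],[0,1,0,0],[0,0,1,0],[0,0,0,1]])]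

theorem cmp4_ok : tblOk 3 [g4p] cmp4 = true := by decide +kernel

theorem cmp4_keys : keys cmp4 = ((detV 3 2 1).map fun a => [a, [1], [1]]) := by decide +kernel

def o2mp4 : Tbl :=
  [([[2],[2],[1],[1]], [[1,1,2,2],[0,0,0,2],[0,0,2,2],[0,2,1,0]], [[1,2,0,1],[0,1,2,2],[0,1,2,0],[0,2,0,0]], [[1,0,0,0],[1,1,0,0],[0,0,1,0],[1,2,0,1]], [[1,1,2,1],[0,1,1,2],[0,0,1,1],[0,0,0,1]], [[1,0,0,0],[0,1,0,0],[0,0,1,0],[0,0,0,1]])]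

theorem o2mp4_ok : tblOk 3 [g4p] o2mp4 = true := by decide +kernel

theorem o2mp4_keys : keys o2mp4 = ([[[2], [2], [1], [1]]]) := by decide +kernel

def o1mp3 : Tbl :=
  [([[2],[1],[1]], [[0,0,2],[1,1,1],[2,1,0]], [[2,2,1],[2,2,2],[2,0,0]], [[1,0,0],[1,1,0],[0,2,1]], [[1,0,2],[0,1,1],[0,0,1]], [[1,0,0],[0,1,0],[0,0,1]])]

theorem o1mp3_ok : tblOk 3 [g3p] o1mp3 = true := by decide +kernel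

theorem o1mp3_keys : keys o1mp3 = ([[[2], [1], [1]]]) := by decide +kernel

def c1p3 : Tbl :=
  [([[1,0],[2]], [[2,2,0],[2,0,2],[1,1,2]], [[1,2,1],[1,1,2],[2,0,2]], [[1,0,0],[2,1,0],[0,1,1]], [[1,2,0],[0,1,0],[0,0,1]], [[1,0,0],[1,1,0],[2,2,1]]),
  ([[1,1],[2]], [[2,0,2],[1,0,2],[1,2,0]], [[1,2,0],[1,2,2],[1,1,0]], [[1,0,0],[2,1,0],[1,0,1]], [[1,0,0],[0,1,0],[0,0,1]], [[1,0,0],[0,1,0],[0,0,1]]),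
  ([[1,2],[2]], [[2,2,0],[1,2,0],[1,1,1]], [[1,2,0],[1,1,0],[1,0,1]], [[1,0,0],[1,1,0],[1,2,1]], [[1,2,0],[0,1,2],[0,0,1]], [[1,0,0],[0,1,0],[0,0,1]])]

theorem c1p3_ok : tblOk 3 [[1],q2] c1p3 = true := by decide +kernel

theorem c1p3_keys : keys c1p3 = ((detV 3 2 1).map fun a => [a, [2]]) := by decide +kernel

def c2p4 : Tbl :=
  [([[1,0],[2],[2]], [[1,2,1,2],[2,2,1,1],[1,1,1,2],[2,2,2,2]], [[2,1,1,1],[1,0,2,0],[0,2,2,0],[0,0,1,1]], [[1,0,0,0],[2,1,0,0],[1,0,1,0],[2,2,2,1]], [[1,0,1,0],[0,1,2,2],[0,0,1,0],[0,0,0,1]], [[1,0,0,0],[0,1,0,0],[0,0,1,0],[0,0,0,1]]),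
  ([[1,1],[2],[2]], [[1,2,0,0],[1,2,1,0],[0,2,1,1],[0,2,0,0]], [[1,0,0,2],[0,0,0,2],[2,1,0,0],[1,2,1,2]], [[1,0,0,0],[0,1,0,0],[0,1,1,0],[0,1,1,1]], [[1,1,1,0],[0,1,2,1],[0,0,1,0],[0,0,0,1]], [[1,0,0,0],[0,1,0,0],[0,0,1,0],[0,0,0,1]]),
  ([[1,2],[2],[2]], [[0,1,0,0],[2,2,1,1],[0,1,2,1],[1,2,0,2]], [[2,1,1,2],[1,0,0,0],[2,1,0,1],[1,1,1,1]], [[1,0,0,0],[2,1,0,0],[0,2,1,0],[0,0,1,1]], [[1,1,2,0],[0,1,2,1],[0,0,1,0],[0,0,0,1]], [[1,0,0,0],[0,1,0,0],[0,0,1,0],[0,0,0,1]])]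

theorem c2p4_ok : tblOk 3 [[2],g3p] c2p4 = true := by decide +kernel

theorem c2p4_keys : keys c2p4 = ((detV 3 2 1).map fun a => [a, [2], [2]]) := by decide +kernel

def singlem3 : Tbl :=
  [([[2,0,0]], [[0,1,0],[1,2,1],[2,1,0]], [[1,0,2],[1,0,0],[0,1,1]], [[1,0,0],[2,1,0],[2,0,1]], [[1,1,1],[0,1,1],[0,0,1]], [[1,0,0],[0,1,0],[0,0,1]]),
  ([[2,0,1]], [[0,0,2],[0,2,2],[2,1,2]], [[2,2,2],[1,2,0],[2,0,0]], [[1,0,0],[0,1,0],[2,0,1]], [[1,1,2],[0,1,2],[0,0,1]], [[1,0,0],[0,1,0],[0,0,1]]),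
  ([[2,0,2]], [[0,0,2],[1,1,0],[1,0,2]], [[2,0,1],[1,1,2],[2,0,0]], [[1,0,0],[2,1,0],[1,2,1]], [[1,1,1],[0,1,1],[0,0,1]], [[1,0,0],[0,1,0],[0,0,1]]),
  ([[2,1,0]], [[0,2,2],[0,1,0],[2,1,1]], [[2,0,2],[0,1,0],[2,2,0]], [[1,0,0],[2,1,0],[0,1,1]], [[1,1,1],[0,1,2],[0,0,1]], [[1,0,0],[0,1,0],[0,0,1]]),
  ([[2,1,1]], [[2,2,1],[1,0,2],[1,1,1]], [[2,1,2],[2,2,0],[2,0,2]], [[1,0,0],[2,1,0],[2,1,1]], [[1,1,1],[0,1,1],[0,0,1]], [[1,0,0],[0,1,0],[0,0,1]]),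
  ([[2,1,2]], [[2,0,0],[1,2,1],[0,2,2]], [[2,0,0],[1,1,1],[2,2,1]], [[1,0,0],[2,1,0],[2,2,1]], [[1,1,0],[0,1,1],[0,0,1]], [[1,0,0],[0,1,0],[0,0,1]]),
  ([[2,2,0]], [[2,2,0],[2,0,1],[2,2,2]], [[1,2,2],[1,1,1],[1,0,2]], [[1,0,0],[0,1,0],[2,1,1]], [[1,2,2],[0,1,2],[0,0,1]], [[1,0,0],[0,1,0],[0,0,1]]),
  ([[2,2,1]], [[0,0,1],[2,2,0],[1,0,2]], [[1,0,1],[2,2,2],[1,0,0]], [[1,0,0],[1,1,0],[1,1,1]], [[1,1,0],[0,1,0],[0,0,1]], [[1,0,0],[0,1,0],[0,0,1]]),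
  ([[2,2,2]], [[1,1,0],[0,2,1],[0,2,2]], [[1,2,2],[0,1,1],[0,2,1]], [[1,0,0],[2,1,0],[0,0,1]], [[1,2,1],[0,1,1],[0,0,1]], [[1,0,0],[0,1,0],[0,0,1]])]

theorem singlem3_ok : tblOk 3 [g3m] singlem3 = true := by decide +kernel

theorem singlem3_keys : keys singlem3 = ((detV 3 3 1).map fun a => [a]) := by decide +kernel

def singlem4 : Tbl :=
  [([[1,0,0,0]], [[2,1,0,2],[1,1,2,1],[0,2,1,2],[0,1,2,0]], [[0,1,1,0],[1,1,0,2],[1,1,0,1],[0,0,2,2]], [[1,0,0,0],[2,1,0,0],[0,2,1,0],[0,0,2,1]], [[1,1,0,0],[0,1,1,1],[0,0,1,0],[0,0,0,1]], [[1,0,0,0],[0,1,0,0],[0,0,1,0],[0,0,0,1]]),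
  ([[1,0,0,1]], [[0,2,2,1],[0,2,0,1],[1,2,1,1],[2,2,1,0]], [[1,1,1,0],[1,0,2,2],[2,1,0,0],[1,1,2,2]], [[1,0,0,0],[2,1,0,0],[2,0,1,0],[2,2,2,1]], [[1,2,2,2],[0,1,2,2],[0,0,1,2],[0,0,0,1]], [[1,0,0,0],[0,1,0,0],[0,0,1,0],[0,0,0,1]]),
  ([[1,0,0,2]], [[1,0,0,0],[1,1,2,2],[2,2,1,0],[0,1,0,1]], [[1,0,0,0],[0,1,1,1],[1,1,2,1],[0,2,2,0]], [[1,0,0,0],[0,1,0,0],[1,2,1,0],[2,1,0,1]], [[1,1,2,0],[0,1,2,0],[0,0,1,2],[0,0,0,1]], [[1,0,0,0],[0,1,0,0],[0,0,1,0],[0,0,0,1]]),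
  ([[1,0,1,0]], [[1,0,0,2],[0,1,0,2],[1,1,0,0],[0,2,1,0]], [[2,1,2,0],[1,2,2,0],[1,2,2,1],[1,1,2,0]], [[1,0,0,0],[0,1,0,0],[1,1,1,0],[1,0,0,1]], [[1,2,2,0],[0,1,2,1],[0,0,1,1],[0,0,0,1]], [[1,0,0,0],[0,1,0,0],[0,0,1,0],[0,0,0,1]]),
  ([[1,0,1,1]], [[0,1,0,1],[2,0,2,2],[2,0,0,1],[1,0,2,2]], [[0,1,0,2],[1,2,2,1],[0,0,2,2],[0,1,1,2]], [[1,0,0,0],[1,1,0,0],[1,2,1,0],[2,0,2,1]], [[1,2,1,2],[0,1,0,1],[0,0,1,0],[0,0,0,1]], [[1,0,0,0],[0,1,0,0],[0,0,1,0],[0,0,0,1]]),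
  ([[1,0,1,2]], [[2,1,1,0],[0,2,2,2],[2,1,2,0],[2,1,0,1]], [[1,2,2,2],[0,2,1,2],[2,0,1,0],[1,0,1,1]], [[1,0,0,0],[0,1,0,0],[2,1,1,0],[1,0,0,1]], [[1,0,2,0],[0,1,1,0],[0,0,1,2],[0,0,0,1]], [[1,0,0,0],[0,1,0,0],[0,0,1,0],[0,0,0,1]]),
  ([[1,0,2,0]], [[1,0,0,1],[0,1,1,0],[0,0,0,1],[2,2,1,2]], [[1,0,2,0],[1,2,0,1],[2,2,0,2],[0,0,1,0]], [[1,0,0,0],[0,1,0,0],[1,0,1,0],[0,0,2,1]], [[1,0,2,1],[0,1,2,2],[0,0,1,0],[0,0,0,1]], [[1,0,0,0],[0,1,0,0],[0,0,1,0],[0,0,0,1]]),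
  ([[1,0,2,1]], [[2,1,1,0],[0,0,2,0],[0,2,2,2],[0,1,2,2]], [[2,2,1,2],[0,0,1,2],[0,2,0,0],[0,1,1,1]], [[1,0,0,0],[1,1,0,0],[2,2,1,0],[2,0,1,1]], [[1,1,1,1],[0,1,0,0],[0,0,1,1],[0,0,0,1]], [[1,0,0,0],[0,1,0,0],[0,0,1,0],[0,0,0,1]]),
  ([[1,0,2,2]], [[2,0,1,0],[2,1,1,1],[0,0,2,1],[2,0,2,1]], [[0,0,1,2],[1,1,1,1],[1,0,1,2],[1,0,2,2]], [[1,0,0,0],[0,1,0,0],[1,1,1,0],[0,1,0,1]], [[1,2,0,1],[0,1,0,2],[0,0,1,2],[0,0,0,1]], [[1,0,0,0],[0,1,0,0],[0,0,1,0],[0,0,0,1]]),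
  ([[1,1,0,0]], [[1,1,0,2],[2,2,1,0],[1,1,2,1],[1,0,2,0]], [[1,2,1,1],[0,2,0,2],[1,2,1,0],[0,1,1,0]], [[1,0,0,0],[1,1,0,0],[1,0,1,0],[2,1,0,1]], [[1,2,2,0],[0,1,1,1],[0,0,1,0],[0,0,0,1]], [[1,0,0,0],[0,1,0,0],[0,0,1,0],[0,0,0,1]]),
  ([[1,1,0,1]], [[1,2,2,2],[1,1,0,2],[1,2,0,2],[0,0,2,2]], [[1,2,1,2],[0,2,1,0],[2,0,1,0],[1,0,2,2]], [[1,0,0,0],[2,1,0,0],[0,1,1,0],[2,0,1,1]], [[1,0,2,1],[0,1,2,0],[0,0,1,1],[0,0,0,1]], [[1,0,0,0],[0,1,0,0],[0,0,1,0],[0,0,0,1]]),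
  ([[1,1,0,2]], [[1,2,1,2],[2,1,0,2],[1,2,0,0],[1,0,0,2]], [[0,2,2,1],[0,2,1,1],[1,2,1,0],[0,2,2,0]], [[1,0,0,0],[2,1,0,0],[0,0,1,0],[1,0,0,1]], [[1,1,2,0],[0,1,1,0],[0,0,1,0],[0,0,0,1]], [[1,0,0,0],[0,1,0,0],[0,0,1,0],[0,0,0,1]]),
  ([[1,1,1,0]], [[0,1,1,1],[1,2,1,2],[1,2,1,1],[2,1,1,0]], [[1,2,1,2],[1,1,0,1],[0,1,1,2],[0,1,2,0]], [[1,0,0,0],[0,1,0,0],[2,2,1,0],[2,1,2,1]], [[1,0,0,0],[0,1,1,0],[0,0,1,2],[0,0,0,1]], [[1,0,0,0],[0,1,0,0],[0,0,1,0],[0,0,0,1]]),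
  ([[1,1,1,1]], [[0,2,1,1],[1,2,2,1],[2,0,1,1],[2,0,2,1]], [[2,1,1,2],[1,1,2,2],[0,0,2,1],[2,1,0,1]], [[1,0,0,0],[1,1,0,0],[2,1,1,0],[0,0,0,1]], [[1,2,0,0],[0,1,2,1],[0,0,1,2],[0,0,0,1]], [[1,0,0,0],[0,1,0,0],[0,0,1,0],[0,0,0,1]]),
  ([[1,1,1,2]], [[2,0,0,2],[1,2,0,0],[2,2,2,0],[2,2,2,1]], [[2,0,1,2],[2,2,1,2],[2,1,0,2],[0,0,2,1]], [[1,0,0,0],[2,1,0,0],[0,0,1,0],[2,2,2,1]], [[1,1,2,0],[0,1,0,0],[0,0,1,1],[0,0,0,1]], [[1,0,0,0],[0,1,0,0],[0,0,1,0],[0,0,0,1]]),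
  ([[1,1,2,0]], [[1,0,1,1],[0,1,0,1],[0,1,2,1],[1,0,0,0]], [[0,0,0,1],[2,2,2,1],[0,1,2,0],[1,2,1,2]], [[1,0,0,0],[2,1,0,0],[1,0,1,0],[1,2,1,1]], [[1,2,0,0],[0,1,0,0],[0,0,1,2],[0,0,0,1]], [[1,0,0,0],[0,1,0,0],[0,0,1,0],[0,0,0,1]]),
  ([[1,1,2,1]], [[1,2,0,0],[0,1,0,2],[0,0,1,2],[2,1,2,0]], [[0,1,2,2],[2,1,2,2],[2,0,0,2],[2,0,2,2]], [[1,0,0,0],[1,1,0,0],[1,2,1,0],[2,1,1,1]], [[1,1,0,0],[0,1,0,2],[0,0,1,2],[0,0,0,1]], [[1,0,0,0],[0,1,0,0],[0,0,1,0],[0,0,0,1]]),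
  ([[1,1,2,2]], [[0,2,2,0],[1,1,2,2],[1,1,0,1],[1,0,2,0]], [[1,2,2,0],[1,1,1,1],[1,2,2,2],[1,0,1,2]], [[1,0,0,0],[2,1,0,0],[0,1,1,0],[0,2,1,1]], [[1,2,0,1],[0,1,1,1],[0,0,1,0],[0,0,0,1]], [[1,0,0,0],[0,1,0,0],[0,0,1,0],[0,0,0,1]]),
  ([[1,2,0,0]], [[2,1,1,1],[2,2,1,0],[2,2,2,2],[1,0,1,0]], [[1,0,1,0],[1,2,1,1],[2,0,2,1],[2,1,1,1]], [[1,0,0,0],[1,1,0,0],[2,1,1,0],[0,1,0,1]], [[1,2,2,2],[0,1,1,1],[0,0,1,0],[0,0,0,1]], [[1,0,0,0],[0,1,0,0],[0,0,1,0],[0,0,0,1]]),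
  ([[1,2,0,1]], [[2,0,1,2],[1,2,1,0],[1,0,1,2],[1,0,0,2]], [[1,0,2,0],[1,2,0,2],[0,0,1,2],[1,0,2,2]], [[1,0,0,0],[1,1,0,0],[1,0,1,0],[0,1,2,1]], [[1,2,1,0],[0,1,1,0],[0,0,1,2],[0,0,0,1]], [[1,0,0,0],[0,1,0,0],[0,0,1,0],[0,0,0,1]]),
  ([[1,2,0,2]], [[2,2,1,2],[0,2,0,2],[2,0,1,1],[0,1,2,2]], [[1,1,1,2],[1,1,2,0],[2,0,1,2],[2,1,1,0]], [[1,0,0,0],[1,1,0,0],[2,0,1,0],[2,1,1,1]], [[1,0,1,1],[0,1,0,2],[0,0,1,1],[0,0,0,1]], [[1,0,0,0],[0,1,0,0],[0,0,1,0],[0,0,0,1]]),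
  ([[1,2,1,0]], [[1,1,1,2],[2,1,1,0],[1,0,0,2],[1,0,2,0]], [[1,2,2,0],[0,1,0,1],[1,2,2,2],[1,2,1,0]], [[1,0,0,0],[0,1,0,0],[1,2,1,0],[2,1,1,1]], [[1,1,0,2],[0,1,1,0],[0,0,1,0],[0,0,0,1]], [[1,0,0,0],[0,1,0,0],[0,0,1,0],[0,0,0,1]]),
  ([[1,2,1,1]], [[2,1,2,0],[1,0,0,1],[2,0,1,1],[0,2,1,1]], [[1,2,0,1],[1,2,1,0],[2,0,1,2],[2,2,0,2]], [[1,0,0,0],[1,1,0,0],[1,1,1,0],[1,0,2,1]], [[1,1,2,2],[0,1,0,1],[0,0,1,0],[0,0,0,1]], [[1,0,0,0],[0,1,0,0],[0,0,1,0],[0,0,0,1]]),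
  ([[1,2,1,2]], [[0,2,1,1],[0,1,0,1],[1,2,2,0],[0,2,0,1]], [[1,2,1,0],[0,2,0,1],[1,0,0,2],[0,2,0,2]], [[1,0,0,0],[1,1,0,0],[1,1,1,0],[1,1,1,1]], [[1,2,1,0],[0,1,2,2],[0,0,1,1],[0,0,0,1]], [[1,0,0,0],[0,1,0,0],[0,0,1,0],[0,0,0,1]]),
  ([[1,2,2,0]], [[1,2,2,2],[2,0,1,1],[1,0,0,0],[1,2,2,1]], [[0,0,1,0],[2,2,0,0],[2,1,1,1],[1,0,0,2]], [[1,0,0,0],[2,1,0,0],[1,2,1,0],[2,1,1,1]], [[1,1,2,0],[0,1,1,1],[0,0,1,2],[0,0,0,1]], [[1,0,0,0],[0,1,0,0],[0,0,1,0],[0,0,0,1]]),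
  ([[1,2,2,1]], [[1,2,0,2],[1,0,1,1],[0,2,0,0],[2,2,2,1]], [[1,2,0,2],[0,0,2,0],[2,0,2,2],[0,2,1,2]], [[1,0,0,0],[0,1,0,0],[2,2,1,0],[1,1,0,1]], [[1,0,0,2],[0,1,1,0],[0,0,1,2],[0,0,0,1]], [[1,0,0,0],[0,1,0,0],[0,0,1,0],[0,0,0,1]]),
  ([[1,2,2,2]], [[1,2,0,2],[2,1,2,2],[2,1,2,1],[1,1,0,2]], [[2,1,2,2],[1,0,0,2],[2,0,2,0],[0,1,2,0]], [[1,0,0,0],[0,1,0,0],[0,0,1,0],[1,2,1,1]], [[1,0,1,0],[0,1,1,1],[0,0,1,1],[0,0,0,1]], [[1,0,0,0],[0,1,0,0],[0,0,1,0],[0,0,0,1]])]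

theorem singlem4_ok : tblOk 3 [g4m] singlem4 = true := by decide +kernel

theorem singlem4_keys : keys singlem4 = ((detV 3 4 1).map fun a => [a]) := by decide +kernel

def pairm3 : Tbl :=
  [([[2,0],[1]], [[2,1,2],[2,0,0],[2,2,0]], [[0,2,0],[0,1,2],[2,2,2]], [[1,0,0],[1,1,0],[2,0,1]], [[1,0,1],[0,1,1],[0,0,1]], [[1,0,0],[0,1,0],[0,0,1]]),
  ([[2,1],[1]], [[1,1,0],[2,2,1],[0,1,0]], [[1,0,2],[0,0,1],[1,1,0]], [[1,0,0],[2,1,0],[0,1,1]], [[1,1,2],[0,1,2],[0,0,1]], [[1,0,0],[0,1,0],[0,0,1]]),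
  ([[2,2],[1]], [[2,1,0],[1,0,2],[0,0,1]], [[0,1,1],[1,1,1],[0,0,1]], [[1,0,0],[2,1,0],[1,2,1]], [[1,0,2],[0,1,2],[0,0,1]], [[1,0,0],[0,1,0],[0,0,1]])]

theorem pairm3_ok : tblOk 3 [g3m] pairm3 = true := by decide +kernel

theorem pairm3_keys : keys pairm3 = (((detV 3 2 2).flatMap fun a => (detV 3 1 2).map fun b => [a, b])) := by decide +kernel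

def pairm4 : Tbl :=
  [([[1,0,0],[1]], [[2,0,1,1],[2,1,2,0],[1,2,1,1],[0,1,2,0]], [[0,2,0,1],[1,1,2,2],[1,1,2,1],[0,1,1,0]], [[1,0,0,0],[0,1,0,0],[0,1,1,0],[1,1,2,1]], [[1,0,1,2],[0,1,2,0],[0,0,1,2],[0,0,0,1]], [[1,0,0,0],[0,1,0,0],[0,0,1,0],[0,0,0,1]]),
  ([[1,0,1],[1]], [[2,0,0,0],[1,0,0,1],[2,1,2,0],[2,1,0,0]], [[2,0,0,0],[2,0,0,1],[0,0,2,1],[1,1,0,0]], [[1,0,0,0],[0,1,0,0],[0,2,1,0],[1,2,1,1]], [[1,0,0,0],[0,1,1,0],[0,0,1,2],[0,0,0,1]], [[1,0,0,0],[0,1,0,0],[0,0,1,0],[0,0,0,1]]),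
  ([[1,0,2],[1]], [[0,1,1,1],[1,2,0,2],[0,0,2,1],[2,1,1,1]], [[1,0,0,2],[1,1,2,1],[0,1,0,1],[0,1,1,1]], [[1,0,0,0],[1,1,0,0],[0,0,1,0],[1,1,2,1]], [[1,2,2,1],[0,1,0,0],[0,0,1,1],[0,0,0,1]], [[1,0,0,0],[0,1,0,0],[0,0,1,0],[0,0,0,1]]),
  ([[1,1,0],[1]], [[0,1,2,1],[2,1,1,0],[2,0,1,2],[0,2,1,0]], [[1,1,1,2],[2,1,2,2],[2,1,2,0],[1,0,0,1]], [[1,0,0,0],[0,1,0,0],[2,1,1,0],[2,2,1,1]], [[1,0,2,1],[0,1,0,0],[0,0,1,1],[0,0,0,1]], [[1,0,0,0],[0,1,0,0],[0,0,1,0],[0,0,0,1]]),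
  ([[1,1,1],[1]], [[0,1,1,0],[1,1,2,0],[2,1,0,2],[2,1,1,1]], [[0,2,2,2],[2,1,2,2],[2,2,1,1],[2,2,2,0]], [[1,0,0,0],[0,1,0,0],[2,0,1,0],[2,1,1,1]], [[1,1,1,2],[0,1,2,2],[0,0,1,2],[0,0,0,1]], [[1,0,0,0],[0,1,0,0],[0,0,1,0],[0,0,0,1]]),
  ([[1,1,2],[1]], [[2,1,0,1],[2,1,0,2],[2,2,0,0],[0,0,1,1]], [[2,2,1,0],[1,1,1,0],[1,2,0,1],[2,1,0,0]], [[1,0,0,0],[0,1,0,0],[2,0,1,0],[1,0,1,1]], [[1,2,1,1],[0,1,2,2],[0,0,1,1],[0,0,0,1]], [[1,0,0,0],[0,1,0,0],[0,0,1,0],[0,0,0,1]]),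
  ([[1,2,0],[1]], [[0,2,1,0],[1,2,1,0],[0,1,1,0],[0,1,0,1]], [[2,1,0,0],[1,0,2,0],[2,0,2,0],[2,0,1,1]], [[1,0,0,0],[1,1,0,0],[1,0,1,0],[2,1,1,1]], [[1,0,0,0],[0,1,1,2],[0,0,1,0],[0,0,0,1]], [[1,0,0,0],[0,1,0,0],[0,0,1,0],[0,0,0,1]]),
  ([[1,2,1],[1]], [[2,0,0,2],[1,2,1,2],[1,0,1,1],[0,0,2,1]], [[1,0,2,2],[1,2,2,1],[1,0,1,0],[1,0,1,1]], [[1,0,0,0],[1,1,0,0],[1,1,1,0],[2,1,0,1]], [[1,1,2,2],[0,1,0,2],[0,0,1,1],[0,0,0,1]], [[1,0,0,0],[0,1,0,0],[0,0,1,0],[0,0,0,1]]),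
  ([[1,2,2],[1]], [[2,1,1,0],[2,2,1,0],[1,0,2,2],[0,1,2,2]], [[2,1,1,2],[2,1,0,0],[1,0,1,2],[1,1,2,0]], [[1,0,0,0],[0,1,0,0],[2,0,1,0],[0,1,2,1]], [[1,2,1,1],[0,1,2,0],[0,0,1,1],[0,0,0,1]], [[1,0,0,0],[0,1,0,0],[0,0,1,0],[0,0,0,1]]),
  ([[2,0],[2,0]], [[1,0,2,1],[1,2,2,1],[1,0,1,1],[2,1,1,0]], [[2,2,2,2],[1,2,0,0],[1,0,2,0],[0,1,0,1]], [[1,0,0,0],[1,1,0,0],[0,2,1,0],[1,1,1,1]], [[1,0,0,1],[0,1,2,2],[0,0,1,0],[0,0,0,1]], [[1,0,0,0],[0,1,0,0],[0,0,1,0],[0,0,0,1]]),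
  ([[2,0],[2,1]], [[0,2,0,0],[2,2,0,0],[0,0,2,2],[1,1,1,2]], [[1,2,0,0],[2,0,0,0],[0,2,1,2],[0,1,1,1]], [[1,0,0,0],[2,1,0,0],[0,0,1,0],[2,2,0,1]], [[1,2,1,1],[0,1,0,0],[0,0,1,0],[0,0,0,1]], [[1,0,0,0],[0,1,0,0],[0,0,1,0],[0,0,0,1]]),
  ([[2,0],[2,2]], [[2,1,0,1],[2,2,2,2],[0,1,1,0],[1,2,1,2]], [[2,1,0,1],[2,0,1,2],[1,0,0,1],[1,1,2,2]], [[1,0,0,0],[2,1,0,0],[0,1,1,0],[0,1,1,1]], [[1,2,0,2],[0,1,2,0],[0,0,1,0],[0,0,0,1]], [[1,0,0,0],[0,1,0,0],[0,0,1,0],[0,0,0,1]]),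
  ([[2,1],[2,0]], [[0,0,1,0],[2,0,1,2],[0,1,2,0],[0,2,2,2]], [[0,2,1,1],[1,0,1,0],[1,0,0,0],[1,0,2,2]], [[1,0,0,0],[0,1,0,0],[0,1,1,0],[2,0,0,1]], [[1,0,1,2],[0,1,1,0],[0,0,1,0],[0,0,0,1]], [[1,0,0,0],[0,1,0,0],[0,0,1,0],[0,0,0,1]]),
  ([[2,1],[2,1]], [[1,1,1,2],[1,1,1,0],[1,2,0,2],[0,1,0,0]], [[2,1,1,1],[0,0,0,1],[1,0,2,1],[2,1,0,0]], [[1,0,0,0],[1,1,0,0],[1,2,1,0],[2,0,1,1]], [[1,1,1,0],[0,1,2,0],[0,0,1,1],[0,0,0,1]], [[1,0,0,0],[0,1,0,0],[0,0,1,0],[0,0,0,1]]),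
  ([[2,1],[2,2]], [[2,0,0,2],[1,1,0,0],[1,0,2,1],[2,0,1,0]], [[2,0,2,2],[1,1,1,1],[2,0,2,0],[0,0,1,1]], [[1,0,0,0],[2,1,0,0],[0,1,1,0],[2,0,0,1]], [[1,2,2,1],[0,1,2,0],[0,0,1,2],[0,0,0,1]], [[1,0,0,0],[0,1,0,0],[0,0,1,0],[0,0,0,1]]),
  ([[2,2],[2,0]], [[0,0,1,1],[2,0,2,2],[2,1,1,2],[0,2,1,1]], [[2,2,0,0],[1,0,0,2],[1,1,2,2],[0,2,1,1]], [[1,0,0,0],[1,1,0,0],[2,0,1,0],[2,2,0,1]], [[1,2,2,2],[0,1,2,0],[0,0,1,0],[0,0,0,1]], [[1,0,0,0],[0,1,0,0],[0,0,1,0],[0,0,0,1]]),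
  ([[2,2],[2,1]], [[1,2,2,2],[1,0,1,0],[1,0,1,1],[2,1,2,0]], [[2,2,2,2],[0,1,0,1],[1,2,1,1],[0,2,1,0]], [[1,0,0,0],[2,1,0,0],[0,0,1,0],[2,0,1,1]], [[1,0,2,2],[0,1,1,0],[0,0,1,0],[0,0,0,1]], [[1,0,0,0],[0,1,0,0],[0,0,1,0],[0,0,0,1]]),
  ([[2,2],[2,2]], [[0,0,0,1],[2,1,2,2],[1,0,2,0],[1,2,0,2]], [[1,2,1,2],[0,2,1,1],[1,2,0,2],[1,0,0,0]], [[1,0,0,0],[0,1,0,0],[2,2,1,0],[0,0,0,1]], [[1,1,2,1],[0,1,0,0],[0,0,1,0],[0,0,0,1]], [[1,0,0,0],[0,1,0,0],[0,0,1,0],[0,0,0,1]])]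

theorem pairm4_ok : tblOk 3 [g4m] pairm4 = true := by decide +kernel

theorem pairm4_keys : keys pairm4 = (((detV 3 3 2).flatMap fun a => (detV 3 1 2).map fun b => [a, b]) ++ ((detV 3 2 2).flatMap fun a => (detV 3 2 2).map fun b => [a, b])) := by decide +kernel

def pairm5 : Tbl :=
  [([[2,0,0,0],[1]], [[1,2,1,2,0],[0,0,2,0,0],[2,1,1,2,0],[1,2,2,1,2],[1,0,1,1,2]], [[2,2,1,2,1],[0,2,0,2,1],[0,2,0,0,0],[1,2,1,0,0],[0,0,2,2,0]], [[1,0,0,0,0],[0,1,0,0,0],[1,1,1,0,0],[2,2,1,1,0],[0,0,2,1,1]], [[1,2,1,2,1],[0,1,2,0,1],[0,0,1,0,2],[0,0,0,1,2],[0,0,0,0,1]], [[1,0,0,0,0],[0,1,0,0,0],[0,0,1,0,0],[0,0,0,1,0],[0,0,0,0,1]]),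
  ([[2,0,0,1],[1]], [[0,0,2,0,2],[1,2,1,2,0],[0,2,2,2,2],[0,1,1,2,0],[2,0,0,2,1]], [[0,0,2,2,2],[0,1,1,0,1],[1,1,0,1,1],[1,2,1,0,2],[1,2,0,2,2]], [[1,0,0,0,0],[2,1,0,0,0],[2,1,1,0,0],[2,0,2,1,0],[0,1,2,0,1]], [[1,1,0,2,1],[0,1,2,2,1],[0,0,1,2,2],[0,0,0,1,0],[0,0,0,0,1]], [[1,0,0,0,0],[0,1,0,0,0],[0,0,1,0,0],[0,0,0,1,0],[0,0,0,0,1]]),
  ([[2,0,0,2],[1]], [[0,1,0,1,1],[0,1,0,1,2],[2,2,1,1,1],[1,2,1,0,2],[2,1,1,2,0]], [[0,1,0,2,1],[0,2,2,0,1],[2,2,2,2,0],[2,0,1,0,2],[2,1,0,0,0]], [[1,0,0,0,0],[0,1,0,0,0],[1,1,1,0,0],[1,1,1,1,0],[2,0,1,0,1]], [[1,2,2,1,2],[0,1,0,0,0],[0,0,1,1,2],[0,0,0,1,1],[0,0,0,0,1]], [[1,0,0,0,0],[0,1,0,0,0],[0,0,1,0,0],[0,0,0,1,0],[0,0,0,0,1]]),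
  ([[2,0,1,0],[1]], [[0,2,1,2,0],[0,1,1,1,1],[2,1,0,2,1],[1,0,1,1,1],[0,1,0,0,1]], [[1,0,1,2,0],[1,1,1,1,0],[1,1,2,2,1],[2,0,1,1,1],[2,2,2,2,1]], [[1,0,0,0,0],[2,1,0,0,0],[0,2,1,0,0],[2,2,0,1,0],[1,1,2,0,1]], [[1,2,0,1,2],[0,1,2,2,1],[0,0,1,2,2],[0,0,0,1,0],[0,0,0,0,1]], [[1,0,0,0,0],[0,1,0,0,0],[0,0,1,0,0],[0,0,0,1,0],[0,0,0,0,1]]),
  ([[2,0,1,1],[1]], [[0,2,1,2,2],[2,1,0,1,2],[1,2,2,2,0],[0,0,2,2,2],[1,0,0,0,1]], [[2,1,2,0,0],[0,0,2,1,1],[2,0,1,0,2],[0,1,1,2,0],[1,2,1,0,1]], [[1,0,0,0,0],[1,1,0,0,0],[0,2,1,0,0],[2,0,2,1,0],[1,1,0,0,1]], [[1,1,0,2,0],[0,1,0,2,0],[0,0,1,1,0],[0,0,0,1,0],[0,0,0,0,1]], [[1,0,0,0,0],[0,1,0,0,0],[0,0,1,0,0],[0,0,0,1,0],[0,0,0,0,1]]),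
  ([[2,0,1,2],[1]], [[1,2,2,1,0],[2,1,0,0,0],[1,1,1,0,1],[1,0,2,2,0],[0,0,0,0,2]], [[2,1,1,2,1],[2,2,1,2,1],[2,0,2,2,2],[0,1,2,2,2],[0,0,0,0,2]], [[1,0,0,0,0],[2,1,0,0,0],[1,1,1,0,0],[2,1,2,1,0],[2,2,0,1,1]], [[1,2,0,1,2],[0,1,0,2,0],[0,0,1,2,1],[0,0,0,1,2],[0,0,0,0,1]], [[1,0,0,0,0],[0,1,0,0,0],[0,0,1,0,0],[0,0,0,1,0],[0,0,0,0,1]]),
  ([[2,0,2,0],[1]], [[2,1,1,1,0],[2,1,1,0,0],[2,2,0,2,2],[0,2,2,2,1],[1,1,0,1,2]], [[2,0,1,2,1],[0,1,0,1,1],[2,0,1,1,0],[1,2,0,0,0],[0,0,1,0,1]], [[1,0,0,0,0],[1,1,0,0,0],[0,0,1,0,0],[0,1,1,1,0],[0,1,0,0,1]], [[1,2,0,1,0],[0,1,2,0,1],[0,0,1,2,1],[0,0,0,1,0],[0,0,0,0,1]], [[1,0,0,0,0],[1,1,0,0,0],[0,2,1,0,0],[1,2,2,1,0],[2,0,2,1,1]]),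
  ([[2,0,2,1],[1]], [[1,0,1,0,2],[2,0,0,0,0],[2,1,0,2,0],[2,1,1,0,2],[2,0,0,2,2]], [[0,2,0,0,0],[2,1,0,1,0],[2,0,1,2,2],[2,2,2,1,0],[1,2,1,2,2]], [[1,0,0,0,0],[2,1,0,0,0],[2,2,1,0,0],[1,0,2,1,0],[2,1,1,1,1]], [[1,0,2,2,2],[0,1,1,0,2],[0,0,1,1,0],[0,0,0,1,0],[0,0,0,0,1]], [[1,0,0,0,0],[0,1,0,0,0],[0,0,1,0,0],[0,0,0,1,0],[0,0,0,0,1]]),
  ([[2,0,2,2],[1]], [[1,1,0,1,0],[2,1,0,2,1],[1,2,1,0,1],[0,0,2,0,0],[2,2,2,0,2]], [[2,2,1,1,0],[0,0,1,0,1],[0,0,0,2,0],[2,1,1,2,2],[1,1,1,0,1]], [[1,0,0,0,0],[2,1,0,0,0],[1,2,1,0,0],[0,2,0,1,0],[2,0,0,2,1]], [[1,2,2,2,2],[0,1,1,2,0],[0,0,1,2,0],[0,0,0,1,0],[0,0,0,0,1]], [[1,0,0,0,0],[0,1,0,0,0],[0,0,1,0,0],[0,0,0,1,0],[0,0,0,0,1]]),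
  ([[2,1,0,0],[1]], [[2,2,0,0,2],[0,1,0,1,0],[2,0,1,1,2],[1,0,0,0,0],[0,0,0,0,2]], [[0,0,0,1,0],[2,0,0,2,1],[2,2,1,0,0],[1,1,0,1,2],[0,0,0,0,2]], [[1,0,0,0,0],[2,1,0,0,0],[1,1,1,0,0],[0,0,0,1,0],[1,2,2,2,1]], [[1,0,1,1,2],[0,1,0,2,0],[0,0,1,0,2],[0,0,0,1,0],[0,0,0,0,1]], [[1,0,0,0,0],[0,1,0,0,0],[0,0,1,0,0],[0,0,0,1,0],[0,0,0,0,1]]),
  ([[2,1,0,1],[1]], [[2,0,1,1,2],[1,1,2,2,0],[0,1,0,2,1],[1,2,1,0,2],[0,1,0,1,1]], [[2,1,1,2,0],[2,2,1,0,1],[1,2,1,2,2],[0,0,1,0,2],[1,1,1,0,1]], [[1,0,0,0,0],[0,1,0,0,0],[1,2,1,0,0],[0,0,2,1,0],[1,2,0,0,1]], [[1,2,0,0,1],[0,1,0,0,1],[0,0,1,1,2],[0,0,0,1,1],[0,0,0,0,1]], [[1,0,0,0,0],[0,1,0,0,0],[0,0,1,0,0],[0,0,0,1,0],[0,0,0,0,1]]),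
  ([[2,1,0,2],[1]], [[0,2,2,0,2],[0,1,0,1,2],[1,1,1,2,2],[0,2,0,0,0],[2,0,0,2,0]], [[1,1,1,1,0],[0,0,0,2,0],[0,2,1,0,1],[2,2,2,2,2],[2,1,2,1,2]], [[1,0,0,0,0],[1,1,0,0,0],[0,0,1,0,0],[0,1,0,1,0],[0,0,2,2,1]], [[1,0,0,2,0],[0,1,0,0,1],[0,0,1,1,2],[0,0,0,1,0],[0,0,0,0,1]], [[1,0,0,0,0],[0,1,0,0,0],[0,0,1,0,0],[0,0,0,1,0],[0,0,0,0,1]]),
  ([[2,1,1,0],[1]], [[2,2,1,2,0],[0,2,2,1,1],[1,2,1,2,2],[0,1,0,0,0],[0,2,0,1,0]], [[0,1,1,2,0],[0,0,0,1,0],[1,1,1,1,1],[0,0,0,1,1],[1,2,1,1,0]], [[1,0,0,0,0],[0,1,0,0,0],[1,1,1,0,0],[2,1,2,1,0],[1,0,2,2,1]], [[1,2,1,2,1],[0,1,1,1,2],[0,0,1,1,1],[0,0,0,1,0],[0,0,0,0,1]], [[1,0,0,0,0],[2,1,0,0,0],[2,1,1,0,0],[0,1,0,1,0],[1,0,0,2,1]]),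
  ([[2,1,1,1],[1]], [[1,1,0,0,1],[2,0,1,2,0],[0,1,1,1,0],[0,1,2,1,1],[2,1,2,2,1]], [[2,1,0,1,0],[0,2,1,2,1],[1,0,0,1,1],[2,1,0,0,1],[2,0,2,0,2]], [[1,0,0,0,0],[0,1,0,0,0],[1,2,1,0,0],[2,0,1,1,0],[2,2,1,2,1]], [[1,0,0,2,0],[0,1,1,1,1],[0,0,1,1,2],[0,0,0,1,2],[0,0,0,0,1]], [[1,0,0,0,0],[0,1,0,0,0],[0,0,1,0,0],[0,0,0,1,0],[0,0,0,0,1]]),
  ([[2,1,1,2],[1]], [[2,0,0,2,0],[0,2,2,0,0],[0,2,0,1,2],[0,2,2,2,1],[2,0,1,0,0]], [[0,1,1,1,2],[0,1,2,2,0],[0,1,1,1,0],[2,2,2,2,1],[2,1,2,0,1]], [[1,0,0,0,0],[0,1,0,0,0],[0,0,1,0,0],[2,1,2,1,0],[0,2,1,1,1]], [[1,2,2,1,1],[0,1,1,1,2],[0,0,1,1,0],[0,0,0,1,1],[0,0,0,0,1]], [[1,0,0,0,0],[1,1,0,0,0],[2,0,1,0,0],[1,1,2,1,0],[0,2,1,0,1]]),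
  ([[2,1,2,0],[1]], [[2,1,2,0,1],[2,2,0,1,2],[2,2,0,2,1],[1,2,1,1,0],[2,0,0,0,2]], [[1,1,2,1,2],[2,0,2,2,1],[2,1,1,0,2],[2,1,2,2,0],[2,2,1,2,0]], [[1,0,0,0,0],[2,1,0,0,0],[2,0,1,0,0],[0,1,2,1,0],[2,1,0,0,1]], [[1,1,2,0,1],[0,1,2,1,1],[0,0,1,1,1],[0,0,0,1,0],[0,0,0,0,1]], [[1,0,0,0,0],[0,1,0,0,0],[1,2,1,0,0],[1,2,2,1,0],[1,0,0,0,1]]),
  ([[2,1,2,1],[1]], [[0,1,0,0,2],[0,1,0,1,1],[0,2,1,0,0],[1,0,1,1,2],[2,0,2,1,0]], [[1,1,2,0,2],[0,1,0,1,1],[0,1,1,1,1],[1,2,0,1,1],[2,1,0,1,1]], [[1,0,0,0,0],[2,1,0,0,0],[1,0,1,0,0],[1,1,0,1,0],[2,2,0,2,1]], [[1,1,0,1,2],[0,1,1,2,1],[0,0,1,0,2],[0,0,0,1,2],[0,0,0,0,1]], [[1,0,0,0,0],[0,1,0,0,0],[0,0,1,0,0],[0,0,0,1,0],[0,0,0,0,1]]),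
  ([[2,1,2,2],[1]], [[1,2,1,0,0],[2,2,1,2,0],[1,2,2,0,2],[2,2,2,0,0],[1,2,2,2,0]], [[1,2,0,2,1],[1,0,0,1,0],[1,1,0,2,2],[2,1,0,2,1],[2,1,2,2,2]], [[1,0,0,0,0],[0,1,0,0,0],[1,2,1,0,0],[0,0,1,1,0],[2,2,1,0,1]], [[1,1,2,2,1],[0,1,0,2,2],[0,0,1,0,1],[0,0,0,1,1],[0,0,0,0,1]], [[1,0,0,0,0],[0,1,0,0,0],[0,0,1,0,0],[0,0,0,1,0],[0,0,0,0,1]]),
  ([[2,2,0,0],[1]], [[2,1,2,2,2],[0,0,2,0,0],[1,2,0,0,1],[1,0,2,1,1],[0,2,1,1,2]], [[0,2,2,2,1],[1,1,0,1,0],[0,2,0,0,0],[2,1,2,0,0],[1,2,2,2,2]], [[1,0,0,0,0],[1,1,0,0,0],[0,2,1,0,0],[1,0,1,1,0],[2,2,2,1,1]], [[1,0,1,0,2],[0,1,1,2,1],[0,0,1,0,0],[0,0,0,1,1],[0,0,0,0,1]], [[1,0,0,0,0],[0,1,0,0,0],[0,0,1,0,0],[0,0,0,1,0],[0,0,0,0,1]]),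
  ([[2,2,0,1],[1]], [[2,2,1,0,2],[0,0,1,1,2],[2,0,0,2,1],[1,0,0,1,0],[2,0,1,2,1]], [[0,2,1,0,1],[2,1,0,2,0],[0,0,2,0,1],[0,1,2,1,2],[0,0,1,1,0]], [[1,0,0,0,0],[0,1,0,0,0],[1,0,1,0,0],[2,2,2,1,0],[2,0,1,2,1]], [[1,1,1,2,2],[0,1,1,1,1],[0,0,1,0,2],[0,0,0,1,0],[0,0,0,0,1]], [[1,0,0,0,0],[0,1,0,0,0],[0,0,1,0,0],[0,0,0,1,0],[0,0,0,0,1]]),
  ([[2,2,0,2],[1]], [[0,2,0,1,1],[0,2,2,2,1],[0,2,2,1,1],[0,2,1,0,2],[2,1,0,1,1]], [[1,1,1,2,2],[0,2,2,1,0],[1,0,2,0,0],[0,1,2,0,0],[1,1,0,1,0]], [[1,0,0,0,0],[0,1,0,0,0],[1,2,1,0,0],[0,0,0,1,0],[2,1,2,0,1]], [[1,0,1,2,2],[0,1,1,2,2],[0,0,1,0,2],[0,0,0,1,1],[0,0,0,0,1]], [[1,0,0,0,0],[0,1,0,0,0],[0,1,1,0,0],[1,1,1,1,0],[0,2,2,1,1]]),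
  ([[2,2,1,0],[1]], [[2,0,2,1,0],[0,0,2,2,2],[1,2,2,0,1],[1,1,2,0,0],[2,2,2,2,2]], [[1,2,1,0,2],[2,2,2,0,0],[0,1,0,2,2],[2,0,1,2,1],[1,1,2,2,0]], [[1,0,0,0,0],[0,1,0,0,0],[2,2,1,0,0],[1,2,1,1,0],[0,2,1,1,1]], [[1,0,0,0,2],[0,1,2,2,2],[0,0,1,1,1],[0,0,0,1,0],[0,0,0,0,1]], [[1,0,0,0,0],[0,1,0,0,0],[0,1,1,0,0],[2,2,1,1,0],[2,0,0,1,1]]),
  ([[2,2,1,1],[1]], [[2,0,1,2,0],[1,1,1,1,1],[2,2,0,1,0],[0,2,2,1,2],[1,2,1,1,2]], [[2,1,0,2,2],[0,2,2,2,0],[2,1,0,0,1],[2,0,0,1,2],[0,0,1,1,1]], [[1,0,0,0,0],[0,1,0,0,0],[0,0,1,0,0],[0,0,2,1,0],[0,1,2,0,1]], [[1,0,0,0,2],[0,1,2,2,2],[0,0,1,1,1],[0,0,0,1,0],[0,0,0,0,1]], [[1,0,0,0,0],[0,1,0,0,0],[0,0,1,0,0],[0,0,0,1,0],[0,0,0,0,1]]),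
  ([[2,2,1,2],[1]], [[0,0,2,0,1],[1,2,1,0,2],[1,2,1,1,2],[2,0,1,1,0],[2,2,0,1,0]], [[2,0,2,0,1],[1,2,2,0,1],[2,1,1,1,1],[0,2,1,0,0],[0,1,1,1,1]], [[1,0,0,0,0],[1,1,0,0,0],[2,2,1,0,0],[0,2,1,1,0],[0,2,0,0,1]], [[1,0,2,1,1],[0,1,0,2,2],[0,0,1,1,1],[0,0,0,1,2],[0,0,0,0,1]], [[1,0,0,0,0],[0,1,0,0,0],[0,0,1,0,0],[0,0,0,1,0],[0,0,0,0,1]]),
  ([[2,2,2,0],[1]], [[1,0,0,0,2],[2,1,1,2,2],[1,2,2,0,2],[0,0,0,0,2],[0,1,2,2,1]], [[1,0,0,2,0],[2,1,2,0,2],[2,2,0,0,1],[0,2,2,2,0],[0,0,0,2,0]], [[1,0,0,0,0],[0,1,0,0,0],[0,2,1,0,0],[1,1,1,1,0],[0,2,0,0,1]], [[1,0,0,0,2],[0,1,1,2,1],[0,0,1,2,1],[0,0,0,1,2],[0,0,0,0,1]], [[1,0,0,0,0],[0,1,0,0,0],[0,0,1,0,0],[0,0,0,1,0],[0,0,0,0,1]]),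
  ([[2,2,2,1],[1]], [[1,0,1,1,2],[0,2,1,1,0],[1,2,2,0,1],[1,2,2,2,1],[2,0,0,1,0]], [[0,0,1,2,2],[2,0,2,0,1],[2,1,1,1,1],[0,0,1,2,0],[1,1,0,2,0]], [[1,0,0,0,0],[2,1,0,0,0],[0,2,1,0,0],[2,2,2,1,0],[0,1,1,2,1]], [[1,1,2,1,1],[0,1,0,1,1],[0,0,1,2,2],[0,0,0,1,0],[0,0,0,0,1]], [[1,0,0,0,0],[0,1,0,0,0],[0,0,1,0,0],[0,0,0,1,0],[0,0,0,0,1]]),
  ([[2,2,2,2],[1]], [[2,0,0,2,0],[2,1,2,0,0],[1,0,0,2,0],[0,0,2,2,0],[1,0,2,0,2]], [[1,0,2,0,0],[0,1,1,2,0],[2,0,2,2,0],[1,0,1,0,0],[2,0,0,1,2]], [[1,0,0,0,0],[2,1,0,0,0],[1,0,1,0,0],[1,1,2,1,0],[2,0,2,2,1]], [[1,1,1,0,1],[0,1,2,2,1],[0,0,1,2,0],[0,0,0,1,0],[0,0,0,0,1]], [[1,0,0,0,0],[0,1,0,0,0],[0,0,1,0,0],[0,0,0,1,0],[0,0,0,0,1]]),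
  ([[1,0,0],[2,0]], [[1,1,2,0,1],[1,1,0,1,0],[2,1,0,1,0],[2,2,2,1,0],[2,2,1,1,1]], [[0,2,1,0,0],[1,1,2,1,2],[1,1,0,0,2],[2,1,0,2,1],[1,1,0,2,0]], [[1,0,0,0,0],[1,1,0,0,0],[2,2,1,0,0],[1,2,0,1,0],[2,0,0,0,1]], [[1,1,0,0,0],[0,1,1,2,1],[0,0,1,0,0],[0,0,0,1,1],[0,0,0,0,1]], [[1,0,0,0,0],[0,1,0,0,0],[0,0,1,0,0],[0,0,0,1,0],[0,0,0,0,1]]),
  ([[1,0,0],[2,1]], [[1,2,1,1,1],[0,0,0,2,2],[0,1,1,2,2],[2,0,1,2,1],[2,0,2,0,0]], [[2,0,2,0,1],[2,2,0,0,2],[1,0,1,0,1],[1,1,1,1,0],[2,1,2,2,0]], [[1,0,0,0,0],[2,1,0,0,0],[2,1,1,0,0],[2,2,0,1,0],[2,2,2,0,1]], [[1,1,2,0,2],[0,1,1,1,1],[0,0,1,1,0],[0,0,0,1,0],[0,0,0,0,1]], [[1,0,0,0,0],[0,1,0,0,0],[1,1,1,0,0],[0,2,0,1,0],[1,0,2,1,1]]),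
  ([[1,0,0],[2,2]], [[1,2,0,0,2],[0,0,2,2,0],[1,2,1,0,2],[0,1,1,1,2],[0,1,0,1,1]], [[0,1,1,0,1],[1,1,2,2,2],[2,0,1,0,0],[1,2,2,0,0],[1,0,2,1,2]], [[1,0,0,0,0],[1,1,0,0,0],[1,0,1,0,0],[2,0,2,1,0],[2,1,2,2,1]], [[1,2,1,1,1],[0,1,1,0,1],[0,0,1,0,2],[0,0,0,1,2],[0,0,0,0,1]], [[1,0,0,0,0],[0,1,0,0,0],[1,0,1,0,0],[1,0,2,1,0],[0,0,1,2,1]]),
  ([[1,0,1],[2,0]], [[1,1,1,2,2],[2,1,0,2,1],[0,0,2,2,1],[0,1,1,2,1],[2,0,1,2,2]], [[1,1,1,1,2],[2,1,1,1,1],[2,1,2,0,1],[1,1,2,1,0],[0,2,2,1,1]], [[1,0,0,0,0],[0,1,0,0,0],[2,0,1,0,0],[1,1,2,1,0],[1,2,2,1,1]], [[1,1,1,0,0],[0,1,0,0,1],[0,0,1,2,2],[0,0,0,1,0],[0,0,0,0,1]], [[1,0,0,0,0],[0,1,0,0,0],[0,0,1,0,0],[0,0,0,1,0],[0,0,0,0,1]]),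
  ([[1,0,1],[2,1]], [[0,0,0,1,1],[1,1,0,2,0],[2,0,0,1,1],[1,2,0,1,2],[2,2,2,0,0]], [[1,0,2,0,0],[1,2,0,1,0],[1,1,1,2,2],[2,1,2,1,0],[2,2,1,2,0]], [[1,0,0,0,0],[1,1,0,0,0],[1,0,1,0,0],[1,2,0,1,0],[1,0,2,2,1]], [[1,2,1,1,2],[0,1,1,1,2],[0,0,1,1,2],[0,0,0,1,1],[0,0,0,0,1]], [[1,0,0,0,0],[0,1,0,0,0],[0,0,1,0,0],[0,0,0,1,0],[0,0,0,0,1]]),
  ([[1,0,1],[2,2]], [[1,0,0,1,0],[0,1,1,0,1],[1,2,2,0,0],[2,0,0,2,1],[0,2,0,2,2]], [[2,1,1,2,0],[0,1,1,1,2],[2,0,2,1,1],[2,2,2,1,0],[1,0,0,1,0]], [[1,0,0,0,0],[1,1,0,0,0],[1,0,1,0,0],[0,1,2,1,0],[0,1,0,0,1]], [[1,2,1,1,0],[0,1,1,2,0],[0,0,1,1,1],[0,0,0,1,2],[0,0,0,0,1]], [[1,0,0,0,0],[0,1,0,0,0],[0,0,1,0,0],[0,0,0,1,0],[0,0,0,0,1]]),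
  ([[1,0,2],[2,0]], [[1,2,1,1,0],[2,2,2,1,1],[1,2,2,0,2],[0,2,1,2,1],[0,0,0,1,2]], [[0,1,2,0,2],[1,1,0,0,1],[1,1,0,1,2],[1,2,1,2,0],[1,2,1,2,2]], [[1,0,0,0,0],[1,1,0,0,0],[0,2,1,0,0],[1,1,2,1,0],[2,1,0,0,1]], [[1,2,2,0,1],[0,1,1,1,2],[0,0,1,0,1],[0,0,0,1,1],[0,0,0,0,1]], [[1,0,0,0,0],[0,1,0,0,0],[0,0,1,0,0],[0,0,0,1,0],[0,0,0,0,1]]),
  ([[1,0,2],[2,1]], [[2,2,2,0,0],[0,1,2,1,1],[0,1,1,2,0],[1,2,1,1,2],[0,0,0,1,2]], [[1,2,1,2,0],[1,0,0,1,2],[0,1,2,0,1],[1,1,1,1,0],[1,1,1,1,2]], [[1,0,0,0,0],[2,1,0,0,0],[2,2,1,0,0],[2,1,0,1,0],[0,1,1,0,1]], [[1,1,2,2,2],[0,1,2,1,0],[0,0,1,1,2],[0,0,0,1,1],[0,0,0,0,1]], [[1,0,0,0,0],[0,1,0,0,0],[0,0,1,0,0],[0,0,0,1,0],[0,0,0,0,1]]),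
  ([[1,0,2],[2,2]], [[0,0,2,2,0],[2,2,2,2,0],[1,0,1,2,2],[0,2,1,0,0],[2,0,1,2,2]], [[0,0,2,0,1],[1,2,1,0,2],[1,2,1,1,2],[1,1,2,2,1],[0,1,0,2,2]], [[1,0,0,0,0],[0,1,0,0,0],[0,2,1,0,0],[2,1,1,1,0],[1,2,0,2,1]], [[1,1,2,0,1],[0,1,0,1,1],[0,0,1,2,2],[0,0,0,1,1],[0,0,0,0,1]], [[1,0,0,0,0],[1,1,0,0,0],[1,2,1,0,0],[1,2,2,1,0],[1,0,0,1,1]]),
  ([[1,1,0],[2,0]], [[0,2,0,1,1],[0,0,0,2,1],[0,1,1,2,2],[1,0,1,0,2],[0,2,2,0,0]], [[2,2,0,1,1],[2,0,2,0,2],[1,0,1,0,0],[0,1,1,0,1],[0,2,1,0,1]], [[1,0,0,0,0],[0,1,0,0,0],[1,2,1,0,0],[2,2,2,1,0],[0,1,1,0,1]], [[1,0,2,2,2],[0,1,2,2,0],[0,0,1,2,1],[0,0,0,1,0],[0,0,0,0,1]], [[1,0,0,0,0],[0,1,0,0,0],[0,0,1,0,0],[0,0,0,1,0],[0,0,0,0,1]]),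
  ([[1,1,0],[2,1]], [[2,1,2,1,1],[0,1,2,0,2],[0,2,1,2,1],[0,2,0,0,0],[1,1,0,0,2]], [[1,0,1,2,2],[0,0,0,2,0],[2,2,2,1,2],[0,2,2,0,0],[1,0,1,1,1]], [[1,0,0,0,0],[1,1,0,0,0],[1,0,1,0,0],[2,1,1,1,0],[1,2,1,2,1]], [[1,1,0,0,1],[0,1,0,2,1],[0,0,1,1,1],[0,0,0,1,1],[0,0,0,0,1]], [[1,0,0,0,0],[0,1,0,0,0],[2,0,1,0,0],[0,2,0,1,0],[1,0,0,0,1]]),
  ([[1,1,0],[2,2]], [[0,0,2,0,0],[0,0,0,1,2],[2,0,1,0,1],[0,2,2,0,2],[1,2,1,2,0]], [[2,1,0,2,1],[1,2,2,0,2],[2,0,0,0,0],[0,2,1,2,1],[0,1,1,2,1]], [[1,0,0,0,0],[1,1,0,0,0],[1,1,1,0,0],[1,0,2,1,0],[0,1,2,0,1]], [[1,1,1,2,1],[0,1,2,1,1],[0,0,1,2,2],[0,0,0,1,2],[0,0,0,0,1]], [[1,0,0,0,0],[0,1,0,0,0],[0,0,1,0,0],[0,0,0,1,0],[0,0,0,0,1]]),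
  ([[1,1,1],[2,0]], [[1,1,2,0,1],[2,1,1,2,1],[1,2,2,2,1],[2,1,1,1,0],[2,1,2,0,2]], [[2,0,2,2,1],[2,1,0,1,0],[0,1,0,1,1],[0,1,2,1,0],[0,0,1,1,0]], [[1,0,0,0,0],[2,1,0,0,0],[1,0,1,0,0],[1,1,2,1,0],[0,0,1,1,1]], [[1,1,0,2,2],[0,1,2,2,0],[0,0,1,1,1],[0,0,0,1,0],[0,0,0,0,1]], [[1,0,0,0,0],[0,1,0,0,0],[0,0,1,0,0],[0,0,0,1,0],[0,0,0,0,1]]),
  ([[1,1,1],[2,1]], [[1,0,0,0,1],[0,2,0,2,2],[1,1,1,1,2],[0,2,1,0,2],[1,1,0,2,0]], [[0,0,2,1,2],[1,1,0,0,2],[2,1,1,0,0],[1,1,2,1,0],[1,0,1,2,1]], [[1,0,0,0,0],[1,1,0,0,0],[0,2,1,0,0],[1,0,1,1,0],[1,0,1,2,1]], [[1,0,1,1,2],[0,1,2,2,1],[0,0,1,0,1],[0,0,0,1,0],[0,0,0,0,1]], [[1,0,0,0,0],[0,1,0,0,0],[0,0,1,0,0],[0,0,0,1,0],[0,0,0,0,1]]),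
  ([[1,1,1],[2,2]], [[0,1,0,2,1],[2,1,1,0,0],[0,1,1,0,0],[2,2,1,1,0],[0,1,2,2,1]], [[0,2,1,0,0],[2,0,1,0,1],[1,0,0,0,2],[1,2,2,1,2],[0,2,1,1,1]], [[1,0,0,0,0],[1,1,0,0,0],[2,0,1,0,0],[2,1,0,1,0],[0,1,2,2,1]], [[1,0,1,2,2],[0,1,1,0,2],[0,0,1,1,1],[0,0,0,1,0],[0,0,0,0,1]], [[1,0,0,0,0],[0,1,0,0,0],[0,0,1,0,0],[0,0,0,1,0],[0,0,0,0,1]]),
  ([[1,1,2],[2,0]], [[1,2,2,0,0],[1,2,1,2,2],[2,0,2,0,2],[2,0,2,1,0],[0,0,0,1,2]], [[2,1,0,2,2],[0,2,2,0,2],[1,2,1,2,0],[0,0,1,2,2],[0,0,1,2,1]], [[1,0,0,0,0],[2,1,0,0,0],[1,1,1,0,0],[0,1,1,1,0],[2,0,2,2,1]], [[1,1,0,0,0],[0,1,1,2,2],[0,0,1,0,2],[0,0,0,1,2],[0,0,0,0,1]], [[1,0,0,0,0],[0,1,0,0,0],[0,0,1,0,0],[0,0,0,1,0],[0,0,0,0,1]]),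
  ([[1,1,2],[2,1]], [[2,1,1,0,2],[1,0,1,2,2],[1,2,2,2,2],[2,0,0,0,0],[2,0,0,1,0]], [[0,0,0,2,0],[1,2,0,2,2],[1,1,1,2,2],[0,0,0,2,1],[1,0,1,2,1]], [[1,0,0,0,0],[0,1,0,0,0],[2,1,1,0,0],[0,0,1,1,0],[1,2,2,0,1]], [[1,1,0,2,1],[0,1,1,2,2],[0,0,1,2,1],[0,0,0,1,0],[0,0,0,0,1]], [[1,0,0,0,0],[0,1,0,0,0],[0,0,1,0,0],[0,0,0,1,0],[0,0,0,0,1]]),
  ([[1,1,2],[2,2]], [[2,0,0,1,2],[2,0,1,1,0],[1,1,2,2,0],[0,0,0,1,1],[1,0,0,2,2]], [[0,0,0,1,1],[0,1,1,0,0],[1,1,0,0,2],[2,0,0,1,2],[1,0,0,0,1]], [[1,0,0,0,0],[0,1,0,0,0],[0,2,1,0,0],[0,2,0,1,0],[1,2,2,1,1]], [[1,0,1,0,0],[0,1,2,0,0],[0,0,1,2,1],[0,0,0,1,0],[0,0,0,0,1]], [[1,0,0,0,0],[0,1,0,0,0],[0,0,1,0,0],[0,0,0,1,0],[0,0,0,0,1]]),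
  ([[1,2,0],[2,0]], [[1,0,0,2,2],[1,2,2,0,2],[0,0,1,1,2],[0,1,1,2,2],[2,0,1,0,1]], [[2,0,2,0,1],[0,2,0,0,2],[1,1,2,1,2],[0,1,2,1,1],[1,2,0,2,0]], [[1,0,0,0,0],[1,1,0,0,0],[2,0,1,0,0],[0,1,0,1,0],[1,0,0,0,1]], [[1,1,0,1,2],[0,1,0,2,1],[0,0,1,1,0],[0,0,0,1,0],[0,0,0,0,1]], [[1,0,0,0,0],[0,1,0,0,0],[2,1,1,0,0],[1,0,1,1,0],[1,0,2,2,1]]),
  ([[1,2,0],[2,1]], [[1,2,0,0,1],[0,1,2,2,2],[2,2,1,1,2],[1,2,0,0,0],[0,0,0,2,2]], [[1,2,2,2,0],[1,2,2,1,0],[1,1,2,1,1],[2,0,0,1,2],[1,0,0,2,0]], [[1,0,0,0,0],[0,1,0,0,0],[1,1,1,0,0],[1,1,1,1,0],[1,2,1,2,1]], [[1,1,1,2,1],[0,1,0,0,0],[0,0,1,2,1],[0,0,0,1,0],[0,0,0,0,1]], [[1,0,0,0,0],[0,1,0,0,0],[0,0,1,0,0],[0,0,0,1,0],[0,0,0,0,1]]),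
  ([[1,2,0],[2,2]], [[1,0,0,0,2],[1,1,1,0,1],[2,2,2,2,2],[0,1,1,0,0],[0,1,2,2,1]], [[2,2,0,1,0],[1,0,1,0,2],[2,0,2,1,1],[0,2,2,0,0],[1,2,0,1,0]], [[1,0,0,0,0],[0,1,0,0,0],[2,0,1,0,0],[1,0,2,1,0],[0,2,1,2,1]], [[1,2,0,2,1],[0,1,2,0,1],[0,0,1,1,0],[0,0,0,1,2],[0,0,0,0,1]], [[1,0,0,0,0],[0,1,0,0,0],[0,0,1,0,0],[0,0,0,1,0],[0,0,0,0,1]]),
  ([[1,2,1],[2,0]], [[2,2,0,1,0],[2,1,2,2,2],[2,1,2,2,1],[2,0,2,2,0],[0,2,2,2,2]], [[0,0,1,1,1],[0,2,2,2,0],[2,1,2,1,1],[1,2,0,0,1],[0,1,2,0,0]], [[1,0,0,0,0],[1,1,0,0,0],[0,1,1,0,0],[0,2,2,1,0],[1,1,0,2,1]], [[1,1,1,1,2],[0,1,0,0,1],[0,0,1,0,1],[0,0,0,1,0],[0,0,0,0,1]], [[1,0,0,0,0],[0,1,0,0,0],[0,0,1,0,0],[0,0,0,1,0],[0,0,0,0,1]]),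
  ([[1,2,1],[2,1]], [[0,1,1,1,0],[2,0,0,2,0],[2,2,2,0,2],[0,0,2,0,1],[1,2,0,1,2]], [[2,1,0,2,2],[2,2,1,1,0],[1,0,2,1,2],[1,1,0,1,1],[1,0,2,2,2]], [[1,0,0,0,0],[2,1,0,0,0],[2,0,1,0,0],[2,1,0,1,0],[1,2,0,1,1]], [[1,2,2,2,2],[0,1,0,1,2],[0,0,1,0,2],[0,0,0,1,0],[0,0,0,0,1]], [[1,0,0,0,0],[0,1,0,0,0],[0,0,1,0,0],[0,0,0,1,0],[0,0,0,0,1]]),
  ([[1,2,1],[2,2]], [[0,1,1,0,0],[1,2,0,0,0],[2,2,0,1,1],[1,2,2,2,2],[1,2,0,0,2]], [[2,1,2,2,0],[2,0,2,2,0],[2,0,1,1,0],[1,0,2,1,1],[0,1,0,0,2]], [[1,0,0,0,0],[0,1,0,0,0],[0,2,1,0,0],[0,2,2,1,0],[0,2,1,2,1]], [[1,0,1,0,1],[0,1,2,1,1],[0,0,1,0,2],[0,0,0,1,1],[0,0,0,0,1]], [[1,0,0,0,0],[0,1,0,0,0],[0,0,1,0,0],[0,0,0,1,0],[0,0,0,0,1]]),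
  ([[1,2,2],[2,0]], [[1,1,1,2,2],[0,0,0,2,2],[2,1,0,2,0],[2,1,2,2,1],[0,0,2,1,0]], [[2,0,2,2,0],[2,1,2,0,2],[0,1,2,1,1],[0,1,2,1,2],[0,1,1,2,1]], [[1,0,0,0,0],[0,1,0,0,0],[0,1,1,0,0],[1,2,2,1,0],[2,0,2,1,1]], [[1,1,0,0,1],[0,1,1,2,1],[0,0,1,0,1],[0,0,0,1,1],[0,0,0,0,1]], [[1,0,0,0,0],[1,1,0,0,0],[0,1,1,0,0],[1,2,2,1,0],[0,0,1,1,1]]),
  ([[1,2,2],[2,1]], [[0,1,0,2,2],[0,0,0,0,2],[0,0,2,0,1],[0,0,0,2,2],[1,2,0,1,2]], [[1,1,0,0,1],[1,0,0,2,0],[0,2,2,0,0],[0,1,0,2,0],[0,2,0,0,0]], [[1,0,0,0,0],[0,1,0,0,0],[2,2,1,0,0],[0,0,1,1,0],[0,0,1,1,1]], [[1,2,0,0,2],[0,1,1,0,1],[0,0,1,0,2],[0,0,0,1,1],[0,0,0,0,1]], [[1,0,0,0,0],[2,1,0,0,0],[0,1,1,0,0],[0,2,1,1,0],[1,2,2,0,1]]),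
  ([[1,2,2],[2,2]], [[1,0,1,1,0],[1,0,0,2,1],[1,2,2,0,2],[0,2,2,0,0],[2,0,1,0,2]], [[2,2,1,2,1],[2,2,2,0,0],[1,1,1,2,0],[1,0,1,2,2],[2,2,0,0,1]], [[1,0,0,0,0],[1,1,0,0,0],[0,2,1,0,0],[0,1,1,1,0],[2,1,2,0,1]], [[1,2,1,1,1],[0,1,1,0,2],[0,0,1,1,1],[0,0,0,1,2],[0,0,0,0,1]], [[1,0,0,0,0],[0,1,0,0,0],[0,0,1,0,0],[0,0,0,1,0],[0,0,0,0,1]])]

theorem pairm5_ok : tblOk 3 [g5m] pairm5 = true := by decide +kernel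

theorem pairm5_keys : keys pairm5 = (((detV 3 4 2).flatMap fun a => (detV 3 1 2).map fun b => [a, b]) ++ ((detV 3 3 2).flatMap fun a => (detV 3 2 2).map fun b => [a, b])) := by decide +kernel

def c22m4 : Tbl :=
  [([[1,0],[1,0]], [[2,0,2,1],[0,0,0,1],[1,2,2,1],[1,0,2,0]], [[1,2,0,2],[0,1,2,1],[1,2,0,1],[0,1,0,0]], [[1,0,0,0],[1,1,0,0],[0,2,1,0],[2,2,1,1]], [[1,1,0,1],[0,1,2,2],[0,0,1,0],[0,0,0,1]], [[1,0,0,0],[0,1,0,0],[0,0,1,0],[0,0,0,1]]),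
  ([[1,0],[1,1]], [[0,2,2,2],[2,1,0,2],[1,2,2,0],[1,0,0,0]], [[0,0,0,1],[2,1,1,0],[1,2,1,1],[2,0,1,2]], [[1,0,0,0],[0,1,0,0],[0,2,1,0],[0,1,2,1]], [[1,0,0,0],[0,1,0,1],[0,0,1,0],[0,0,0,1]], [[1,0,0,0],[0,1,0,0],[0,0,1,0],[0,0,0,1]]),
  ([[1,0],[1,2]], [[2,0,0,1],[1,1,0,0],[1,1,2,1],[1,0,0,1]], [[1,0,0,2],[2,1,0,1],[2,1,2,2],[2,0,0,2]], [[1,0,0,0],[2,1,0,0],[1,2,1,0],[1,2,0,1]], [[1,0,1,1],[0,1,2,1],[0,0,1,2],[0,0,0,1]], [[1,0,0,0],[0,1,0,0],[0,0,1,0],[0,0,0,1]]),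
  ([[1,1],[1,0]], [[1,1,1,2],[0,1,2,1],[2,2,0,2],[1,1,1,0]], [[1,2,1,1],[0,1,1,1],[2,0,1,2],[2,0,0,1]], [[1,0,0,0],[1,1,0,0],[2,1,1,0],[2,1,1,1]], [[1,2,0,0],[0,1,0,2],[0,0,1,0],[0,0,0,1]], [[1,0,0,0],[0,1,0,0],[0,0,1,0],[0,0,0,1]]),
  ([[1,1],[1,1]], [[0,0,0,2],[1,1,1,1],[2,0,2,0],[1,0,0,0]], [[0,0,0,1],[1,1,1,0],[0,0,2,2],[2,0,0,0]], [[1,0,0,0],[2,1,0,0],[2,2,1,0],[2,2,0,1]], [[1,2,0,2],[0,1,1,2],[0,0,1,0],[0,0,0,1]], [[1,0,0,0],[0,1,0,0],[0,0,1,0],[0,0,0,1]]),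
  ([[1,1],[1,2]], [[1,2,0,2],[1,0,0,0],[1,0,1,2],[1,1,0,0]], [[0,1,0,0],[0,2,0,1],[2,1,1,2],[2,2,0,2]], [[1,0,0,0],[1,1,0,0],[1,1,1,0],[2,0,0,1]], [[1,0,0,0],[0,1,0,0],[0,0,1,2],[0,0,0,1]], [[1,0,0,0],[0,1,0,0],[0,0,1,0],[0,0,0,1]]),
  ([[1,2],[1,0]], [[2,1,2,0],[1,2,0,1],[2,1,1,2],[1,0,0,1]], [[2,1,2,1],[0,2,0,1],[0,1,1,0],[1,2,1,0]], [[1,0,0,0],[0,1,0,0],[0,2,1,0],[2,2,0,1]], [[1,1,1,0],[0,1,2,0],[0,0,1,0],[0,0,0,1]], [[1,0,0,0],[0,1,0,0],[0,0,1,0],[0,0,0,1]]),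
  ([[1,2],[1,1]], [[1,1,0,1],[2,1,0,1],[1,2,1,0],[1,0,1,0]], [[2,1,0,0],[0,0,2,1],[1,2,0,1],[2,2,1,2]], [[1,0,0,0],[0,1,0,0],[1,1,1,0],[1,2,2,1]], [[1,2,0,1],[0,1,2,1],[0,0,1,0],[0,0,0,1]], [[1,0,0,0],[0,1,0,0],[0,0,1,0],[0,0,0,1]]),
  ([[1,2],[1,2]], [[0,0,0,1],[0,2,0,1],[1,2,2,2],[2,0,2,2]], [[2,1,2,1],[1,2,0,0],[0,2,1,1],[1,0,0,0]], [[1,0,0,0],[2,1,0,0],[1,0,1,0],[2,0,1,1]], [[1,2,2,1],[0,1,2,2],[0,0,1,1],[0,0,0,1]], [[1,0,0,0],[0,1,0,0],[0,0,1,0],[0,0,0,1]])]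

theorem c22m4_ok : tblOk 3 [g4m] c22m4 = true := by decide +kernel

theorem c22m4_keys : keys c22m4 = ((detV 3 2 1).flatMap fun a => (detV 3 2 1).map fun b => [a, b]) := by decide +kernel

def cmm4 : Tbl :=
  [([[1,0],[1],[1]], [[0,2,1,0],[0,2,0,0],[0,1,1,1],[1,0,1,2]], [[1,0,1,1],[0,2,0,0],[1,2,0,0],[2,2,1,0]], [[1,0,0,0],[0,1,0,0],[2,1,1,0],[2,1,0,1]], [[1,1,2,2],[0,1,0,0],[0,0,1,1],[0,0,0,1]], [[1,0,0,0],[0,1,0,0],[0,0,1,0],[0,0,0,1]]),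
  ([[1,1],[1],[1]], [[1,2,2,0],[0,2,1,0],[2,0,0,0],[2,2,2,2]], [[0,0,2,0],[1,1,1,0],[1,2,1,0],[1,0,2,2]], [[1,0,0,0],[2,1,0,0],[2,0,1,0],[0,1,0,1]], [[1,1,2,1],[0,1,1,2],[0,0,1,2],[0,0,0,1]], [[1,0,0,0],[0,1,0,0],[0,0,1,0],[0,0,0,1]]),
  ([[1,2],[1],[1]], [[0,0,2,0],[1,0,0,0],[0,0,0,1],[0,1,0,2]], [[0,1,0,0],[0,0,1,1],[2,0,0,0],[0,0,1,0]], [[1,0,0,0],[1,1,0,0],[1,1,1,0],[1,1,2,1]], [[1,0,0,2],[0,1,1,0],[0,0,1,0],[0,0,0,1]], [[1,0,0,0],[0,1,0,0],[0,0,1,0],[0,0,0,1]])]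

theorem cmm4_ok : tblOk 3 [g4n] cmm4 = true := by decide +kernel

theorem cmm4_keys : keys cmm4 = ((detV 3 2 1).map fun a => [a, [1], [1]]) := by decide +kernel

def o2mm4 : Tbl :=
  [([[2],[2],[1],[1]], [[2,1,1,1],[0,0,1,1],[2,1,0,2],[0,2,1,0]], [[1,0,1,2],[2,2,1,2],[2,2,1,0],[1,2,2,0]], [[1,0,0,0],[2,1,0,0],[2,2,1,0],[1,2,2,1]], [[1,0,1,1],[0,1,0,2],[0,0,1,2],[0,0,0,1]], [[1,0,0,0],[0,1,0,0],[0,0,1,0],[0,0,0,1]])]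

theorem o2mm4_ok : tblOk 3 [g4m] o2mm4 = true := by decide +kernel

theorem o2mm4_keys : keys o2mm4 = ([[[2], [2], [1], [1]]]) := by decide +kernel

def o1mm3 : Tbl :=
  [([[2],[1],[1]], [[2,2,0],[1,1,1],[1,2,2]], [[0,2,2],[2,1,1],[1,1,0]], [[1,0,0],[2,1,0],[0,1,1]], [[1,1,2],[0,1,1],[0,0,1]], [[1,0,0],[0,1,0],[0,0,1]])]

theorem o1mm3_ok : tblOk 3 [g3m] o1mm3 = true := by decide +kernel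

theorem o1mm3_keys : keys o1mm3 = ([[[2], [1], [1]]]) := by decide +kernel

def c1m3 : Tbl :=
  [([[1,0],[2]], [[2,0,2],[1,1,1],[1,2,0]], [[1,1,1],[1,1,0],[1,2,2]], [[1,0,0],[2,1,0],[2,0,1]], [[1,2,0],[0,1,2],[0,0,1]], [[1,0,0],[0,1,0],[0,0,1]]),
  ([[1,1],[2]], [[0,2,0],[2,2,0],[0,2,2]], [[1,2,0],[2,0,0],[1,0,2]], [[1,0,0],[2,1,0],[0,2,1]], [[1,0,0],[0,1,2],[0,0,1]], [[1,0,0],[0,1,0],[0,0,1]]),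
  ([[1,2],[2]], [[2,0,2],[0,0,2],[2,2,2]], [[2,1,0],[1,0,2],[0,2,0]], [[1,0,0],[2,1,0],[0,0,1]], [[1,1,0],[0,1,0],[0,0,1]], [[1,0,0],[0,1,0],[0,0,1]])]

theorem c1m3_ok : tblOk 3 [[2],q2] c1m3 = true := by decide +kernel

theorem c1m3_keys : keys c1m3 = ((detV 3 2 1).map fun a => [a, [2]]) := by decide +kernel

def c2m4 : Tbl :=
  [([[1,0],[2],[2]], [[0,2,1,1],[0,2,2,0],[2,1,2,2],[2,1,2,0]], [[2,0,2,0],[1,1,1,2],[2,1,2,1],[0,0,2,1]], [[1,0,0,0],[0,1,0,0],[0,2,1,0],[0,0,2,1]], [[1,0,1,0],[0,1,1,0],[0,0,1,2],[0,0,0,1]], [[1,0,0,0],[0,1,0,0],[0,0,1,0],[0,0,0,1]]),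
  ([[1,1],[2],[2]], [[2,0,2,2],[2,2,1,1],[0,1,2,1],[0,1,0,2]], [[2,0,1,2],[1,2,1,2],[2,1,1,0],[1,2,1,1]], [[1,0,0,0],[0,1,0,0],[0,0,1,0],[0,1,0,1]], [[1,2,2,1],[0,1,2,0],[0,0,1,2],[0,0,0,1]], [[1,0,0,0],[0,1,0,0],[0,0,1,0],[0,0,0,1]]),
  ([[1,2],[2],[2]], [[0,1,0,0],[2,0,2,1],[1,0,2,2],[2,0,0,0]], [[0,0,0,2],[1,0,0,0],[0,1,1,0],[0,2,1,2]], [[1,0,0,0],[0,1,0,0],[2,1,1,0],[2,0,0,1]], [[1,0,0,0],[0,1,0,2],[0,0,1,0],[0,0,0,1]], [[1,0,0,0],[0,1,0,0],[0,0,1,0],[0,0,0,1]])]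

theorem c2m4_ok : tblOk 3 [[2],g3m] c2m4 = true := by decide +kernel

theorem c2m4_keys : keys c2m4 = ((detV 3 2 1).map fun a => [a, [2], [2]]) := by decide +kernel

def c2side2 : Tbl :=
  [([[1,0]], [[2,0],[1,2]], [[2,0],[2,2]], [[1,0],[1,1]], [[1,1],[0,1]], [[1,0],[0,1]]),
  ([[1,2]], [[1,1],[0,1]], [[1,2],[0,1]], [[1,0],[0,1]], [[1,2],[0,1]], [[1,0],[0,1]])]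

theorem c2side2_ok : tblOk 3 [q2] c2side2 = true := by decide +kernel

theorem c2side2_keys : keys c2side2 = ([[[1,0]],[[1,2]]]) := by decide +kernel

def tiny2 : Tbl :=
  [([[1,1]], [[2,1],[0,1]], [[2,1],[0,1]], [[1,0],[1,1]], [[1,0],[0,1]], [[1,0],[0,1]]),
  ([[1],[1]], [[1,0],[0,1]], [[1,0],[0,1]], [[1,0],[2,1]], [[1,1],[0,1]], [[1,0],[2,1]])]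

theorem tiny2_ok : tblOk 3 [[2],[1]] tiny2 = true := by decide +kernel

theorem tiny2_keys : keys tiny2 = ([[[1,1]],[[1],[1]]]) := by decide +kernel

def i44 : Tbl :=
  [([[1],[1],[1],[1]], [[0,2,2,1],[1,1,0,1],[2,0,2,1],[2,2,2,1]], [[1,0,0,2],[0,0,1,2],[1,1,1,0],[2,1,2,2]], [[1,0,0,0],[1,1,0,0],[2,0,1,0],[1,0,1,1]], [[1,1,2,2],[0,1,2,2],[0,0,1,1],[0,0,0,1]], [[1,0,0,0],[0,1,0,0],[0,0,1,0],[0,0,0,1]])]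

theorem i44_ok : tblOk 3 [g4m] i44 = true := by decide +kernel

theorem i44_keys : keys i44 = ([[[1],[1],[1],[1]]]) := by decide +kernel

def i6p6 : Tbl :=
  [([[1],[1],[1],[1],[1],[1]], [[2,0,2,1,0,0],[1,2,2,1,0,1],[1,2,1,0,2,2],[1,1,1,0,0,0],[0,2,1,2,0,2],[2,1,1,2,1,2]], [[1,1,2,1,0,2],[2,0,1,2,1,1],[0,2,0,1,2,0],[2,0,2,2,2,2],[0,1,0,0,0,1],[2,2,0,0,1,0]], [[1,0,0,0,0,0],[2,1,0,0,0,0],[1,1,1,0,0,0],[2,1,2,1,0,0],[0,2,0,1,1,0],[1,2,2,2,2,1]], [[1,1,0,2,0,1],[0,1,1,0,2,0],[0,0,1,2,1,1],[0,0,0,1,0,0],[0,0,0,0,1,1],[0,0,0,0,0,1]], [[1,0,0,0,0,0],[2,1,0,0,0,0],[1,1,1,0,0,0],[1,1,0,1,0,0],[0,1,0,0,1,0],[0,0,2,0,1,1]])]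

theorem i6p6_ok : tblOk 3 [g6p] i6p6 = true := by decide +kernel

theorem i6p6_keys : keys i6p6 = ([[[1],[1],[1],[1],[1],[1]]]) := by decide +kernel

def i6m6 : Tbl :=
  [([[1],[1],[1],[1],[1],[1]], [[2,2,0,1,0,0],[1,2,2,2,0,1],[0,0,0,0,0,1],[1,1,2,2,0,1],[2,1,1,0,2,2],[0,1,2,2,1,1]], [[1,2,0,1,1,1],[0,1,0,2,0,0],[2,0,1,2,0,0],[2,0,0,0,1,1],[1,2,0,0,1,2],[0,0,1,0,0,0]], [[1,0,0,0,0,0],[1,1,0,0,0,0],[0,2,1,0,0,0],[1,2,2,1,0,0],[1,1,0,1,1,0],[2,1,2,0,2,1]], [[1,2,1,2,0,2],[0,1,0,2,2,2],[0,0,1,2,2,2],[0,0,0,1,1,2],[0,0,0,0,1,0],[0,0,0,0,0,1]], [[1,0,0,0,0,0],[0,1,0,0,0,0],[2,0,1,0,0,0],[1,0,2,1,0,0],[1,0,0,0,1,0],[1,2,0,0,1,1]])]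

theorem i6m6_ok : tblOk 3 [g6m] i6m6 = true := by decide +kernel

theorem i6m6_keys : keys i6m6 = ([[[1],[1],[1],[1],[1],[1]]]) := by decide +kernel

end H31.Com.D3
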