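import Cfsg.Agent.H31.Commutator.Small
import Cfsg.Agent.H31.Commutator.Table3

/-!
Free commutator factorisations in `SL_n(3)`.
-/

set_option autoImplicit false
set_option linter.unusedSectionVars false
set_option linter.style.longLine false

namespace H31.Com

open Matrix Polynomial
open H89.CN (Sim Dec)

variable {K : Type*} [Field K]

/-- One large block of determinant one. -/
def OnePos (l : List K[X]) (d : ℕ) : Prop := ∃ f, OkBlock f ∧ cd f = 1 ∧ f.natDegree = d ∧ l = [f]

/-- Two blocks of determinant minus one. -/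
def TwoNeg (l : List K[X]) (d : ℕ) : Prop :=
  ∃ f g, OkBlock f ∧ OkBlock g ∧ cd f = -1 ∧ cd g = -1 ∧ f.natDegree + g.natDegree = d ∧ l = [f, g]

theorem shrinks_onePos : Shrinks (OnePos (K := K)) 3 := by
  rintro l d j n A ⟨f, hf, h1, rfl, rfl⟩ h2 hlo hA
  obtain ⟨g, A', hr, hA', hg, hcd⟩ := red_one hA (j := j) (by omega)
  exact ⟨[g], _, A', hr, hA', g, ⟨hA'.1, hg ▸ (by omega), hcd ▸ hf.2.2⟩, hcd.trans h1, hg, rfl⟩

theorem shrinks_twoNeg : Shrinks (TwoNeg (K := K)) 4 := by
  rintro l d j n A ⟨f, g, hf, hg, h1, h1', rfl, rfl⟩ h2 hlo hA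
  have := hf.2.1
  have := hg.2.1
  set j1 := min (f.natDegree / 2) j with hj1
  obtain ⟨f', g', N, A', hr, hA', ⟨hf', hcf⟩, hg', hcg⟩ :=
    red_two hA (j := j1) (j' := j - j1) (by omega) (by omega)
  obtain ⟨hm, -, -, -, A₂, -, hm', -⟩ := id hA'
  rw [show j1 + (j - j1) = j by omega] at hr
  exact ⟨[f', g'], N, A', hr, hA', f', g', ⟨hm, by omega, hcf ▸ hf.2.2⟩, ⟨hm', by omega, hcg ▸ hg.2.2⟩,
    hcf.trans h1, hcg.trans h1', by omega, rfl⟩

variable [Fintype K] [CharP K 3]

theorem two_cast : ((2 : ℕ) : K) = -1 := by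
  rw [eq_neg_iff_add_eq_zero, ← Nat.cast_one (R := K), ← Nat.cast_add]
  exact CharP.cast_eq_zero K 3

theorem cd_cases (hK : Fintype.card K = 3) {f : K[X]} (hf : OkBlock f) : cd f = 1 ∨ cd f = -1 := by
  have h : ∀ x : ZMod 3, x = 0 ∨ x = 1 ∨ x = -1 := by decide
  haveI := Fact.mk Nat.prime_three
  let ψ : ZMod 3 ≃+* K := ZMod.ringEquivOfPrime K Nat.prime_three hK
  rcases h (ψ.symm (cd f)) with h | h | h <;> replace h := congrArg ψ h <;>
    simp only [RingEquiv.apply_symm_apply, map_zero, map_one, map_neg] at h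
  · exact absurd h hf.2.2
  · exact Or.inl h
  · exact Or.inr h

theorem code_pos (hK : Fintype.card K = 3) {f : K[X]} (hf : OkBlock f) {d : ℕ} (hd : f.natDegree = d) (h : cd f = 1) :
    ∃ a ∈ detV 3 d 1, f = ofL (a ++ [1]) :=
  exists_detV Nat.prime_three hK hf.1 hd (hd ▸ hf.2.1) (by norm_num) (by rw [h, Nat.cast_one])

theorem code_neg (hK : Fintype.card K = 3) {f : K[X]} (hf : OkBlock f) {d : ℕ} (hd : f.natDegree = d) (h : cd f = -1) :
    ∃ a ∈ detV 3 d 2, f = ofL (a ++ [1]) :=
  exists_detV Nat.prime_three hK hf.1 hd (hd ▸ hf.2.1) (by norm_num) (by rw [h, two_cast])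

section
variable {φ : ℕ → K[X]}

/-- The side polynomials. -/
abbrev S3 (φ : ℕ → K[X]) : Set K[X] := side (pset D3.cs) 7 φ

theorem free_S3 (hφ : Chosen 7 φ) : Free (S3 φ) :=
  free_side (by norm_num) hφ (free_pset D3.codes_ok D3.free_ok) fun _ ht => code_prop D3.codes_ok ht

theorem pset_S3 {cs : List (List ℕ)} (h : cs.all (fun a => D3.cs.contains a) = true) : (pset cs : Set K[X]) ⊆ S3 φ :=
  fun _ ht => Or.inl (pset_mono h ht)

theorem mem_S3 {a : List ℕ} (h : D3.cs.contains a = true) : (ofL (a ++ [1]) : K[X]) ∈ S3 φ :=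
  Or.inl ⟨a, List.contains_iff_mem.1 h, rfl⟩

theorem against_pos (hφ : Chosen 7 φ) : Against (S3 φ) (ofL ([2] ++ [1])) :=
  against_lin (by norm_num) hφ (by decide) D3.codes_ok D3.lp_ok D3.lp_ok'

theorem against_neg (hφ : Chosen 7 φ) : Against (S3 φ) (ofL ([1] ++ [1])) :=
  against_lin (by norm_num) hφ (by decide) D3.codes_ok D3.lm_ok D3.lm_ok'

/-- A group available with both determinants. -/
def Flex (φ : ℕ → K[X]) (l : List K[X]) : Prop := FG (S3 φ) (1 : K) l ∧ FG (S3 φ) (-1 : K) l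

/-- A remainder available with both determinants. -/
def RFlex (φ : ℕ → K[X]) (l : List K[X]) : Prop := FR (S3 φ) (1 : K) l ∧ FR (S3 φ) (-1 : K) l

theorem Flex.perm {l l' : List K[X]} (h : Flex φ l) (hp : l.Perm l') : Flex φ l' := ⟨h.1.perm hp, h.2.perm hp⟩

theorem Flex.append {l l' : List K[X]} (h : Flex φ l) (h' : Flex φ l') : Flex φ (l ++ l') :=
  ⟨by simpa using h.1.append h'.1, by simpa using h.1.append h'.2⟩

theorem flex_tbl {a b : List ℕ} {T U : Tbl} (h : tblOk 3 [a] T = true) (ha : detN 3 [a] = 1)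
    (h' : tblOk 3 [b] U = true) (hb : detN 3 [b] = 2) (hs : [a, b].all (fun a => D3.cs.contains a) = true)
    {ms : List (List ℕ)} (hm : ms ∈ keys T) (hm' : ms ∈ keys U) : Flex φ (polysOf ms : List K[X]) := by
  simp only [List.all_cons, List.all_nil, Bool.and_true, Bool.and_eq_true] at hs
  have h1 := (fg_tbl (K := K) (by norm_num) h ha hm).mono (pset_S3 (φ := φ) (by simpa using hs.1))
  have h2 := (fg_tbl (K := K) (by norm_num) h' hb hm').mono (pset_S3 (φ := φ) (by simpa using hs.2))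
  rw [Nat.cast_one] at h1
  rw [two_cast] at h2
  exact ⟨h1, h2⟩

theorem rflex_tbl (hφ : Chosen 7 φ) {c c' : ℕ} {a b : List ℕ} {T U : Tbl} (h : tblOk 3 [[c], a] T = true)
    (ha : detN 3 [[c], a] = 1) (h' : tblOk 3 [[c'], b] U = true) (hb : detN 3 [[c'], b] = 2)
    (hc : Against (S3 φ) (ofL ([c] ++ [1]))) (hc' : Against (S3 φ) (ofL ([c'] ++ [1])))
    (hs : D3.cs.contains a = true) (hs' : D3.cs.contains b = true) {ms : List (List ℕ)} (hm : ms ∈ keys T)
    (hm' : ms ∈ keys U) : RFlex φ (polysOf ms : List K[X]) := by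
  have h1 := fr_tbl (K := K) (by norm_num) (free_S3 hφ) h ha hc (mem_S3 hs) hm
  have h2 := fr_tbl (K := K) (by norm_num) (free_S3 hφ) h' hb hc' (mem_S3 hs') hm'
  rw [Nat.cast_one] at h1
  rw [two_cast] at h2
  exact ⟨h1, h2⟩

theorem flex_single (hK : Fintype.card K = 3) (hφ : Chosen 7 φ) {f : K[X]} (hf : OkBlock f) (h1 : cd f = 1)
    (h3 : 3 ≤ f.natDegree) : Flex φ [f] := by
  have hb : ∀ (d e : ℕ) (T : Tbl) (a : List ℕ), tblOk 3 [a] T = true → detN 3 [a] = e →
      keys T = ((detV 3 d 1).map fun a => [a]) → GP (OnePos (K := K)) (pset [a] : Set K[X]) ((e : ℕ) : K) d := by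
    rintro d e T a t1 t2 t3 l ⟨g, hg, hcd, hd, rfl⟩
    obtain ⟨c, hc, rfl⟩ := code_pos hK hg hd hcd
    exact fg_tbl (by norm_num) t1 t2 (ms := [c]) (t3 ▸ List.mem_map.2 ⟨c, hc, rfl⟩)
  have hch := D3.chainS (K := K) shrinks_onePos (hb 3 1 _ _ D3.singlep3_ok (by decide) D3.singlep3_keys)
    (hb 3 2 _ _ D3.singlem3_ok (by decide) D3.singlem3_keys) (hb 4 1 _ _ D3.singlep4_ok (by decide) D3.singlep4_keys)
    (hb 4 2 _ _ D3.singlem4_ok (by decide) D3.singlem4_keys)
  have hb' : ∀ t ∈ (pset D3.cs : Set K[X]), t.coeff 0 ≠ 0 ∧ t.natDegree < 7 := fun _ ht => code_prop D3.codes_ok ht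
  refine ⟨GP.tower shrinks_onePos (by norm_num) (by norm_num) hφ hb' one_ne_zero (fun d a b => ?_) _ h3 _
    ⟨f, hf, h1, rfl, rfl⟩, GP.tower shrinks_onePos (by norm_num) (by norm_num) hφ hb' (neg_ne_zero.2 one_ne_zero)
    (fun d a b => ?_) _ h3 _ ⟨f, hf, h1, rfl, rfl⟩⟩
  · have := (hch d a b).1; rwa [Nat.cast_one] at this
  · have := (hch d a b).2; rwa [two_cast] at this

theorem flex_pair (hK : Fintype.card K = 3) (hφ : Chosen 7 φ) {f g : K[X]} (hf : OkBlock f) (hg : OkBlock g)
    (h1 : cd f = -1) (h1' : cd g = -1) (h3 : 3 ≤ f.natDegree + g.natDegree) : Flex φ [f, g] := by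
  -- the keys, for sorted degrees
  have key : ∀ {p r : K[X]}, OkBlock p → OkBlock r → cd p = -1 → cd r = -1 → r.natDegree ≤ p.natDegree →
      ∃ a ∈ detV 3 p.natDegree 2, ∃ b ∈ detV 3 r.natDegree 2, [p, r] = (polysOf [a, b] : List K[X]) := by
    intro p r hp hr c c' _
    obtain ⟨a, ha, ea⟩ := code_neg hK hp rfl c
    obtain ⟨b, hb, eb⟩ := code_neg hK hr rfl c'
    exact ⟨a, ha, b, hb, by rw [ea, eb]; rfl⟩
  rcases Nat.lt_or_ge (f.natDegree + g.natDegree) 4 with h4 | h4
  · have small : ∀ {p r : K[X]}, OkBlock p → OkBlock r → cd p = -1 → cd r = -1 → p.natDegree = 2 → r.natDegree = 1 →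
        Flex φ [p, r] := by
      intro p r hp hr c c' d2 d1
      obtain ⟨a, ha, b, hb, e⟩ := key hp hr c c' (by omega)
      rw [d2] at ha
      rw [d1] at hb
      rw [e]
      have hm : [a, b] ∈ ((detV 3 2 2).flatMap fun a => (detV 3 1 2).map fun b => [a, b]) :=
        List.mem_flatMap.2 ⟨a, ha, List.mem_map.2 ⟨b, hb, rfl⟩⟩
      exact flex_tbl D3.pairp3_ok (by decide) D3.pairm3_ok (by decide) (by decide) (D3.pairp3_keys ▸ hm) (D3.pairm3_keys ▸ hm)
    have := hf.2.1
    have := hg.2.1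
    rcases (by omega : f.natDegree = 2 ∧ g.natDegree = 1 ∨ g.natDegree = 2 ∧ f.natDegree = 1) with ⟨a, b⟩ | ⟨a, b⟩
    · exact small hf hg h1 h1' a b
    · exact (small hg hf h1' h1 a b).perm (List.Perm.swap f g [])
  have hb : ∀ (d e : ℕ) (T : Tbl) (a : List ℕ), tblOk 3 [a] T = true → detN 3 [a] = e →
      keys T = (((detV 3 (d - 1) 2).flatMap fun a => (detV 3 1 2).map fun b => [a, b]) ++
        ((detV 3 (d - 2) 2).flatMap fun a => (detV 3 2 2).map fun b => [a, b])) → d < 6 →
      GP (TwoNeg (K := K)) (pset [a] : Set K[X]) ((e : ℕ) : K) d := by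
    rintro d e T a t1 t2 t3 hd l ⟨p, r, hp, hr, c, c', hsum, rfl⟩
    have main : ∀ {p r : K[X]}, OkBlock p → OkBlock r → cd p = -1 → cd r = -1 → p.natDegree + r.natDegree = d →
        r.natDegree ≤ p.natDegree → FG (pset [a] : Set K[X]) ((e : ℕ) : K) [p, r] := by
      intro p r hp hr c c' hsum hle
      obtain ⟨u, hu, v, hv, eq⟩ := key hp hr c c' hle
      rw [eq]
      refine fg_tbl (by norm_num) t1 t2 (t3 ▸ List.mem_append.2 ?_)
      have := hr.2.1
      rcases (by omega : r.natDegree = 1 ∨ r.natDegree = 2) with h | h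
      · rw [h] at hv; rw [show p.natDegree = d - 1 by omega] at hu
        exact Or.inl (List.mem_flatMap.2 ⟨u, hu, List.mem_map.2 ⟨v, hv, rfl⟩⟩)
      · rw [h] at hv; rw [show p.natDegree = d - 2 by omega] at hu
        exact Or.inr (List.mem_flatMap.2 ⟨u, hu, List.mem_map.2 ⟨v, hv, rfl⟩⟩)
    rcases Nat.le_total r.natDegree p.natDegree with hle | hle
    · exact main hp hr c c' hsum hle
    · exact (main hr hp c' c (by omega) hle).perm (List.Perm.swap p r [])
  have hch := D3.chainP (K := K) shrinks_twoNeg (hb 4 1 _ _ D3.pairp4_ok (by decide) D3.pairp4_keys (by norm_num))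
    (hb 4 2 _ _ D3.pairm4_ok (by decide) D3.pairm4_keys (by norm_num))
    (hb 5 1 _ _ D3.pairp5_ok (by decide) D3.pairp5_keys (by norm_num))
    (hb 5 2 _ _ D3.pairm5_ok (by decide) D3.pairm5_keys (by norm_num))
  have hb' : ∀ t ∈ (pset D3.cs : Set K[X]), t.coeff 0 ≠ 0 ∧ t.natDegree < 7 := fun _ ht => code_prop D3.codes_ok ht
  refine ⟨GP.tower shrinks_twoNeg (by norm_num) (by norm_num) hφ hb' one_ne_zero (fun d a b => ?_) _ h4 _
    ⟨f, g, hf, hg, h1, h1', rfl, rfl⟩, GP.tower shrinks_twoNeg (by norm_num) (by norm_num) hφ hb' (neg_ne_zero.2 one_ne_zero)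
    (fun d a b => ?_) _ h4 _ ⟨f, g, hf, hg, h1, h1', rfl, rfl⟩⟩
  · have := (hch d a b).1; rwa [Nat.cast_one] at this
  · have := (hch d a b).2; rwa [two_cast] at this

/-- Empty or flexible. -/
def Eo (φ : ℕ → K[X]) (l : List K[X]) : Prop := l = [] ∨ Flex φ l

theorem Eo.append {l l' : List K[X]} (h : Eo φ l) (h' : Eo φ l') : Eo φ (l ++ l') := by
  rcases h with rfl | h
  · simpa using h'
  rcases h' with rfl | h'
  · exact Or.inr (by simpa using h)
  · exact Or.inr (h.append h')

theorem eo_big (hK : Fintype.card K = 3) (hφ : Chosen 7 φ) :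
    ∀ B : List K[X], (∀ f ∈ B, OkBlock f ∧ cd f = 1 ∧ 3 ≤ f.natDegree) → Eo φ B
  | [], _ => Or.inl rfl
  | f :: B, h => by
    obtain ⟨a, b, c⟩ := h f (List.mem_cons_self ..)
    exact Eo.append (l := [f]) (Or.inr (flex_single hK hφ a b c)) (eo_big hK hφ B fun g hg => h g (List.mem_cons_of_mem _ hg))

theorem eo_neg (hK : Fintype.card K = 3) (hφ : Chosen 7 φ) {m : K[X]} (hm : OkBlock m) (hmc : cd m = -1)
    (hmd : m.natDegree = 1) : ∀ (N : List K[X]) (b : ℕ), (∀ f ∈ N, OkBlock f ∧ cd f = -1 ∧ 2 ≤ f.natDegree) →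
    Even (N.length + b) → ∃ G k, Eo φ G ∧ (N ++ List.replicate b m).Perm (G ++ List.replicate (2 * k) m)
  | [], b, _, he => by
    obtain ⟨k, hk⟩ := (by simpa using he : Even b)
    exact ⟨[], k, Or.inl rfl, by rw [hk, two_mul]⟩
  | [x], 0, _, he => by simp at he
  | [x], b + 1, h, he => by
    obtain ⟨k, hk⟩ : Even b := by
      rw [List.length_singleton, show 1 + (b + 1) = b + 2 by omega] at he
      exact (Nat.even_add.1 he).2 even_two
    obtain ⟨a1, a2, a3⟩ := h x (List.mem_cons_self ..)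
    refine ⟨[x, m], k, Or.inr (flex_pair hK hφ a1 hm a2 hmc (by omega)), ?_⟩
    rw [hk, two_mul, List.replicate_succ]
    simp
  | x :: y :: N, b, h, he => by
    obtain ⟨G, k, hG, hp⟩ := eo_neg hK hφ hm hmc hmd N b (fun g hg => h g (by simp [hg])) (by
      simp only [List.length_cons] at he
      rw [show N.length + 1 + 1 + b = N.length + b + 2 by omega] at he
      exact (Nat.even_add.1 he).2 even_two)
    obtain ⟨a1, a2, a3⟩ := h x (List.mem_cons_self ..)
    obtain ⟨b1, b2, b3⟩ := h y (by simp)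
    exact ⟨x :: y :: G, k, Eo.append (l := [x, y]) (Or.inr (flex_pair hK hφ a1 b1 a2 b2 (by omega))) hG,
      (hp.cons y).cons x⟩

theorem eo_pairs (hK : Fintype.card K = 3) : ∀ C : List K[X], (∀ f ∈ C, OkBlock f ∧ cd f = 1 ∧ f.natDegree = 2) →
    ∃ G R, Eo φ G ∧ R.length ≤ 1 ∧ (∀ f ∈ R, f ∈ C) ∧ C.Perm (G ++ R)
  | [], _ => ⟨[], [], Or.inl rfl, by simp, by simp, List.Perm.refl _⟩
  | [x], _ => ⟨[], [x], Or.inl rfl, by simp, by simp, List.Perm.refl _⟩
  | x :: y :: C, h => by
    obtain ⟨G, R, hG, hR, hsub, hp⟩ := eo_pairs hK C fun g hg => h g (by simp [hg])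
    obtain ⟨a1, a2, a3⟩ := h x (List.mem_cons_self ..)
    obtain ⟨b1, b2, b3⟩ := h y (by simp)
    obtain ⟨a, ha, rfl⟩ := code_pos hK a1 a3 a2
    obtain ⟨b, hb, rfl⟩ := code_pos hK b1 b3 b2
    have hm : [a, b] ∈ ((detV 3 2 1).flatMap fun a => (detV 3 2 1).map fun b => [a, b]) :=
      List.mem_flatMap.2 ⟨a, ha, List.mem_map.2 ⟨b, hb, rfl⟩⟩
    exact ⟨polysOf [a, b] ++ G, R, Eo.append (Or.inr (flex_tbl D3.c22p4_ok (by decide) D3.c22m4_ok (by decide) (by decide)
      (D3.c22p4_keys ▸ hm) (D3.c22m4_keys ▸ hm))) hG, hR, fun f hf => by simp [hsub f hf],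
      (hp.cons _).cons _⟩

theorem eo_threes : ∀ j : ℕ, Eo φ (List.replicate (3 * j) (ofL ([2] ++ [1]) : K[X]))
  | 0 => Or.inl rfl
  | j + 1 => by
    have h1 := (FG.ident (K := K) (q := 3) (by norm_num) (a := D3.g3p) (e := 1) (ms := [[2], [2], [2]]) (by decide) (by decide)).mono
      (pset_S3 (φ := φ) (by decide))
    have h2 := (FG.ident (K := K) (q := 3) (by norm_num) (a := D3.g3m) (e := 2) (ms := [[2], [2], [2]]) (by decide) (by decide)).mono
      (pset_S3 (φ := φ) (by decide))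
    rw [Nat.cast_one] at h1
    rw [two_cast] at h2
    have := Eo.append (l := polysOf [[2], [2], [2]]) (Or.inr ⟨h1, h2⟩) (eo_threes j)
    rwa [show polysOf [[2], [2], [2]] = List.replicate 3 (ofL ([2] ++ [1]) : K[X]) from rfl,
      List.replicate_append_replicate, show 3 + 3 * j = 3 * (j + 1) by ring] at this

theorem eo_sixes : ∀ j : ℕ, Eo φ (List.replicate (6 * j) (ofL ([1] ++ [1]) : K[X]))
  | 0 => Or.inl rfl
  | j + 1 => by
    have h := flex_tbl (φ := φ) (K := K) D3.i6p6_ok (by decide) D3.i6m6_ok (by decide) (by decide)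
      (ms := [[1], [1], [1], [1], [1], [1]]) (by decide) (by decide)
    have := Eo.append (Or.inr h) (eo_sixes j)
    rwa [show polysOf [[1], [1], [1], [1], [1], [1]] = List.replicate 6 (ofL ([1] ++ [1]) : K[X]) from rfl,
      List.replicate_append_replicate, show 6 + 6 * j = 6 * (j + 1) by ring] at this

/-- What a remainder must provide. -/
def RR (φ : ℕ → K[X]) (R : List K[X]) : Prop :=
  (FR (S3 φ) (1 : K) R ∨ FR (S3 φ) (-1 : K) R) ∧
    (4 ≤ (R.map natDegree).sum → R ≠ List.replicate 4 (ofL ([1] ++ [1]) : K[X]) → FR (S3 φ) (1 : K) R)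

theorem RR.of_one {R : List K[X]} (h : FR (S3 φ) (1 : K) R) : RR φ R := ⟨Or.inl h, fun _ _ => h⟩

theorem rr_cases (hK : Fintype.card K = 3) (hφ : Chosen 7 φ) (R : List K[X]) (hR : R.length ≤ 1)
    (hRC : ∀ f ∈ R, OkBlock f ∧ cd f = 1 ∧ f.natDegree = 2) (r s : ℕ) (hr : r < 3) (hs : s < 3) :
    RR φ (R ++ List.replicate r (ofL ([2] ++ [1])) ++ List.replicate (2 * s) (ofL ([1] ++ [1]))) := by
  classical
  have hS := free_S3 hφ
  have d1 : ∀ x : ℕ, (ofL [x, 1] : K[X]).natDegree = 1 := fun x => (cd_ofL (K := K) (a := [x]) Nat.one_pos).1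
  have P := against_pos hφ
  have M := against_neg hφ
  have lone : FR (S3 φ) (1 : K) (polysOf [[2]]) := by
    have h := fr_lone (K := K) (q := 3) (by norm_num) (c := 2) (x := 2) (e := 1) P (by decide)
    rwa [Nat.cast_one] at h
  have two : FG (S3 φ) (-1 : K) (polysOf [[2], [2]]) := by
    have h := (FG.ident (K := K) (q := 3) (by norm_num) (a := D3.q2) (e := 2) (ms := [[2], [2]]) (by decide) (by decide)).mono
      (pset_S3 (φ := φ) (by decide))
    rwa [two_cast] at h
  have four : FG (S3 φ) (-1 : K) (polysOf [[1], [1], [1], [1]]) := by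
    have h := (fg_tbl (K := K) (by norm_num) D3.i44_ok (e := 2) (by decide) (ms := [[1], [1], [1], [1]]) (by decide)).mono
      (pset_S3 (φ := φ) (by decide))
    rwa [two_cast] at h
  have tiny : ∀ ms ∈ keys D3.tiny2, FR (S3 φ) (-1 : K) (polysOf ms) := fun ms hm => by
    have h := FR.of_table (K := K) (q := 3) (by norm_num) D3.tiny2_ok P M (Or.inl le_rfl)
      (by rw [rev_code (q := 3) (by decide)]; exact coprime_of_bez (q := 3) (u := [1]) (v := [2]) (by decide))
      (by rw [rev_code (q := 3) (by decide)]; exact coprime_of_bez (q := 3) (u := [2]) (v := [2]) (by decide)) hm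
    rwa [detOf_eq (q := 3) (by norm_num), show detN 3 [[2], [1]] = 2 by decide, two_cast] at h
  have o1 := flex_tbl (φ := φ) (K := K) D3.o1mp3_ok (by decide) D3.o1mm3_ok (by decide) (by decide)
    (ms := [[2], [1], [1]]) (by decide) (by decide)
  have o2 := flex_tbl (φ := φ) (K := K) D3.o2mp4_ok (by decide) D3.o2mm4_ok (by decide) (by decide)
    (ms := [[2], [2], [1], [1]]) (by decide) (by decide)
  rcases R with _ | ⟨x, _ | ⟨y, R⟩⟩
  · interval_cases r <;> interval_cases s
    · exact RR.of_one ((FG.nil _).toFR hS)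
    · exact ⟨Or.inr (tiny [[1], [1]] (by decide)), fun h => by simp [List.map_replicate, d1] at h⟩
    · exact ⟨Or.inr (four.toFR hS), fun _ h => absurd rfl h⟩
    · exact RR.of_one lone
    · exact RR.of_one (o1.1.toFR hS)
    · have h := (tiny [[1], [1]] (by decide)).append hS o1.2
      rw [neg_mul_neg, one_mul] at h
      exact RR.of_one (h.perm (List.perm_iff_count.2 fun x => by
        simp [polysOf, List.count_cons]; split_ifs <;> omega))
    · exact ⟨Or.inr (two.toFR hS), fun h => by simp [List.map_replicate, d1] at h⟩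
    · exact RR.of_one (o2.1.toFR hS)
    · have h := two.append four
      rw [neg_mul_neg, one_mul] at h
      exact RR.of_one (h.toFR hS)
  swap
  · simp at hR
  obtain ⟨h1, h2, h3⟩ := hRC x (List.mem_singleton_self x)
  obtain ⟨c, hc, rfl⟩ := code_pos hK h1 h3 h2
  have side : FR (S3 φ) (-1 : K) (polysOf [c]) := by
    rcases ((by decide : ∀ c ∈ detV 3 2 1, [c] ∈ keys D3.c2side2 ∨ [c] ∈ keys D3.tiny2) c hc) with h | h
    · have h' := (fg_tbl (K := K) (by norm_num) D3.c2side2_ok (e := 2) (by decide) h).mono (pset_S3 (φ := φ) (by decide))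
      rw [two_cast] at h'
      exact h'.toFR hS
    · exact tiny _ h
  have cm := flex_tbl (φ := φ) (K := K) D3.cmp4_ok (by decide) D3.cmm4_ok (by decide) (by decide)
    (ms := [c, [1], [1]]) (D3.cmp4_keys ▸ List.mem_map.2 ⟨c, hc, rfl⟩) (D3.cmm4_keys ▸ List.mem_map.2 ⟨c, hc, rfl⟩)
  have c1 := rflex_tbl (φ := φ) (K := K) hφ D3.c1p3_ok (by decide) D3.c1m3_ok (by decide) M P (by decide) (by decide)
    (ms := [c, [2]]) (D3.c1p3_keys ▸ List.mem_map.2 ⟨c, hc, rfl⟩) (D3.c1m3_keys ▸ List.mem_map.2 ⟨c, hc, rfl⟩)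
  have c2 := rflex_tbl (φ := φ) (K := K) hφ D3.c2p4_ok (by decide) D3.c2m4_ok (by decide) P P (by decide) (by decide)
    (ms := [c, [2], [2]]) (D3.c2p4_keys ▸ List.mem_map.2 ⟨c, hc, rfl⟩) (D3.c2m4_keys ▸ List.mem_map.2 ⟨c, hc, rfl⟩)
  interval_cases r <;> interval_cases s
  · exact ⟨Or.inr side, fun h => by simp [h3] at h⟩
  · exact RR.of_one (cm.1.toFR hS)
  · have h := side.append hS four
    rw [neg_mul_neg, one_mul] at h
    exact RR.of_one h
  · exact RR.of_one c1.1
  · have h := lone.append hS cm.1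
    rw [one_mul] at h
    exact RR.of_one (h.perm (List.perm_iff_count.2 fun x => by simp [polysOf, List.count_cons]; split_ifs <;> omega))
  · have h := c1.2.append hS four
    rw [neg_mul_neg, one_mul] at h
    exact RR.of_one h
  · exact RR.of_one c2.1
  · have h := two.append cm.2
    rw [neg_mul_neg, one_mul] at h
    exact RR.of_one ((h.perm (List.perm_iff_count.2 fun x => by simp [polysOf, List.count_cons]; split_ifs <;> omega)).toFR hS)
  · have h := c2.2.append hS four
    rw [neg_mul_neg, one_mul] at h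
    exact RR.of_one h

end

theorem bEnt_scalar {ms : List (List ℕ)}
    (h : eqM 3 (tot ms) (tab (tot ms) (bEnt 3 ms)) (tab (tot ms) fun i j => if i = j then 2 else 0) = true) :
    (ML (tot ms) (bEnt 3 ms) : Matrix (Fin (tot ms)) (Fin (tot ms)) K) = (-1 : K) • 1 := by
  have h' := ML_eq_of_eqM (K := K) h
  rw [ML_tab, ML_tab] at h'
  rw [h']
  ext i j
  by_cases e : i = j
  · subst e; simp [ML, ← two_cast (K := K)]
  · simp [ML, e, Fin.val_inj]

/-- **Three elements.** -/
theorem slFac_three (hK : Fintype.card K = 3) {m : ℕ} (hm : 4 ≤ m) : SLFac m K := by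
  classical
  obtain ⟨φ, hφ⟩ := exists_chosen (K := K) (J0 := 7) (by norm_num)
  refine slFac_of_fr fun l hl hs hdet n A hA hns => ?_
  set o : K[X] := ofL ([2] ++ [1]) with ho
  set m1 : K[X] := ofL ([1] ++ [1]) with hm1
  have hdo : o.natDegree = 1 := by rw [ho, (cd_ofL (a := [2]) Nat.one_pos).1]; rfl
  have hdm : m1.natDegree = 1 := by rw [hm1, (cd_ofL (a := [1]) Nat.one_pos).1]; rfl
  have hcm : cd m1 = -1 := by
    rw [hm1, cd_code (q := 3) (by norm_num) (a := [1]) Nat.one_pos, ← two_cast (K := K)]; rfl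
  have hco : cd o = 1 := by
    rw [ho, cd_code (q := 3) (by norm_num) (a := [2]) Nat.one_pos, ← Nat.cast_one (R := K)]; rfl
  have hne : (1 : K) ≠ -1 := by
    rw [← two_cast (K := K), ← Nat.cast_one (R := K)]
    exact fun e => absurd ((CharP.natCast_eq_natCast K 3).1 e) (by decide)
  have okm : OkBlock m1 := ⟨monic_ofL _, by omega, by rw [hcm]; exact neg_ne_zero.2 one_ne_zero⟩
  have one_of : ∀ f ∈ l, f.natDegree = 1 → f = if cd f = 1 then o else m1 := fun f hf hd => by
    rcases cd_cases hK (hl f hf) with h | h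
    · obtain ⟨a, ha, rfl⟩ := code_pos hK (hl f hf) hd h
      rw [if_pos h]
      rw [show detV 3 1 1 = [[2]] by decide, List.mem_singleton] at ha
      rw [ha]
    · obtain ⟨a, ha, rfl⟩ := code_neg hK (hl f hf) hd h
      rw [if_neg (by rw [h]; exact hne.symm)]
      rw [show detV 3 1 2 = [[1]] by decide, List.mem_singleton] at ha
      rw [ha]
  set B := l.filter fun f => decide (cd f = 1 ∧ 3 ≤ f.natDegree)
  set C := l.filter fun f => decide (cd f = 1 ∧ f.natDegree = 2)
  set N := l.filter fun f => decide (cd f = -1 ∧ 2 ≤ f.natDegree)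
  set a := (l.filter fun f => decide (cd f = 1 ∧ f.natDegree = 1)).length
  set b := (l.filter fun f => decide (cd f = -1 ∧ f.natDegree = 1)).length
  have ha' : (l.filter fun f => decide (cd f = 1 ∧ f.natDegree = 1)) = List.replicate a o :=
    List.eq_replicate_of_mem fun f hf => by
      simp only [List.mem_filter, decide_eq_true_eq] at hf
      rw [one_of f hf.1 hf.2.2, if_pos hf.2.1]
  have hb' : (l.filter fun f => decide (cd f = -1 ∧ f.natDegree = 1)) = List.replicate b m1 :=
    List.eq_replicate_of_mem fun f hf => by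
      simp only [List.mem_filter, decide_eq_true_eq] at hf
      rw [one_of f hf.1 hf.2.2, if_neg (by rw [hf.2.1]; exact hne.symm)]
  have hB : ∀ f ∈ B, OkBlock f ∧ cd f = 1 ∧ 3 ≤ f.natDegree := fun f hf => by
    simp only [B, List.mem_filter, decide_eq_true_eq] at hf; exact ⟨hl f hf.1, hf.2.1, hf.2.2⟩
  have hC : ∀ f ∈ C, OkBlock f ∧ cd f = 1 ∧ f.natDegree = 2 := fun f hf => by
    simp only [C, List.mem_filter, decide_eq_true_eq] at hf; exact ⟨hl f hf.1, hf.2.1, hf.2.2⟩
  have hN : ∀ f ∈ N, OkBlock f ∧ cd f = -1 ∧ 2 ≤ f.natDegree := fun f hf => by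
    simp only [N, List.mem_filter, decide_eq_true_eq] at hf; exact ⟨hl f hf.1, hf.2.1, hf.2.2⟩
  have hperm : (B ++ C ++ List.replicate a o ++ (N ++ List.replicate b m1)).Perm l := by
    rw [← ha', ← hb']
    refine List.perm_iff_count.2 fun x => ?_
    simp only [B, C, N, List.count_append]
    by_cases hx : x ∈ l
    · have := (hl x hx).2.1
      rcases cd_cases hK (hl x hx) with hc | hc
      all_goals
        by_cases h1 : x.natDegree = 1 <;> by_cases h2 : x.natDegree = 2 <;> by_cases h3 : 3 ≤ x.natDegree <;>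
          (try omega)
      all_goals
        simp [hc, h1, h2, h3, hne, hne.symm, List.count_filter, List.count_eq_zero_of_not_mem, List.mem_filter,
          show (2 ≤ x.natDegree ↔ x.natDegree ≠ 1) by omega]
    · simp [List.count_eq_zero_of_not_mem, List.mem_filter, hx]
  -- parity of the blocks of determinant minus one
  have hev : Even (N.length + b) := by
    have h := (hperm.map cd).prod_eq
    have hp : ∀ X : List K[X], (∀ f ∈ X, cd f = 1) → (X.map cd).prod = 1 := fun X hX =>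
      List.prod_eq_one fun y hy => by obtain ⟨f, hf, rfl⟩ := List.mem_map.1 hy; exact hX f hf
    rw [List.map_append, List.map_append, List.map_append, List.map_append, List.prod_append, List.prod_append,
      List.prod_append, List.prod_append, hp B fun f hf => (hB f hf).2.1, hp C fun f hf => (hC f hf).2.1,
      hp _ fun f hf => by rw [List.eq_of_mem_replicate hf, hco], hdet,
      List.eq_replicate_of_mem (l := N.map cd) (a := (-1 : K)) (fun y hy => by
        obtain ⟨f, hf, rfl⟩ := List.mem_map.1 hy; exact (hN f hf).2.1),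
      List.map_replicate, hcm, List.prod_replicate, List.prod_replicate, List.length_map, ← pow_add] at h
    simp only [one_mul] at h
    rcases Nat.even_or_odd (N.length + b) with he | he
    · exact he
    · rw [he.neg_one_pow] at h; exact absurd h.symm hne
  obtain ⟨G1, k, hG1, hp1⟩ := eo_neg hK hφ okm hcm hdm N b hN hev
  obtain ⟨G2, R, hG2, hR, hRsub, hp2⟩ := eo_pairs (φ := φ) hK C hC
  set G := B ++ G1 ++ G2 ++ List.replicate (3 * (a / 3)) o ++ List.replicate (6 * (k / 3)) m1
  set W := R ++ List.replicate (a % 3) o ++ List.replicate (2 * (k % 3)) m1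
  have hG : Eo φ G := ((((eo_big hK hφ B hB).append hG1).append hG2).append (eo_threes _)).append (eo_sixes _)
  have hW : RR φ W := rr_cases hK hφ R hR (fun f hf => hC f (hRsub f hf)) _ _ (Nat.mod_lt _ (by norm_num))
    (Nat.mod_lt _ (by norm_num))
  have hGW : (W ++ G).Perm l := by
    refine List.Perm.trans (List.perm_iff_count.2 fun x => ?_) hperm
    have e1 := List.perm_iff_count.1 hp1 x
    have e2 := List.perm_iff_count.1 hp2 x
    simp only [G, W, List.count_append, List.count_replicate] at e1 e2 ⊢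
    have d1 := Nat.div_add_mod a 3
    have d2 := Nat.div_add_mod k 3
    split_ifs at e1 e2 ⊢ <;> omega
  rcases hG with hG | hG
  · rw [hG, List.append_nil] at hGW
    refine FR.result ((hW.2 ?_ fun e => ?_).perm hGW) n A hA
    · rw [(hGW.map natDegree).sum_eq, hs]; exact hm
    · have hA' : Dec A (polysOf [[1], [1], [1], [1]]) := by
        have := dec_perm hGW.symm hA
        rwa [e] at this
      obtain ⟨e', he'⟩ := simTo_of_dec (q := 3) (by norm_num) [[1], [1], [1], [1]] A hA'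
      rw [bEnt_scalar (by decide)] at he'
      obtain ⟨P, hP, hPe⟩ := he'
      refine hns (-1) ?_
      have h1 : Matrix.reindex e' e' ((-1 : K) • (1 : Matrix _ _ K)) = (-1 : K) • 1 := by
        ext i j; simp [Matrix.one_apply]; split_ifs <;> simp
      rw [h1, smul_mul, Matrix.one_mul] at hPe
      have := congrArg (P⁻¹ * ·) hPe
      simpa [← Matrix.mul_assoc, Matrix.nonsing_inv_mul _ hP] using this
  · rcases hW.1 with h | h
    · have := h.append (free_S3 hφ) hG.1
      rw [one_mul] at this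
      exact (this.perm hGW).result n A hA
    · have := h.append (free_S3 hφ) hG.2
      rw [neg_mul_neg, one_mul] at this
      exact (this.perm hGW).result n A hA

end H31.Com
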